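import Mathlib
import Cfsg.Agent.Lib.Helper2.SufE
set_option autoImplicit false
set_option maxHeartbeats 1000000
set_option linter.unusedVariables false
set_option linter.unusedSectionVars false
set_option linter.style.longLine false
set_option linter.unusedSimpArgs false
set_option linter.deprecated false
set_option linter.style.haveILetI false

/-! Unitary subfield subgroups (part F): an overgroup of the subfield subgroup whose pull-back
under the Levi embedding contains `SL_m`: the vectors of the two totally isotropic subspaces of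
the frame are centres, and the Siegel elements attached to them lie in the overgroup. -/

namespace Cfsg.Agent.Lib.Helper2.Suf

open Matrix Cfsg Cfsg.Agent.Lib.Helper5.Herm Cfsg.Agent.Lib.Helper5.HermBridge
  Cfsg.Agent.Lib.Helper5.HermTv Cfsg.Agent.Lib.Helper5.HermEich
  Cfsg.Agent.Lib.Helper5.SUCentres Cfsg.Agent.Lib.Helper5.TvGL
  Cfsg.Agent.Lib.Helper2.Sfm Cfsg.Agent.Lib.Helper2.Ssf

universe u

section Centres

variable {F : Type u} [Field F] [Fintype F] {q : ℕ} (hF : Fintype.card F = q ^ 2) {n : ℕ}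
  {H : Subgroup (GL (Fin n) F)}

theorem isCentre_iff (v : Fin n → F) :
    IsCentre hF n H v ↔ hermForm n F q v v = 0 ∧
      ∀ c : F, c ^ q = -c → MIn H (unitaryTransvection n q v c) := by
  constructor
  · intro h
    refine ⟨h.1, fun c hc => ?_⟩
    exact ⟨_, h.2 c ((qcond_iso n h.1 c).2 hc), qtv_coe hF n v c _⟩
  · intro h
    refine ⟨h.1, fun c hc => ?_⟩
    apply MIn.mem
    rw [qtv_coe]
    exact h.2 c ((qcond_iso n h.1 c).1 hc)

theorem isCentre_zero : IsCentre hF n H (0 : Fin n → F) := by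
  rw [isCentre_iff]
  refine ⟨hermForm_zero_left n q 0, fun c _ => ?_⟩
  rw [tv_zero_centre]
  exact mIn_one

theorem isCentre_of_mulVec (hHS : H ≤ Cfsg.GU n F q ⊓ Cfsg.Geo.specialLinear (Fin n) F)
    {g : GL (Fin n) F} (hg : g ∈ H) {v : Fin n → F} (h : IsCentre hF n H (g.1 *ᵥ v)) :
    IsCentre hF n H v := by
  have := isCentre_gact hF hHS g⁻¹ (H.inv_mem hg) h
  rwa [gl_inv_mulVec_cancel] at this

end Centres

section A1

variable {F : Type u} [Field F] [Fintype F] {q : ℕ} (hF : Fintype.card F = q ^ 2) {n m : ℕ}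
  {F₀ : Subfield F} (𝔣 : Frame q F₀ m n) {H : Subgroup (GL (Fin n) F)} (hm : 2 ≤ m)
  (hMH : MS n q F₀ ≤ H) (hHS : H ≤ Cfsg.GU n F q ⊓ Cfsg.Geo.specialLinear (Fin n) F)
  (hSL : Cfsg.Geo.specialLinear (Fin m) F ≤ H.comap (𝔣.dg hF))

include hm in
theorem exists_fin_ne (i₀ : Fin m) : ∃ i₂ : Fin m, i₀ ≠ i₂ := by
  by_cases h : (i₀ : ℕ) = 0
  · exact ⟨⟨1, by omega⟩, fun h' => by
      have := congrArg Fin.val h'
      simp at this
      omega⟩
  · exact ⟨⟨0, by omega⟩, fun h' => by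
      have := congrArg Fin.val h'
      simp at this
      omega⟩

include hm hMH hHS hSL in
/-- the frame vectors are centres -/
theorem Frame.isCentre_e {s₀ : F} (hs₀ : s₀ ∈ F₀) (hs₀0 : s₀ ≠ 0) (hs₀q : s₀ ^ q = -s₀)
    (i₀ : Fin m) : IsCentre hF n H (𝔣.e i₀) := by
  classical
  rw [isCentre_iff]
  refine ⟨𝔣.ee i₀ i₀, fun c hc => ?_⟩
  by_cases hc0 : c = 0
  · rw [hc0, TM_zero]; exact mIn_one
  set t := c / s₀ with ht
  have ht0 : t ≠ 0 := div_ne_zero hc0 hs₀0
  have htq : Cfsg.Agent.Lib.Helper5.HermBridge.sigma hF t = t := by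
    rw [sigma_apply, ht, div_pow, hc, hs₀q, neg_div_neg_eq]
  obtain ⟨l, hl⟩ := Cfsg.Agent.Lib.Helper5.HermBasis.exists_norm (sigma_ne_id hF) (sigma_sigma hF)
    t ht0 htq
  rw [sigma_apply] at hl
  have hl0 : l ≠ 0 := by
    rintro rfl
    rw [zero_mul] at hl
    exact ht0 hl.symm
  obtain ⟨i₂, h12⟩ := exists_fin_ne hm i₀
  obtain ⟨g, hg, hge⟩ := exists_scale h12 hl0
  have hgH : 𝔣.dg hF g ∈ H := hSL hg
  have hyp : EHyp n q (𝔣.e i₀) 0 s₀ :=
    ⟨𝔣.ee i₀ i₀, hermForm_zero_left n q _, by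
      rw [hermForm_zero_left, add_zero, hs₀q, add_neg_cancel]⟩
  have base : MIn H (unitaryTransvection n q (𝔣.e i₀) s₀) := by
    have := (EM_mIn hF F₀ (𝔣.rat_e i₀) isRatV_zero hs₀ hyp).mono hMH
    rwa [EM_tv hF _ (𝔣.ee i₀ i₀)] at this
  have h1 := base.conj hgH
  rw [TM_conj hF (hHS hgH).1, ← Frame.eV_single, 𝔣.dg_eV hF, hge, Frame.eV_smul,
    Frame.eV_single, TM_smul, hl, ht, div_mul_cancel₀ _ hs₀0] at h1
  exact h1

include hm hMH hHS hSL in
/-- the vectors of the first totally isotropic subspace are centres -/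
theorem Frame.isCentre_eV {s₀ : F} (hs₀ : s₀ ∈ F₀) (hs₀0 : s₀ ≠ 0) (hs₀q : s₀ ^ q = -s₀)
    (x : Fin m → F) : IsCentre hF n H (𝔣.eV x) := by
  by_cases hx : x = 0
  · rw [hx, Frame.eV_zero]; exact isCentre_zero hF
  set i₀ : Fin m := ⟨0, by omega⟩
  obtain ⟨g, hg, hge⟩ := exists_SL_mulVec hm hx i₀
  have h1 := isCentre_gact hF hHS (𝔣.dg hF g) (hSL hg)
    (𝔣.isCentre_e hF hm hMH hHS hSL hs₀ hs₀0 hs₀q i₀)
  rwa [← Frame.eV_single, 𝔣.dg_eV hF, hge] at h1

include hSL in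
theorem Frame.hSL_swap :
    Cfsg.Geo.specialLinear (Fin m) F ≤ H.comap ((𝔣.swap hF).dg hF) := by
  intro g hg
  rw [Subgroup.mem_comap, 𝔣.dg_swap hF]
  exact hSL (hatG_mem_SL hF hg)

include hm hMH hHS hSL in
/-- the vectors of the second totally isotropic subspace are centres -/
theorem Frame.isCentre_fV {s₀ : F} (hs₀ : s₀ ∈ F₀) (hs₀0 : s₀ ≠ 0) (hs₀q : s₀ ^ q = -s₀)
    (y : Fin m → F) : IsCentre hF n H (𝔣.fV y) :=
  (𝔣.swap hF).isCentre_eV hF hm hMH hHS (𝔣.hSL_swap hF hSL) hs₀ hs₀0 hs₀q y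

include hm hMH hHS hSL in
/-- the Siegel elements attached to the vectors of the first totally isotropic subspace -/
theorem Frame.siegel_mIn {d : Fin n → F} (hd : IsRatV F₀ d) (hdE : 𝔣.cE d = 0)
    (hdF : 𝔣.cF d = 0) {b : F} (hb : b ∈ F₀) (hbd : b + b ^ q + hermForm n F q d d = 0)
    {x : Fin m → F} (hx : x ≠ 0) : MIn H (eichMat n q (𝔣.eV x) d b) := by
  set i₀ : Fin m := ⟨0, by omega⟩
  obtain ⟨g, hg, hge⟩ := exists_SL_mulVec hm hx i₀
  have hgH : 𝔣.dg hF g ∈ H := hSL hg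
  have hyp : EHyp n q (𝔣.e i₀) d b := ⟨𝔣.ee i₀ i₀, congrFun hdF i₀, hbd⟩
  have base := (EM_mIn hF F₀ (𝔣.rat_e i₀) hd hb hyp).mono hMH
  have h1 := base.conj hgH
  rwa [EM_conj hF (hHS hgH).1 _ _ (𝔣.ee i₀ i₀), 𝔣.dg_perp hF g hdE hdF, ← Frame.eV_single,
    𝔣.dg_eV hF, hge] at h1

end A1

section A2

variable {F : Type u} [Field F] [Fintype F] {q : ℕ} (hF : Fintype.card F = q ^ 2) {n m : ℕ}
  {F₀ : Subfield F} (𝔣 : Frame q F₀ m n) {H : Subgroup (GL (Fin n) F)}
  (hHS : H ≤ Cfsg.GU n F q ⊓ Cfsg.Geo.specialLinear (Fin n) F)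

include hHS in
/-- isotropic sums of vectors of the two totally isotropic subspaces are centres -/
theorem Frame.isCentre_add (hE : ∀ x, IsCentre hF n H (𝔣.eV x))
    (hE' : ∀ y, IsCentre hF n H (𝔣.fV y)) (x y : Fin m → F)
    (hiso : hermForm n F q (𝔣.eV x + 𝔣.fV y) (𝔣.eV x + 𝔣.fV y) = 0) :
    IsCentre hF n H (𝔣.eV x + 𝔣.fV y) := by
  classical
  by_cases hx : x = 0
  · rw [hx, Frame.eV_zero, zero_add]; exact hE' y
  set a := 𝔣.eV x with ha
  set b := 𝔣.fV y with hb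
  have haa : hermForm n F q a a = 0 := 𝔣.herm_eV_eV hF x x
  have hbb : hermForm n F q b b = 0 := 𝔣.herm_fV_fV hF y y
  have hsum : hermForm n F q a b + hermForm n F q b a = 0 := by
    rw [hermForm_add_left, hermForm_add_right hF, hermForm_add_right hF, haa, hbb] at hiso
    linear_combination hiso
  by_cases hba : hermForm n F q b a = 0
  · have hab : hermForm n F q a b = 0 := herm_symm_zero hF n hba
    obtain ⟨i, hi⟩ : ∃ i, x i ≠ 0 := by
      by_contra h; push Not at h; exact hx (funext h)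
    obtain ⟨ε, hε0, hε⟩ := exists_trace_zero hF
    set y'' : Fin m → F := ((ε / x i) ^ q) • Pi.single i 1 with hy''
    set b'' := 𝔣.fV y'' with hb''
    have hab'' : hermForm n F q a b'' = ε := by
      rw [hb'', hy'', 𝔣.fV_eq hF, Frame.eV_smul, Frame.eV_single, hermForm_smul_right,
        pow_q_pow_q hF]
      show ε / x i * hermForm n F q (𝔣.eV x) (𝔣.f i) = ε
      have : hermForm n F q (𝔣.eV x) (𝔣.f i) = x i := congrFun (𝔣.cE_eV hF x) i
      rw [this, div_mul_cancel₀ _ hi]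
    have hb''a : hermForm n F q b'' a = -ε := by
      rw [← hermForm_conj hF n a b'', hab'', hε]
    have hb''b'' : hermForm n F q b'' b'' = 0 := 𝔣.herm_fV_fV hF _ _
    have hb''b : hermForm n F q b'' b = 0 := 𝔣.herm_fV_fV hF _ _
    have hbb'' : hermForm n F q b b'' = 0 := 𝔣.herm_fV_fV hF _ _
    have hc : ((-ε)⁻¹) ^ q = -(-ε)⁻¹ := by
      rw [inv_pow, pow_q_neg hF, hε, neg_neg, inv_neg, neg_neg]
    have h1 : IsCentre hF n H (b'' + a) := by
      have := isCentre_hyp hF hHS (hE x) (hE' y'') (-ε)⁻¹ hc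
      rwa [← ha, ← hb'', hb''a, inv_mul_cancel₀ (neg_ne_zero.mpr hε0), one_smul] at this
    have h2 : IsCentre hF n H (b - b'') := by
      have := hE' (y - y'')
      have e : 𝔣.fV (y - y'') = b - b'' := by
        rw [hb, hb'', 𝔣.fV_eq hF, sub_eq_add_neg, Frame.eV_add]
        have := (𝔣.swap hF).eV_smul (-1 : F) y''
        rw [neg_one_smul, neg_one_smul] at this
        rw [this, sub_eq_add_neg]
      rwa [e] at this
    have h3 := isCentre_hyp hF hHS h2 h1 (-ε)⁻¹ hc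
    have e1 : hermForm n F q (b'' + a) (b - b'') = -ε := by
      rw [hermForm_add_left, herm_sub_r hF, herm_sub_r hF, hb''b, hb''b'', hab, hab'']
      ring
    rw [e1, inv_mul_cancel₀ (neg_ne_zero.mpr hε0), one_smul] at h3
    have e2 : b'' + a + (b - b'') = a + b := by abel
    rwa [e2] at h3
  · have hc : ((hermForm n F q b a)⁻¹) ^ q = -(hermForm n F q b a)⁻¹ := by
      rw [inv_pow, hermForm_conj hF]
      have : hermForm n F q a b = -hermForm n F q b a := by linear_combination hsum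
      rw [this, inv_neg]
    have h1 := isCentre_hyp hF hHS (hE x) (hE' y) (hermForm n F q b a)⁻¹ hc
    rw [← ha, ← hb, inv_mul_cancel₀ hba, one_smul, add_comm] at h1
    exact h1

end A2

end Cfsg.Agent.Lib.Helper2.Suf
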