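import Mathlib
import Cfsg.Agent.Lib.Helper2.SufF
set_option autoImplicit false
set_option maxHeartbeats 1000000
set_option linter.unusedVariables false
set_option linter.unusedSectionVars false
set_option linter.style.longLine false
set_option linter.unusedSimpArgs false
set_option linter.deprecated false
set_option linter.style.haveILetI false

/-! Unitary subfield subgroups (part G): an overgroup of the subfield subgroup whose pull-back
under the Levi embedding of the standard frame contains `SL_4` is the whole special unitary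
group. -/

namespace Cfsg.Agent.Lib.Helper2.Suf

open Matrix Cfsg Cfsg.Agent.Lib.Helper5.Herm Cfsg.Agent.Lib.Helper5.HermBridge
  Cfsg.Agent.Lib.Helper5.HermTv Cfsg.Agent.Lib.Helper5.HermEich
  Cfsg.Agent.Lib.Helper5.SUCentres Cfsg.Agent.Lib.Helper5.TvGL
  Cfsg.Agent.Lib.Helper2.Sfm Cfsg.Agent.Lib.Helper2.Ssf

universe u

section Step

variable {F : Type u} [Field F] [Fintype F] {q : ℕ} (hF : Fintype.card F = q ^ 2) {n m : ℕ}
  {F₀ : Subfield F} (𝔣 : Frame q F₀ m n) {H : Subgroup (GL (Fin n) F)} (hm : 2 ≤ m)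
  (hMH : MS n q F₀ ≤ H) (hHS : H ≤ Cfsg.GU n F q ⊓ Cfsg.Geo.specialLinear (Fin n) F)
  (hSL : Cfsg.Geo.specialLinear (Fin m) F ≤ H.comap (𝔣.dg hF))
  (low_e : ∀ (i : Fin m) (j : Fin n), 8 ≤ j.val → 𝔣.e i j = 0)
  (low_f : ∀ (i : Fin m) (j : Fin n), 8 ≤ j.val → 𝔣.f i j = 0)

omit [Fintype F] in
include low_e in
theorem Frame.eV_apply_low (x : Fin m → F) {j : Fin n} (hj : 8 ≤ j.val) : 𝔣.eV x j = 0 := by
  unfold Frame.eV
  rw [Finset.sum_apply]
  exact Finset.sum_eq_zero fun i _ => by rw [Pi.smul_apply, low_e i j hj, smul_zero]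

include hF low_f in
theorem Frame.cE_single_low {j : Fin n} (hj : 8 ≤ j.val) :
    𝔣.cE (Pi.single j (1 : F)) = 0 := by
  funext i
  show hermForm n F q (Pi.single j 1) (𝔣.f i) = 0
  rw [hermForm_single_left, low_f i j hj, zero_pow (q_ne_zero hF)]

include hF low_e in
theorem Frame.cF_single_low {j : Fin n} (hj : 8 ≤ j.val) :
    𝔣.cF (Pi.single j (1 : F)) = 0 := by
  funext i
  show hermForm n F q (Pi.single j 1) (𝔣.e i) = 0
  rw [hermForm_single_left, low_e i j hj, zero_pow (q_ne_zero hF)]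

include hm hMH hHS hSL low_e low_f in
/-- killing a coordinate outside the frame by a Siegel element -/
theorem Frame.step1 {β₀ : F} (hβ₀ : β₀ ∈ F₀) (hβ₀t : β₀ + β₀ ^ q = -1) {j₀ : Fin n}
    (hj₀ : 8 ≤ j₀.val)
    (IH : ∀ v : Fin n → F, hermForm n F q v v = 0 → (∀ j : Fin n, j₀.val ≤ j.val → v j = 0) →
      IsCentre hF n H v)
    {v : Fin n → F} (hv : hermForm n F q v v = 0) (hvj : ∀ j : Fin n, j₀.val < j.val → v j = 0)
    (hcF : 𝔣.cF v ≠ 0) : IsCentre hF n H v := by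
  classical
  by_cases hδ : v j₀ = 0
  · apply IH v hv
    intro j hj
    by_cases hjj : j = j₀
    · rw [hjj]; exact hδ
    · apply hvj
      have : j.val ≠ j₀.val := fun h => hjj (Fin.ext h)
      omega
  obtain ⟨i, hi⟩ : ∃ i, 𝔣.cF v i ≠ 0 := by
    by_contra h; push Not at h; exact hcF (funext h)
  set d : Fin n → F := Pi.single j₀ 1 with hd
  have hdrat : IsRatV F₀ d := isRatV_single j₀ F₀.one_mem
  have hdd : hermForm n F q d d = 1 := by
    rw [hd, herm_single_single n j₀ j₀ (q_ne_zero hF), if_pos rfl]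
  have hbd : β₀ + β₀ ^ q + hermForm n F q d d = 0 := by rw [hdd, hβ₀t]; ring
  set c' : F := (-(v j₀) / 𝔣.cF v i) ^ q with hc'
  have hc'0 : c' ≠ 0 := pow_ne_zero q (div_ne_zero (neg_ne_zero.2 hδ) hi)
  set x : Fin m → F := c' • Pi.single i 1 with hx
  have hx0 : x ≠ 0 := by
    intro h0
    have := congrFun h0 i
    rw [hx, Pi.smul_apply, Pi.single_eq_same, smul_eq_mul, mul_one, Pi.zero_apply] at this
    exact hc'0 this
  have hS := 𝔣.siegel_mIn hF hm hMH hHS hSL hdrat (𝔣.cE_single_low hF low_f hj₀)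
    (𝔣.cF_single_low hF low_e hj₀) hβ₀ hbd hx0
  obtain ⟨g, hgH, hgv⟩ := hS
  apply isCentre_of_mulVec hF hHS hgH
  have hgiso : hermForm n F q (g.1 *ᵥ v) (g.1 *ᵥ v) = 0 := ((hHS hgH).1 v v).trans hv
  have hvx : hermForm n F q v (𝔣.eV x) = -(v j₀) := by
    rw [hx, Frame.eV_smul, Frame.eV_single, hermForm_smul_right, hc', pow_q_pow_q hF]
    show -(v j₀) / 𝔣.cF v i * 𝔣.cF v i = -(v j₀)
    rw [div_mul_cancel₀ _ hi]
  have hvd : hermForm n F q v d = v j₀ := by
    rw [hd, hermForm_single_right n q (q_ne_zero hF)]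
  have key : g.1 *ᵥ v = v + (-(v j₀)) • d + (β₀ * (-(v j₀)) - v j₀) • 𝔣.eV x := by
    rw [hgv, eichMat_mulVec n _ _ _ (𝔣.herm_eV_eV hF x x), hvx, hvd]
  apply IH _ hgiso
  intro j hj
  rw [key, Pi.add_apply, Pi.add_apply, Pi.smul_apply, Pi.smul_apply,
    𝔣.eV_apply_low low_e x (le_trans hj₀ hj), smul_zero, add_zero]
  by_cases hjj : j = j₀
  · rw [hjj, hd, Pi.single_eq_same, smul_eq_mul, mul_one, add_neg_cancel]
  · have : j.val ≠ j₀.val := fun h => hjj (Fin.ext h)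
    rw [hvj j (by omega), hd, Pi.single_eq_of_ne hjj, smul_zero, add_zero]

include hm hMH hHS hSL low_e low_f in
/-- a vector orthogonal to the frame is first moved by a rational transvection -/
theorem Frame.step3 {s₀ : F} (hs₀ : s₀ ∈ F₀) (hs₀0 : s₀ ≠ 0) (hs₀q : s₀ ^ q = -s₀)
    {β₀ : F} (hβ₀ : β₀ ∈ F₀) (hβ₀t : β₀ + β₀ ^ q = -1) {j₀ : Fin n}
    (hj₀ : 8 ≤ j₀.val)
    (IH : ∀ v : Fin n → F, hermForm n F q v v = 0 → (∀ j : Fin n, j₀.val ≤ j.val → v j = 0) →
      IsCentre hF n H v)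
    {v : Fin n → F} (hv : hermForm n F q v v = 0) (hvj : ∀ j : Fin n, j₀.val < j.val → v j = 0)
    (hcE : 𝔣.cE v = 0) (hcF : 𝔣.cF v = 0) : IsCentre hF n H v := by
  classical
  by_cases hδ : v j₀ = 0
  · apply IH v hv
    intro j hj
    by_cases hjj : j = j₀
    · rw [hjj]; exact hδ
    · apply hvj
      have : j.val ≠ j₀.val := fun h => hjj (Fin.ext h)
      omega
  set i₀ : Fin m := ⟨0, by omega⟩ with hi₀
  set d : Fin n → F := Pi.single j₀ 1 with hd
  have hdrat : IsRatV F₀ d := isRatV_single j₀ F₀.one_mem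
  have hdd : hermForm n F q d d = 1 := by
    rw [hd, herm_single_single n j₀ j₀ (q_ne_zero hF), if_pos rfl]
  have hde : hermForm n F q d (𝔣.e i₀) = 0 := congrFun (𝔣.cF_single_low hF low_e hj₀) i₀
  have hdf : hermForm n F q d (𝔣.f i₀) = 0 := congrFun (𝔣.cE_single_low hF low_f hj₀) i₀
  have hed : hermForm n F q (𝔣.e i₀) d = 0 := herm_symm_zero hF n hde
  have hfd : hermForm n F q (𝔣.f i₀) d = 0 := herm_symm_zero hF n hdf
  set w₁ : Fin n → F := 𝔣.e i₀ + β₀ • 𝔣.f i₀ + d with hw₁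
  have hw₁rat : IsRatV F₀ w₁ := ((𝔣.rat_e i₀).add ((𝔣.rat_f i₀).smul hβ₀)).add hdrat
  have hw₁e : hermForm n F q w₁ (𝔣.e i₀) = β₀ := by
    rw [hw₁, hermForm_add_left, hermForm_add_left, hermForm_smul_left, 𝔣.ee, 𝔣.fe hF, if_pos rfl,
      hde]
    ring
  have hw₁iso : hermForm n F q w₁ w₁ = 0 := by
    have h1 : hermForm n F q w₁ (𝔣.f i₀) = 1 := by
      rw [hw₁, hermForm_add_left, hermForm_add_left, hermForm_smul_left, 𝔣.ef, if_pos rfl, 𝔣.ff,
        hdf]
      ring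
    have h2 : hermForm n F q w₁ d = 1 := by
      rw [hw₁, hermForm_add_left, hermForm_add_left, hermForm_smul_left, hed, hfd, hdd]
      ring
    conv_lhs => rw [hw₁]
    rw [hermForm_add_right hF, hermForm_add_right hF, hermForm_smul_right, hw₁e, h1, h2]
    linear_combination hβ₀t
  have hyp : EHyp n q w₁ 0 s₀ :=
    ⟨hw₁iso, hermForm_zero_left n q _, by
      rw [hermForm_zero_left, add_zero, hs₀q, add_neg_cancel]⟩
  have hT : MIn H (unitaryTransvection n q w₁ s₀) := by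
    have := (EM_mIn hF F₀ hw₁rat isRatV_zero hs₀ hyp).mono hMH
    rwa [EM_tv hF _ hw₁iso] at this
  obtain ⟨g, hgH, hgv⟩ := hT
  apply isCentre_of_mulVec hF hHS hgH
  have hgiso : hermForm n F q (g.1 *ᵥ v) (g.1 *ᵥ v) = 0 := ((hHS hgH).1 v v).trans hv
  have hvw : hermForm n F q v w₁ = v j₀ := by
    have h1 : hermForm n F q v (𝔣.e i₀) = 0 := congrFun hcF i₀
    have h2 : hermForm n F q v (𝔣.f i₀) = 0 := congrFun hcE i₀
    rw [hw₁, hermForm_add_right hF, hermForm_add_right hF, hermForm_smul_right, h1, h2, hd,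
      hermForm_single_right n q (q_ne_zero hF)]
    ring
  have key : g.1 *ᵥ v = v + (s₀ * v j₀) • w₁ := by
    rw [hgv, unitaryTransvection_mulVec, hvw]
  have hβ₀0 : β₀ ≠ 0 := by
    rintro rfl
    rw [zero_pow (q_ne_zero hF), add_zero] at hβ₀t
    exact one_ne_zero (neg_eq_zero.1 hβ₀t.symm)
  apply 𝔣.step1 hF hm hMH hHS hSL low_e low_f hβ₀ hβ₀t hj₀ IH hgiso
  · intro j hj
    have hjj : j ≠ j₀ := fun h => by rw [h] at hj; exact lt_irrefl _ hj
    have hj8 : 8 ≤ j.val := by omega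
    rw [key, Pi.add_apply, Pi.smul_apply, hvj j hj, hw₁, Pi.add_apply, Pi.add_apply,
      Pi.smul_apply, low_e i₀ j hj8, low_f i₀ j hj8, hd, Pi.single_eq_of_ne hjj]
    simp
  · intro h0
    have h1 := congrFun h0 i₀
    rw [key] at h1
    have h2 : 𝔣.cF (v + (s₀ * v j₀) • w₁) i₀ = s₀ * v j₀ * β₀ := by
      show hermForm n F q (v + (s₀ * v j₀) • w₁) (𝔣.e i₀) = _
      rw [hermForm_add_left, hermForm_smul_left, hw₁e]
      have : hermForm n F q v (𝔣.e i₀) = 0 := congrFun hcF i₀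
      rw [this, zero_add]
    rw [h2, Pi.zero_apply] at h1
    exact mul_ne_zero (mul_ne_zero hs₀0 hδ) hβ₀0 h1

end Step

section Main

variable {F : Type u} [Field F] [Fintype F] {q : ℕ} (hF : Fintype.card F = q ^ 2) {n : ℕ}
  {F₀ : Subfield F} {H : Subgroup (GL (Fin n) F)} (hn : 8 ≤ n) (L : LamData q F₀)
  (hMH : MS n q F₀ ≤ H) (hHS : H ≤ Cfsg.GU n F q ⊓ Cfsg.Geo.specialLinear (Fin n) F)
  (hSL : Cfsg.Geo.specialLinear (Fin 4) F ≤ H.comap ((stdFrame hF hn L).dg hF))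

include hn in
theorem exists_pair_index (j : Fin n) (hj : j.val < 8) :
    ∃ i : Fin 4, j = i0 hn i ∨ j = i1 hn i := by
  refine ⟨⟨j.val / 2, by omega⟩, ?_⟩
  rcases Nat.even_or_odd' j.val with ⟨k, hk | hk⟩
  · left
    apply Fin.ext
    rw [i0_val]
    show j.val = 2 * (j.val / 2)
    omega
  · right
    apply Fin.ext
    rw [i1_val]
    show j.val = 2 * (j.val / 2) + 1
    omega

/-- a vector supported on the first eight coordinates is a sum of vectors of the two totally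
isotropic subspaces of the frame -/
theorem stdFrame_decomp {v : Fin n → F} (hv : ∀ j : Fin n, 8 ≤ j.val → v j = 0) :
    v = (stdFrame hF hn L).eV ((stdFrame hF hn L).cE v) +
      (stdFrame hF hn L).fV ((stdFrame hF hn L).cF v) := by
  set 𝔣 := stdFrame hF hn L with h𝔣
  set a := 𝔣.eV (𝔣.cE v) with ha
  set b := 𝔣.fV (𝔣.cF v) with hb
  set x := v - a - b with hx
  have low_e : ∀ (i : Fin 4) (j : Fin n), 8 ≤ j.val → 𝔣.e i j = 0 :=
    fun i j hj => stdFrame_e_apply hF hn L i hj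
  have low_f : ∀ (i : Fin 4) (j : Fin n), 8 ≤ j.val → 𝔣.f i j = 0 :=
    fun i j hj => stdFrame_f_apply hF hn L i hj
  have h1 : 𝔣.cE x = 0 := by
    funext i
    show hermForm n F q (v - a - b) (𝔣.f i) = 0
    rw [herm_sub_l hF, herm_sub_l hF]
    have e1 : hermForm n F q a (𝔣.f i) = 𝔣.cE v i := congrFun (𝔣.cE_eV hF (𝔣.cE v)) i
    have e2 : hermForm n F q b (𝔣.f i) = 0 := congrFun (𝔣.cE_fV hF (𝔣.cF v)) i
    rw [e1, e2]
    show 𝔣.cE v i - 𝔣.cE v i - 0 = 0
    ring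
  have h2 : 𝔣.cF x = 0 := by
    funext i
    show hermForm n F q (v - a - b) (𝔣.e i) = 0
    rw [herm_sub_l hF, herm_sub_l hF]
    have e1 : hermForm n F q a (𝔣.e i) = 0 := congrFun (𝔣.cF_eV hF (𝔣.cE v)) i
    have e2 : hermForm n F q b (𝔣.e i) = 𝔣.cF v i := congrFun (𝔣.cF_fV hF (𝔣.cF v)) i
    rw [e1, e2]
    show 𝔣.cF v i - 0 - 𝔣.cF v i = 0
    ring
  have hx0 : x = 0 := by
    funext j
    by_cases hj : 8 ≤ j.val
    · rw [hx, Pi.sub_apply, Pi.sub_apply, hv j hj, ha, 𝔣.eV_apply_low low_e _ hj, hb,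
        𝔣.fV_eq hF, (𝔣.swap hF).eV_apply_low low_f _ hj]
      simp
    · obtain ⟨i, hi | hi⟩ := exists_pair_index hn j (by omega)
      · rw [hi]; exact (stdFrame_compl hF hn L h1 h2 i).1
      · rw [hi]; exact (stdFrame_compl hF hn L h1 h2 i).2
  have : v = x + a + b := by rw [hx]; abel
  rw [this, hx0, zero_add]

include hMH hHS hSL in
/-- all isotropic vectors are centres -/
theorem all_centres {s₀ : F} (hs₀ : s₀ ∈ F₀) (hs₀0 : s₀ ≠ 0) (hs₀q : s₀ ^ q = -s₀)
    {β₀ : F} (hβ₀ : β₀ ∈ F₀) (hβ₀t : β₀ + β₀ ^ q = -1) :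
    ∀ v : Fin n → F, hermForm n F q v v = 0 → IsCentre hF n H v := by
  set 𝔣 := stdFrame hF hn L with h𝔣
  have low_e : ∀ (i : Fin 4) (j : Fin n), 8 ≤ j.val → 𝔣.e i j = 0 :=
    fun i j hj => stdFrame_e_apply hF hn L i hj
  have low_f : ∀ (i : Fin 4) (j : Fin n), 8 ≤ j.val → 𝔣.f i j = 0 :=
    fun i j hj => stdFrame_f_apply hF hn L i hj
  have hE := 𝔣.isCentre_eV hF (by norm_num) hMH hHS hSL hs₀ hs₀0 hs₀q
  have hE' := 𝔣.isCentre_fV hF (by norm_num) hMH hHS hSL hs₀ hs₀0 hs₀q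
  have P : ∀ k : ℕ, ∀ v : Fin n → F, hermForm n F q v v = 0 →
      (∀ j : Fin n, 8 + k ≤ j.val → v j = 0) → IsCentre hF n H v := by
    intro k
    induction k with
    | zero =>
      intro v hv hvj
      have hdec := stdFrame_decomp hF hn L (v := v) (fun j hj => hvj j (by omega))
      rw [hdec]
      apply 𝔣.isCentre_add hF hHS hE hE'
      rw [← hdec]
      exact hv
    | succ k ih =>
      intro v hv hvj
      by_cases hlt : 8 + k < n
      · set j₀ : Fin n := ⟨8 + k, hlt⟩ with hj₀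
        have hj₀8 : 8 ≤ j₀.val := by show 8 ≤ 8 + k; omega
        have IH : ∀ v : Fin n → F, hermForm n F q v v = 0 →
            (∀ j : Fin n, j₀.val ≤ j.val → v j = 0) → IsCentre hF n H v := ih
        have hvj' : ∀ j : Fin n, j₀.val < j.val → v j = 0 := by
          intro j hj
          apply hvj
          have : j₀.val = 8 + k := rfl
          omega
        by_cases hcF : 𝔣.cF v = 0
        · by_cases hcE : 𝔣.cE v = 0
          · exact 𝔣.step3 hF (by norm_num) hMH hHS hSL low_e low_f hs₀ hs₀0 hs₀q hβ₀ hβ₀t hj₀8 IH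
              hv hvj' hcE hcF
          · exact (𝔣.swap hF).step1 hF (by norm_num) hMH hHS (𝔣.hSL_swap hF hSL) low_f low_e hβ₀
              hβ₀t hj₀8 IH hv hvj' hcE
        · exact 𝔣.step1 hF (by norm_num) hMH hHS hSL low_e low_f hβ₀ hβ₀t hj₀8 IH hv hvj' hcF
      · apply ih v hv
        intro j hj
        exfalso
        have := j.isLt
        omega
  intro v hv
  apply P n v hv
  intro j hj
  exfalso
  have := j.isLt
  omega

include hMH hHS hSL in
/-- an overgroup of the subfield subgroup whose pull-back contains `SL_4` is everything -/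
theorem SU_le_of_SL (hn13 : 13 ≤ n) {s₀ : F} (hs₀ : s₀ ∈ F₀) (hs₀0 : s₀ ≠ 0)
    (hs₀q : s₀ ^ q = -s₀) {β₀ : F} (hβ₀ : β₀ ∈ F₀) (hβ₀t : β₀ + β₀ ^ q = -1) :
    Cfsg.GU n F q ⊓ Cfsg.Geo.specialLinear (Fin n) F ≤ H := by
  apply SU_le hF (by omega) (by omega)
  exact all_centres hF hn L hMH hHS hSL hs₀ hs₀0 hs₀q hβ₀ hβ₀t

end Main

end Cfsg.Agent.Lib.Helper2.Suf
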