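import Mathlib
import Cfsg.Agent.Lib.Helper2.SufG
set_option autoImplicit false
set_option maxHeartbeats 1000000
set_option linter.unusedVariables false
set_option linter.unusedSectionVars false
set_option linter.style.longLine false
set_option linter.unusedSimpArgs false
set_option linter.deprecated false
set_option linter.style.haveILetI false

/-! Unitary subfield subgroups (part H): Witt's lemma for the subfield subgroup: rational families
of vectors with the same Gram matrix are conjugate under the subfield subgroup of `SU_n`. -/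

namespace Cfsg.Agent.Lib.Helper2.Suf

open Matrix Cfsg Cfsg.Agent.Lib.Helper5.Herm Cfsg.Agent.Lib.Helper5.HermBridge
  Cfsg.Agent.Lib.Helper5.HermTv Cfsg.Agent.Lib.Helper5.HermEich
  Cfsg.Agent.Lib.Helper5.SUCentres Cfsg.Agent.Lib.Helper5.TvGL
  Cfsg.Agent.Lib.Helper2.Sfm Cfsg.Agent.Lib.Helper2.Ssf

universe u

section Descent

variable {F : Type u} [Field F] [Fintype F] {q : ℕ} (hF : Fintype.card F = q ^ 2) {n : ℕ}
  (F₀ : Subfield F)

/-- a vector over the subfield as a vector over the field -/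
def upv (x : Fin n → F₀) : Fin n → F := fun i => (x i : F)

/-- a rational vector as a vector over the subfield -/
def down {v : Fin n → F} (hv : IsRatV F₀ v) : Fin n → F₀ := fun i => ⟨v i, hv i⟩

omit [Fintype F] in
theorem upv_down {v : Fin n → F} (hv : IsRatV F₀ v) : upv F₀ (down F₀ hv) = v := rfl

omit [Fintype F] in
theorem isRatV_upv (x : Fin n → F₀) : IsRatV F₀ (upv F₀ x) := fun i => (x i).2

omit [Fintype F] in
theorem upv_single (i : Fin n) : upv F₀ (Pi.single i (1 : F₀)) = Pi.single i (1 : F) := by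
  classical
  funext j
  unfold upv
  by_cases h : j = i
  · subst h; rw [Pi.single_eq_same, Pi.single_eq_same]; rfl
  · rw [Pi.single_eq_of_ne h, Pi.single_eq_of_ne h]; rfl

omit [Fintype F] in
theorem upv_injective : Function.Injective (upv F₀ : (Fin n → F₀) → Fin n → F) := by
  intro x y h
  funext i
  exact Subtype.ext (congrFun h i)

/-- the hermitian form over the subfield -/
def B0 : (Fin n → F₀) →ₛₗ[sig0 hF F₀] (Fin n → F₀) →ₗ[F₀] F₀ :=
  LinearMap.mk₂'ₛₗ (sig0 hF F₀) (RingHom.id F₀) (fun x y => ∑ i, sig0 hF F₀ (x i) * y i)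
    (fun x x' y => by
      rw [← Finset.sum_add_distrib]
      exact Finset.sum_congr rfl fun i _ => by rw [Pi.add_apply, map_add, add_mul])
    (fun c x y => by
      rw [smul_eq_mul, Finset.mul_sum]
      exact Finset.sum_congr rfl fun i _ => by
        rw [Pi.smul_apply, smul_eq_mul, map_mul, mul_assoc])
    (fun x y y' => by
      rw [← Finset.sum_add_distrib]
      exact Finset.sum_congr rfl fun i _ => by rw [Pi.add_apply, mul_add])
    (fun c x y => by
      rw [RingHom.id_apply, smul_eq_mul, Finset.mul_sum]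
      exact Finset.sum_congr rfl fun i _ => by
        rw [Pi.smul_apply, smul_eq_mul]; ring)

theorem B0_apply (x y : Fin n → F₀) : B0 hF F₀ x y = ∑ i, sig0 hF F₀ (x i) * y i := rfl

theorem B0_coe (x y : Fin n → F₀) :
    ((B0 hF F₀ x y : F₀) : F) = hermForm n F q (upv F₀ y) (upv F₀ x) := by
  rw [B0_apply]
  unfold hermForm
  have : ((∑ i, sig0 hF F₀ (x i) * y i : F₀) : F) =
      ∑ i, F₀.subtype (sig0 hF F₀ (x i) * y i) := map_sum F₀.subtype _ _
  rw [this]
  exact Finset.sum_congr rfl fun i _ => by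
    show ((x i : F) ^ q) * (y i : F) = _
    unfold upv
    ring

theorem B0_isSymm : (B0 hF F₀ (n := n)).IsSymm :=
  ⟨fun x y => by
    apply Subtype.ext
    rw [sig0_coe, B0_coe, B0_coe, hermForm_conj hF]⟩

theorem B0_nondegenerate : (B0 hF F₀ (n := n)).Nondegenerate := by
  classical
  constructor
  · intro x hx
    funext i
    have h1 := congrArg Subtype.val (hx (Pi.single i 1))
    rw [B0_coe, upv_single, hermForm_single_left] at h1
    apply Subtype.ext
    exact pow_eq_zero_iff (q_ne_zero hF) |>.mp h1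
  · intro y hy
    funext i
    have h1 := congrArg Subtype.val (hy (Pi.single i 1))
    rw [B0_coe, upv_single, hermForm_single_right n q (q_ne_zero hF)] at h1
    apply Subtype.ext
    exact h1

end Descent

section Cols

variable {F : Type u} [Field F] [Fintype F] {q : ℕ} (hF : Fintype.card F = q ^ 2) {n : ℕ}

include hF in
/-- a matrix preserving the form on the standard basis preserves the form -/
theorem herm_mulVec_of_cols (A : Matrix (Fin n) (Fin n) F)
    (h : ∀ i j, hermForm n F q (A *ᵥ Pi.single i 1) (A *ᵥ Pi.single j 1) =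
      hermForm n F q (Pi.single i 1) (Pi.single j 1)) (u v : Fin n → F) :
    hermForm n F q (A *ᵥ u) (A *ᵥ v) = hermForm n F q u v := by
  classical
  have hdec : ∀ w : Fin n → F, w = ∑ i, w i • (Pi.single i (1 : F) : Fin n → F) := by
    intro w
    funext j
    rw [Finset.sum_apply, Finset.sum_eq_single j]
    · rw [Pi.smul_apply, Pi.single_eq_same, smul_eq_mul, mul_one]
    · intro i _ hij
      rw [Pi.smul_apply, Pi.single_eq_of_ne (Ne.symm hij), smul_zero]
    · intro hj; exact absurd (Finset.mem_univ j) hj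
  have hA : ∀ w : Fin n → F, A *ᵥ w = ∑ i, w i • (A *ᵥ (Pi.single i (1 : F) : Fin n → F)) := by
    intro w
    conv_lhs => rw [hdec w]
    rw [Matrix.mulVec_sum]
    exact Finset.sum_congr rfl fun i _ => Matrix.mulVec_smul _ _ _
  rw [hA u, hA v]
  conv_rhs => rw [hdec u, hdec v]
  rw [herm_sum_l hF, herm_sum_l hF]
  apply Finset.sum_congr rfl
  intro i _
  rw [herm_sum_r hF, herm_sum_r hF]
  apply Finset.sum_congr rfl
  intro j _
  rw [hermForm_smul_left, hermForm_smul_right, hermForm_smul_left, hermForm_smul_right, h]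

end Cols

section RW

variable {F : Type u} [Field F] [Fintype F] {q : ℕ} (hF : Fintype.card F = q ^ 2) {n : ℕ}
  (F₀ : Subfield F) (hσ : sig0 hF F₀ ≠ RingHom.id F₀)

omit [Fintype F] in
/-- linear independence over the field descends to the subfield -/
theorem li_down {k : ℕ} (x : Fin k → Fin n → F₀)
    (h : LinearIndependent F (fun i => upv F₀ (x i))) : LinearIndependent F₀ x := by
  rw [Fintype.linearIndependent_iff] at h ⊢
  intro c hc i
  have h0 := h (fun i => (c i : F)) ?_ i
  · exact Subtype.ext h0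
  · funext j
    have h1 : (∑ i, c i • x i) j = 0 := by rw [hc]; rfl
    rw [Finset.sum_apply] at h1
    have h2 := congrArg (F₀.subtype) h1
    rw [map_sum, map_zero] at h2
    rw [Finset.sum_apply, Pi.zero_apply, ← h2]
    exact Finset.sum_congr rfl fun i _ => rfl

include hF hσ in
/-- Witt's lemma inside the subfield subgroup of `GU` -/
theorem rat_witt_GU {k : ℕ} (x y : Fin k → Fin n → F) (hx : ∀ i, IsRatV F₀ (x i))
    (hy : ∀ i, IsRatV F₀ (y i)) (hxli : LinearIndependent F x) (hyli : LinearIndependent F y)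
    (hgram : ∀ i j, hermForm n F q (x i) (x j) = hermForm n F q (y i) (y j)) :
    ∃ g : GL (Fin n) F, IsRatM F₀ g.1 ∧ g.1.det ∈ F₀ ∧ g ∈ Cfsg.GU n F q ∧
      ∀ i, g.1 *ᵥ x i = y i := by
  classical
  set x₀ : Fin k → Fin n → F₀ := fun i => down F₀ (hx i) with hx₀
  set y₀ : Fin k → Fin n → F₀ := fun i => down F₀ (hy i) with hy₀
  have hx₀li : LinearIndependent F₀ x₀ := li_down F₀ x₀ hxli
  have hy₀li : LinearIndependent F₀ y₀ := li_down F₀ y₀ hyli
  obtain ⟨g, hg, hgx⟩ := Cfsg.Agent.Lib.Helper5.HermWitt.witt_family (B0 hF F₀) hσ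
    (sig0_sig0 hF F₀) (B0_nondegenerate hF F₀) (B0_isSymm hF F₀) k x₀ y₀ hx₀li hy₀li
    (fun i j => by
      apply Subtype.ext
      rw [B0_coe, B0_coe]
      exact hgram j i)
  set A₀ := LinearMap.toMatrix' (g : (Fin n → F₀) →ₗ[F₀] (Fin n → F₀)) with hA₀
  set A₀' := LinearMap.toMatrix' (g.symm : (Fin n → F₀) →ₗ[F₀] (Fin n → F₀)) with hA₀'
  have h1 : A₀ * A₀' = 1 := by
    rw [hA₀, hA₀', ← LinearMap.toMatrix'_comp, ← LinearMap.toMatrix'_id]
    congr 1
    ext v
    simp
  have h2 : A₀' * A₀ = 1 := by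
    rw [hA₀, hA₀', ← LinearMap.toMatrix'_comp, ← LinearMap.toMatrix'_id]
    congr 1
    ext v
    simp
  set A : Matrix (Fin n) (Fin n) F := A₀.map F₀.subtype with hA
  set A' : Matrix (Fin n) (Fin n) F := A₀'.map F₀.subtype with hA'
  have hAA' : A * A' = 1 := by
    rw [hA, hA', ← Matrix.map_mul, h1, Matrix.map_one _ (map_zero _) (map_one _)]
  have hA'A : A' * A = 1 := by
    rw [hA, hA', ← Matrix.map_mul, h2, Matrix.map_one _ (map_zero _) (map_one _)]
  have hmul : ∀ v : Fin n → F₀, A *ᵥ upv F₀ v = upv F₀ (g v) := by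
    intro v
    funext i
    have h3 := RingHom.map_mulVec F₀.subtype A₀ v i
    rw [hA₀, LinearMap.toMatrix'_mulVec] at h3
    exact h3.symm
  refine ⟨⟨A, A', hAA', hA'A⟩, ?_, ?_, ?_, ?_⟩
  · intro i j
    exact (A₀ i j).2
  · show A.det ∈ F₀
    rw [hA, ← RingHom.mapMatrix_apply, ← RingHom.map_det]
    exact (A₀.det).2
  · intro u v
    show hermForm n F q (A *ᵥ u) (A *ᵥ v) = hermForm n F q u v
    apply herm_mulVec_of_cols hF A
    intro i j
    rw [← upv_single F₀ i, ← upv_single F₀ j, hmul, hmul, ← B0_coe hF F₀, ← B0_coe hF F₀, hg]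
  · intro i
    show A *ᵥ x i = y i
    have h3 := hmul (x₀ i)
    rw [hgx i] at h3
    exact h3

omit [Fintype F] in
theorem mem_sfs_of_isRatM {g : GL (Fin n) F} (h : IsRatM F₀ g.1) :
    g ∈ Cfsg.Geo.subfieldSubgroup F₀ 1 := by
  rw [mem_subfield_iff']
  refine ⟨1, one_ne_zero, fun i j => ?_⟩
  rw [one_mul]
  exact h i j

omit [Fintype F] in
theorem isRatM_unitaryTransvection {v : Fin n → F} {c : F} (hv : IsRatV F₀ v) (hc : c ∈ F₀) :
    IsRatM F₀ (unitaryTransvection n q v c) := by
  unfold unitaryTransvection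
  exact isRatM_one.add ((isRatM_vecMulVec hv (fun j => F₀.pow_mem (hv j) q)).smul hc)

/-- the last index -/
def lastIx (hn : 1 ≤ n) : Fin n := ⟨n - 1, Nat.sub_lt hn Nat.one_pos⟩

include hF hσ in
/-- Witt's lemma inside the subfield subgroup of `SU`, for targets avoiding the last coordinate -/
theorem rat_witt_SU (hn : 1 ≤ n) {k : ℕ} (x y : Fin k → Fin n → F) (hx : ∀ i, IsRatV F₀ (x i))
    (hy : ∀ i, IsRatV F₀ (y i)) (hxli : LinearIndependent F x) (hyli : LinearIndependent F y)
    (hgram : ∀ i j, hermForm n F q (x i) (x j) = hermForm n F q (y i) (y j))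
    (hlast : ∀ i, y i (lastIx hn) = 0) :
    ∃ g : GL (Fin n) F, g ∈ MS n q F₀ ∧ ∀ i, g.1 *ᵥ x i = y i := by
  classical
  obtain ⟨g, hgR, hgd, hgU, hgx⟩ := rat_witt_GU hF F₀ hσ x y hx hy hxli hyli hgram
  set δ : F := g.1.det with hδ
  have hδN : δ ^ (q + 1) = 1 := by
    have h1 := Cfsg.Agent.Lib.Helper5.HermGen.normKer_coe
      (Cfsg.Agent.Lib.Helper5.HermGen.detN hF (⟨g, hgU⟩ : ↥(Cfsg.GU n F q)))
    rw [Cfsg.Agent.Lib.Helper5.HermGen.detN_coe] at h1
    exact h1
  have hδ0 : δ ≠ 0 := by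
    intro h
    rw [h, zero_pow (by omega)] at hδN
    exact zero_ne_one hδN
  set v : Fin n → F := Pi.single (lastIx hn) 1 with hv
  have hvv : hermForm n F q v v = 1 := by
    rw [hv, herm_single_single n _ _ (q_ne_zero hF), if_pos rfl]
  set c : F := δ⁻¹ - 1 with hc
  have hcq : QCond n q v c := by
    unfold QCond
    rw [hvv, mul_one, hc, pow_q_sub hF, one_pow, inv_pow]
    have h1 : δ * δ ^ q = 1 := by rw [← pow_succ']; exact hδN
    have h2 : δ ^ q ≠ 0 := pow_ne_zero _ hδ0
    field_simp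
    linear_combination -h1
  have hcF : c ∈ F₀ := F₀.sub_mem (F₀.inv_mem hgd) F₀.one_mem
  set D : ↥(Cfsg.GU n F q) := qtv hF n v c hcq with hD
  refine ⟨(D : GL (Fin n) F) * g, ?_, ?_⟩
  · rw [Subgroup.mem_inf, mem_SU_iff]
    refine ⟨mem_sfs_of_isRatM F₀ ?_, (Cfsg.GU n F q).mul_mem D.2 hgU, ?_⟩
    · show IsRatM F₀ (unitaryTransvection n q v c * g.1)
      exact (isRatM_unitaryTransvection F₀ (isRatV_single _ F₀.one_mem) hcF).mul hgR
    · show (unitaryTransvection n q v c * g.1).det = 1
      rw [Matrix.det_mul, Cfsg.Agent.Lib.Helper5.HermGen.det_tv, hvv, mul_one, hc, ← hδ]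
      field_simp
      ring
  · intro i
    show (unitaryTransvection n q v c * g.1) *ᵥ x i = y i
    rw [← mulVec_mulVec, hgx, unitaryTransvection_mulVec, hv,
      hermForm_single_right n q (q_ne_zero hF), hlast, mul_zero, zero_smul, add_zero]

end RW

end Cfsg.Agent.Lib.Helper2.Suf
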