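import Mathlib
import Cfsg.Agent.Lib.Helper2.SufH
set_option autoImplicit false
set_option maxHeartbeats 1000000
set_option linter.unusedVariables false
set_option linter.unusedSectionVars false
set_option linter.style.longLine false
set_option linter.unusedSimpArgs false
set_option linter.deprecated false
set_option linter.style.haveILetI false

/-! Unitary subfield subgroups (part I): the rational case.  Parameters of root elements of an
overgroup without bad transvections in the Levi pull-back are rational. -/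

namespace Cfsg.Agent.Lib.Helper2.Suf

open Matrix Cfsg Cfsg.Agent.Lib.Helper5.Herm Cfsg.Agent.Lib.Helper5.HermBridge
  Cfsg.Agent.Lib.Helper5.HermTv Cfsg.Agent.Lib.Helper5.HermEich
  Cfsg.Agent.Lib.Helper5.SUCentres Cfsg.Agent.Lib.Helper5.TvGL
  Cfsg.Agent.Lib.Helper2.Sfm Cfsg.Agent.Lib.Helper2.Ssf

universe u

section Idn

variable {F : Type u} [Field F] [Fintype F] {q : ℕ} (hF : Fintype.card F = q ^ 2) {n : ℕ}

include hF in
/-- independence of a pair from values of the form -/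
theorem li_pair_of_herm {X Y a b : Fin n → F} (h1 : hermForm n F q X a ≠ 0)
    (h2 : hermForm n F q Y a = 0) (h3 : hermForm n F q Y b ≠ 0) :
    LinearIndependent F ![X, Y] := by
  rw [LinearIndependent.pair_iff]
  intro s t hst
  have e1 := congrArg (fun v => hermForm n F q v a) hst
  simp only [hermForm_add_left, hermForm_smul_left, h2, mul_zero, add_zero,
    hermForm_zero_left] at e1
  have hs : s = 0 := by
    rcases mul_eq_zero.1 e1 with h | h
    · exact h
    · exact absurd h h1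
  have e2 := congrArg (fun v => hermForm n F q v b) hst
  simp only [hermForm_add_left, hermForm_smul_left, hs, zero_mul, zero_add,
    hermForm_zero_left] at e2
  refine ⟨hs, ?_⟩
  rcases mul_eq_zero.1 e2 with h | h
  · exact h
  · exact absurd h h3

include hF in
/-- the product of three transvections with centres `a + b`, `a`, `b` -/
theorem TM_three {a b : Fin n → F} {c : F} (haa : hermForm n F q a a = 0)
    (hbb : hermForm n F q b b = 0) (hab : hermForm n F q a b = 0) (hc : c ^ q = -c) :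
    unitaryTransvection n q (a + b) c * unitaryTransvection n q a (-c) *
      unitaryTransvection n q b (-c) = eichMat n q a (c • b) 0 := by
  have hba : hermForm n F q b a = 0 := herm_symm_zero hF n hab
  apply mat_ext
  intro v
  simp only [← mulVec_mulVec, unitaryTransvection_mulVec, eichMat_mulVec n _ _ _ haa]
  simp only [hermForm_add_left, hermForm_add_right hF, hermForm_smul_left, hermForm_smul_right,
    haa, hbb, hab, hba, mul_zero, add_zero, zero_add, hc]
  module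

include hF in
/-- the product of two transvections with centres `a + b`, `a` -/
theorem TM_two {a b : Fin n → F} {c : F} (haa : hermForm n F q a a = 0)
    (hbb : hermForm n F q b b = 0) (hab : hermForm n F q a b = 0) (hc : c ^ q = -c) :
    unitaryTransvection n q (a + b) c * unitaryTransvection n q a (-c) =
      eichMat n q b (c • a) c := by
  have hba : hermForm n F q b a = 0 := herm_symm_zero hF n hab
  apply mat_ext
  intro v
  simp only [← mulVec_mulVec, unitaryTransvection_mulVec, eichMat_mulVec n _ _ _ hbb]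
  simp only [hermForm_add_left, hermForm_add_right hF, hermForm_smul_left, hermForm_smul_right,
    haa, hbb, hab, hba, mul_zero, add_zero, zero_add, hc]
  module

include hF in
/-- a transvection of the unitary group has a parameter of trace zero -/
theorem cq_of_mIn {H : Subgroup (GL (Fin n) F)} (hHU : H ≤ Cfsg.GU n F q) {v : Fin n → F} {c : F}
    (hv0 : v ≠ 0) (hv : hermForm n F q v v = 0) (h : MIn H (unitaryTransvection n q v c)) :
    c ^ q = -c := by
  obtain ⟨g, hg, hgv⟩ := h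
  have := qcond_of_mem hF n ⟨g, hHU hg⟩ v c hv0 hv hgv
  exact (qcond_iso n hv c).1 this

end Idn

section Stp

variable {F : Type u} [Field F] [Fintype F] {q : ℕ} (hF : Fintype.card F = q ^ 2) {n : ℕ}
  {F₀ : Subfield F} {H : Subgroup (GL (Fin n) F)}

include hF in
/-- a rational shear of the frame: `e_i ↦ e_i + e_j` -/
theorem frame_shear {m : ℕ} (𝔣 : Frame q F₀ m n) {i j : Fin m} (hij : i ≠ j) :
    ∃ γ ∈ MS n q F₀, ∀ k, γ.1 *ᵥ 𝔣.e k = 𝔣.e k + (if k = i then 𝔣.e j else 0) := by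
  obtain ⟨γ, hγ, hγv⟩ := EM_mIn hF F₀ (𝔣.rat_f i) (𝔣.rat_e j) F₀.zero_mem
    ⟨𝔣.ff i i, by rw [𝔣.ef, if_neg (Ne.symm hij)], by
      rw [zero_pow (q_ne_zero hF), 𝔣.ee]; ring⟩
  refine ⟨γ, hγ, fun k => ?_⟩
  rw [hγv, eichMat_mulVec n _ _ _ (𝔣.ff i i), 𝔣.ef, 𝔣.ee]
  by_cases hk : k = i
  · rw [if_pos hk, if_pos hk]; module
  · rw [if_neg hk, if_neg hk]; module

include hF in
/-- one step towards (P) -/
theorem P_step (hHU : H ≤ Cfsg.GU n F q) {x v z : Fin n → F} {c d : F}
    (hxx : hermForm n F q x x = 0) (hvv : hermForm n F q v v = 0)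
    (hvx : hermForm n F q v x = 0) (hzx : hermForm n F q z x = 0)
    (hvz : hermForm n F q v z = 0) {γ : GL (Fin n) F} (hγ : γ ∈ H) (hγx : γ.1 *ᵥ x = x)
    (hγv : γ.1 *ᵥ v = v + d • z) (hR : MIn H (eichMat n q x (c • v) c)) :
    MIn H (eichMat n q x ((c * d) • z) 0) := by
  have h1 := MIn.conj hγ hR
  rw [EM_conj hF (hHU hγ) _ _ hxx, hγx, mulVec_smul, hγv] at h1
  have hcvx : hermForm n F q (c • v) x = 0 := by rw [hermForm_smul_left, hvx, mul_zero]
  have hncvx : hermForm n F q (-(c • v)) x = 0 := by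
    rw [hermForm_neg_left, hcvx, neg_zero]
  have hinv : MIn H (eichMat n q x (-(c • v)) (-c)) := by
    apply hR.of_mul_eq_one
    rw [EM_mul hF c (-c) hxx hcvx hncvx]
    have e1 : c • v + -(c • v) = 0 := by module
    have e2 : c + -c - hermForm n F q (-(c • v)) (c • v) = 0 := by
      rw [hermForm_neg_left, hermForm_smul_left, hermForm_smul_right, hvv]
      ring
    rw [e1, e2, EM_zero hF hxx]
  have h2 := h1.mul hinv
  have hcvzx : hermForm n F q (c • (v + d • z)) x = 0 := by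
    rw [hermForm_smul_left, hermForm_add_left, hermForm_smul_left, hvx, hzx]
    ring
  rw [EM_mul hF c (-c) hxx hcvzx hncvx] at h2
  have e1 : c • (v + d • z) + -(c • v) = (c * d) • z := by module
  have e2 : c + -c - hermForm n F q (-(c • v)) (c • (v + d • z)) = 0 := by
    rw [hermForm_neg_left, hermForm_smul_left, hermForm_smul_right, hermForm_add_right hF,
      hermForm_smul_right, hvv, hvz]
    ring
  rwa [e1, e2] at h2

end Stp

section Ctx

variable {F : Type u} [Field F] [Fintype F] {q : ℕ} (hF : Fintype.card F = q ^ 2) {n : ℕ}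
  {F₀ : Subfield F}

/-- the standing hypotheses of the rational case -/
structure Ctx (hn : 8 ≤ n) (L : LamData q F₀) (H : Subgroup (GL (Fin n) F)) : Prop where
  hn9 : 9 ≤ n
  hσ : sig0 hF F₀ ≠ RingHom.id F₀
  hMH : MS n q F₀ ≤ H
  hHS : H ≤ Cfsg.GU n F q ⊓ Cfsg.Geo.specialLinear (Fin n) F
  hN : NoBad F₀ (H.comap ((stdFrame hF hn L).dg hF))

variable {hF} {hn : 8 ≤ n} {L : LamData q F₀} {H : Subgroup (GL (Fin n) F)}

theorem Ctx.hn1 (C : Ctx hF hn L H) : 1 ≤ n := le_trans (by norm_num) hn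

theorem Ctx.hHU (C : Ctx hF hn L H) : H ≤ Cfsg.GU n F q := fun g hg => (C.hHS hg).1

theorem Ctx.last_e (C : Ctx hF hn L H) (i : Fin 4) :
    (stdFrame hF hn L).e i (lastIx C.hn1) = 0 := by
  apply stdFrame_e_apply
  have := C.hn9
  show 8 ≤ n - 1
  omega

theorem Ctx.last_f (C : Ctx hF hn L H) (i : Fin 4) :
    (stdFrame hF hn L).f i (lastIx C.hn1) = 0 := by
  apply stdFrame_f_apply
  have := C.hn9
  show 8 ≤ n - 1
  omega

/-- Witt's lemma for one rational vector -/
theorem Ctx.rw_one (C : Ctx hF hn L H) {X X' : Fin n → F} (hX : IsRatV F₀ X)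
    (hX' : IsRatV F₀ X') (hX0 : X ≠ 0) (hX'0 : X' ≠ 0)
    (g11 : hermForm n F q X X = hermForm n F q X' X') (l1 : X' (lastIx C.hn1) = 0) :
    ∃ g ∈ MS n q F₀, g.1 *ᵥ X = X' := by
  obtain ⟨g, hg, hgx⟩ := rat_witt_SU hF F₀ C.hσ C.hn1 (fun _ : Fin 1 => X) (fun _ : Fin 1 => X')
    (fun _ => hX) (fun _ => hX') (LinearIndependent.of_subsingleton 0 hX0)
    (LinearIndependent.of_subsingleton 0 hX'0) (fun _ _ => g11) (fun _ => l1)
  exact ⟨g, hg, hgx 0⟩

/-- Witt's lemma for two rational vectors -/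
theorem Ctx.rw_two (C : Ctx hF hn L H) {X Y X' Y' : Fin n → F} (hX : IsRatV F₀ X)
    (hY : IsRatV F₀ Y) (hX' : IsRatV F₀ X') (hY' : IsRatV F₀ Y')
    (hli : LinearIndependent F ![X, Y]) (hli' : LinearIndependent F ![X', Y'])
    (g11 : hermForm n F q X X = hermForm n F q X' X')
    (g12 : hermForm n F q X Y = hermForm n F q X' Y')
    (g22 : hermForm n F q Y Y = hermForm n F q Y' Y')
    (l1 : X' (lastIx C.hn1) = 0) (l2 : Y' (lastIx C.hn1) = 0) :
    ∃ g ∈ MS n q F₀, g.1 *ᵥ X = X' ∧ g.1 *ᵥ Y = Y' := by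
  have g21 : hermForm n F q Y X = hermForm n F q Y' X' := by
    rw [← hermForm_conj hF, g12, hermForm_conj hF]
  obtain ⟨g, hg, hgx⟩ := rat_witt_SU hF F₀ C.hσ C.hn1 ![X, Y] ![X', Y']
    (by
      intro i
      fin_cases i
      · exact hX
      · exact hY)
    (by
      intro i
      fin_cases i
      · exact hX'
      · exact hY') hli hli'
    (by
      intro i j
      fin_cases i <;> fin_cases j
      · exact g11
      · exact g12
      · exact g21
      · exact g22)
    (by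
      intro i
      fin_cases i
      · exact l1
      · exact l2)
  exact ⟨g, hg, hgx 0, hgx 1⟩

/-- conjugating a matrix of `H` by an element of the subfield subgroup -/
theorem Ctx.conj_mIn (C : Ctx hF hn L H) {g : GL (Fin n) F} (hg : g ∈ MS n q F₀)
    {M : Matrix (Fin n) (Fin n) F} (h : MIn H M) : MIn H (g.1 * M * (g⁻¹).1) :=
  MIn.conj (C.hMH hg) h

theorem mem_GU_of_MS {g : GL (Fin n) F} (hg : g ∈ MS n q F₀) : g ∈ Cfsg.GU n F q := hg.2.1

/-- (B1): the parameter of a rational short root element of `H` is rational -/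
theorem Ctx.B1 (C : Ctx hF hn L H) {X Y : Fin n → F} (hX : IsRatV F₀ X) (hY : IsRatV F₀ Y)
    (hXX : hermForm n F q X X = 0) (hYY : hermForm n F q Y Y = 0)
    (hXY : hermForm n F q X Y = 0) (hli : LinearIndependent F ![X, Y]) {s : F}
    (hs : MIn H (eichMat n q X (s • Y) 0)) : s ∈ F₀ := by
  set 𝔣 := stdFrame hF hn L with h𝔣
  have hli' : LinearIndependent F ![𝔣.f 1, 𝔣.e 0] := by
    apply li_pair_of_herm hF (a := 𝔣.e 1) (b := 𝔣.f 0)
    · rw [𝔣.fe hF, if_pos rfl]; exact one_ne_zero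
    · rw [𝔣.ee]
    · rw [𝔣.ef, if_pos rfl]; exact one_ne_zero
  obtain ⟨g, hg, hgX, hgY⟩ := C.rw_two hX hY (𝔣.rat_f 1) (𝔣.rat_e 0) hli hli'
    (by rw [hXX, 𝔣.ff]) (by rw [hXY, 𝔣.fe hF, if_neg (by decide)]) (by rw [hYY, 𝔣.ee])
    (C.last_f 1) (C.last_e 0)
  have h1 := C.conj_mIn hg hs
  rw [EM_conj hF (mem_GU_of_MS hg) _ _ hXX, hgX, mulVec_smul, hgY] at h1
  exact 𝔣.root_param_mem hF C.hN (by decide) h1

/-- (B2): the parameter of a rational long root element of `H` is rational -/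
theorem Ctx.B2 (C : Ctx hF hn L H) {w : Fin n → F} (hw : IsRatV F₀ w)
    (hww : hermForm n F q w w = 0) (hw0 : w ≠ 0) {c : F}
    (h : MIn H (unitaryTransvection n q w c)) : c ∈ F₀ := by
  set 𝔣 := stdFrame hF hn L with h𝔣
  have hcq : c ^ q = -c := cq_of_mIn hF C.hHU hw0 hww h
  set a := 𝔣.f 1 with ha
  set b := 𝔣.e 0 with hb
  have haa : hermForm n F q a a = 0 := 𝔣.ff 1 1
  have hbb : hermForm n F q b b = 0 := 𝔣.ee 0 0
  have hab : hermForm n F q a b = 0 := by rw [ha, hb, 𝔣.fe hF, if_neg (by decide)]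
  have hba : hermForm n F q b a = 0 := herm_symm_zero hF n hab
  have ha0 : a ≠ 0 := by
    intro h0
    have := 𝔣.fe hF 1 1
    rw [← ha, h0, hermForm_zero_left, if_pos rfl] at this
    exact zero_ne_one this
  have hb0 : b ≠ 0 := by
    intro h0
    have := 𝔣.ef 0 0
    rw [← hb, h0, hermForm_zero_left, if_pos rfl] at this
    exact zero_ne_one this
  have hab0 : a + b ≠ 0 := by
    intro h0
    have h1 : hermForm n F q (a + b) (𝔣.e 1) = 1 := by
      rw [hermForm_add_left, ha, hb, 𝔣.fe hF, if_pos rfl, 𝔣.ee, add_zero]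
    rw [h0, hermForm_zero_left] at h1
    exact zero_ne_one h1
  have habab : hermForm n F q (a + b) (a + b) = 0 := by
    rw [hermForm_add_left, hermForm_add_right hF, hermForm_add_right hF, haa, hbb, hab, hba]
    ring
  have key : ∀ {x : Fin n → F}, IsRatV F₀ x → x ≠ 0 → hermForm n F q x x = 0 →
      x (lastIx C.hn1) = 0 → ∀ d : F, MIn H (unitaryTransvection n q w d) →
      MIn H (unitaryTransvection n q x d) := by
    intro x hx hx0 hxx hxl d hd
    obtain ⟨g, hg, hgw⟩ := C.rw_one hw hx hw0 hx0 (by rw [hww, hxx]) hxl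
    have h1 := C.conj_mIn hg hd
    rwa [TM_conj hF (mem_GU_of_MS hg), hgw] at h1
  have hneg : MIn H (unitaryTransvection n q w (-c)) := by
    apply h.of_mul_eq_one
    rw [TM_mul c (-c) hww, add_neg_cancel, TM_zero]
  have h1 := key ((𝔣.rat_f 1).add (𝔣.rat_e 0)) hab0 habab
    (by rw [Pi.add_apply, C.last_f, C.last_e, add_zero]) c h
  have h2 := key (𝔣.rat_f 1) ha0 haa (C.last_f 1) (-c) hneg
  have h3 := key (𝔣.rat_e 0) hb0 hbb (C.last_e 0) (-c) hneg
  have h4 := (h1.mul h2).mul h3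
  rw [TM_three hF haa hbb hab hcq] at h4
  exact 𝔣.root_param_mem hF C.hN (by decide) h4

/-- (P): a long root element of `H` centred in a rational totally isotropic plane has a
rational centre -/
theorem Ctx.P (C : Ctx hF hn L H) {p p' : Fin n → F} (hp : IsRatV F₀ p) (hp' : IsRatV F₀ p')
    (hpp : hermForm n F q p p = 0) (hp'p' : hermForm n F q p' p' = 0)
    (hpp' : hermForm n F q p p' = 0) (hli : LinearIndependent F ![p, p']) {κ c : F}
    (hc0 : c ≠ 0) (h : MIn H (unitaryTransvection n q (p + κ • p') c)) : κ ∈ F₀ := by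
  set 𝔣 := stdFrame hF hn L with h𝔣
  have hli' : LinearIndependent F ![𝔣.e 0, 𝔣.e 1] := by
    apply li_pair_of_herm hF (a := 𝔣.f 0) (b := 𝔣.f 1)
    · rw [𝔣.ef, if_pos rfl]; exact one_ne_zero
    · rw [𝔣.ef, if_neg (by decide)]
    · rw [𝔣.ef, if_pos rfl]; exact one_ne_zero
  obtain ⟨g, hg, hgp, hgp'⟩ := C.rw_two hp hp' (𝔣.rat_e 0) (𝔣.rat_e 1) hli hli'
    (by rw [hpp, 𝔣.ee]) (by rw [hpp', 𝔣.ee]) (by rw [hp'p', 𝔣.ee]) (C.last_e 0) (C.last_e 1)
  set v := 𝔣.e 0 + κ • 𝔣.e 1 with hv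
  have h1 : MIn H (unitaryTransvection n q v c) := by
    have := C.conj_mIn hg h
    rwa [TM_conj hF (mem_GU_of_MS hg), mulVec_add, mulVec_smul, hgp, hgp'] at this
  have hve : ∀ k, hermForm n F q v (𝔣.e k) = 0 := by
    intro k
    rw [hv, hermForm_add_left, hermForm_smul_left, 𝔣.ee, 𝔣.ee]
    ring
  have hvv : hermForm n F q v v = 0 := by
    rw [hv, hermForm_add_right hF, hermForm_smul_right, ← hv, hve, hve]
    ring
  have hvf0 : hermForm n F q v (𝔣.f 0) = 1 := by
    rw [hv, hermForm_add_left, hermForm_smul_left, 𝔣.ef, 𝔣.ef, if_pos rfl, if_neg (by decide)]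
    ring
  have hv0 : v ≠ 0 := by
    intro h0
    rw [h0, hermForm_zero_left] at hvf0
    exact zero_ne_one hvf0
  have hcq : c ^ q = -c := cq_of_mIn hF C.hHU hv0 hvv h1
  -- the first shear
  obtain ⟨γ₁, hγ₁, hγ₁e⟩ := frame_shear hF 𝔣 (i := 0) (j := 2) (by decide)
  have hγ₁v : γ₁.1 *ᵥ v = v + 𝔣.e 2 := by
    rw [hv, mulVec_add, mulVec_smul, hγ₁e, hγ₁e, if_pos rfl, if_neg (by decide)]
    module
  have h2 : MIn H (unitaryTransvection n q (v + 𝔣.e 2) c) := by
    have := C.conj_mIn hγ₁ h1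
    rwa [TM_conj hF (mem_GU_of_MS hγ₁), hγ₁v] at this
  have hR : MIn H (eichMat n q (𝔣.e 2) (c • v) c) := by
    have hneg : MIn H (unitaryTransvection n q v (-c)) := by
      apply h1.of_mul_eq_one
      rw [TM_mul c (-c) hvv, add_neg_cancel, TM_zero]
    have := h2.mul hneg
    rwa [TM_two hF hvv (𝔣.ee 2 2) (hve 2) hcq] at this
  -- the second shear
  obtain ⟨γ₂, hγ₂, hγ₂e⟩ := frame_shear hF 𝔣 (i := 1) (j := 3) (by decide)
  have hγ₂v : γ₂.1 *ᵥ v = v + κ • 𝔣.e 3 := by
    rw [hv, mulVec_add, mulVec_smul, hγ₂e, hγ₂e, if_pos rfl, if_neg (by decide)]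
    module
  have hγ₂x : γ₂.1 *ᵥ 𝔣.e 2 = 𝔣.e 2 := by
    rw [hγ₂e, if_neg (by decide), add_zero]
  have h3 := P_step hF C.hHU (𝔣.ee 2 2) hvv (hve 2) (𝔣.ee 3 2) (hve 3) (C.hMH hγ₂) hγ₂x hγ₂v hR
  have hli23 : LinearIndependent F ![𝔣.e 2, 𝔣.e 3] := by
    apply li_pair_of_herm hF (a := 𝔣.f 2) (b := 𝔣.f 3)
    · rw [𝔣.ef, if_pos rfl]; exact one_ne_zero
    · rw [𝔣.ef, if_neg (by decide)]
    · rw [𝔣.ef, if_pos rfl]; exact one_ne_zero
  have hcκ : c * κ ∈ F₀ :=
    C.B1 (𝔣.rat_e 2) (𝔣.rat_e 3) (𝔣.ee 2 2) (𝔣.ee 3 3) (𝔣.ee 2 3) hli23 h3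
  -- the third shear
  obtain ⟨γ₃, hγ₃, hγ₃e⟩ := frame_shear hF 𝔣 (i := 0) (j := 3) (by decide)
  have hγ₃v : γ₃.1 *ᵥ v = v + (1 : F) • 𝔣.e 3 := by
    rw [hv, mulVec_add, mulVec_smul, hγ₃e, hγ₃e, if_pos rfl, if_neg (by decide)]
    module
  have hγ₃x : γ₃.1 *ᵥ 𝔣.e 2 = 𝔣.e 2 := by
    rw [hγ₃e, if_neg (by decide), add_zero]
  have h4 := P_step hF C.hHU (𝔣.ee 2 2) hvv (hve 2) (𝔣.ee 3 2) (hve 3) (C.hMH hγ₃) hγ₃x hγ₃v hR
  have hc : c * 1 ∈ F₀ :=
    C.B1 (𝔣.rat_e 2) (𝔣.rat_e 3) (𝔣.ee 2 2) (𝔣.ee 3 3) (𝔣.ee 2 3) hli23 h4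
  rw [mul_one] at hc
  have : κ = c⁻¹ * (c * κ) := by field_simp
  rw [this]
  exact F₀.mul_mem (F₀.inv_mem hc) hcκ

end Ctx

end Cfsg.Agent.Lib.Helper2.Suf
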