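import Mathlib
import Cfsg.Agent.Lib.Helper2.SufI
set_option autoImplicit false
set_option maxHeartbeats 1000000
set_option linter.unusedVariables false
set_option linter.unusedSectionVars false
set_option linter.style.longLine false
set_option linter.unusedSimpArgs false
set_option linter.deprecated false
set_option linter.style.haveILetI false

/-! Unitary subfield subgroups (part J): odd characteristic.  Dickson's lemma for a long root
element of the overgroup and a rational long root element. -/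

namespace Cfsg.Agent.Lib.Helper2.Suf

open Matrix Cfsg Cfsg.Agent.Lib.Helper5.Herm Cfsg.Agent.Lib.Helper5.HermBridge
  Cfsg.Agent.Lib.Helper5.HermTv Cfsg.Agent.Lib.Helper5.HermEich
  Cfsg.Agent.Lib.Helper5.SUCentres Cfsg.Agent.Lib.Helper5.TvGL
  Cfsg.Agent.Lib.Helper2.Sfm Cfsg.Agent.Lib.Helper2.Ssf

universe u

section FD

variable {F : Type u} [Field F] [Fintype F] {q : ℕ} (hF : Fintype.card F = q ^ 2) {n : ℕ}
  (F₀ : Subfield F)

/-- the facts on the subfield which are used in the rational case -/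
structure FData (q : ℕ) (F₀ : Subfield F) : Prop where
  sq : ∀ x : F, x * x ∈ F₀ → x ∈ F₀
  s₀ : ∃ s ∈ F₀, s ≠ 0 ∧ s ^ q = -s
  θ : ∃ θ ∈ F₀, θ ^ q ≠ θ

include hF in
theorem fData_of_card {r : ℕ} (hr : r.Prime) (hro : Odd r)
    (hcard : Fintype.card F = Nat.card F₀ ^ r) : FData q F₀ where
  sq := fun x hx => mem_of_mul_self_mem F₀ hr hro hcard hx
  s₀ := exists_s0 hF F₀ hr hro hcard
  θ := exists_not_fixed hF F₀ hr hro hcard

variable {F₀}

omit [Fintype F] in
theorem TM_eq_vecMulVec (w : Fin n → F) (c : F) :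
    unitaryTransvection n q w c = 1 + vecMulVec (c • w) (cj q w) := by
  unfold unitaryTransvection cj
  rw [smul_vecMulVec]

include hF in
/-- rational long root elements belong to the subfield subgroup -/
theorem TM_mIn_MS {w : Fin n → F} {c : F} (hw : IsRatV F₀ w) (hww : hermForm n F q w w = 0)
    (hc : c ∈ F₀) (hcq : c ^ q = -c) : MIn (MS n q F₀) (unitaryTransvection n q w c) := by
  rw [← EM_tv hF c hww]
  apply EM_mIn hF F₀ hw isRatV_zero hc
  refine ⟨hww, hermForm_zero_left n q _, ?_⟩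
  rw [hcq, hermForm_zero_left]
  ring

end FD

section Odd

variable {F : Type u} [Field F] [Fintype F] {q : ℕ} {hF : Fintype.card F = q ^ 2} {n : ℕ}
  {F₀ : Subfield F} {hn : 8 ≤ n} {L : LamData q F₀} {H : Subgroup (GL (Fin n) F)}

/-- (D): the Dickson relation between a long root element of `H` and a rational isotropic vector -/
theorem Ctx.D (C : Ctx hF hn L H) (D : FData q F₀) (h2 : (2 : F) ≠ 0) {u : Fin n → F} {a : F}
    (huu : hermForm n F q u u = 0) (hu : MIn H (unitaryTransvection n q u a)) {w : Fin n → F}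
    (hw : IsRatV F₀ w) (hww : hermForm n F q w w = 0) :
    a * (hermForm n F q u w * hermForm n F q u w ^ q) ∈ F₀ := by
  by_cases hw0 : w = 0
  · rw [hw0, hermForm_zero_right hF]
    simp only [zero_mul, mul_zero]
    exact F₀.zero_mem
  obtain ⟨s₀, hs₀, hs₀0, hs₀q⟩ := D.s₀
  obtain ⟨t₁, ht₁, ht₁v⟩ := hu
  obtain ⟨t₂, ht₂, ht₂v⟩ := (TM_mIn_MS hF hw hww hs₀ hs₀q).mono C.hMH
  rw [TM_eq_vecMulVec] at ht₁v
  have ht₂v' : t₂.1 = 1 + vecMulVec w (s₀ • cj q w) := by
    rw [ht₂v, TM_eq_vecMulVec, smul_vecMulVec, vecMulVec_smul]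
  have hψu : cj q u ⬝ᵥ (a • u) = 0 := by
    rw [dotProduct_smul, dotProduct_comm, ← herm_eq_dot, huu, smul_zero]
  have hξw : (s₀ • cj q w) ⬝ᵥ w = 0 := by
    rw [smul_dotProduct, dotProduct_comm, ← herm_eq_dot, hww, smul_zero]
  have e1 : (s₀ • cj q w) ⬝ᵥ (a • u) = s₀ * a * hermForm n F q u w := by
    rw [smul_dotProduct, dotProduct_smul, dotProduct_comm, ← herm_eq_dot, smul_eq_mul,
      smul_eq_mul]
    ring
  have e2 : cj q u ⬝ᵥ w = hermForm n F q u w ^ q := by
    rw [dotProduct_comm, ← herm_eq_dot, hermForm_conj hF]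
  have key : s₀ * a * hermForm n F q u w * hermForm n F q u w ^ q ∈ F₀ := by
    rcases dickson_core h2 ht₁ ht₁v ht₂ ht₂v' hψu hξw with h | h | h
    · rw [e1, e2] at h
      rw [h]
      exact F₀.zero_mem
    · rw [e1, e2] at h
      obtain ⟨g, hg, hgv⟩ := h
      have h3 : MIn H (unitaryTransvection n q w
          (s₀ * a * hermForm n F q u w * hermForm n F q u w ^ q * s₀)) := by
        refine ⟨g, hg, ?_⟩
        rw [hgv, TM_eq_vecMulVec, smul_vecMulVec, smul_vecMulVec, vecMulVec_smul, smul_smul]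
      have h4 := C.B2 hw hww hw0 h3
      have : s₀ * a * hermForm n F q u w * hermForm n F q u w ^ q =
          s₀ * a * hermForm n F q u w * hermForm n F q u w ^ q * s₀ * s₀⁻¹ := by
        field_simp
      rw [this]
      exact F₀.mul_mem h4 (F₀.inv_mem hs₀)
    · rw [e1, e2] at h
      apply D.sq
      rw [← pow_two, h]
      exact F₀.neg_mem F₀.one_mem
  have : a * (hermForm n F q u w * hermForm n F q u w ^ q) =
      s₀⁻¹ * (s₀ * a * hermForm n F q u w * hermForm n F q u w ^ q) := by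
    field_simp
  rw [this]
  exact F₀.mul_mem (F₀.inv_mem hs₀) key

/-- (R), odd characteristic: the values of the form of the centre of a long root element of `H`
on two orthogonal rational isotropic vectors have a rational ratio -/
theorem Ctx.R_odd (C : Ctx hF hn L H) (D : FData q F₀) (h2 : (2 : F) ≠ 0) {u : Fin n → F} {a : F}
    (huu : hermForm n F q u u = 0) (ha0 : a ≠ 0) (hu : MIn H (unitaryTransvection n q u a))
    {p p' : Fin n → F} (hp : IsRatV F₀ p) (hp' : IsRatV F₀ p')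
    (hpp : hermForm n F q p p = 0) (hp'p' : hermForm n F q p' p' = 0)
    (hpp' : hermForm n F q p p' = 0) (hβ' : hermForm n F q u p' ≠ 0) :
    ∃ ν ∈ F₀, hermForm n F q u p = ν * hermForm n F q u p' := by
  have hp'p : hermForm n F q p' p = 0 := herm_symm_zero hF n hpp'
  obtain ⟨θ, hθ, hθq⟩ := D.θ
  obtain ⟨β, hβ⟩ : ∃ β, β = hermForm n F q u p := ⟨_, rfl⟩
  obtain ⟨β', hβ'def⟩ : ∃ β', β' = hermForm n F q u p' := ⟨_, rfl⟩
  rw [← hβ'def] at hβ'
  rw [← hβ, ← hβ'def]
  have key : ∀ ν ∈ F₀, a * ((β + ν ^ q * β') * (β ^ q + ν * β' ^ q)) ∈ F₀ := by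
    intro ν hν
    have hw : IsRatV F₀ (p + ν • p') := hp.add (hp'.smul hν)
    have hww : hermForm n F q (p + ν • p') (p + ν • p') = 0 := by
      rw [hermForm_add_left, hermForm_add_right hF, hermForm_add_right hF, hermForm_smul_left,
        hermForm_smul_left, hermForm_smul_right, hermForm_smul_right, hpp, hpp', hp'p, hp'p']
      ring
    have := C.D D h2 huu hu hw hww
    rw [hermForm_add_right hF, hermForm_smul_right, ← hβ, ← hβ'def, pow_q_add hF, mul_pow,
      pow_q_pow_q hF] at this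
    exact this
  have k0 := key 0 F₀.zero_mem
  have k1 := key 1 F₀.one_mem
  have kθ := key θ hθ
  have k' : a * (β' * β' ^ q) ∈ F₀ := by
    have := C.D D h2 huu hu hp' hp'p'
    rwa [← hβ'def] at this
  rw [zero_pow (q_ne_zero hF), zero_mul, zero_mul, add_zero, add_zero] at k0
  rw [one_pow, one_mul, one_mul] at k1
  have hθq' : θ ^ q ∈ F₀ := F₀.pow_mem hθ q
  have S1 : a * (β * β' ^ q + β' * β ^ q) ∈ F₀ := by
    have : a * (β * β' ^ q + β' * β ^ q) =
        a * ((β + β') * (β ^ q + β' ^ q)) - a * (β * β ^ q) - a * (β' * β' ^ q) := by ring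
    rw [this]
    exact F₀.sub_mem (F₀.sub_mem k1 k0) k'
  have Sθ : a * (θ * (β * β' ^ q) + θ ^ q * (β' * β ^ q)) ∈ F₀ := by
    have : a * (θ * (β * β' ^ q) + θ ^ q * (β' * β ^ q)) =
        a * ((β + θ ^ q * β') * (β ^ q + θ * β' ^ q)) - a * (β * β ^ q) -
          θ * θ ^ q * (a * (β' * β' ^ q)) := by ring
    rw [this]
    exact F₀.sub_mem (F₀.sub_mem kθ k0) (F₀.mul_mem (F₀.mul_mem hθ hθq') k')
  have hd : θ ^ q - θ ≠ 0 := sub_ne_zero.2 hθq
  have hay : a * (β * β' ^ q) ∈ F₀ := by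
    have h1 : (θ ^ q - θ) * (a * (β * β' ^ q)) ∈ F₀ := by
      have : (θ ^ q - θ) * (a * (β * β' ^ q)) =
          θ ^ q * (a * (β * β' ^ q + β' * β ^ q)) -
            a * (θ * (β * β' ^ q) + θ ^ q * (β' * β ^ q)) := by ring
      rw [this]
      exact F₀.sub_mem (F₀.mul_mem hθq' S1) Sθ
    have : a * (β * β' ^ q) = (θ ^ q - θ)⁻¹ * ((θ ^ q - θ) * (a * (β * β' ^ q))) := by
      field_simp
    rw [this]
    exact F₀.mul_mem (F₀.inv_mem (F₀.sub_mem hθq' hθ)) h1
  have hβ'q : β' ^ q ≠ 0 := pow_ne_zero _ hβ'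
  refine ⟨a * (β * β' ^ q) * (a * (β' * β' ^ q))⁻¹, F₀.mul_mem hay (F₀.inv_mem k'), ?_⟩
  field_simp

end Odd

end Cfsg.Agent.Lib.Helper2.Suf
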