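import Mathlib
import Cfsg.Agent.Lib.Helper2.SufJ
import Cfsg.Agent.Lib.Helper2.SfmE
set_option autoImplicit false
set_option maxHeartbeats 1000000
set_option linter.unusedVariables false
set_option linter.unusedSectionVars false
set_option linter.style.longLine false
set_option linter.unusedSimpArgs false
set_option linter.deprecated false
set_option linter.style.haveILetI false

/-! Unitary subfield subgroups (part K): characteristic two.  A long root element of the overgroup
and a rational short root element generate a dihedral group, whose central involution is a long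
root element with centre in a rational totally isotropic plane. -/

namespace Cfsg.Agent.Lib.Helper2.Suf

open Matrix Cfsg Cfsg.Agent.Lib.Helper5.Herm Cfsg.Agent.Lib.Helper5.HermBridge
  Cfsg.Agent.Lib.Helper5.HermTv Cfsg.Agent.Lib.Helper5.HermEich
  Cfsg.Agent.Lib.Helper5.SUCentres Cfsg.Agent.Lib.Helper5.TvGL
  Cfsg.Agent.Lib.Helper2.Sfm Cfsg.Agent.Lib.Helper2.Ssf

universe u

section Basic

variable {F : Type u} [Field F] [Fintype F] {q : ℕ} (hF : Fintype.card F = q ^ 2) {n : ℕ}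

include hF in
theorem TM_comm {v w : Fin n → F} (h : hermForm n F q v w = 0) (c d : F) :
    unitaryTransvection n q v c * unitaryTransvection n q w d =
      unitaryTransvection n q w d * unitaryTransvection n q v c := by
  have h' : hermForm n F q w v = 0 := herm_symm_zero hF n h
  apply mat_ext
  intro x
  simp only [← mulVec_mulVec, unitaryTransvection_mulVec]
  simp only [hermForm_add_left, hermForm_smul_left, h, h', mul_zero, add_zero]
  module

include hF in
/-- in characteristic two, a unitary involution commuting with a long root element fixes its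
centre -/
theorem fix_of_commute_u (h2 : (2 : F) = 0) {g : GL (Fin n) F} (hg : g ∈ Cfsg.GU n F q)
    (hgg : g * g = 1) {v : Fin n → F} {b : F} (hb : b ≠ 0) (hv : v ≠ 0)
    (hc : g.1 * unitaryTransvection n q v b = unitaryTransvection n q v b * g.1) :
    g.1 *ᵥ v = v := by
  classical
  have hgi : g.1 * (g⁻¹).1 = 1 := by rw [← Units.val_mul, mul_inv_cancel, Units.val_one]
  have h1 : unitaryTransvection n q (g.1 *ᵥ v) b = unitaryTransvection n q v b := by
    rw [← TM_conj hF hg, hc, Matrix.mul_assoc, hgi, Matrix.mul_one]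
  obtain ⟨i, hi⟩ : ∃ i, v i ≠ 0 := by
    by_contra h; push Not at h; exact hv (funext h)
  set t : Fin n → F := Pi.single i 1 with ht
  have htv : hermForm n F q t v ≠ 0 := by
    rw [ht, hermForm_single_left]
    exact pow_ne_zero _ hi
  have h3 := congrArg (fun M : Matrix (Fin n) (Fin n) F => M *ᵥ t) h1
  simp only [unitaryTransvection_mulVec] at h3
  have h4 := add_left_cancel h3
  obtain ⟨gv, hgv⟩ : ∃ gv, gv = g.1 *ᵥ v := ⟨_, rfl⟩
  rw [← hgv] at h4 ⊢
  have h5 : hermForm n F q t gv ≠ 0 := by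
    intro h0
    rw [h0, mul_zero, zero_smul] at h4
    rcases smul_eq_zero.1 h4.symm with h6 | h6
    · exact mul_ne_zero hb htv h6
    · exact hv h6
  obtain ⟨μ, hμ⟩ : ∃ μ : F, gv = μ • v := by
    refine ⟨(b * hermForm n F q t gv)⁻¹ * (b * hermForm n F q t v), ?_⟩
    have := congrArg (fun y => (b * hermForm n F q t gv)⁻¹ • y) h4
    simp only [smul_smul] at this
    rw [inv_mul_cancel₀ (mul_ne_zero hb h5), one_smul] at this
    exact this
  have h6 : g.1 *ᵥ gv = v := by
    rw [hgv, ← gl_mul_mulVec, hgg, Units.val_one, one_mulVec]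
  rw [hμ, mulVec_smul, ← hgv, hμ, smul_smul] at h6
  have h7 : (μ * μ - 1) • v = 0 := by
    rw [sub_smul, h6, one_smul, sub_self]
  have h9 : μ * μ - 1 = 0 := by
    rcases smul_eq_zero.1 h7 with h | h
    · exact h
    · exact absurd h hv
  have h10 : (μ - 1) * (μ - 1) = 0 := by
    have : (μ - 1) * (μ - 1) = (μ * μ - 1) - 2 * μ + 2 := by ring
    rw [this, h9, h2]; ring
  have h11 : μ = 1 := by
    have := mul_self_eq_zero.1 h10
    exact sub_eq_zero.1 this
  rw [hμ, h11, one_smul]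

end Basic

section Core

variable {F : Type u} [Field F] [Fintype F] {q : ℕ} (hF : Fintype.card F = q ^ 2) {n : ℕ}
  {H : Subgroup (GL (Fin n) F)}

include hF in
/-- characteristic two: from a long root element of `H` and a short root element of `H` in a
totally isotropic plane, a long root element of `H` with centre in the plane -/
theorem even_core_u (h2 : (2 : F) = 0) (hHU : H ≤ Cfsg.GU n F q) {u p p' ps : Fin n → F} {a s : F}
    (ha : a ≠ 0) (huu : hermForm n F q u u = 0) (hy : MIn H (unitaryTransvection n q u a))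
    (hpp : hermForm n F q p p = 0) (hp'p' : hermForm n F q p' p' = 0)
    (hpp' : hermForm n F q p p' = 0) (hρ : MIn H (eichMat n q p (s • p') 0))
    (hps : hermForm n F q ps p ≠ 0) (hpsp' : hermForm n F q ps p' = 0)
    (hne : s * hermForm n F q u p * hermForm n F q u p' ^ q ≠
      (s * hermForm n F q u p * hermForm n F q u p' ^ q) ^ q) :
    MIn H (unitaryTransvection n q
      (hermForm n F q u p' ^ q • p - hermForm n F q u p ^ q • p')
      (s * s ^ q * (s * hermForm n F q u p * hermForm n F q u p' ^ q -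
        (s * hermForm n F q u p * hermForm n F q u p' ^ q) ^ q)⁻¹)) := by
  classical
  have hp'p : hermForm n F q p' p = 0 := herm_symm_zero hF n hpp'
  obtain ⟨β, hβdef⟩ : ∃ β, β = hermForm n F q u p := ⟨_, rfl⟩
  obtain ⟨β', hβ'def⟩ : ∃ β', β' = hermForm n F q u p' := ⟨_, rfl⟩
  rw [← hβdef, ← hβ'def] at hne ⊢
  have hpu : hermForm n F q p u = β ^ q := by rw [hβdef, hermForm_conj hF]
  have hp'u : hermForm n F q p' u = β' ^ q := by rw [hβ'def, hermForm_conj hF]
  obtain ⟨bq, hbq⟩ : ∃ bq, bq = β ^ q := ⟨_, rfl⟩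
  obtain ⟨b'q, hb'q⟩ : ∃ b'q, b'q = β' ^ q := ⟨_, rfl⟩
  obtain ⟨sq, hsq⟩ : ∃ sq, sq = s ^ q := ⟨_, rfl⟩
  have hbqq : bq ^ q = β := by rw [hbq, pow_q_pow_q hF]
  have hb'qq : b'q ^ q = β' := by rw [hb'q, pow_q_pow_q hF]
  have hsqq : sq ^ q = s := by rw [hsq, pow_q_pow_q hF]
  rw [← hb'q] at hne
  rw [← hbq, ← hb'q, ← hsq]
  rw [← hbq] at hpu
  rw [← hb'q] at hp'u
  have hyq : (s * β * b'q) ^ q = sq * bq * β' := by
    rw [mul_pow, mul_pow, ← hsq, ← hbq, hb'qq]
  rw [hyq] at hne ⊢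
  obtain ⟨D, hD⟩ : ∃ D, D = s * β * b'q - sq * bq * β' := ⟨_, rfl⟩
  rw [← hD]
  have hD0 : D ≠ 0 := by rw [hD]; exact sub_ne_zero.2 hne
  have hDq : D ^ q = -D := by
    rw [hD, pow_q_sub hF, hyq, mul_pow, mul_pow, hsqq, hbqq, ← hb'q]
    ring
  obtain ⟨Di, hDi⟩ : ∃ Di, Di = D⁻¹ := ⟨_, rfl⟩
  rw [← hDi]
  have hinv : Di * D = 1 := by rw [hDi, inv_mul_cancel₀ hD0]
  have hDiq : Di ^ q = -Di := by
    rw [hDi, inv_pow, hDq, inv_neg]
  have hs0 : s ≠ 0 := by
    intro h
    apply hD0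
    rw [hD, hsq, h, zero_pow (q_ne_zero hF)]
    ring
  have hβ'0 : β' ≠ 0 := by
    intro h
    apply hD0
    rw [hD, hb'q, h, zero_pow (q_ne_zero hF)]
    ring
  obtain ⟨c₀, hc₀⟩ : ∃ c₀, c₀ = s * sq * Di := ⟨_, rfl⟩
  obtain ⟨c', hc'⟩ : ∃ c', c' = -Di := ⟨_, rfl⟩
  rw [← hc₀]
  have hc₀q : c₀ ^ q = -c₀ := by
    rw [hc₀, mul_pow, mul_pow, hsqq, hDiq, ← hsq]
    ring
  have hc'q : c' ^ q = -c' := by
    rw [hc', pow_q_neg hF, hDiq]
  have hc'0 : c' ≠ 0 := by
    rw [hc', hDi]
    exact neg_ne_zero.2 (inv_ne_zero hD0)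
  obtain ⟨w', hw'⟩ : ∃ w' : Fin n → F, w' = (sq * β') • p - (s * β) • p' := ⟨_, rfl⟩
  obtain ⟨w₀, hw₀⟩ : ∃ w₀ : Fin n → F, w₀ = b'q • p - bq • p' := ⟨_, rfl⟩
  rw [← hw₀]
  have fw' : ∀ x, hermForm n F q x w' =
      s * b'q * hermForm n F q x p - sq * bq * hermForm n F q x p' := by
    intro x
    rw [hw', herm_sub_r hF, hermForm_smul_right, hermForm_smul_right, mul_pow, mul_pow, hsqq,
      ← hb'q, ← hsq, ← hbq]
  have fw₀ : ∀ x, hermForm n F q x w₀ =
      β' * hermForm n F q x p - β * hermForm n F q x p' := by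
    intro x
    rw [hw₀, herm_sub_r hF, hermForm_smul_right, hermForm_smul_right, hb'qq, hbqq]
  have hw₀p : hermForm n F q w₀ p = 0 := by
    rw [hw₀, herm_sub_l hF, hermForm_smul_left, hermForm_smul_left, hpp, hp'p]; ring
  have hw₀p' : hermForm n F q w₀ p' = 0 := by
    rw [hw₀, herm_sub_l hF, hermForm_smul_left, hermForm_smul_left, hpp', hp'p']; ring
  have hw'p : hermForm n F q w' p = 0 := by
    rw [hw', herm_sub_l hF, hermForm_smul_left, hermForm_smul_left, hpp, hp'p]; ring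
  have hw'p' : hermForm n F q w' p' = 0 := by
    rw [hw', herm_sub_l hF, hermForm_smul_left, hermForm_smul_left, hpp', hp'p']; ring
  have hw₀w₀ : hermForm n F q w₀ w₀ = 0 := by rw [fw₀, hw₀p, hw₀p']; ring
  have hw'w' : hermForm n F q w' w' = 0 := by rw [fw', hw'p, hw'p']; ring
  have o1 : hermForm n F q w₀ w' = 0 := by rw [fw', hw₀p, hw₀p']; ring
  have o2 : hermForm n F q w₀ u = 0 := by
    rw [hw₀, herm_sub_l hF, hermForm_smul_left, hermForm_smul_left, hpu, hp'u]; ring
  have o3 : hermForm n F q u w' = D := by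
    rw [fw', ← hβdef, ← hβ'def, hD]; ring
  have o3q : hermForm n F q w' u = -D := by
    rw [← hermForm_conj hF, o3, hDq]
  have hu0 : u ≠ 0 := by
    intro h
    apply hD0
    rw [← o3, h, hermForm_zero_left]
  have hw'0 : w' ≠ 0 := by
    intro h
    apply hD0
    rw [← o3, h, hermForm_zero_right hF]
  have hq₀ : QCond n q w₀ c₀ := (qcond_iso n hw₀w₀ c₀).2 hc₀q
  have hq' : QCond n q w' c' := (qcond_iso n hw'w' c').2 hc'q
  obtain ⟨ζ, hζ⟩ : ∃ ζ : GL (Fin n) F, ζ = ((qtv hF n w₀ c₀ hq₀ : ↥(Cfsg.GU n F q)) : GL (Fin n) F) :=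
    ⟨_, rfl⟩
  obtain ⟨t', ht'⟩ : ∃ t' : GL (Fin n) F, t' = ((qtv hF n w' c' hq' : ↥(Cfsg.GU n F q)) : GL (Fin n) F) :=
    ⟨_, rfl⟩
  have hζv : ζ.1 = unitaryTransvection n q w₀ c₀ := by rw [hζ]; rfl
  have ht'v : t'.1 = unitaryTransvection n q w' c' := by rw [ht']; rfl
  have hζU : ζ ∈ Cfsg.GU n F q := by rw [hζ]; exact (qtv hF n w₀ c₀ hq₀).2
  have ht'U : t' ∈ Cfsg.GU n F q := by rw [ht']; exact (qtv hF n w' c' hq').2
  obtain ⟨x', hx'H, hx'v⟩ := hρ
  obtain ⟨y, hyH, hyv⟩ := hy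
  have two_smul' : ∀ z : Fin n → F, z + z = 0 := by
    intro z
    rw [← two_smul F z, h2, zero_smul]
  have two_mul' : ∀ z : F, z + z = 0 := by
    intro z
    rw [← two_mul, h2, zero_mul]
  have hxx : x' * x' = 1 := by
    apply Units.ext
    rw [Units.val_mul, hx'v, Units.val_one]
    have e1 : hermForm n F q (s • p') p = 0 := by rw [hermForm_smul_left, hp'p, mul_zero]
    rw [EM_mul hF 0 0 hpp e1 e1, two_smul', hermForm_smul_left, hermForm_smul_right, hp'p']
    have : (0 : F) + 0 - s * (s ^ q * 0) = 0 := by ring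
    rw [this, EM_zero hF hpp]
  have hyy : y * y = 1 := by
    apply Units.ext
    rw [Units.val_mul, hyv, Units.val_one, TM_mul a a huu, two_mul', TM_zero]
  have hζζ : ζ * ζ = 1 := by
    apply Units.ext
    rw [Units.val_mul, hζv, Units.val_one, TM_mul c₀ c₀ hw₀w₀, two_mul', TM_zero]
  have hfin : 0 < orderOf (x' * y) := orderOf_pos _
  rcases dihedral_cases x' y hxx hyy hfin with ⟨k, hk⟩ | ⟨k, hz1, hzz, hzx, hzy⟩
  · -- the two involutions are not conjugate
    exfalso
    obtain ⟨g, hg⟩ : ∃ g, g = (x' * y) ^ k := ⟨_, rfl⟩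
    rw [← hg] at hk
    have hgH : g ∈ H := by rw [hg]; exact H.pow_mem (H.mul_mem hx'H hyH) k
    have hgU : g ∈ Cfsg.GU n F q := hHU hgH
    have hgh : ∀ u v, hermForm n F q (g.1 *ᵥ u) (g.1 *ᵥ v) = hermForm n F q u v := hgU
    have e1 := congrArg Units.val hk
    rw [Units.val_mul, Units.val_mul, hx'v, hyv, EM_conj hF hgU _ _ hpp, mulVec_smul] at e1
    have hgpgp : hermForm n F q (g.1 *ᵥ p) (g.1 *ᵥ p) = 0 := by rw [hgh, hpp]
    have f1 := congrArg (fun M : Matrix (Fin n) (Fin n) F => M *ᵥ (g.1 *ᵥ ps)) e1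
    simp only [eichMat_mulVec n _ _ _ hgpgp, unitaryTransvection_mulVec, hermForm_smul_right,
      hgh, hpsp', mul_zero, zero_mul, sub_zero, zero_smul, add_zero] at f1
    have f1' := add_left_cancel f1
    obtain ⟨X, hX⟩ : ∃ X, X = hermForm n F q (g.1 *ᵥ ps) u := ⟨_, rfl⟩
    rw [← hX] at f1'
    have f2 := congrArg (fun z => hermForm n F q (g.1 *ᵥ ps) z) f1'
    simp only [hermForm_smul_right, hgh, hpsp', mul_zero, ← hX] at f2
    have hX0 : X = 0 := by
      rcases mul_eq_zero.1 f2.symm with h | h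
      · have := pow_eq_zero_iff (q_ne_zero hF) |>.1 h
        rcases mul_eq_zero.1 this with h' | h'
        · exact absurd h' ha
        · exact h'
      · exact h
    rw [hX0, mul_zero, zero_smul] at f1'
    have hgp' : g.1 *ᵥ p' = 0 := by
      rcases smul_eq_zero.1 f1' with h | h
      · exact absurd h hps
      · rcases smul_eq_zero.1 h with h' | h'
        · exact absurd h' hs0
        · exact h'
    have hp'0 : p' = 0 := gl_mulVec_eq_zero g hgp'
    apply hβ'0
    rw [hβ'def, hp'0, hermForm_zero_right hF]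
  · -- the central involution
    obtain ⟨z, hz⟩ : ∃ z, z = (x' * y) ^ k := ⟨_, rfl⟩
    rw [← hz] at hz1 hzz hzx hzy
    have hzH : z ∈ H := by rw [hz]; exact H.pow_mem (H.mul_mem hx'H hyH) k
    -- the decomposition of `x'`
    have dec : x' = t' * ζ := by
      apply Units.ext
      rw [Units.val_mul, hx'v, ht'v, hζv]
      apply mat_ext
      intro x
      rw [eichMat_mulVec n _ _ _ hpp, ← mulVec_mulVec, unitaryTransvection_mulVec,
        unitaryTransvection_mulVec, hermForm_add_left, hermForm_smul_left, o1, mul_zero, add_zero,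
        fw' x, fw₀ x, hermForm_smul_right, ← hsq]
      obtain ⟨A, hA⟩ : ∃ A, A = hermForm n F q x p := ⟨_, rfl⟩
      obtain ⟨B, hB⟩ : ∃ B, B = hermForm n F q x p' := ⟨_, rfl⟩
      rw [← hA, ← hB, hw', hw₀]
      have Ep : 0 * A - sq * B = c₀ * (β' * A - β * B) * b'q +
          c' * (s * b'q * A - sq * bq * B) * (sq * β') := by
        rw [hc₀, hc']
        linear_combination (sq * B) * hinv - (Di * sq * B) * hD
      have Ep' : A * s = -(c₀ * (β' * A - β * B) * bq) -
          c' * (s * b'q * A - sq * bq * B) * (s * β) := by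
        rw [hc₀, hc']
        linear_combination (-(s * A)) * hinv + (Di * s * A) * hD
      linear_combination (norm := module) Ep • p + Ep' • p'
    have cζt : Commute ζ t' := by
      apply Units.ext
      rw [Units.val_mul, Units.val_mul, hζv, ht'v]
      exact TM_comm hF o1 c₀ c'
    have cζy : Commute ζ y := by
      apply Units.ext
      rw [Units.val_mul, Units.val_mul, hζv, hyv]
      exact TM_comm hF o2 c₀ a
    obtain ⟨g₁, hg₁⟩ : ∃ g₁, g₁ = t' * y := ⟨_, rfl⟩
    have cg₁ζ : Commute g₁ ζ := by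
      rw [hg₁]
      exact (cζt.mul_right cζy).symm
    have hxy : x' * y = g₁ * ζ := by
      rw [dec, hg₁, mul_assoc, cζy.eq, ← mul_assoc]
    have hzpow : z = g₁ ^ k * ζ ^ k := by
      rw [hz, hxy, cg₁ζ.mul_pow]
    obtain ⟨h, hh⟩ : ∃ h, h = g₁ ^ k := ⟨_, rfl⟩
    rw [← hh] at hzpow
    have hhU : h ∈ Cfsg.GU n F q := by
      rw [hh, hg₁]
      exact (Cfsg.GU n F q).pow_mem ((Cfsg.GU n F q).mul_mem ht'U (hHU hyH)) k
    have hhz : h = z * (ζ ^ k)⁻¹ := by rw [hzpow, mul_inv_cancel_right]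
    have cζz : Commute ζ z := by
      rw [hzpow, hh]
      exact (cg₁ζ.symm.pow_right k).mul_right ((Commute.refl ζ).pow_right k)
    have czy : Commute z y := hzy
    have czx : Commute z x' := hzx
    have czt : Commute z t' := by
      have : t' = x' * ζ := by rw [dec, mul_assoc, hζζ, mul_one]
      rw [this]
      exact czx.mul_right cζz.symm
    have chy : Commute h y := by
      rw [hhz]
      exact czy.mul_left ((cζy.pow_left k).inv_left)
    have cht : Commute h t' := by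
      rw [hhz]
      exact czt.mul_left ((cζt.pow_left k).inv_left)
    have hhh : h * h = 1 := by
      have c1 : Commute z (ζ ^ k)⁻¹ := (cζz.symm.pow_right k).inv_right
      have e1 : ζ ^ k * ζ ^ k = 1 := by
        rw [← (Commute.refl ζ).mul_pow, hζζ, one_pow]
      have e2 : (ζ ^ k)⁻¹ * (ζ ^ k)⁻¹ = 1 := by
        rw [← _root_.mul_inv_rev, e1, inv_one]
      rw [hhz, c1.symm.mul_mul_mul_comm, hzz, e2, one_mul]
    have fu : h.1 *ᵥ u = u := by
      apply fix_of_commute_u hF h2 hhU hhh ha hu0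
      have := congrArg Units.val chy.eq
      rwa [Units.val_mul, Units.val_mul, hyv] at this
    have fw : h.1 *ᵥ w' = w' := by
      apply fix_of_commute_u hF h2 hhU hhh hc'0 hw'0
      have := congrArg Units.val cht.eq
      rwa [Units.val_mul, Units.val_mul, ht'v] at this
    have fperp : ∀ x : Fin n → F, hermForm n F q x u = 0 → hermForm n F q x w' = 0 →
        h.1 *ᵥ x = x := by
      intro x hxu hxw
      have step : g₁.1 *ᵥ x = x := by
        have e : unitaryTransvection n q u a *ᵥ x = x := by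
          rw [unitaryTransvection_mulVec, hxu, mul_zero, zero_smul, add_zero]
        rw [hg₁, gl_mul_mulVec, hyv, ht'v, e, unitaryTransvection_mulVec, hxw, mul_zero, zero_smul,
          add_zero]
      have key : ∀ j : ℕ, (g₁ ^ j).1 *ᵥ x = x := by
        intro j
        induction j with
        | zero => rw [pow_zero, Units.val_one, Matrix.one_mulVec]
        | succ j ih => rw [pow_succ, gl_mul_mulVec, step]; exact ih
      rw [hh]
      exact key k
    have hone : h = 1 := by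
      apply gl_ext
      intro x
      rw [Units.val_one, Matrix.one_mulVec]
      obtain ⟨α, hα⟩ : ∃ α, α = hermForm n F q x w' * Di := ⟨_, rfl⟩
      obtain ⟨γ, hγ⟩ : ∃ γ, γ = -(hermForm n F q x u * Di) := ⟨_, rfl⟩
      obtain ⟨x₀, hx₀⟩ : ∃ x₀, x₀ = x - α • u - γ • w' := ⟨_, rfl⟩
      have p1 : hermForm n F q x₀ u = 0 := by
        rw [hx₀, herm_sub_l hF, herm_sub_l hF, hermForm_smul_left, hermForm_smul_left, huu, o3q,
          hγ]
        linear_combination (-(hermForm n F q x u)) * hinv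
      have p2 : hermForm n F q x₀ w' = 0 := by
        rw [hx₀, herm_sub_l hF, herm_sub_l hF, hermForm_smul_left, hermForm_smul_left, hw'w', o3,
          hα]
        linear_combination (-(hermForm n F q x w')) * hinv
      have hx : x = x₀ + α • u + γ • w' := by rw [hx₀]; module
      have := fperp x₀ p1 p2
      calc h.1 *ᵥ x = h.1 *ᵥ (x₀ + α • u + γ • w') := by rw [← hx]
        _ = x₀ + α • u + γ • w' := by
            rw [Matrix.mulVec_add, Matrix.mulVec_add, Matrix.mulVec_smul, Matrix.mulVec_smul,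
              this, fu, fw]
        _ = x := hx.symm
    have hzζ : z = ζ ^ k := by rw [hzpow, hone, one_mul]
    have hzeq : z = ζ := by
      rcases Nat.even_or_odd' k with ⟨j, hj | hj⟩
      · exfalso
        apply hz1
        rw [hzζ, hj, pow_mul, pow_two, hζζ, one_pow]
      · rw [hzζ, hj, pow_succ, pow_mul, pow_two, hζζ, one_pow, one_mul]
    exact ⟨ζ, hzeq ▸ hzH, hζv⟩

end Core

section Even

variable {F : Type u} [Field F] [Fintype F] {q : ℕ} {hF : Fintype.card F = q ^ 2} {n : ℕ}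
  {F₀ : Subfield F} {hn : 8 ≤ n} {L : LamData q F₀} {H : Subgroup (GL (Fin n) F)}

/-- (R), characteristic two -/
theorem Ctx.R_even (C : Ctx hF hn L H) (D : FData q F₀) (h2 : (2 : F) = 0) {u : Fin n → F} {a : F}
    (huu : hermForm n F q u u = 0) (ha0 : a ≠ 0) (hu : MIn H (unitaryTransvection n q u a))
    {p p' ps : Fin n → F} (hp : IsRatV F₀ p) (hp' : IsRatV F₀ p')
    (hpp : hermForm n F q p p = 0) (hp'p' : hermForm n F q p' p' = 0)
    (hpp' : hermForm n F q p p' = 0) (hli : LinearIndependent F ![p, p'])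
    (hps : hermForm n F q ps p ≠ 0) (hpsp' : hermForm n F q ps p' = 0)
    (hβ' : hermForm n F q u p' ≠ 0) :
    ∃ ν ∈ F₀, hermForm n F q u p = ν * hermForm n F q u p' := by
  have hp'p : hermForm n F q p' p = 0 := herm_symm_zero hF n hpp'
  obtain ⟨θ, hθ, hθq⟩ := D.θ
  by_cases hβ0 : hermForm n F q u p = 0
  · exact ⟨0, F₀.zero_mem, by rw [hβ0, zero_mul]⟩
  obtain ⟨β, hβ⟩ : ∃ β, β = hermForm n F q u p := ⟨_, rfl⟩
  obtain ⟨β', hβ'def⟩ : ∃ β', β' = hermForm n F q u p' := ⟨_, rfl⟩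
  rw [← hβ'def] at hβ'
  rw [← hβ] at hβ0
  rw [← hβ, ← hβ'def]
  have hβ'q : β' ^ q ≠ 0 := pow_ne_zero _ hβ'
  have hβq : β ^ q ≠ 0 := pow_ne_zero _ hβ0
  -- the choice of the parameter
  obtain ⟨s, hs, hs0, hsne⟩ : ∃ s ∈ F₀, s ≠ 0 ∧ s * β * β' ^ q ≠ (s * β * β' ^ q) ^ q := by
    by_cases h1 : β * β' ^ q = (β * β' ^ q) ^ q
    · have hθ0 : θ ≠ 0 := by
        intro h
        apply hθq
        rw [h, zero_pow (q_ne_zero hF)]
      refine ⟨θ, hθ, hθ0, ?_⟩
      rw [mul_assoc, mul_pow, ← h1]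
      intro h
      apply hθq
      exact (mul_right_cancel₀ (mul_ne_zero hβ0 hβ'q) h).symm
    · refine ⟨1, F₀.one_mem, one_ne_zero, ?_⟩
      rw [one_mul]
      exact h1
  have hρ : MIn H (eichMat n q p (s • p') 0) := by
    apply (EM_mIn hF F₀ hp (hp'.smul hs) F₀.zero_mem ?_).mono C.hMH
    refine ⟨hpp, ?_, ?_⟩
    · rw [hermForm_smul_left, hp'p, mul_zero]
    · rw [hermForm_smul_left, hermForm_smul_right, hp'p', zero_pow (q_ne_zero hF)]
      ring
  have h1 := even_core_u hF h2 C.hHU ha0 huu hu hpp hp'p' hpp' hρ hps hpsp'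
    (by rw [← hβ, ← hβ'def]; exact hsne)
  rw [← hβ, ← hβ'def] at h1
  obtain ⟨c₀, hc₀⟩ : ∃ c₀, c₀ = s * s ^ q * (s * β * β' ^ q - (s * β * β' ^ q) ^ q)⁻¹ := ⟨_, rfl⟩
  rw [← hc₀] at h1
  have hc₀0 : c₀ ≠ 0 := by
    rw [hc₀]
    exact mul_ne_zero (mul_ne_zero hs0 (pow_ne_zero _ hs0)) (inv_ne_zero (sub_ne_zero.2 hsne))
  obtain ⟨κ, hκ⟩ : ∃ κ, κ = -(β ^ q / β' ^ q) := ⟨_, rfl⟩
  have e1 : β' ^ q • p - β ^ q • p' = β' ^ q • (p + κ • p') := by
    rw [hκ, smul_add, smul_smul]
    have : β' ^ q * -(β ^ q / β' ^ q) = -(β ^ q) := by field_simp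
    rw [this]
    module
  rw [e1, TM_smul] at h1
  have hκ0 : κ ∈ F₀ := C.P hp hp' hpp hp'p' hpp' hli
    (mul_ne_zero (mul_ne_zero hβ'q (pow_ne_zero _ hβ'q)) hc₀0) h1
  refine ⟨-(κ ^ q), F₀.neg_mem (F₀.pow_mem hκ0 q), ?_⟩
  rw [hκ, pow_q_neg hF, div_pow, pow_q_pow_q hF, pow_q_pow_q hF]
  field_simp

end Even

end Cfsg.Agent.Lib.Helper2.Suf
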