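import Mathlib
import Cfsg.Agent.Lib.Helper2.SufK
set_option autoImplicit false
set_option maxHeartbeats 1000000
set_option linter.unusedVariables false
set_option linter.unusedSectionVars false
set_option linter.style.longLine false
set_option linter.unusedSimpArgs false
set_option linter.deprecated false
set_option linter.style.haveILetI false

/-! Unitary subfield subgroups (part L): the centre of a long root element of an overgroup without
bad transvections is a multiple of a rational vector. -/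

namespace Cfsg.Agent.Lib.Helper2.Suf

open Matrix Cfsg Cfsg.Agent.Lib.Helper5.Herm Cfsg.Agent.Lib.Helper5.HermBridge
  Cfsg.Agent.Lib.Helper5.HermTv Cfsg.Agent.Lib.Helper5.HermEich
  Cfsg.Agent.Lib.Helper5.SUCentres Cfsg.Agent.Lib.Helper5.TvGL
  Cfsg.Agent.Lib.Helper2.Sfm Cfsg.Agent.Lib.Helper2.Ssf

universe u

section Comb

variable {n : ℕ}

theorem exists_avoid4 (hn : 5 ≤ n) (a b c d : Fin n) :
    ∃ x : Fin n, x ≠ a ∧ x ≠ b ∧ x ≠ c ∧ x ≠ d := by
  classical
  by_contra hcon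
  push Not at hcon
  have h1 : (Finset.univ : Finset (Fin n)) ⊆ {a, b, c, d} := by
    intro m _
    by_cases hma : m = a
    · simp [hma]
    by_cases hmb : m = b
    · simp [hmb]
    by_cases hmc : m = c
    · simp [hmc]
    have := hcon m hma hmb hmc
    simp [this]
  have h2 := Finset.card_le_card h1
  have h3 : ({a, b, c, d} : Finset (Fin n)).card ≤ 4 := Finset.card_le_four
  rw [Finset.card_univ, Fintype.card_fin] at h2
  omega

end Comb

section R

variable {F : Type u} [Field F] [Fintype F] {q : ℕ} {hF : Fintype.card F = q ^ 2} {n : ℕ}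
  {F₀ : Subfield F} {hn : 8 ≤ n} {L : LamData q F₀} {H : Subgroup (GL (Fin n) F)}

/-- (R): the values of the form of the centre of a long root element of `H` on two orthogonal
rational isotropic vectors have a rational ratio -/
theorem Ctx.R (C : Ctx hF hn L H) (D : FData q F₀) {u : Fin n → F} {a : F}
    (huu : hermForm n F q u u = 0) (ha0 : a ≠ 0) (hu : MIn H (unitaryTransvection n q u a))
    {p p' ps : Fin n → F} (hp : IsRatV F₀ p) (hp' : IsRatV F₀ p')
    (hpp : hermForm n F q p p = 0) (hp'p' : hermForm n F q p' p' = 0)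
    (hpp' : hermForm n F q p p' = 0) (hli : LinearIndependent F ![p, p'])
    (hps : hermForm n F q ps p ≠ 0) (hpsp' : hermForm n F q ps p' = 0)
    (hβ' : hermForm n F q u p' ≠ 0) :
    ∃ ν ∈ F₀, hermForm n F q u p = ν * hermForm n F q u p' := by
  by_cases h2 : (2 : F) = 0
  · exact C.R_even D h2 huu ha0 hu hp hp' hpp hp'p' hpp' hli hps hpsp' hβ'
  · exact C.R_odd D h2 huu ha0 hu hp hp' hpp hp'p' hpp' hβ'

/-- (R) for the standard isotropic vectors with disjoint supports -/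
theorem Ctx.R_tw (C : Ctx hF hn L H) (D : FData q F₀) {u : Fin n → F} {a : F}
    (huu : hermForm n F q u u = 0) (ha0 : a ≠ 0) (hu : MIn H (unitaryTransvection n q u a))
    {j k j' k' : Fin n} {l l' : F} (hjk : j ≠ k) (hj'k' : j' ≠ k') (h1 : j ≠ j') (h2 : j ≠ k')
    (h3 : k ≠ j') (h4 : k ≠ k') (hl : l = L.l₁ ∨ l = L.l₂) (hl' : l' = L.l₁ ∨ l' = L.l₂)
    (hne : u j' + l' ^ q * u k' ≠ 0) :
    ∃ ν ∈ F₀, u j + l ^ q * u k = ν * (u j' + l' ^ q * u k') := by
  classical
  have hlF : l ∈ F₀ := by rcases hl with h | h <;> rw [h]; exacts [L.h₁, L.h₂]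
  have hl'F : l' ∈ F₀ := by rcases hl' with h | h <;> rw [h]; exacts [L.h₁, L.h₂]
  have hlN : l * l ^ q = -1 := by rcases hl with h | h <;> rw [h]; exacts [L.n₁, L.n₂]
  have hl'N : l' * l' ^ q = -1 := by rcases hl' with h | h <;> rw [h]; exacts [L.n₁, L.n₂]
  have hq0 := q_ne_zero hF
  have := C.R D huu ha0 hu (p := tw j k l) (p' := tw j' k' l') (ps := Pi.single j 1)
    (isRatV_tw j k hlF) (isRatV_tw j' k' hl'F) (herm_tw_self hF hjk hlN)
    (herm_tw_self hF hj'k' hl'N) (herm_tw_tw_disj hF h1 h2 h3 h4 l l')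
    (li_pair_of_herm hF (a := Pi.single j 1) (b := Pi.single j' 1)
      (by rw [hermForm_single_right n q hq0, tw_apply_j hjk]; exact one_ne_zero)
      (by rw [hermForm_single_right n q hq0, tw_apply_ne h1 h2])
      (by rw [hermForm_single_right n q hq0, tw_apply_j hj'k']; exact one_ne_zero))
    (by rw [hermForm_single_left, tw_apply_j hjk, one_pow]; exact one_ne_zero)
    (by rw [hermForm_single_left, tw_apply_ne h1 h2, zero_pow hq0])
    (by rw [herm_tw_right hF]; exact hne)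
  rwa [herm_tw_right hF, herm_tw_right hF] at this

end R

section Line

variable {F : Type u} [Field F] (F₀ : Subfield F)

/-- membership in the line `F₀ c` -/
def InL (c x : F) : Prop := ∃ ν ∈ F₀, x = ν * c

variable {F₀}

theorem InL.add {c x y : F} (hx : InL F₀ c x) (hy : InL F₀ c y) : InL F₀ c (x + y) := by
  obtain ⟨ν, hν, rfl⟩ := hx
  obtain ⟨μ, hμ, rfl⟩ := hy
  exact ⟨ν + μ, F₀.add_mem hν hμ, by ring⟩

theorem InL.sub {c x y : F} (hx : InL F₀ c x) (hy : InL F₀ c y) : InL F₀ c (x - y) := by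
  obtain ⟨ν, hν, rfl⟩ := hx
  obtain ⟨μ, hμ, rfl⟩ := hy
  exact ⟨ν - μ, F₀.sub_mem hν hμ, by ring⟩

theorem InL.mul {c x μ : F} (hμ : μ ∈ F₀) (hx : InL F₀ c x) : InL F₀ c (μ * x) := by
  obtain ⟨ν, hν, rfl⟩ := hx
  exact ⟨μ * ν, F₀.mul_mem hμ hν, by ring⟩

theorem InL.trans {c c' x : F} (h : InL F₀ c c') (hx : InL F₀ c' x) : InL F₀ c x := by
  obtain ⟨ν, hν, rfl⟩ := h
  obtain ⟨μ, hμ, rfl⟩ := hx
  exact ⟨μ * ν, F₀.mul_mem hμ hν, by ring⟩

theorem InL.self (c : F) : InL F₀ c c := ⟨1, F₀.one_mem, by ring⟩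

end Line

section K

variable {F : Type u} [Field F] [Fintype F] {q : ℕ} {hF : Fintype.card F = q ^ 2} {n : ℕ}
  {F₀ : Subfield F} {hn : 8 ≤ n} {L : LamData q F₀} {H : Subgroup (GL (Fin n) F)}

theorem LamData.pow_ne (hF : Fintype.card F = q ^ 2) (L : LamData q F₀) :
    L.l₁ ^ q - L.l₂ ^ q ≠ 0 := by
  intro h
  apply L.ne
  have := congrArg (fun x => x ^ q) (sub_eq_zero.1 h)
  simpa only [pow_q_pow_q hF] using this

/-- the coordinates from the values on the two standard isotropic vectors -/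
theorem coords_of_tw (hF : Fintype.card F = q ^ 2) (L : LamData q F₀) {c uj uk : F}
    (h1 : InL F₀ c (uj + L.l₁ ^ q * uk)) (h2 : InL F₀ c (uj + L.l₂ ^ q * uk)) :
    InL F₀ c uj ∧ InL F₀ c uk := by
  have hd := L.pow_ne hF
  have hdF : L.l₁ ^ q - L.l₂ ^ q ∈ F₀ := F₀.sub_mem (F₀.pow_mem L.h₁ q) (F₀.pow_mem L.h₂ q)
  have hk : InL F₀ c uk := by
    have : uk = (L.l₁ ^ q - L.l₂ ^ q)⁻¹ * ((uj + L.l₁ ^ q * uk) - (uj + L.l₂ ^ q * uk)) := by
      field_simp
      ring
    rw [this]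
    exact (h1.sub h2).mul (F₀.inv_mem hdF)
  refine ⟨?_, hk⟩
  have : uj = (uj + L.l₁ ^ q * uk) - L.l₁ ^ q * uk := by ring
  rw [this]
  exact h1.sub (hk.mul (F₀.pow_mem L.h₁ q))

theorem zero_of_tw (hF : Fintype.card F = q ^ 2) (L : LamData q F₀) {uj uk : F}
    (h1 : uj + L.l₁ ^ q * uk = 0) (h2 : uj + L.l₂ ^ q * uk = 0) : uj = 0 ∧ uk = 0 := by
  have hd := L.pow_ne hF
  have hk : uk = 0 := by
    have : (L.l₁ ^ q - L.l₂ ^ q) * uk = 0 := by linear_combination h1 - h2
    rcases mul_eq_zero.1 this with h | h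
    · exact absurd h hd
    · exact h
  refine ⟨?_, hk⟩
  rw [hk, mul_zero, add_zero] at h1
  exact h1

/-- an isotropic nonzero vector has two nonzero coordinates -/
theorem exists_two_coords (hF : Fintype.card F = q ^ 2) {u : Fin n → F} (hu0 : u ≠ 0)
    (huu : hermForm n F q u u = 0) : ∃ l j : Fin n, l ≠ j ∧ u l ≠ 0 ∧ u j ≠ 0 := by
  classical
  obtain ⟨l, hl⟩ : ∃ l, u l ≠ 0 := by
    by_contra h; push Not at h; exact hu0 (funext h)
  by_contra hcon
  push Not at hcon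
  have h0 : ∀ j, j ≠ l → u j = 0 := by
    intro j hj
    by_contra hne
    exact hne (hcon l j (Ne.symm hj) hl)
  unfold hermForm at huu
  rw [Finset.sum_eq_single l (fun j _ hj => by rw [h0 j hj, zero_mul])
    (fun h => absurd (Finset.mem_univ l) h)] at huu
  rcases mul_eq_zero.1 huu with h | h
  · exact hl h
  · exact hl (pow_eq_zero_iff (q_ne_zero hF) |>.1 h)

/-- (K): the centre of a long root element of `H` is a multiple of a rational vector -/
theorem Ctx.K (C : Ctx hF hn L H) (D : FData q F₀) {u : Fin n → F} {a : F}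
    (huu : hermForm n F q u u = 0) (hu0 : u ≠ 0) (ha0 : a ≠ 0)
    (hu : MIn H (unitaryTransvection n q u a)) :
    ∃ c : F, c ≠ 0 ∧ ∃ r : Fin n → F, IsRatV F₀ r ∧ u = c • r := by
  classical
  have hn5 : 5 ≤ n := le_trans (by norm_num) hn
  obtain ⟨l, j, hlj, hul, huj⟩ := exists_two_coords hF hu0 huu
  obtain ⟨x, hxl, hxj, -, -⟩ := exists_avoid4 hn5 l j l j
  obtain ⟨y, hyl, hyj, hyx, -⟩ := exists_avoid4 hn5 l j x x
  -- the two reference values
  obtain ⟨l₀, hl₀, hc0⟩ : ∃ l₀, (l₀ = L.l₁ ∨ l₀ = L.l₂) ∧ u l + l₀ ^ q * u x ≠ 0 := by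
    by_contra hcon
    push Not at hcon
    exact hul (zero_of_tw hF L (hcon _ (Or.inl rfl)) (hcon _ (Or.inr rfl))).1
  obtain ⟨l₁, hl₁, hc'0⟩ : ∃ l₁, (l₁ = L.l₁ ∨ l₁ = L.l₂) ∧ u j + l₁ ^ q * u y ≠ 0 := by
    by_contra hcon
    push Not at hcon
    exact huj (zero_of_tw hF L (hcon _ (Or.inl rfl)) (hcon _ (Or.inr rfl))).1
  obtain ⟨c, hc⟩ : ∃ c, c = u l + l₀ ^ q * u x := ⟨_, rfl⟩
  obtain ⟨c', hc'⟩ : ∃ c', c' = u j + l₁ ^ q * u y := ⟨_, rfl⟩
  rw [← hc] at hc0
  rw [← hc'] at hc'0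
  have hcc' : InL F₀ c c' := by
    rw [hc, hc']
    exact C.R_tw D huu ha0 hu hyj.symm hxl.symm hlj.symm hxj.symm hyl hyx (l := l₁) (l' := l₀)
      hl₁ hl₀ (by rw [← hc]; exact hc0)
  have claimA : ∀ a' : Fin n, a' ≠ l → a' ≠ x → InL F₀ c (u a') := by
    intro a' hal hax
    obtain ⟨b, hbl, hbx, hba, -⟩ := exists_avoid4 hn5 l x a' a'
    have key : ∀ l', (l' = L.l₁ ∨ l' = L.l₂) → InL F₀ c (u a' + l' ^ q * u b) := by
      intro l' hl'
      rw [hc]
      exact C.R_tw D huu ha0 hu hba.symm hxl.symm hal hax hbl hbx hl' hl₀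
        (by rw [← hc]; exact hc0)
    exact (coords_of_tw hF L (key _ (Or.inl rfl)) (key _ (Or.inr rfl))).1
  have claimB : ∀ a' : Fin n, a' ≠ j → a' ≠ y → InL F₀ c (u a') := by
    intro a' haj hay
    obtain ⟨b, hbj, hby, hba, -⟩ := exists_avoid4 hn5 j y a' a'
    have key : ∀ l', (l' = L.l₁ ∨ l' = L.l₂) → InL F₀ c' (u a' + l' ^ q * u b) := by
      intro l' hl'
      rw [hc']
      exact C.R_tw D huu ha0 hu hba.symm hyj.symm haj hay hbj hby hl' hl₁
        (by rw [← hc']; exact hc'0)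
    exact hcc'.trans (coords_of_tw hF L (key _ (Or.inl rfl)) (key _ (Or.inr rfl))).1
  have all : ∀ a' : Fin n, InL F₀ c (u a') := by
    intro a'
    by_cases h1 : a' = l
    · rw [h1]; exact claimB l hlj hyl.symm
    by_cases h2 : a' = x
    · rw [h2]; exact claimB x hxj hyx.symm
    exact claimA a' h1 h2
  choose r hr hur using all
  exact ⟨c, hc0, r, hr, funext fun i => by rw [Pi.smul_apply, smul_eq_mul, hur i, mul_comm]⟩

end K

end Cfsg.Agent.Lib.Helper2.Suf
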