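import Mathlib
import Cfsg.Agent.Lib.Helper2.SufL
set_option autoImplicit false
set_option maxHeartbeats 1000000
set_option linter.unusedVariables false
set_option linter.unusedSectionVars false
set_option linter.style.longLine false
set_option linter.unusedSimpArgs false
set_option linter.deprecated false
set_option linter.style.haveILetI false

/-! Unitary subfield subgroups (part M): an overgroup without bad transvections in the Levi
pull-back is contained in the subfield subgroup. -/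

namespace Cfsg.Agent.Lib.Helper2.Suf

open Matrix Cfsg Cfsg.Agent.Lib.Helper5.Herm Cfsg.Agent.Lib.Helper5.HermBridge
  Cfsg.Agent.Lib.Helper5.HermTv Cfsg.Agent.Lib.Helper5.HermEich
  Cfsg.Agent.Lib.Helper5.SUCentres Cfsg.Agent.Lib.Helper5.TvGL
  Cfsg.Agent.Lib.Helper2.Sfm Cfsg.Agent.Lib.Helper2.Ssf

universe u

section RatL

variable {F : Type u} [Field F] {n : ℕ} (F₀ : Subfield F)

/-- vectors in `c F₀^n` -/
def RatL (c : F) (v : Fin n → F) : Prop := ∃ r : Fin n → F, IsRatV F₀ r ∧ v = c • r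

variable {F₀}

theorem RatL.add {c : F} {v w : Fin n → F} (hv : RatL F₀ c v) (hw : RatL F₀ c w) :
    RatL F₀ c (v + w) := by
  obtain ⟨r, hr, rfl⟩ := hv
  obtain ⟨r', hr', rfl⟩ := hw
  exact ⟨r + r', hr.add hr', by rw [smul_add]⟩

theorem RatL.sub {c : F} {v w : Fin n → F} (hv : RatL F₀ c v) (hw : RatL F₀ c w) :
    RatL F₀ c (v - w) := by
  obtain ⟨r, hr, rfl⟩ := hv
  obtain ⟨r', hr', rfl⟩ := hw
  exact ⟨r - r', hr.sub hr', by rw [smul_sub]⟩

theorem RatL.smul {c μ : F} {v : Fin n → F} (hμ : μ ∈ F₀) (hv : RatL F₀ c v) :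
    RatL F₀ c (μ • v) := by
  obtain ⟨r, hr, rfl⟩ := hv
  exact ⟨μ • r, hr.smul hμ, by rw [smul_comm]⟩

end RatL

section Le

variable {F : Type u} [Field F] [Fintype F] {q : ℕ} {hF : Fintype.card F = q ^ 2} {n : ℕ}
  {F₀ : Subfield F} {hn : 8 ≤ n} {L : LamData q F₀} {H : Subgroup (GL (Fin n) F)}

omit [Fintype F] in
theorem herm_rat {x y : Fin n → F} (hx : IsRatV F₀ x) (hy : IsRatV F₀ y) :
    hermForm n F q x y ∈ F₀ := by
  rw [herm_eq_dot]
  exact IsRatV.dot hx (fun i => F₀.pow_mem (hy i) q)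

/-- the image of a rational isotropic vector under an element of `H` is a multiple of a rational
vector -/
theorem Ctx.K' (C : Ctx hF hn L H) (D : FData q F₀) {g : GL (Fin n) F} (hg : g ∈ H)
    {w : Fin n → F} (hw : IsRatV F₀ w) (hww : hermForm n F q w w = 0) (hw0 : w ≠ 0) :
    ∃ c : F, c ≠ 0 ∧ ∃ r : Fin n → F, IsRatV F₀ r ∧ g.1 *ᵥ w = c • r := by
  obtain ⟨s₀, hs₀, hs₀0, hs₀q⟩ := D.s₀
  have hgU : g ∈ Cfsg.GU n F q := C.hHU hg
  have hgh : ∀ u v, hermForm n F q (g.1 *ᵥ u) (g.1 *ᵥ v) = hermForm n F q u v := hgU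
  have h1 : MIn H (unitaryTransvection n q w s₀) := (TM_mIn_MS hF hw hww hs₀ hs₀q).mono C.hMH
  have h2 := MIn.conj hg h1
  rw [TM_conj hF hgU] at h2
  have hgw0 : g.1 *ᵥ w ≠ 0 := fun h => hw0 (gl_mulVec_eq_zero g h)
  exact C.K D (by rw [hgh, hww]) hgw0 hs₀0 h2

/-- a common scalar for the images of the rational isotropic vectors not orthogonal to a given
one -/
theorem Ctx.exists_scalar (C : Ctx hF hn L H) (D : FData q F₀) {g : GL (Fin n) F} (hg : g ∈ H)
    {f : Fin n → F} (hf : IsRatV F₀ f) (hff : hermForm n F q f f = 0) (hf0 : f ≠ 0) :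
    ∃ c₀ : F, c₀ ≠ 0 ∧ ∀ w : Fin n → F, IsRatV F₀ w → hermForm n F q w w = 0 →
      hermForm n F q w f ≠ 0 → RatL F₀ c₀ (g.1 *ᵥ w) := by
  have hgU : g ∈ Cfsg.GU n F q := C.hHU hg
  have hgh : ∀ u v, hermForm n F q (g.1 *ᵥ u) (g.1 *ᵥ v) = hermForm n F q u v := hgU
  obtain ⟨b, hb0, f', hf', hgf⟩ := C.K' D hg hf hff hf0
  have hbq : b ^ q ≠ 0 := pow_ne_zero _ hb0
  refine ⟨(b ^ q)⁻¹, inv_ne_zero hbq, fun w hw hww hwf => ?_⟩
  have hw0 : w ≠ 0 := by
    intro h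
    apply hwf
    rw [h, hermForm_zero_left]
  obtain ⟨a, ha0, w', hw', hgw⟩ := C.K' D hg hw hww hw0
  have e1 : hermForm n F q w f = a * b ^ q * hermForm n F q w' f' := by
    rw [← hgh, hgw, hgf, hermForm_smul_left, hermForm_smul_right]
    ring
  have hX : hermForm n F q w' f' ∈ F₀ := herm_rat hw' hf'
  have hX0 : hermForm n F q w' f' ≠ 0 := by
    intro h
    apply hwf
    rw [e1, h, mul_zero]
  have hν : a * b ^ q ∈ F₀ := by
    have : a * b ^ q = hermForm n F q w f * (hermForm n F q w' f')⁻¹ := by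
      rw [e1]
      field_simp
    rw [this]
    exact F₀.mul_mem (herm_rat hw hf) (F₀.inv_mem hX)
  refine ⟨(a * b ^ q) • w', hw'.smul hν, ?_⟩
  rw [hgw, smul_smul]
  congr 1
  field_simp

/-- an overgroup without bad transvections is contained in the subfield subgroup -/
theorem Ctx.le_sfs (C : Ctx hF hn L H) (D : FData q F₀) :
    H ≤ Cfsg.Geo.subfieldSubgroup F₀ 1 := by
  classical
  intro g hg
  have hq0 := q_ne_zero hF
  obtain ⟨j0, hj0⟩ : ∃ j0 : Fin n, j0.val = 0 := ⟨⟨0, by omega⟩, rfl⟩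
  obtain ⟨j1, hj1⟩ : ∃ j1 : Fin n, j1.val = 1 := ⟨⟨1, by omega⟩, rfl⟩
  obtain ⟨j2, hj2⟩ : ∃ j2 : Fin n, j2.val = 2 := ⟨⟨2, by omega⟩, rfl⟩
  have h01 : j0 ≠ j1 := fun h => by rw [h] at hj0; omega
  have h02 : j0 ≠ j2 := fun h => by rw [h] at hj0; omega
  have h12 : j1 ≠ j2 := fun h => by rw [h] at hj1; omega
  have hl₁0 : L.l₁ ≠ 0 := by
    intro h
    have := L.n₁
    rw [h, zero_mul] at this
    exact one_ne_zero (neg_eq_zero.1 this.symm)
  obtain ⟨c₀, hc₀, hall⟩ := C.exists_scalar D hg (isRatV_tw j0 j2 L.h₁)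
    (herm_tw_self hF h02 L.n₁) (tw_ne_zero h02 _)
  have good1 : ∀ k, k ≠ j0 → k ≠ j2 → ∀ l, (l = L.l₁ ∨ l = L.l₂) →
      RatL F₀ c₀ (g.1 *ᵥ tw j0 k l) := by
    intro k hk0 hk2 l hl
    have hlF : l ∈ F₀ := by rcases hl with h | h <;> rw [h]; exacts [L.h₁, L.h₂]
    have hlN : l * l ^ q = -1 := by rcases hl with h | h <;> rw [h]; exacts [L.n₁, L.n₂]
    apply hall _ (isRatV_tw j0 k hlF) (herm_tw_self hF hk0.symm hlN)
    rw [herm_tw_right hF, tw_apply_j hk0.symm, tw_apply_ne (i := j2) h02.symm hk2.symm, mul_zero,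
      add_zero]
    exact one_ne_zero
  have col : ∀ k, k ≠ j0 → k ≠ j2 → RatL F₀ c₀ (g.1 *ᵥ Pi.single k 1) := by
    intro k hk0 hk2
    have e : (Pi.single k 1 : Fin n → F) =
        (L.l₁ - L.l₂)⁻¹ • (tw j0 k L.l₁ - tw j0 k L.l₂) := by
      unfold tw
      rw [add_sub_add_left_eq_sub, ← sub_smul, smul_smul, inv_mul_cancel₀ (sub_ne_zero.2 L.ne),
        one_smul]
    rw [e, mulVec_smul, mulVec_sub]
    exact ((good1 k hk0 hk2 _ (Or.inl rfl)).sub (good1 k hk0 hk2 _ (Or.inr rfl))).smul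
      (F₀.inv_mem (F₀.sub_mem L.h₁ L.h₂))
  have col1 := col j1 h01.symm h12
  have col0 : RatL F₀ c₀ (g.1 *ᵥ Pi.single j0 1) := by
    have e : (Pi.single j0 1 : Fin n → F) = tw j0 j1 L.l₁ - L.l₁ • Pi.single j1 1 := by
      unfold tw
      rw [add_sub_cancel_right]
    rw [e, mulVec_sub, mulVec_smul]
    exact (good1 j1 h01.symm h12 _ (Or.inl rfl)).sub (col1.smul L.h₁)
  have col2 : RatL F₀ c₀ (g.1 *ᵥ Pi.single j2 1) := by
    have hgood : RatL F₀ c₀ (g.1 *ᵥ tw j2 j1 L.l₁) := by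
      apply hall _ (isRatV_tw j2 j1 L.h₁) (herm_tw_self hF h12.symm L.n₁)
      rw [herm_tw_right hF, tw_apply_ne (i := j0) h02 h01, tw_apply_j h12.symm, zero_add, mul_one]
      exact pow_ne_zero _ hl₁0
    have e : (Pi.single j2 1 : Fin n → F) = tw j2 j1 L.l₁ - L.l₁ • Pi.single j1 1 := by
      unfold tw
      rw [add_sub_cancel_right]
    rw [e, mulVec_sub, mulVec_smul]
    exact hgood.sub (col1.smul L.h₁)
  have allcol : ∀ k, RatL F₀ c₀ (g.1 *ᵥ Pi.single k 1) := by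
    intro k
    by_cases hk0 : k = j0
    · rw [hk0]; exact col0
    by_cases hk2 : k = j2
    · rw [hk2]; exact col2
    exact col k hk0 hk2
  rw [mem_subfield_iff']
  refine ⟨c₀⁻¹, inv_ne_zero hc₀, fun i k => ?_⟩
  obtain ⟨r, hr, hgr⟩ := allcol k
  have := congrFun hgr i
  rw [Matrix.mulVec_single_one, Pi.smul_apply, smul_eq_mul] at this
  have e : g.1 i k = c₀ * r i := this
  rw [e, ← mul_assoc, inv_mul_cancel₀ hc₀, one_mul]
  exact hr i

/-- an overgroup without bad transvections is the subfield subgroup -/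
theorem Ctx.eq_MS (C : Ctx hF hn L H) (D : FData q F₀) : H = MS n q F₀ :=
  le_antisymm (fun g hg => ⟨C.le_sfs D hg, C.hHS hg⟩) C.hMH

end Le

end Cfsg.Agent.Lib.Helper2.Suf
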