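import Mathlib
import Cfsg.Agent.Lib.Helper2.SufM
set_option autoImplicit false
set_option maxHeartbeats 1000000
set_option linter.unusedVariables false
set_option linter.unusedSectionVars false
set_option linter.style.longLine false
set_option linter.unusedSimpArgs false
set_option linter.deprecated false
set_option linter.style.haveILetI false

/-! Unitary subfield subgroups (part N): the standard subfield subgroup of `SU_n` is maximal. -/

namespace Cfsg.Agent.Lib.Helper2.Suf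

open Matrix Cfsg Cfsg.Agent.Lib.Helper5.Herm Cfsg.Agent.Lib.Helper5.HermBridge
  Cfsg.Agent.Lib.Helper5.HermTv Cfsg.Agent.Lib.Helper5.HermEich
  Cfsg.Agent.Lib.Helper5.SUCentres Cfsg.Agent.Lib.Helper5.TvGL
  Cfsg.Agent.Lib.Helper2.Sfm Cfsg.Agent.Lib.Helper2.Ssf

universe u

section Main

variable {F : Type u} [Field F] [Fintype F] {q : ℕ} (hF : Fintype.card F = q ^ 2) {n : ℕ}
  (F₀ : Subfield F)

omit [Fintype F] in
/-- an element of the subfield subgroup fixing a nonzero rational vector is rational -/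
theorem isRatM_of_fix {g : GL (Fin n) F} (hg : g ∈ Cfsg.Geo.subfieldSubgroup F₀ 1)
    {v₀ : Fin n → F} (hv₀ : IsRatV F₀ v₀) (hv₀0 : v₀ ≠ 0) (hfix : g.1 *ᵥ v₀ = v₀) :
    IsRatM F₀ g.1 := by
  obtain ⟨d, hd0, hd⟩ := (mem_subfield_iff' F₀ g).1 hg
  obtain ⟨i, hi⟩ : ∃ i, v₀ i ≠ 0 := by
    by_contra h; push Not at h; exact hv₀0 (funext h)
  have hR : IsRatM F₀ (d • g.1) := fun i j => by
    rw [Matrix.smul_apply, smul_eq_mul]; exact hd i j
  have h1 : IsRatV F₀ ((d • g.1) *ᵥ v₀) := hR.mulVec hv₀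
  rw [smul_mulVec, hfix] at h1
  have h2 := h1 i
  rw [Pi.smul_apply, smul_eq_mul] at h2
  have hdF : d ∈ F₀ := by
    have : d = d * v₀ i * (v₀ i)⁻¹ := by field_simp
    rw [this]
    exact F₀.mul_mem h2 (F₀.inv_mem (hv₀ i))
  intro i j
  have : g.1 i j = d⁻¹ * (d * g.1 i j) := by field_simp
  rw [this]
  exact F₀.mul_mem (F₀.inv_mem hdF) (hd i j)

include hF in
/-- the standard subfield subgroup of `SU_n` is maximal -/
theorem isMaximalIn_one_su (hn13 : 13 ≤ n) (r : ℕ) (hr : r.Prime) (hro : Odd r)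
    (hcard : Fintype.card F = Nat.card F₀ ^ r) :
    Cfsg.Geo.IsMaximalIn (Cfsg.GU n F q ⊓ Cfsg.Geo.specialLinear (Fin n) F) (MS n q F₀) := by
  classical
  have hn : 8 ≤ n := le_trans (by norm_num) hn13
  obtain ⟨l₁, hl₁, l₂, hl₂, hn₁, hn₂, hne⟩ := exists_lam hF F₀ hr hro hcard
  set L : LamData q F₀ := ⟨l₁, l₂, hl₁, hl₂, hn₁, hn₂, hne⟩ with hL
  set 𝔣 := stdFrame hF hn L with h𝔣
  have hσ := sig0_ne_id hF F₀ hr hro hcard
  have D : FData q F₀ := fData_of_card hF F₀ hr hro hcard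
  refine ⟨lt_of_le_of_ne inf_le_right ?_, ?_⟩
  · intro heq
    obtain ⟨c, hc⟩ : ∃ c : F, c ∉ F₀ := by
      by_contra hcon
      push Not at hcon
      have h1 : Nat.card F₀ = Fintype.card F := by
        rw [← Nat.card_eq_fintype_card]
        exact Nat.card_congr ⟨fun x => x.1, fun x => ⟨x, hcon x⟩, fun x => rfl, fun x => rfl⟩
      have hq : 2 ≤ Nat.card F₀ := by
        have : 1 < Nat.card F₀ := Finite.one_lt_card
        omega
      rw [← h1] at hcard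
      have h3 : Nat.card F₀ ^ 1 = Nat.card F₀ ^ r := by rw [pow_one]; exact hcard
      have := Nat.pow_right_injective hq h3
      exact hr.one_lt.ne this
    have hE : EHyp n q (𝔣.f 1) (c • 𝔣.e 0) 0 := by
      refine ⟨𝔣.ff 1 1, ?_, ?_⟩
      · rw [hermForm_smul_left, 𝔣.ef, if_neg (by decide), mul_zero]
      · rw [hermForm_smul_left, hermForm_smul_right, 𝔣.ee, zero_pow (q_ne_zero hF)]
        ring
    set X : GL (Fin n) F := ((eich hF n (𝔣.f 1) (c • 𝔣.e 0) 0 hE : ↥(Cfsg.GU n F q)) : GL (Fin n) F)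
      with hX
    have hXv : X.1 = eichMat n q (𝔣.f 1) (c • 𝔣.e 0) 0 := rfl
    have hXS : X ∈ Cfsg.GU n F q ⊓ Cfsg.Geo.specialLinear (Fin n) F := by
      rw [mem_SU_iff]
      exact ⟨(eich hF n (𝔣.f 1) (c • 𝔣.e 0) 0 hE).2, det_eich hF n _ _ _ hE⟩
    rw [← heq] at hXS
    have hfix : X.1 *ᵥ 𝔣.e 2 = 𝔣.e 2 := by
      rw [hXv, eichMat_mulVec n _ _ _ (𝔣.ff 1 1), 𝔣.ef, if_neg (by decide), hermForm_smul_right,
        𝔣.ee]
      simp
    have he20 : 𝔣.e 2 ≠ 0 := by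
      intro h0
      have := 𝔣.ef 2 2
      rw [h0, hermForm_zero_left, if_pos rfl] at this
      exact zero_ne_one this
    have hR := isRatM_of_fix F₀ hXS.1 (𝔣.rat_e 2) he20 hfix
    have h1 : IsRatV F₀ (X.1 *ᵥ 𝔣.e 1) := hR.mulVec (𝔣.rat_e 1)
    rw [hXv, eichMat_mulVec n _ _ _ (𝔣.ff 1 1), 𝔣.ef, if_pos rfl, hermForm_smul_right, 𝔣.ee] at h1
    have h2 := (h1.sub (𝔣.rat_e 1)) (i0 hn 0)
    apply hc
    have e : (𝔣.e 1 + (1 : F) • c • 𝔣.e 0 + (0 * 1 - c ^ q * 0) • 𝔣.f 1 - 𝔣.e 1) (i0 hn 0) = c := by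
      have : 𝔣.e 1 + (1 : F) • c • 𝔣.e 0 + (0 * 1 - c ^ q * 0) • 𝔣.f 1 - 𝔣.e 1 = c • 𝔣.e 0 := by
        module
      rw [this, Pi.smul_apply, h𝔣, stdFrame_e, tw_apply_j (i0_ne_i1 hn 0 0), smul_eq_mul, mul_one]
    rw [e] at h2
    exact h2
  · intro M hMH hHS
    rcases noBad_or_le F₀ (M.comap (𝔣.dg hF)) (by norm_num) (𝔣.hasRat_comap hF hMH) r hr hcard
      with hN | hle
    · left
      have C : Ctx hF hn L M := ⟨by omega, hσ, hMH, hHS, hN⟩
      exact C.eq_MS D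
    · right
      obtain ⟨s₀, hs₀, hs₀0, hs₀q⟩ := exists_s0 hF F₀ hr hro hcard
      obtain ⟨β₀, hβ₀, hβ₀t⟩ := exists_trace0 hF F₀ hr hro hcard (d := -1)
        (F₀.neg_mem F₀.one_mem) (pow_q_neg_one hF)
      exact le_antisymm hHS
        (SU_le_of_SL hF hn L hMH hHS hle hn13 hs₀ hs₀0 hs₀q hβ₀ hβ₀t)

end Main

end Cfsg.Agent.Lib.Helper2.Suf
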