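import Mathlib
import Cfsg.Agent.Lib.Helper2.SufN
import Cfsg.Agent.Lib.Helper2.SfmF
set_option autoImplicit false
set_option maxHeartbeats 1000000
set_option linter.unusedVariables false
set_option linter.unusedSectionVars false
set_option linter.style.longLine false
set_option linter.unusedSimpArgs false
set_option linter.deprecated false
set_option linter.style.haveILetI false

/-! Unitary subfield subgroups (part O): normalisation of a compatible rational structure, and the
maximality of the subfield subgroups of `SU_n`. -/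

namespace Cfsg.Agent.Lib.Helper2.Suf

open Matrix Cfsg Cfsg.Agent.Lib.Helper5.Herm Cfsg.Agent.Lib.Helper5.HermBridge
  Cfsg.Agent.Lib.Helper5.HermTv Cfsg.Agent.Lib.Helper5.HermEich
  Cfsg.Agent.Lib.Helper5.SUCentres Cfsg.Agent.Lib.Helper5.TvGL
  Cfsg.Agent.Lib.Helper2.Sfm Cfsg.Agent.Lib.Helper2.Ssf

universe u

section Norm

variable {F : Type u} [Field F] [Fintype F] {q : ℕ} (hF : Fintype.card F = q ^ 2) {n : ℕ}
  {F₀ : Subfield F}

omit [Fintype F] in
theorem upv_add (x y : Fin n → F₀) : upv F₀ (x + y) = upv F₀ x + upv F₀ y := by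
  funext i; rfl

omit [Fintype F] in
theorem upv_smul (c : F₀) (x : Fin n → F₀) : upv F₀ (c • x) = (c : F) • upv F₀ x := by
  funext i; rfl

/-- the rational hermitian form attached to a compatible rational structure -/
def ratHerm {P : GL (Fin n) F}
    (hP : Cfsg.Geo.IsFormRationalStructure (hermForm n F q) F₀ 1 P) :
    (Fin n → F₀) →ₛₗ[sig0 hF F₀] (Fin n → F₀) →ₗ[F₀] F₀ :=
  LinearMap.mk₂'ₛₗ (sig0 hF F₀) (RingHom.id F₀)
    (fun x y => (⟨hermForm n F q (P.1 *ᵥ upv F₀ y) (P.1 *ᵥ upv F₀ x), by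
      have := hP _ _ (isRatV_upv F₀ y) (isRatV_upv F₀ x)
      rwa [one_mul] at this⟩ : F₀))
    (fun x x' y => by
      apply Subtype.ext
      show hermForm n F q (P.1 *ᵥ upv F₀ y) (P.1 *ᵥ upv F₀ (x + x')) = _
      rw [upv_add, mulVec_add, hermForm_add_right hF]
      rfl)
    (fun c x y => by
      apply Subtype.ext
      show hermForm n F q (P.1 *ᵥ upv F₀ y) (P.1 *ᵥ upv F₀ (c • x)) = _
      rw [upv_smul, mulVec_smul, hermForm_smul_right]
      rfl)
    (fun x y y' => by
      apply Subtype.ext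
      show hermForm n F q (P.1 *ᵥ upv F₀ (y + y')) (P.1 *ᵥ upv F₀ x) = _
      rw [upv_add, mulVec_add, hermForm_add_left]
      rfl)
    (fun c x y => by
      apply Subtype.ext
      show hermForm n F q (P.1 *ᵥ upv F₀ (c • y)) (P.1 *ᵥ upv F₀ x) = _
      rw [upv_smul, mulVec_smul, hermForm_smul_left]
      rfl)

theorem ratHerm_coe {P : GL (Fin n) F}
    (hP : Cfsg.Geo.IsFormRationalStructure (hermForm n F q) F₀ 1 P) (x y : Fin n → F₀) :
    ((ratHerm hF hP x y : F₀) : F) =
      hermForm n F q (P.1 *ᵥ upv F₀ y) (P.1 *ᵥ upv F₀ x) := rfl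

theorem ratHerm_isSymm {P : GL (Fin n) F}
    (hP : Cfsg.Geo.IsFormRationalStructure (hermForm n F q) F₀ 1 P) :
    (ratHerm hF hP).IsSymm :=
  ⟨fun x y => by
    apply Subtype.ext
    rw [sig0_coe, ratHerm_coe, ratHerm_coe, hermForm_conj hF]⟩

include hF in
/-- a vector orthogonal to the columns of an invertible matrix is zero -/
theorem eq_zero_of_cols (P : GL (Fin n) F) (w : Fin n → F)
    (hw : ∀ j, hermForm n F q (P.1 *ᵥ Pi.single j 1) w = 0) : w = 0 := by
  classical
  have h1 : ∀ v, hermForm n F q (P.1 *ᵥ v) w = 0 := by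
    intro v
    have hdec : v = ∑ i, v i • (Pi.single i (1 : F) : Fin n → F) := by
      funext j
      rw [Finset.sum_apply, Finset.sum_eq_single j]
      · rw [Pi.smul_apply, Pi.single_eq_same, smul_eq_mul, mul_one]
      · intro i _ hij
        rw [Pi.smul_apply, Pi.single_eq_of_ne (Ne.symm hij), smul_zero]
      · intro hj; exact absurd (Finset.mem_univ j) hj
    have hA : P.1 *ᵥ v = ∑ i, v i • (P.1 *ᵥ (Pi.single i (1 : F) : Fin n → F)) := by
      conv_lhs => rw [hdec]
      rw [Matrix.mulVec_sum]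
      exact Finset.sum_congr rfl fun i _ => Matrix.mulVec_smul _ _ _
    rw [hA, herm_sum_l hF]
    apply Finset.sum_eq_zero
    intro j _
    rw [hermForm_smul_left, hw, mul_zero]
  funext i
  have := h1 ((P⁻¹).1 *ᵥ Pi.single i 1)
  rw [gl_mulVec_inv_cancel, hermForm_single_left] at this
  exact pow_eq_zero_iff (q_ne_zero hF) |>.1 this

theorem ratHerm_nondegenerate {P : GL (Fin n) F}
    (hP : Cfsg.Geo.IsFormRationalStructure (hermForm n F q) F₀ 1 P) :
    (ratHerm hF hP).Nondegenerate := by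
  classical
  have fin : ∀ x : Fin n → F₀, P.1 *ᵥ upv F₀ x = 0 → x = 0 := by
    intro x hx
    exact upv_injective F₀ (gl_mulVec_eq_zero P hx)
  constructor
  · intro x hx
    apply fin
    apply eq_zero_of_cols hF P
    intro j
    have h1 := congrArg Subtype.val (hx (Pi.single j 1))
    rw [ratHerm_coe, upv_single] at h1
    exact h1
  · intro y hy
    apply fin
    apply eq_zero_of_cols hF P
    intro j
    have h1 := congrArg Subtype.val (hy (Pi.single j 1))
    rw [ratHerm_coe, upv_single] at h1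
    exact herm_symm_zero hF n h1

include hF in
/-- a rational change of basis turning the structure into a unitary matrix -/
theorem exists_rat_unitary {P : GL (Fin n) F} (hσ : sig0 hF F₀ ≠ RingHom.id F₀)
    (hP : Cfsg.Geo.IsFormRationalStructure (hermForm n F q) F₀ 1 P) :
    ∃ R : GL (Fin n) F, R ∈ Cfsg.Geo.subfieldSubgroup F₀ 1 ∧ P * R ∈ Cfsg.GU n F q := by
  classical
  obtain ⟨b, hb⟩ := Cfsg.Agent.Lib.Helper5.HermBasis.exists_orthonormal_basis hσ (sig0_sig0 hF F₀)
    (ratHerm hF hP) (ratHerm_isSymm hF hP) (ratHerm_nondegenerate hF hP)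
  have hfr : Module.finrank F₀ (Fin n → F₀) = n := by
    rw [Module.finrank_pi, Fintype.card_fin]
  set b' : Module.Basis (Fin n) F₀ (Fin n → F₀) := b.reindex (finCongr hfr) with hb'
  have hb'o : ∀ i j, ratHerm hF hP (b' i) (b' j) = if i = j then 1 else 0 := by
    intro i j
    rw [hb', Module.Basis.reindex_apply, Module.Basis.reindex_apply, hb]
    by_cases hij : i = j
    · rw [if_pos hij, if_pos (by rw [hij])]
    · rw [if_neg hij, if_neg (fun h => hij ((finCongr hfr).symm.injective h))]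
  set e := Pi.basisFun F₀ (Fin n) with he
  set R₀ : Matrix (Fin n) (Fin n) F₀ := e.toMatrix b' with hR₀
  set R₁ : Matrix (Fin n) (Fin n) F₀ := b'.toMatrix e with hR₁
  have hmul1 : R₀ * R₁ = 1 := Module.Basis.toMatrix_mul_toMatrix_flip e b'
  have hmul2 : R₁ * R₀ = 1 := Module.Basis.toMatrix_mul_toMatrix_flip b' e
  have hentry : ∀ i j, R₀ i j = b' j i := by
    intro i j
    rw [hR₀, Module.Basis.toMatrix_apply, he, Pi.basisFun_repr]
  set f : F₀ →+* F := F₀.subtype with hf
  have hm1 : R₀.map f * R₁.map f = 1 := by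
    rw [← Matrix.map_mul, hmul1, Matrix.map_one _ (map_zero f) (map_one f)]
  have hm2 : R₁.map f * R₀.map f = 1 := by
    rw [← Matrix.map_mul, hmul2, Matrix.map_one _ (map_zero f) (map_one f)]
  set R : GL (Fin n) F := ⟨R₀.map f, R₁.map f, hm1, hm2⟩ with hR
  have hRv : ∀ j, R.1 *ᵥ Pi.single j 1 = upv F₀ (b' j) := by
    intro j
    funext i
    rw [Matrix.mulVec_single_one]
    show (R₀.map f) i j = _
    rw [Matrix.map_apply, hentry]
    rfl
  refine ⟨R, ?_, ?_⟩
  · apply mem_sfs_of_isRatM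
    intro i j
    show (R₀.map f) i j ∈ F₀
    rw [Matrix.map_apply]
    exact (R₀ i j).2
  · intro u v
    show hermForm n F q ((P * R).1 *ᵥ u) ((P * R).1 *ᵥ v) = hermForm n F q u v
    apply herm_mulVec_of_cols hF
    intro i j
    rw [gl_mul_mulVec, gl_mul_mulVec, hRv, hRv, ← ratHerm_coe hF hP, hb'o,
      herm_single_single n i j (q_ne_zero hF)]
    by_cases hij : i = j
    · rw [if_pos hij, if_pos hij.symm]; rfl
    · rw [if_neg hij, if_neg (Ne.symm hij)]; rfl

end Norm

section Final

variable {F : Type u} [Field F] [Fintype F] {q : ℕ} (hF : Fintype.card F = q ^ 2) {n : ℕ}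
  (F₀ : Subfield F)

include hF in
/-- the subfield subgroups of `SU_n` attached to a compatible rational structure are maximal -/
theorem isMaximalIn_su_subfield (hn13 : 13 ≤ n) (r : ℕ) (hr : r.Prime) (hro : Odd r)
    (hcard : Fintype.card F = Nat.card F₀ ^ r) (P : GL (Fin n) F)
    (hP : Cfsg.Geo.IsFormRationalStructure (hermForm n F q) F₀ 1 P) :
    Cfsg.Geo.IsMaximalIn (Cfsg.GU n F q ⊓ Cfsg.Geo.specialLinear (Fin n) F)
      (Cfsg.Geo.subfieldSubgroup F₀ P ⊓
        (Cfsg.GU n F q ⊓ Cfsg.Geo.specialLinear (Fin n) F)) := by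
  obtain ⟨R, hR, hQ⟩ := exists_rat_unitary hF (sig0_ne_id hF F₀ hr hro hcard) hP
  have h := isMaximalIn_map (MulAut.conj (P * R)) (isMaximalIn_one_su hF F₀ hn13 r hr hro hcard)
  rw [Subgroup.map_inf _ _ _ (MulAut.conj (P * R)).injective,
    Subgroup.map_inf _ _ _ (MulAut.conj (P * R)).injective,
    Subgroup.map_inf _ _ _ (MulAut.conj (P * R)).injective,
    map_conj_eq_self _ hQ, specialLinear_map_conj, ← subfieldSubgroup_eq_map',
    subfieldSubgroup_mul F₀ P R hR] at h
  exact h

end Final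

end Cfsg.Agent.Lib.Helper2.Suf
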