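import Mathlib
import Cfsg.Agent.Lib.Helper7.Small2
import Cfsg.Agent.Lib.Helper2.OrdK4
import Cfsg.Agent.Lib.Helper2.OrdK5
import Cfsg.Agent.Lib.Helper2.OrdK6

/-! The table for S4274: a non-abelian simple group whose order divides `175560` and is
divisible by `19` has order `175560` (helper2; generated, helper7's killers; the orders
`17556`, `7980`, `35112, 58520, 87780` are `OrdK4`, `OrdK5`, `OrdK6`). -/

set_option autoImplicit false
set_option maxRecDepth 100000

namespace Cfsg.Agent.Lib.Helper2.Sy19

open Cfsg.Agent.Lib.Helper7.Small

universe u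

theorem table19 {K : Type u} [Group K] [Finite K] [IsSimpleGroup K] (hK : ¬ IsMulCommutative K)
    (hdiv : Nat.card K ∣ 175560) (h19 : 19 ∣ Nat.card K) : Nat.card K = 175560 := by
  obtain ⟨d, hd⟩ := h19
  have hd9240 : d ∣ 9240 := by
    rw [hd] at hdiv
    have h1 : 19 * d ∣ 19 * 9240 := by norm_num; exact hdiv
    exact (Nat.mul_dvd_mul_iff_left (by norm_num)).mp h1
  have hmem : d ∈ Nat.divisors 9240 := Nat.mem_divisors.mpr ⟨hd9240, by norm_num⟩
  have hlist : Nat.divisors 9240 = {1, 2, 3, 4, 5, 6, 7, 8, 10, 11, 12, 14, 15, 20, 21, 22, 24, 28, 30, 33, 35, 40, 42, 44, 55, 56, 60, 66, 70, 77, 84, 88, 105, 110, 120, 132, 140, 154, 165, 168, 210, 220, 231, 264, 280, 308, 330, 385, 420, 440, 462, 616, 660, 770, 840, 924, 1155, 1320, 1540, 1848, 2310, 3080, 4620, 9240} := by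
    decide +kernel
  rw [hlist] at hmem
  simp only [Finset.mem_insert, Finset.mem_singleton] at hmem
  rcases hmem with
    rfl | rfl | rfl | rfl | rfl | rfl | rfl | rfl | rfl | rfl | rfl | rfl | rfl | rfl | rfl |
    rfl | rfl | rfl | rfl | rfl | rfl | rfl | rfl | rfl | rfl | rfl | rfl | rfl | rfl | rfl |
    rfl | rfl | rfl | rfl | rfl | rfl | rfl | rfl | rfl | rfl | rfl | rfl | rfl | rfl | rfl |
    rfl | rfl | rfl | rfl | rfl | rfl | rfl | rfl | rfl | rfl | rfl | rfl | rfl | rfl | rfl |
    rfl | rfl | rfl | rfl
  · have hn : Nat.card K = 19 := hd.trans (by norm_num)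
    exact (kill_pp hK (p := 19) (k := 1) (by norm_num) (hn.trans (by norm_num))).elim
  · have hn : Nat.card K = 38 := hd.trans (by norm_num)
    exact (kill_pq hK (p := 2) (q := 19) (a := 1) (b := 1) (by norm_num) (by norm_num) (hn.trans (by norm_num))).elim
  · have hn : Nat.card K = 57 := hd.trans (by norm_num)
    exact (kill_pq hK (p := 3) (q := 19) (a := 1) (b := 1) (by norm_num) (by norm_num) (hn.trans (by norm_num))).elim
  · have hn : Nat.card K = 76 := hd.trans (by norm_num)
    exact (kill_pq hK (p := 2) (q := 19) (a := 2) (b := 1) (by norm_num) (by norm_num) (hn.trans (by norm_num))).elim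
  · have hn : Nat.card K = 95 := hd.trans (by norm_num)
    exact (kill_pq hK (p := 5) (q := 19) (a := 1) (b := 1) (by norm_num) (by norm_num) (hn.trans (by norm_num))).elim
  · have hn : Nat.card K = 114 := hd.trans (by norm_num)
    exact (kill_two_odd hn (by norm_num) (by norm_num)).elim
  · have hn : Nat.card K = 133 := hd.trans (by norm_num)
    exact (kill_pq hK (p := 7) (q := 19) (a := 1) (b := 1) (by norm_num) (by norm_num) (hn.trans (by norm_num))).elim
  · have hn : Nat.card K = 152 := hd.trans (by norm_num)
    exact (kill_pq hK (p := 2) (q := 19) (a := 3) (b := 1) (by norm_num) (by norm_num) (hn.trans (by norm_num))).elim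
  · have hn : Nat.card K = 190 := hd.trans (by norm_num)
    exact (kill_two_odd hn (by norm_num) (by norm_num)).elim
  · have hn : Nat.card K = 209 := hd.trans (by norm_num)
    exact (kill_pq hK (p := 11) (q := 19) (a := 1) (b := 1) (by norm_num) (by norm_num) (hn.trans (by norm_num))).elim
  · have hn : Nat.card K = 228 := hd.trans (by norm_num)
    exact (kill_sylow hK (p := 19) (q := 2) (by norm_num) hn (by norm_num) (by norm_num) (by norm_num) (by norm_num) (by decide +kernel)).elim
  · have hn : Nat.card K = 266 := hd.trans (by norm_num)
    exact (kill_two_odd hn (by norm_num) (by norm_num)).elim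
  · have hn : Nat.card K = 285 := hd.trans (by norm_num)
    exact (kill_sylow hK (p := 5) (q := 3) (by norm_num) hn (by norm_num) (by norm_num) (by norm_num) (by norm_num) (by decide +kernel)).elim
  · have hn : Nat.card K = 380 := hd.trans (by norm_num)
    exact (kill_par hK (p := 5) (by norm_num) hn (by norm_num) (by norm_num) (by norm_num) (by decide +kernel)).elim
  · have hn : Nat.card K = 399 := hd.trans (by norm_num)
    exact (kill_sylow hK (p := 19) (q := 3) (by norm_num) hn (by norm_num) (by norm_num) (by norm_num) (by norm_num) (by decide +kernel)).elim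
  · have hn : Nat.card K = 418 := hd.trans (by norm_num)
    exact (kill_two_odd hn (by norm_num) (by norm_num)).elim
  · have hn : Nat.card K = 456 := hd.trans (by norm_num)
    exact (kill_sylow hK (p := 19) (q := 2) (by norm_num) hn (by norm_num) (by norm_num) (by norm_num) (by norm_num) (by decide +kernel)).elim
  · have hn : Nat.card K = 532 := hd.trans (by norm_num)
    exact (kill_sylow hK (p := 7) (q := 2) (by norm_num) hn (by norm_num) (by norm_num) (by norm_num) (by norm_num) (by decide +kernel)).elim
  · have hn : Nat.card K = 570 := hd.trans (by norm_num)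
    exact (kill_two_odd hn (by norm_num) (by norm_num)).elim
  · have hn : Nat.card K = 627 := hd.trans (by norm_num)
    exact (kill_sylow hK (p := 11) (q := 3) (by norm_num) hn (by norm_num) (by norm_num) (by norm_num) (by norm_num) (by decide +kernel)).elim
  · have hn : Nat.card K = 665 := hd.trans (by norm_num)
    exact (kill_sylow hK (p := 5) (q := 7) (by norm_num) hn (by norm_num) (by norm_num) (by norm_num) (by norm_num) (by decide +kernel)).elim
  · have hn : Nat.card K = 760 := hd.trans (by norm_num)
    exact (kill_par hK (p := 19) (by norm_num) hn (by norm_num) (by norm_num) (by norm_num) (by decide +kernel)).elim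
  · have hn : Nat.card K = 798 := hd.trans (by norm_num)
    exact (kill_two_odd hn (by norm_num) (by norm_num)).elim
  · have hn : Nat.card K = 836 := hd.trans (by norm_num)
    exact (kill_sylow hK (p := 11) (q := 2) (by norm_num) hn (by norm_num) (by norm_num) (by norm_num) (by norm_num) (by decide +kernel)).elim
  · have hn : Nat.card K = 1045 := hd.trans (by norm_num)
    exact (kill_sylow hK (p := 5) (q := 11) (by norm_num) hn (by norm_num) (by norm_num) (by norm_num) (by norm_num) (by decide +kernel)).elim
  · have hn : Nat.card K = 1064 := hd.trans (by norm_num)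
    exact (kill_sylow hK (p := 7) (q := 2) (by norm_num) hn (by norm_num) (by norm_num) (by norm_num) (by norm_num) (by decide +kernel)).elim
  · have hn : Nat.card K = 1140 := hd.trans (by norm_num)
    exact (kill_par hK (p := 5) (by norm_num) hn (by norm_num) (by norm_num) (by norm_num) (by decide +kernel)).elim
  · have hn : Nat.card K = 1254 := hd.trans (by norm_num)
    exact (kill_two_odd hn (by norm_num) (by norm_num)).elim
  · have hn : Nat.card K = 1330 := hd.trans (by norm_num)
    exact (kill_two_odd hn (by norm_num) (by norm_num)).elim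
  · have hn : Nat.card K = 1463 := hd.trans (by norm_num)
    exact (kill_sylow hK (p := 7) (q := 11) (by norm_num) hn (by norm_num) (by norm_num) (by norm_num) (by norm_num) (by decide +kernel)).elim
  · have hn : Nat.card K = 1596 := hd.trans (by norm_num)
    exact (kill_sylow hK (p := 19) (q := 2) (by norm_num) hn (by norm_num) (by norm_num) (by norm_num) (by norm_num) (by decide +kernel)).elim
  · have hn : Nat.card K = 1672 := hd.trans (by norm_num)
    exact (kill_sylow hK (p := 11) (q := 2) (by norm_num) hn (by norm_num) (by norm_num) (by norm_num) (by norm_num) (by decide +kernel)).elim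
  · have hn : Nat.card K = 1995 := hd.trans (by norm_num)
    exact (kill_sylow hK (p := 19) (q := 3) (by norm_num) hn (by norm_num) (by norm_num) (by norm_num) (by norm_num) (by decide +kernel)).elim
  · have hn : Nat.card K = 2090 := hd.trans (by norm_num)
    exact (kill_two_odd hn (by norm_num) (by norm_num)).elim
  · have hn : Nat.card K = 2280 := hd.trans (by norm_num)
    exact (kill_par hK (p := 19) (by norm_num) hn (by norm_num) (by norm_num) (by norm_num) (by decide +kernel)).elim
  · have hn : Nat.card K = 2508 := hd.trans (by norm_num)
    exact (kill_sylow hK (p := 11) (q := 2) (by norm_num) hn (by norm_num) (by norm_num) (by norm_num) (by norm_num) (by decide +kernel)).elim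
  · have hn : Nat.card K = 2660 := hd.trans (by norm_num)
    exact (kill_par hK (p := 19) (by norm_num) hn (by norm_num) (by norm_num) (by norm_num) (by decide +kernel)).elim
  · have hn : Nat.card K = 2926 := hd.trans (by norm_num)
    exact (kill_two_odd hn (by norm_num) (by norm_num)).elim
  · have hn : Nat.card K = 3135 := hd.trans (by norm_num)
    exact (kill_sylow hK (p := 5) (q := 3) (by norm_num) hn (by norm_num) (by norm_num) (by norm_num) (by norm_num) (by decide +kernel)).elim
  · have hn : Nat.card K = 3192 := hd.trans (by norm_num)
    exact (kill_sylow hK (p := 19) (q := 2) (by norm_num) hn (by norm_num) (by norm_num) (by norm_num) (by norm_num) (by decide +kernel)).elim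
  · have hn : Nat.card K = 3990 := hd.trans (by norm_num)
    exact (kill_two_odd hn (by norm_num) (by norm_num)).elim
  · have hn : Nat.card K = 4180 := hd.trans (by norm_num)
    exact (kill_sylow hK (p := 11) (q := 2) (by norm_num) hn (by norm_num) (by norm_num) (by norm_num) (by norm_num) (by decide +kernel)).elim
  · have hn : Nat.card K = 4389 := hd.trans (by norm_num)
    exact (kill_par hK (p := 3) (by norm_num) hn (by norm_num) (by norm_num) (by norm_num) (by decide +kernel)).elim
  · have hn : Nat.card K = 5016 := hd.trans (by norm_num)
    exact (kill_sylow hK (p := 11) (q := 2) (by norm_num) hn (by norm_num) (by norm_num) (by norm_num) (by norm_num) (by decide +kernel)).elim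
  · have hn : Nat.card K = 5320 := hd.trans (by norm_num)
    exact (kill_par hK (p := 19) (by norm_num) hn (by norm_num) (by norm_num) (by norm_num) (by decide +kernel)).elim
  · have hn : Nat.card K = 5852 := hd.trans (by norm_num)
    exact (kill_par hK (p := 7) (by norm_num) hn (by norm_num) (by norm_num) (by norm_num) (by decide +kernel)).elim
  · have hn : Nat.card K = 6270 := hd.trans (by norm_num)
    exact (kill_two_odd hn (by norm_num) (by norm_num)).elim
  · have hn : Nat.card K = 7315 := hd.trans (by norm_num)
    exact (kill_sylow hK (p := 5) (q := 7) (by norm_num) hn (by norm_num) (by norm_num) (by norm_num) (by norm_num) (by decide +kernel)).elim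
  · have hn : Nat.card K = 7980 := hd.trans (by norm_num)
    exact (Cfsg.Agent.Lib.Helper2.Ord.ns_7980 hK hn).elim
  · have hn : Nat.card K = 8360 := hd.trans (by norm_num)
    exact (kill_par hK (p := 11) (by norm_num) hn (by norm_num) (by norm_num) (by norm_num) (by decide +kernel)).elim
  · have hn : Nat.card K = 8778 := hd.trans (by norm_num)
    exact (kill_two_odd hn (by norm_num) (by norm_num)).elim
  · have hn : Nat.card K = 11704 := hd.trans (by norm_num)
    exact (kill_par hK (p := 7) (by norm_num) hn (by norm_num) (by norm_num) (by norm_num) (by decide +kernel)).elim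
  · have hn : Nat.card K = 12540 := hd.trans (by norm_num)
    exact (kill_sylow hK (p := 11) (q := 2) (by norm_num) hn (by norm_num) (by norm_num) (by norm_num) (by norm_num) (by decide +kernel)).elim
  · have hn : Nat.card K = 14630 := hd.trans (by norm_num)
    exact (kill_two_odd hn (by norm_num) (by norm_num)).elim
  · have hn : Nat.card K = 15960 := hd.trans (by norm_num)
    exact (kill_par hK (p := 19) (by norm_num) hn (by norm_num) (by norm_num) (by norm_num) (by decide +kernel)).elim
  · have hn : Nat.card K = 17556 := hd.trans (by norm_num)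
    exact (Cfsg.Agent.Lib.Helper2.Ord.ns_17556 hK hn).elim
  · have hn : Nat.card K = 21945 := hd.trans (by norm_num)
    exact (kill_par hK (p := 3) (by norm_num) hn (by norm_num) (by norm_num) (by norm_num) (by decide +kernel)).elim
  · have hn : Nat.card K = 25080 := hd.trans (by norm_num)
    exact (kill_par hK (p := 11) (by norm_num) hn (by norm_num) (by norm_num) (by norm_num) (by decide +kernel)).elim
  · have hn : Nat.card K = 29260 := hd.trans (by norm_num)
    exact (kill_par hK (p := 19) (by norm_num) hn (by norm_num) (by norm_num) (by norm_num) (by decide +kernel)).elim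
  · have hn : Nat.card K = 35112 := hd.trans (by norm_num)
    exact (Cfsg.Agent.Lib.Helper2.Ord.ns_35112 hK hn).elim
  · have hn : Nat.card K = 43890 := hd.trans (by norm_num)
    exact (kill_two_odd hn (by norm_num) (by norm_num)).elim
  · have hn : Nat.card K = 58520 := hd.trans (by norm_num)
    exact (Cfsg.Agent.Lib.Helper2.Ord.ns_58520 hK hn).elim
  · have hn : Nat.card K = 87780 := hd.trans (by norm_num)
    exact (Cfsg.Agent.Lib.Helper2.Ord.ns_87780 hK hn).elim
  · omega

end Cfsg.Agent.Lib.Helper2.Sy19

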