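import Mathlib
import Cfsg.Prelude

set_option autoImplicit false
set_option linter.unusedSectionVars false
set_option linter.unusedVariables false
open Cfsg

/-! Sylow `2`-subgroups of `Ω_n(q)`, `q` odd: abstract group theory.  A group generated by
involutions has an elementary abelian abelianisation; a criterion for the kernel of a
homomorphism to be generated by involutions. -/

namespace Cfsg.Agent.Lib.Helper2.Sy2

section abs

variable {G : Type*} [Group G]

/-- the involutions of `S` lying in `K` -/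
def invSet (S K : Subgroup G) : Set G := {g | g ∈ S ∧ g ∈ K ∧ g * g = 1}

theorem invSet_subset (S K : Subgroup G) : invSet S K ⊆ (S ⊓ K : Subgroup G) :=
  fun g hg => ⟨hg.1, hg.2.1⟩

theorem closure_invSet_le (S K : Subgroup G) : Subgroup.closure (invSet S K) ≤ S ⊓ K :=
  (Subgroup.closure_le _).mpr (invSet_subset S K)

/-- the subgroup generated by the involutions of `S ⊓ K` is normalised by `S`, for `K` normal -/
theorem conj_mem_closure_invSet (S K : Subgroup G) [K.Normal] {s n : G} (hs : s ∈ S)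
    (hn : n ∈ Subgroup.closure (invSet S K)) : s * n * s⁻¹ ∈ Subgroup.closure (invSet S K) := by
  induction hn using Subgroup.closure_induction with
  | mem g hg =>
    apply Subgroup.subset_closure
    refine ⟨S.mul_mem (S.mul_mem hs hg.1) (S.inv_mem hs), ?_, ?_⟩
    · exact Subgroup.Normal.conj_mem inferInstance g hg.2.1 s
    · calc s * g * s⁻¹ * (s * g * s⁻¹) = s * (g * g) * s⁻¹ := by group
        _ = 1 := by rw [hg.2.2, mul_one, mul_inv_cancel]
  | one => rw [mul_one, mul_inv_cancel]; exact one_mem _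
  | mul a b _ _ ha hb =>
    have : s * (a * b) * s⁻¹ = (s * a * s⁻¹) * (s * b * s⁻¹) := by group
    rw [this]
    exact mul_mem ha hb
  | inv a _ ha =>
    have : s * a⁻¹ * s⁻¹ = (s * a * s⁻¹)⁻¹ := by group
    rw [this]
    exact inv_mem ha

/-- **criterion for generation by involutions**: `S` is generated by a set `X` of involutions
with two possible values `a`, `b` under `θ`, closed under conjugation, and by involutions of
`S ⊓ ker θ`; products of two elements of `X` with the same value are products of involutions of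
`S ⊓ ker θ`.  Then `S ⊓ ker θ` is generated by involutions. -/
theorem gen_by_inv {A : Type*} [CommGroup A] (θ : G →* A) (S : Subgroup G) (X : Set G) (a b : A)
    (ha : a ≠ 1) (hb : b ≠ 1) (hab : a * b ≠ 1)
    (hXS : X ⊆ S) (hXθ : ∀ x ∈ X, θ x = a ∨ θ x = b)
    (hconj : ∀ x ∈ X, ∀ x' ∈ X, x' * x * x'⁻¹ ∈ X)
    (hgen : (S : Set G) ⊆ Subgroup.closure (X ∪ invSet S θ.ker))
    (hprod : ∀ x ∈ X, ∀ x' ∈ X, θ x = θ x' → x * x' ∈ Subgroup.closure (invSet S θ.ker)) :
    S ⊓ θ.ker ≤ Subgroup.closure (invSet S θ.ker) := by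
  obtain ⟨N, hN⟩ : ∃ N : Subgroup G, N = Subgroup.closure (invSet S θ.ker) := ⟨_, rfl⟩
  rw [← hN] at hprod ⊢
  have hNS : N ≤ S ⊓ θ.ker := by rw [hN]; exact closure_invSet_le S θ.ker
  have hNn : ∀ s ∈ S, ∀ n ∈ N, s * n * s⁻¹ ∈ N := by
    intro s hs n hn
    rw [hN] at hn ⊢
    exact conj_mem_closure_invSet S θ.ker hs hn
  have hx2 : ∀ x ∈ X, x * x ∈ N := fun x hx => hprod x hx x hx rfl
  -- the three kinds of cosets
  have key : ∀ g ∈ Subgroup.closure (X ∪ invSet S θ.ker),
      g ∈ N ∨ (∃ n ∈ N, ∃ x ∈ X, g = n * x) ∨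
        (∃ n ∈ N, ∃ x ∈ X, ∃ x' ∈ X, θ x = a ∧ θ x' = b ∧ g = n * x * x') := by
    intro g hg
    have step : ∀ (w : G), (w ∈ N ∨ (∃ n ∈ N, ∃ x ∈ X, w = n * x) ∨
        (∃ n ∈ N, ∃ x ∈ X, ∃ x' ∈ X, θ x = a ∧ θ x' = b ∧ w = n * x * x')) →
        ∀ y ∈ X ∪ invSet S θ.ker, ((w * y) ∈ N ∨ (∃ n ∈ N, ∃ x ∈ X, w * y = n * x) ∨
        (∃ n ∈ N, ∃ x ∈ X, ∃ x' ∈ X, θ x = a ∧ θ x' = b ∧ w * y = n * x * x')) := by
      intro w hw y hy
      rcases hy with hy | hy
      · -- `y ∈ X`
        rcases hw with hw | ⟨n, hn, x, hx, rfl⟩ | ⟨n, hn, x, hx, x', hx', hxa, hxb, rfl⟩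
        · exact Or.inr (Or.inl ⟨w, hw, y, hy, rfl⟩)
        · by_cases hθ : θ x = θ y
          · left
            rw [mul_assoc]
            exact N.mul_mem hn (hprod x hx y hy hθ)
          · rcases hXθ x hx with h1 | h1 <;> rcases hXθ y hy with h3 | h3
            · exact absurd (h1.trans h3.symm) hθ
            · exact Or.inr (Or.inr ⟨n, hn, x, hx, y, hy, h1, h3, rfl⟩)
            · -- `θ x = b`, `θ y = a`
              right; right
              refine ⟨n, hn, x * y * x⁻¹, hconj y hy x hx, x, hx, ?_, h1, ?_⟩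
              · rw [map_mul, map_mul, map_inv, mul_comm (θ x), mul_inv_cancel_right, h3]
              · group
            · exact absurd (h1.trans h3.symm) hθ
        · rcases hXθ y hy with h3 | h3
          · -- `θ y = a`: `x x' y = (x (x' y x'⁻¹)) x'`
            right; left
            have h5 : x' * y * x'⁻¹ ∈ X := hconj y hy x' hx'
            have h6 : θ (x' * y * x'⁻¹) = a := by
              rw [map_mul, map_mul, map_inv, mul_comm (θ x'), mul_inv_cancel_right, h3]
            refine ⟨n * (x * (x' * y * x'⁻¹)), N.mul_mem hn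
              (hprod x hx _ h5 (hxa.trans h6.symm)), x', hx', ?_⟩
            group
          · -- `θ y = b`
            right; left
            have h5 : x' * y ∈ N := hprod x' hx' y hy (hxb.trans h3.symm)
            refine ⟨n * (x * (x' * y) * x⁻¹), N.mul_mem hn (hNn x (hXS hx) _ h5), x, hx, ?_⟩
            group
      · -- `y` an involution of `S ⊓ ker θ`
        have hyN : y ∈ N := by rw [hN]; exact Subgroup.subset_closure hy
        rcases hw with hw | ⟨n, hn, x, hx, rfl⟩ | ⟨n, hn, x, hx, x', hx', hxa, hxb, rfl⟩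
        · exact Or.inl (N.mul_mem hw hyN)
        · right; left
          refine ⟨n * (x * y * x⁻¹), N.mul_mem hn (hNn x (hXS hx) y hyN), x, hx, ?_⟩
          group
        · right; right
          have hxx' : x * x' ∈ S := S.mul_mem (hXS hx) (hXS hx')
          refine ⟨n * ((x * x') * y * (x * x')⁻¹), N.mul_mem hn (hNn _ hxx' y hyN), x, hx, x', hx',
            hxa, hxb, ?_⟩
          group
    have hinvmem : ∀ y ∈ X ∪ invSet S θ.ker, ∃ n ∈ N, y⁻¹ = y * n := by
      intro y hy
      rcases hy with hy | hy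
      · refine ⟨(y * y)⁻¹, N.inv_mem (hx2 y hy), ?_⟩
        group
      · refine ⟨1, one_mem _, ?_⟩
        rw [mul_one]
        exact inv_eq_of_mul_eq_one_right hy.2.2
    induction hg using Subgroup.closure_induction_right with
    | one => exact Or.inl (one_mem _)
    | mul_right w _ y hy ih => exact step w ih y hy
    | mul_inv_cancel w _ y hy ih =>
      -- `w * y⁻¹ = w * y * n`
      obtain ⟨n, hn, hyn⟩ := hinvmem y hy
      have h1 := step w ih y hy
      rw [hyn, ← mul_assoc]
      -- multiplying on the right by an element of `N`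
      have hwS : ∀ v : G, (v ∈ N ∨ (∃ n ∈ N, ∃ x ∈ X, v = n * x) ∨
          (∃ n ∈ N, ∃ x ∈ X, ∃ x' ∈ X, θ x = a ∧ θ x' = b ∧ v = n * x * x')) →
          (v * n ∈ N ∨ (∃ n' ∈ N, ∃ x ∈ X, v * n = n' * x) ∨
          (∃ n' ∈ N, ∃ x ∈ X, ∃ x' ∈ X, θ x = a ∧ θ x' = b ∧ v * n = n' * x * x')) := by
        intro v hv
        rcases hv with hv | ⟨m, hm, x, hx, rfl⟩ | ⟨m, hm, x, hx, x', hx', hxa, hxb, rfl⟩
        · exact Or.inl (N.mul_mem hv hn)
        · right; left
          refine ⟨m * (x * n * x⁻¹), N.mul_mem hm (hNn x (hXS hx) n hn), x, hx, ?_⟩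
          group
        · right; right
          have hxx' : x * x' ∈ S := S.mul_mem (hXS hx) (hXS hx')
          refine ⟨m * ((x * x') * n * (x * x')⁻¹), N.mul_mem hm (hNn _ hxx' n hn), x, hx, x', hx',
            hxa, hxb, ?_⟩
          group
      exact hwS _ h1
  intro g hg
  have hgk : θ g = 1 := MonoidHom.mem_ker.mp hg.2
  have hNk : ∀ n ∈ N, θ n = 1 := fun n hn => MonoidHom.mem_ker.mp (hNS hn).2
  rcases key g (hgen hg.1) with h | ⟨n, hn, x, hx, rfl⟩ | ⟨n, hn, x, hx, x', hx', hxa, hxb, rfl⟩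
  · exact h
  · exfalso
    rw [map_mul, hNk n hn, one_mul] at hgk
    rcases hXθ x hx with h1 | h1
    · exact ha (h1.symm.trans hgk)
    · exact hb (h1.symm.trans hgk)
  · exfalso
    rw [map_mul, map_mul, hNk n hn, one_mul, hxa, hxb] at hgk
    exact hab hgk

/-- a group generated by involutions has an abelianisation of exponent two -/
theorem ab_sq_of_gen_inv (P : Subgroup G)
    (h : P ≤ Subgroup.closure {g | g ∈ P ∧ g * g = 1}) (x : ↥P) :
    (Abelianization.of x : Abelianization ↥P) ^ 2 = 1 := by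
  have key : ∀ g ∈ Subgroup.closure {g | g ∈ P ∧ g * g = 1},
      ∃ hg : g ∈ P, (Abelianization.of (⟨g, hg⟩ : ↥P) : Abelianization ↥P) ^ 2 = 1 := by
    intro g hg
    induction hg using Subgroup.closure_induction with
    | mem g hg =>
      refine ⟨hg.1, ?_⟩
      rw [pow_two, ← map_mul]
      have : (⟨g, hg.1⟩ : ↥P) * ⟨g, hg.1⟩ = 1 := Subtype.ext hg.2
      rw [this, map_one]
    | one => exact ⟨one_mem _, by rw [show (⟨1, one_mem _⟩ : ↥P) = 1 from rfl, map_one, one_pow]⟩
    | mul u v _ _ hu hv =>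
      obtain ⟨hu1, hu2⟩ := hu
      obtain ⟨hv1, hv2⟩ := hv
      refine ⟨mul_mem hu1 hv1, ?_⟩
      have : (⟨u * v, mul_mem hu1 hv1⟩ : ↥P) = ⟨u, hu1⟩ * ⟨v, hv1⟩ := rfl
      rw [this, map_mul, mul_pow, hu2, hv2, one_mul]
    | inv u _ hu =>
      obtain ⟨hu1, hu2⟩ := hu
      refine ⟨inv_mem hu1, ?_⟩
      have : (⟨u⁻¹, inv_mem hu1⟩ : ↥P) = (⟨u, hu1⟩ : ↥P)⁻¹ := rfl
      rw [this, map_inv, inv_pow, hu2, inv_one]
  obtain ⟨_, h2⟩ := key x.1 (h x.2)
  exact h2

/-- the property transported along an isomorphism -/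
theorem ab_sq_of_equiv {H H' : Type*} [Group H] [Group H'] (e : H ≃* H')
    (h : ∀ y : H', (Abelianization.of y : Abelianization H') ^ 2 = 1) (x : H) :
    (Abelianization.of x : Abelianization H) ^ 2 = 1 := by
  have h1 := h (e x)
  apply (MulEquiv.abelianizationCongr e).injective
  rw [map_pow, map_one]
  exact h1

theorem sq_mem_commutator_of_ab_sq {H : Type*} [Group H] (x : H)
    (h : (Abelianization.of x : Abelianization H) ^ 2 = 1) : x ^ 2 ∈ commutator H := by
  rw [← Abelianization.ker_of, MonoidHom.mem_ker, map_pow]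
  exact h

end abs

section sylow

/-- some Sylow `2`-subgroup `S` of `G` has `S ⊓ G'` generated by involutions -/
def SylGen (G : Type*) [Group G] : Prop :=
  ∃ S : Subgroup G, Nat.card S = 2 ^ (Nat.card G).factorization 2 ∧
    S ⊓ commutator G ≤ Subgroup.closure (invSet S (commutator G))

theorem map_commutator_equiv {G G' : Type*} [Group G] [Group G'] (e : G ≃* G') :
    (commutator G).map e.toMonoidHom = commutator G' := by
  rw [commutator_def, commutator_def, Subgroup.map_commutator,
    Subgroup.map_top_of_surjective _ e.surjective]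

theorem SylGen.of_equiv {G G' : Type*} [Group G] [Group G'] (e : G ≃* G') (h : SylGen G) :
    SylGen G' := by
  obtain ⟨S, hS, hgen⟩ := h
  refine ⟨S.map e.toMonoidHom, ?_, ?_⟩
  · rw [← Nat.card_congr e.toEquiv, ← hS]
    exact (Nat.card_congr (S.equivMapOfInjective e.toMonoidHom e.injective).toEquiv).symm
  · rintro g' ⟨⟨g, hg, rfl⟩, hg'⟩
    have hgc : g ∈ commutator G := by
      rw [← map_commutator_equiv e] at hg'
      obtain ⟨g₁, hg₁, h1⟩ := hg'
      have : g₁ = g := e.injective h1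
      rw [← this]
      exact hg₁
    have h1 := hgen ⟨hg, hgc⟩
    have h2 : e.toMonoidHom g ∈ (Subgroup.closure (invSet S (commutator G))).map e.toMonoidHom :=
      Subgroup.mem_map_of_mem _ h1
    rw [MonoidHom.map_closure] at h2
    refine Subgroup.closure_mono ?_ h2
    rintro _ ⟨u, ⟨hu1, hu2, hu3⟩, rfl⟩
    refine ⟨Subgroup.mem_map_of_mem _ hu1, ?_, ?_⟩
    · rw [← map_commutator_equiv e]
      exact Subgroup.mem_map_of_mem _ hu2
    · rw [← map_mul, hu3, map_one]

/-- **the conclusion**: the abelianisation of every Sylow `2`-subgroup of `G'` is elementary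
abelian -/
theorem SylGen.conclusion {G : Type*} [Group G] [Finite G] (h : SylGen G)
    (P : Sylow 2 ↥(commutator G)) (x : ↥(P : Subgroup ↥(commutator G))) :
    x ^ 2 ∈ commutator ↥(P : Subgroup ↥(commutator G)) := by
  haveI : Fact (Nat.Prime 2) := ⟨Nat.prime_two⟩
  obtain ⟨S, hS, hgen⟩ := h
  obtain ⟨S₀, hS₀⟩ : ∃ S₀ : Sylow 2 G, (S₀ : Subgroup G) = S := ⟨Sylow.ofCard S hS, rfl⟩
  obtain ⟨Q, hQ⟩ := Sylow.exists_comap_subtype_eq P
  obtain ⟨g, hg⟩ := MulAction.exists_smul_eq G S₀ Q
  have hmemQ : ∀ u : G, u ∈ (Q : Subgroup G) ↔ g⁻¹ * u * g ∈ S := by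
    intro u
    rw [← hg, Sylow.coe_subgroup_smul, Subgroup.mem_pointwise_smul_iff_inv_smul_mem, hS₀,
      MulAut.smul_def, ← map_inv, MulAut.conj_apply, inv_inv]
  obtain ⟨R, hR⟩ : ∃ R : Subgroup G, R = (Q : Subgroup G) ⊓ commutator G := ⟨_, rfl⟩
  have hRgen : R ≤ Subgroup.closure {u | u ∈ R ∧ u * u = 1} := by
    intro u hu
    rw [hR] at hu
    have h1 : g⁻¹ * u * g ∈ S ⊓ commutator G := by
      refine ⟨(hmemQ u).mp hu.1, ?_⟩
      have := Subgroup.Normal.conj_mem (inferInstance : (commutator G).Normal) u hu.2 g⁻¹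
      rwa [inv_inv] at this
    have h2 := hgen h1
    have key : ∀ v ∈ Subgroup.closure (invSet S (commutator G)),
        g * v * g⁻¹ ∈ Subgroup.closure {u | u ∈ R ∧ u * u = 1} := by
      intro v hv
      induction hv using Subgroup.closure_induction with
      | mem w hw =>
        apply Subgroup.subset_closure
        refine ⟨?_, ?_⟩
        · rw [hR]
          refine ⟨?_, Subgroup.Normal.conj_mem inferInstance w hw.2.1 g⟩
          apply (hmemQ (g * w * g⁻¹)).mpr
          have : g⁻¹ * (g * w * g⁻¹) * g = w := by group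
          rw [this]
          exact hw.1
        · calc g * w * g⁻¹ * (g * w * g⁻¹) = g * (w * w) * g⁻¹ := by group
            _ = 1 := by rw [hw.2.2, mul_one, mul_inv_cancel]
      | one => rw [mul_one, mul_inv_cancel]; exact one_mem _
      | mul a b _ _ ha hb =>
        have : g * (a * b) * g⁻¹ = (g * a * g⁻¹) * (g * b * g⁻¹) := by group
        rw [this]
        exact mul_mem ha hb
      | inv a _ ha =>
        have : g * a⁻¹ * g⁻¹ = (g * a * g⁻¹)⁻¹ := by group
        rw [this]
        exact inv_mem ha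
    have h3 := key _ h2
    have : g * (g⁻¹ * u * g) * g⁻¹ = u := by group
    rwa [this] at h3
  have hab := ab_sq_of_gen_inv R hRgen
  have hPR : (P : Subgroup ↥(commutator G)) = R.subgroupOf (commutator G) := by
    rw [hR, Subgroup.inf_subgroupOf_right, ← hQ]
    rfl
  have hRle : R ≤ commutator G := by rw [hR]; exact inf_le_right
  have e : ↥(P : Subgroup ↥(commutator G)) ≃* ↥R :=
    (MulEquiv.subgroupCongr hPR).trans (Subgroup.subgroupOfEquivOfLe hRle)
  exact sq_mem_commutator_of_ab_sq x (ab_sq_of_equiv e hab x)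

end sylow

end Cfsg.Agent.Lib.Helper2.Sy2
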