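import Mathlib
import Cfsg.Prelude
import Cfsg.Agent.Lib.Helper2.Sy2A
import Cfsg.Agent.Lib.Helper5.OrthSumDiag

set_option autoImplicit false
set_option linter.unusedSectionVars false
set_option linter.unusedVariables false
open Cfsg

/-! Sylow `2`-subgroups of `Ω_n(q)`, `q` odd: block diagonal isometries of an orthogonal sum, the
swap of the summands of `Q ⊕ Q`, and their spinor norms. -/

namespace Cfsg.Agent.Lib.Helper2.Sy2

open Matrix QuadraticMap Module Cfsg.Agent.Lib.Helper5.CartanDieudonne Cfsg.Agent.Lib.Helper5.Refl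
  Cfsg.Agent.Lib.Helper5.SpinorNorm Cfsg.Agent.Lib.Helper5.OrthSum
  Cfsg.Agent.Lib.Helper5.OrthSumDiag Cfsg.Agent.Lib.Helper5.OrthCard

section blk

variable {ι₁ ι₂ : Type} [Fintype ι₁] [DecidableEq ι₁] [Fintype ι₂] [DecidableEq ι₂]
  {F : Type*} [Field F]
  (Q₁ : QuadraticForm F (ι₁ → F)) (Q₂ : QuadraticForm F (ι₂ → F))

/-- isometries are determined by their action -/
theorem isom_ext {ι : Type} [Fintype ι] [DecidableEq ι] (Q : QuadraticForm F (ι → F))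
    {g h : ↥(isometryGroup F ⇑Q)}
    (H : ∀ v, ((g : Matrix.GeneralLinearGroup ι F) : Matrix ι ι F) *ᵥ v =
      ((h : Matrix.GeneralLinearGroup ι F) : Matrix ι ι F) *ᵥ v) : g = h := by
  apply Subtype.ext
  apply Units.ext
  rw [ext_iff_mulVec]
  exact H

/-- the block diagonal isometry `g₁ ⊕ g₂` -/
noncomputable def blk (g₁ : ↥(isometryGroup F ⇑Q₁)) (g₂ : ↥(isometryGroup F ⇑Q₂)) :
    ↥(isometryGroup F ⇑(sumForm Q₁ Q₂)) :=
  ⟨⟨Matrix.fromBlocks ((g₁ : Matrix.GeneralLinearGroup ι₁ F) : Matrix ι₁ ι₁ F) 0 0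
      ((g₂ : Matrix.GeneralLinearGroup ι₂ F) : Matrix ι₂ ι₂ F),
    Matrix.fromBlocks (((g₁ : Matrix.GeneralLinearGroup ι₁ F)⁻¹ :
      Matrix.GeneralLinearGroup ι₁ F) : Matrix ι₁ ι₁ F) 0 0
      (((g₂ : Matrix.GeneralLinearGroup ι₂ F)⁻¹ :
      Matrix.GeneralLinearGroup ι₂ F) : Matrix ι₂ ι₂ F),
    by
      rw [Matrix.fromBlocks_multiply]
      simp [Matrix.fromBlocks_one],
    by
      rw [Matrix.fromBlocks_multiply]
      simp [Matrix.fromBlocks_one]⟩,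
    fun u _ => by
      show sumForm Q₁ Q₂ (Matrix.fromBlocks
        ((g₁ : Matrix.GeneralLinearGroup ι₁ F) : Matrix ι₁ ι₁ F) 0 0
        ((g₂ : Matrix.GeneralLinearGroup ι₂ F) : Matrix ι₂ ι₂ F) *ᵥ u) = sumForm Q₁ Q₂ u
      rw [Matrix.fromBlocks_mulVec, sumForm_elim, sumForm_apply]
      simp only [Matrix.zero_mulVec, add_zero, zero_add]
      congr 1
      · exact quad_act Q₁ g₁ _
      · exact quad_act Q₂ g₂ _⟩

theorem blk_coe (g₁ : ↥(isometryGroup F ⇑Q₁)) (g₂ : ↥(isometryGroup F ⇑Q₂)) :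
    ((blk Q₁ Q₂ g₁ g₂ : Matrix.GeneralLinearGroup (ι₁ ⊕ ι₂) F) :
      Matrix (ι₁ ⊕ ι₂) (ι₁ ⊕ ι₂) F) =
      Matrix.fromBlocks ((g₁ : Matrix.GeneralLinearGroup ι₁ F) : Matrix ι₁ ι₁ F) 0 0
        ((g₂ : Matrix.GeneralLinearGroup ι₂ F) : Matrix ι₂ ι₂ F) := rfl

theorem blk_mul (g₁ h₁ : ↥(isometryGroup F ⇑Q₁)) (g₂ h₂ : ↥(isometryGroup F ⇑Q₂)) :
    blk Q₁ Q₂ g₁ g₂ * blk Q₁ Q₂ h₁ h₂ = blk Q₁ Q₂ (g₁ * h₁) (g₂ * h₂) := by
  apply Subtype.ext
  apply Units.ext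
  show Matrix.fromBlocks _ 0 0 _ * Matrix.fromBlocks _ 0 0 _ = Matrix.fromBlocks _ 0 0 _
  rw [Matrix.fromBlocks_multiply]
  simp only [Matrix.mul_zero, Matrix.zero_mul, add_zero, zero_add]
  rfl

theorem blk_one : blk Q₁ Q₂ 1 1 = 1 := by
  apply Subtype.ext
  apply Units.ext
  show Matrix.fromBlocks (1 : Matrix ι₁ ι₁ F) 0 0 (1 : Matrix ι₂ ι₂ F) = 1
  rw [Matrix.fromBlocks_one]

/-- the block diagonal embedding -/
noncomputable def blkHom :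
    ↥(isometryGroup F ⇑Q₁) × ↥(isometryGroup F ⇑Q₂) →* ↥(isometryGroup F ⇑(sumForm Q₁ Q₂)) where
  toFun p := blk Q₁ Q₂ p.1 p.2
  map_one' := blk_one Q₁ Q₂
  map_mul' p p' := (blk_mul Q₁ Q₂ p.1 p'.1 p.2 p'.2).symm

theorem blkHom_apply (p : ↥(isometryGroup F ⇑Q₁) × ↥(isometryGroup F ⇑Q₂)) :
    blkHom Q₁ Q₂ p = blk Q₁ Q₂ p.1 p.2 := rfl

theorem blk_injective {g₁ h₁ : ↥(isometryGroup F ⇑Q₁)} {g₂ h₂ : ↥(isometryGroup F ⇑Q₂)}
    (h : blk Q₁ Q₂ g₁ g₂ = blk Q₁ Q₂ h₁ h₂) : g₁ = h₁ ∧ g₂ = h₂ := by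
  have h1 := congrArg (fun x : ↥(isometryGroup F ⇑(sumForm Q₁ Q₂)) =>
    ((x : Matrix.GeneralLinearGroup (ι₁ ⊕ ι₂) F) : Matrix (ι₁ ⊕ ι₂) (ι₁ ⊕ ι₂) F)) h
  simp only [blk_coe] at h1
  rw [Matrix.fromBlocks_inj] at h1
  exact ⟨Subtype.ext (Units.ext h1.1), Subtype.ext (Units.ext h1.2.2.2)⟩

theorem blkHom_injective : Function.Injective (blkHom Q₁ Q₂) := by
  rintro ⟨g₁, g₂⟩ ⟨h₁, h₂⟩ h
  obtain ⟨e1, e2⟩ := blk_injective Q₁ Q₂ h
  exact Prod.ext e1 e2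

variable [Fintype F]

/-- **the invariant `(det, spinor norm)` is multiplicative on blocks** -/
theorem theta_blk (h2 : (2 : F) ≠ 0) (h₁ : (polarBilin Q₁).Nondegenerate)
    (h₂ : (polarBilin Q₂).Nondegenerate) (hs : (polarBilin (sumForm Q₁ Q₂)).Nondegenerate)
    (g₁ : ↥(isometryGroup F ⇑Q₁)) (g₂ : ↥(isometryGroup F ⇑Q₂)) :
    theta (sumForm Q₁ Q₂) h2 hs (blk Q₁ Q₂ g₁ g₂) = theta Q₁ h2 h₁ g₁ * theta Q₂ h2 h₂ g₂ := by
  obtain ⟨vs, hvs⟩ := exists_rep Q₁ h2 h₁ g₁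
  obtain ⟨ws, hws⟩ := exists_rep Q₂ h2 h₂ g₂
  have hne1 := ne_inl Q₁ Q₂ hvs.1
  have hne2 := ne_inr Q₁ Q₂ hws.1
  have hrep : IsRep (sumForm Q₁ Q₂) (blk Q₁ Q₂ g₁ g₂)
      (vs.map (fun v => Sum.elim v (0 : ι₂ → F)) ++ ws.map (fun w => Sum.elim (0 : ι₁ → F) w)) := by
    refine ⟨?_, ?_⟩
    · intro v hv
      rcases List.mem_append.mp hv with h | h
      · exact hne1 v h
      · exact hne2 v h
    · rw [rprod_append, rprod_inl, rprod_inr, Matrix.fromBlocks_multiply, blk_coe, ← hvs.2,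
        ← hws.2]
      simp
  rw [theta_eq _ h2 hs _ _ hrep, theta_eq Q₁ h2 h₁ g₁ vs hvs, theta_eq Q₂ h2 h₂ g₂ ws hws,
    inv2_append _ _ _ hne1 hne2]
  unfold inv2
  rw [List.length_map, List.length_map, map_sumForm_inl, map_sumForm_inr]

end blk

section swp

variable {ι : Type} [Fintype ι] [DecidableEq ι] {F : Type*} [Field F]
  (Q : QuadraticForm F (ι → F))

theorem swap_coe : ((swap Q : Matrix.GeneralLinearGroup (ι ⊕ ι) F) :
    Matrix (ι ⊕ ι) (ι ⊕ ι) F) = Matrix.fromBlocks 0 1 1 0 := rfl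

theorem swap_mul_self : swap Q * swap Q = 1 := by
  apply Subtype.ext
  apply Units.ext
  show Matrix.fromBlocks (0 : Matrix ι ι F) 1 1 0 * Matrix.fromBlocks (0 : Matrix ι ι F) 1 1 0 = 1
  rw [Matrix.fromBlocks_multiply]
  simp [Matrix.fromBlocks_one]

theorem swap_inv : (swap Q)⁻¹ = swap Q := inv_eq_of_mul_eq_one_right (swap_mul_self Q)

theorem swap_blk (g₁ g₂ : ↥(isometryGroup F ⇑Q)) :
    swap Q * blk Q Q g₁ g₂ * (swap Q)⁻¹ = blk Q Q g₂ g₁ := by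
  rw [swap_inv]
  apply Subtype.ext
  apply Units.ext
  show Matrix.fromBlocks (0 : Matrix ι ι F) 1 1 0 * Matrix.fromBlocks _ 0 0 _ *
    Matrix.fromBlocks (0 : Matrix ι ι F) 1 1 0 = Matrix.fromBlocks _ 0 0 _
  rw [Matrix.fromBlocks_multiply, Matrix.fromBlocks_multiply]
  simp

theorem swap_ne_blk [Nonempty ι] (g₁ g₂ : ↥(isometryGroup F ⇑Q)) : swap Q ≠ blk Q Q g₁ g₂ := by
  intro h
  have h1 := congrArg (fun x : ↥(isometryGroup F ⇑(sumForm Q Q)) =>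
    ((x : Matrix.GeneralLinearGroup (ι ⊕ ι) F) : Matrix (ι ⊕ ι) (ι ⊕ ι) F)) h
  simp only [blk_coe, swap_coe] at h1
  rw [Matrix.fromBlocks_inj] at h1
  obtain ⟨i⟩ : Nonempty ι := inferInstance
  have h3 := congrFun (congrFun h1.2.1 i) i
  rw [Matrix.one_apply_eq, Matrix.zero_apply] at h3
  exact one_ne_zero h3

end swp

section dbl

variable {ι : Type} [Fintype ι] [DecidableEq ι] {F : Type*} [Field F] [Fintype F]
  (Q : QuadraticForm F (ι → F))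

/-- the middle interchange `(a, b | c, d) ↦ (a, c | b, d)` as an isometry of `(Q⊕Q)⊕(Q⊕Q)` -/
theorem exists_mid :
    ∃ c : ↥(isometryGroup F ⇑(sumForm (sumForm Q Q) (sumForm Q Q))),
      ∀ v, ((c : Matrix.GeneralLinearGroup ((ι ⊕ ι) ⊕ (ι ⊕ ι)) F) :
        Matrix ((ι ⊕ ι) ⊕ (ι ⊕ ι)) ((ι ⊕ ι) ⊕ (ι ⊕ ι)) F) *ᵥ v =
        v ∘ (Equiv.sumSumSumComm ι ι ι ι) := by
  obtain ⟨A, hA⟩ := exists_isom_of_linearEquiv (sumForm (sumForm Q Q) (sumForm Q Q))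
    (LinearEquiv.funCongrLeft F F (Equiv.sumSumSumComm ι ι ι ι)) (by
      intro v
      rw [sumForm_apply, sumForm_apply, sumForm_apply, sumForm_apply, sumForm_apply, sumForm_apply]
      have e1 : ((LinearEquiv.funCongrLeft F F (Equiv.sumSumSumComm ι ι ι ι)) v ∘ Sum.inl) ∘
          Sum.inl = (v ∘ Sum.inl) ∘ Sum.inl := by
        funext i; rfl
      have e2 : ((LinearEquiv.funCongrLeft F F (Equiv.sumSumSumComm ι ι ι ι)) v ∘ Sum.inl) ∘
          Sum.inr = (v ∘ Sum.inr) ∘ Sum.inl := by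
        funext i; rfl
      have e3 : ((LinearEquiv.funCongrLeft F F (Equiv.sumSumSumComm ι ι ι ι)) v ∘ Sum.inr) ∘
          Sum.inl = (v ∘ Sum.inl) ∘ Sum.inr := by
        funext i; rfl
      have e4 : ((LinearEquiv.funCongrLeft F F (Equiv.sumSumSumComm ι ι ι ι)) v ∘ Sum.inr) ∘
          Sum.inr = (v ∘ Sum.inr) ∘ Sum.inr := by
        funext i; rfl
      rw [e1, e2, e3, e4]
      ring)
  refine ⟨A, fun v => ?_⟩
  exact hA v

/-- **the swap of a doubled form has trivial invariant** -/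
theorem theta_swap_dbl (h2 : (2 : F) ≠ 0)
    (hss : (polarBilin (sumForm (sumForm Q Q) (sumForm Q Q))).Nondegenerate) :
    theta (sumForm (sumForm Q Q) (sumForm Q Q)) h2 hss (swap (sumForm Q Q)) = 1 := by
  obtain ⟨c, hc⟩ := exists_mid Q
  have hconj : swap (sumForm Q Q) =
      c * blk (sumForm Q Q) (sumForm Q Q) (swap Q) (swap Q) * c⁻¹ := by
    rw [eq_mul_inv_iff_mul_eq]
    apply isom_ext
    intro v
    rw [Subgroup.coe_mul, Subgroup.coe_mul, Units.val_mul, Units.val_mul, ← mulVec_mulVec,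
      ← mulVec_mulVec, hc, hc, swap_coe, blk_coe, swap_coe]
    funext i
    rcases i with (i | i) | (i | i)
    · simp [Matrix.fromBlocks_mulVec, Equiv.sumSumSumComm]
    · simp [Matrix.fromBlocks_mulVec, Equiv.sumSumSumComm]
    · simp [Matrix.fromBlocks_mulVec, Equiv.sumSumSumComm]
    · simp [Matrix.fromBlocks_mulVec, Equiv.sumSumSumComm]
  rw [hconj, map_mul, map_mul, map_inv, mul_comm, inv_mul_cancel_left]
  -- the invariant of `swap ⊕ swap` is a square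
  have hmul : blk (sumForm Q Q) (sumForm Q Q) (swap Q) (swap Q) =
      blk (sumForm Q Q) (sumForm Q Q) (swap Q) 1 * (swap (sumForm Q Q) *
        blk (sumForm Q Q) (sumForm Q Q) (swap Q) 1 * (swap (sumForm Q Q))⁻¹) := by
    rw [swap_blk, blk_mul, mul_one, one_mul]
  rw [hmul, map_mul, map_mul, map_mul, map_inv, mul_comm (theta _ h2 hss (swap (sumForm Q Q))),
    mul_inv_cancel_right]
  have hsq : ∀ x : ℤˣ × ℤˣ, x * x = 1 := by
    rintro ⟨x1, x2⟩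
    rcases Int.units_eq_one_or x1 with rfl | rfl <;> rcases Int.units_eq_one_or x2 with rfl | rfl <;>
      rfl
  exact hsq _

end dbl

end Cfsg.Agent.Lib.Helper2.Sy2
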