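import Mathlib
import Cfsg.Prelude
import Cfsg.Agent.Lib.Helper2.Sy2B

set_option autoImplicit false
set_option linter.unusedSectionVars false
set_option linter.unusedVariables false
open Cfsg

/-! Sylow `2`-subgroups of `Ω_n(q)`, `q` odd: good `2`-subgroups of orthogonal groups (generated
by a conjugation-closed set of involutions of determinant `-1` and by involutions of `Ω`), and
their behaviour under orthogonal sums and extension by an involution. -/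

namespace Cfsg.Agent.Lib.Helper2.Sy2

open Matrix QuadraticMap Module Cfsg.Agent.Lib.Helper5.CartanDieudonne Cfsg.Agent.Lib.Helper5.Refl
  Cfsg.Agent.Lib.Helper5.SpinorNorm Cfsg.Agent.Lib.Helper5.OrthSum
  Cfsg.Agent.Lib.Helper5.OrthSumDiag Cfsg.Agent.Lib.Helper5.OrthCard

/-- the invariant of a reflection of square type -/
def va : ℤˣ × ℤˣ := (-1, 1)
/-- the invariant of a reflection of nonsquare type -/
def vb : ℤˣ × ℤˣ := (-1, -1)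

theorem va_ne_one : va ≠ 1 := by decide
theorem vb_ne_one : vb ≠ 1 := by decide
theorem va_mul_vb_ne_one : va * vb ≠ 1 := by decide
theorem va_mul_va : va * va = 1 := by decide
theorem vb_mul_vb : vb * vb = 1 := by decide

section good

variable {F : Type*} [Field F] [Fintype F] (h2 : (2 : F) ≠ 0)
  {ι : Type} [Fintype ι] [DecidableEq ι] (Q : QuadraticForm F (ι → F))
  (hQ : (polarBilin Q).Nondegenerate)

/-- a good `2`-subgroup of `O(Q)` -/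
structure Good (S : Subgroup ↥(isometryGroup F ⇑Q)) (X : Set ↥(isometryGroup F ⇑Q)) (w : ℕ) :
    Prop where
  pg : IsPGroup 2 ↥S
  card : 2 ^ w ≤ Nat.card ↥S
  sub : X ⊆ S
  inv : ∀ x ∈ X, x * x = 1
  val : ∀ x ∈ X, theta Q h2 hQ x = va ∨ theta Q h2 hQ x = vb
  conj : S ≤ Subgroup.normalizer X
  gen : (S : Set ↥(isometryGroup F ⇑Q)) ⊆
    Subgroup.closure (X ∪ invSet S (theta Q h2 hQ).ker)

/-- `X` contains elements of square type -/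
def HasA (X : Set ↥(isometryGroup F ⇑Q)) : Prop := ∃ x ∈ X, theta Q h2 hQ x = va
/-- `X` contains elements of nonsquare type -/
def HasB (X : Set ↥(isometryGroup F ⇑Q)) : Prop := ∃ x ∈ X, theta Q h2 hQ x = vb

/-- products of two elements of `X` of the same type are products of involutions of `S ⊓ Ω` -/
def Prod2 (S : Subgroup ↥(isometryGroup F ⇑Q)) (X : Set ↥(isometryGroup F ⇑Q)) : Prop :=
  ∀ x ∈ X, ∀ x' ∈ X, theta Q h2 hQ x = theta Q h2 hQ x' →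
    x * x' ∈ Subgroup.closure (invSet S (theta Q h2 hQ).ker)

variable {Q hQ}

theorem invSet_mono {G : Type*} [Group G] {S S' : Subgroup G} (K : Subgroup G) (h : S ≤ S') :
    invSet S K ⊆ invSet S' K := fun g hg => ⟨h hg.1, hg.2.1, hg.2.2⟩

/-- **the conclusion for a good subgroup**: `S ⊓ Ω` is generated by involutions -/
theorem Good.gen_inv {S : Subgroup ↥(isometryGroup F ⇑Q)} {X : Set ↥(isometryGroup F ⇑Q)} {w : ℕ}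
    (G : Good h2 Q hQ S X w) (hP : Prod2 h2 Q hQ S X) :
    S ⊓ (theta Q h2 hQ).ker ≤ Subgroup.closure (invSet S (theta Q h2 hQ).ker) := by
  apply gen_by_inv (theta Q h2 hQ) S X va vb va_ne_one vb_ne_one va_mul_vb_ne_one G.sub G.val
    ?_ G.gen hP
  intro x hx x' hx'
  exact (Subgroup.mem_set_normalizer_iff.mp (G.conj (G.sub hx')) x).mp hx

/-- extension of a good subgroup by an involution of `Ω` normalising it -/
theorem Good.ext {B : Subgroup ↥(isometryGroup F ⇑Q)} {X : Set ↥(isometryGroup F ⇑Q)} {w : ℕ}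
    (G : Good h2 Q hQ B X w) (σ : ↥(isometryGroup F ⇑Q)) (hσ2 : σ * σ = 1)
    (hσθ : theta Q h2 hQ σ = 1) (hσB : σ ∉ B) (hσn : ∀ b ∈ B, σ * b * σ⁻¹ ∈ B)
    (hσX : σ ∈ Subgroup.normalizer X) :
    Good h2 Q hQ (Subgroup.zpowers σ ⊔ B) X (w + 1) := by
  haveI : Fact (Nat.Prime 2) := ⟨Nat.prime_two⟩
  have hσ1 : σ ≠ 1 := fun h => hσB (h ▸ one_mem _)
  have hord : orderOf σ = 2 := orderOf_eq_prime (by rw [pow_two]; exact hσ2) hσ1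
  have hBle : B ≤ Subgroup.zpowers σ ⊔ B := le_sup_right
  have hσS : σ ∈ Subgroup.zpowers σ ⊔ B := le_sup_left (a := Subgroup.zpowers σ) (b := B)
    (Subgroup.mem_zpowers σ)
  refine ⟨?_, ?_, fun x hx => hBle (G.sub hx), G.inv, G.val, ?_, ?_⟩
  · apply IsPGroup.to_sup_of_normal_right' _ G.pg
    · rw [Subgroup.zpowers_le]
      rw [Subgroup.mem_normalizer_iff]
      intro b
      constructor
      · exact hσn b
      · intro hb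
        have h1 := hσn _ hb
        have hσi : σ⁻¹ = σ := inv_eq_of_mul_eq_one_right hσ2
        rw [hσi] at h1
        have : σ * (σ * b * σ) * σ = b := by
          calc σ * (σ * b * σ) * σ = (σ * σ) * b * (σ * σ) := by group
            _ = b := by rw [hσ2, one_mul, mul_one]
        rwa [this] at h1
    · apply IsPGroup.of_card (n := 1)
      rw [Nat.card_zpowers, hord, pow_one]
  · have hdvd := Subgroup.card_dvd_of_le hBle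
    obtain ⟨m, hm⟩ := hdvd
    have hpos : 0 < Nat.card ↥(Subgroup.zpowers σ ⊔ B) := Nat.card_pos
    have hm1 : m ≠ 1 := by
      intro h1
      rw [h1, mul_one] at hm
      have := Subgroup.eq_of_le_of_card_ge hBle (le_of_eq hm)
      exact hσB (this ▸ hσS)
    have hm0 : m ≠ 0 := by
      intro h0
      rw [h0, mul_zero] at hm
      omega
    have hm2 : 2 ≤ m := by omega
    rw [hm, pow_succ]
    exact Nat.mul_le_mul G.card hm2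
  · exact sup_le ((Subgroup.zpowers_le).mpr hσX) G.conj
  · have key : Subgroup.zpowers σ ⊔ B ≤
        Subgroup.closure (X ∪ invSet (Subgroup.zpowers σ ⊔ B) (theta Q h2 hQ).ker) := by
      apply sup_le
      · rw [Subgroup.zpowers_le]
        apply Subgroup.subset_closure
        right
        exact ⟨hσS, MonoidHom.mem_ker.mpr hσθ, hσ2⟩
      · intro b hb
        have h1 := G.gen hb
        refine Subgroup.closure_mono ?_ h1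
        exact Set.union_subset_union_right _ (invSet_mono _ hBle)
    exact key

theorem Prod2.ext {B : Subgroup ↥(isometryGroup F ⇑Q)} {X : Set ↥(isometryGroup F ⇑Q)}
    (hP : Prod2 h2 Q hQ B X) (σ : ↥(isometryGroup F ⇑Q)) :
    Prod2 h2 Q hQ (Subgroup.zpowers σ ⊔ B) X := by
  intro x hx x' hx' h
  exact Subgroup.closure_mono (invSet_mono _ le_sup_right) (hP x hx x' hx' h)

end good

section sum

variable {F : Type*} [Field F] [Fintype F] (h2 : (2 : F) ≠ 0)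
  {ι₁ ι₂ : Type} [Fintype ι₁] [DecidableEq ι₁] [Fintype ι₂] [DecidableEq ι₂]
  {Q₁ : QuadraticForm F (ι₁ → F)} {Q₂ : QuadraticForm F (ι₂ → F)}
  (h₁ : (polarBilin Q₁).Nondegenerate) (h₂ : (polarBilin Q₂).Nondegenerate)
  (hs : (polarBilin (sumForm Q₁ Q₂)).Nondegenerate)

/-- the product of two subgroups, embedded block diagonally -/
noncomputable def prodS (S₁ : Subgroup ↥(isometryGroup F ⇑Q₁))
    (S₂ : Subgroup ↥(isometryGroup F ⇑Q₂)) : Subgroup ↥(isometryGroup F ⇑(sumForm Q₁ Q₂)) :=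
  (S₁.prod S₂).map (blkHom Q₁ Q₂)

/-- the union of two sets, embedded block diagonally -/
def sumX (X₁ : Set ↥(isometryGroup F ⇑Q₁)) (X₂ : Set ↥(isometryGroup F ⇑Q₂)) :
    Set ↥(isometryGroup F ⇑(sumForm Q₁ Q₂)) :=
  (fun x => blk Q₁ Q₂ x 1) '' X₁ ∪ (fun x => blk Q₁ Q₂ 1 x) '' X₂

theorem blk_mem_prodS {S₁ : Subgroup ↥(isometryGroup F ⇑Q₁)}
    {S₂ : Subgroup ↥(isometryGroup F ⇑Q₂)} {g₁ : ↥(isometryGroup F ⇑Q₁)}
    {g₂ : ↥(isometryGroup F ⇑Q₂)} (hg₁ : g₁ ∈ S₁) (hg₂ : g₂ ∈ S₂) :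
    blk Q₁ Q₂ g₁ g₂ ∈ prodS S₁ S₂ :=
  ⟨(g₁, g₂), ⟨hg₁, hg₂⟩, rfl⟩

theorem mem_prodS {S₁ : Subgroup ↥(isometryGroup F ⇑Q₁)}
    {S₂ : Subgroup ↥(isometryGroup F ⇑Q₂)} {g : ↥(isometryGroup F ⇑(sumForm Q₁ Q₂))}
    (hg : g ∈ prodS S₁ S₂) : ∃ g₁ ∈ S₁, ∃ g₂ ∈ S₂, g = blk Q₁ Q₂ g₁ g₂ := by
  obtain ⟨⟨g₁, g₂⟩, ⟨hg₁, hg₂⟩, rfl⟩ := hg
  exact ⟨g₁, hg₁, g₂, hg₂, rfl⟩

theorem card_prodS (S₁ : Subgroup ↥(isometryGroup F ⇑Q₁))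
    (S₂ : Subgroup ↥(isometryGroup F ⇑Q₂)) :
    Nat.card ↥(prodS S₁ S₂) = Nat.card ↥S₁ * Nat.card ↥S₂ := by
  unfold prodS
  rw [← Nat.card_congr ((S₁.prod S₂).equivMapOfInjective (blkHom Q₁ Q₂)
    (blkHom_injective Q₁ Q₂)).toEquiv, Nat.card_congr (Subgroup.prodEquiv S₁ S₂).toEquiv,
    Nat.card_prod]

theorem blk_inv (g₁ : ↥(isometryGroup F ⇑Q₁)) (g₂ : ↥(isometryGroup F ⇑Q₂)) :
    (blk Q₁ Q₂ g₁ g₂)⁻¹ = blk Q₁ Q₂ g₁⁻¹ g₂⁻¹ := by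
  apply inv_eq_of_mul_eq_one_right
  rw [blk_mul, mul_inv_cancel, mul_inv_cancel, blk_one]

/-- the first factor -/
noncomputable def j₁ : ↥(isometryGroup F ⇑Q₁) →* ↥(isometryGroup F ⇑(sumForm Q₁ Q₂)) :=
  (blkHom Q₁ Q₂).comp (MonoidHom.inl _ _)

/-- the second factor -/
noncomputable def j₂ : ↥(isometryGroup F ⇑Q₂) →* ↥(isometryGroup F ⇑(sumForm Q₁ Q₂)) :=
  (blkHom Q₁ Q₂).comp (MonoidHom.inr _ _)

theorem j₁_apply (g : ↥(isometryGroup F ⇑Q₁)) : j₁ (Q₂ := Q₂) g = blk Q₁ Q₂ g 1 := rfl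
theorem j₂_apply (g : ↥(isometryGroup F ⇑Q₂)) : j₂ (Q₁ := Q₁) g = blk Q₁ Q₂ 1 g := rfl

include h₁ h₂

theorem theta_j₁ (g : ↥(isometryGroup F ⇑Q₁)) :
    theta (sumForm Q₁ Q₂) h2 hs (blk Q₁ Q₂ g 1) = theta Q₁ h2 h₁ g := by
  rw [theta_blk Q₁ Q₂ h2 h₁ h₂ hs, map_one, mul_one]

theorem theta_j₂ (g : ↥(isometryGroup F ⇑Q₂)) :
    theta (sumForm Q₁ Q₂) h2 hs (blk Q₁ Q₂ 1 g) = theta Q₂ h2 h₂ g := by
  rw [theta_blk Q₁ Q₂ h2 h₁ h₂ hs, map_one, one_mul]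

theorem j₁_invSet {S₁ : Subgroup ↥(isometryGroup F ⇑Q₁)}
    {S₂ : Subgroup ↥(isometryGroup F ⇑Q₂)} {u : ↥(isometryGroup F ⇑Q₁)}
    (hu : u ∈ invSet S₁ (theta Q₁ h2 h₁).ker) :
    blk Q₁ Q₂ u 1 ∈ invSet (prodS S₁ S₂) (theta (sumForm Q₁ Q₂) h2 hs).ker := by
  refine ⟨blk_mem_prodS hu.1 (one_mem _), ?_, ?_⟩
  · rw [MonoidHom.mem_ker, theta_j₁ h2 h₁ h₂ hs]
    exact MonoidHom.mem_ker.mp hu.2.1
  · rw [blk_mul, hu.2.2, mul_one, blk_one]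

theorem j₂_invSet {S₁ : Subgroup ↥(isometryGroup F ⇑Q₁)}
    {S₂ : Subgroup ↥(isometryGroup F ⇑Q₂)} {u : ↥(isometryGroup F ⇑Q₂)}
    (hu : u ∈ invSet S₂ (theta Q₂ h2 h₂).ker) :
    blk Q₁ Q₂ 1 u ∈ invSet (prodS S₁ S₂) (theta (sumForm Q₁ Q₂) h2 hs).ker := by
  refine ⟨blk_mem_prodS (one_mem _) hu.1, ?_, ?_⟩
  · rw [MonoidHom.mem_ker, theta_j₂ h2 h₁ h₂ hs]
    exact MonoidHom.mem_ker.mp hu.2.1
  · rw [blk_mul, hu.2.2, mul_one, blk_one]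

/-- the image of a closure under the first embedding -/
theorem j₁_closure {S₁ : Subgroup ↥(isometryGroup F ⇑Q₁)}
    {S₂ : Subgroup ↥(isometryGroup F ⇑Q₂)} {u : ↥(isometryGroup F ⇑Q₁)}
    (hu : u ∈ Subgroup.closure (invSet S₁ (theta Q₁ h2 h₁).ker)) :
    blk Q₁ Q₂ u 1 ∈
      Subgroup.closure (invSet (prodS S₁ S₂) (theta (sumForm Q₁ Q₂) h2 hs).ker) := by
  have h1 : j₁ (Q₂ := Q₂) u ∈ (Subgroup.closure (invSet S₁ (theta Q₁ h2 h₁).ker)).map j₁ :=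
    Subgroup.mem_map_of_mem _ hu
  rw [MonoidHom.map_closure] at h1
  refine Subgroup.closure_mono ?_ h1
  rintro _ ⟨v, hv, rfl⟩
  exact j₁_invSet h2 h₁ h₂ hs hv

theorem j₂_closure {S₁ : Subgroup ↥(isometryGroup F ⇑Q₁)}
    {S₂ : Subgroup ↥(isometryGroup F ⇑Q₂)} {u : ↥(isometryGroup F ⇑Q₂)}
    (hu : u ∈ Subgroup.closure (invSet S₂ (theta Q₂ h2 h₂).ker)) :
    blk Q₁ Q₂ 1 u ∈
      Subgroup.closure (invSet (prodS S₁ S₂) (theta (sumForm Q₁ Q₂) h2 hs).ker) := by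
  have h1 : j₂ (Q₁ := Q₁) u ∈ (Subgroup.closure (invSet S₂ (theta Q₂ h2 h₂).ker)).map j₂ :=
    Subgroup.mem_map_of_mem _ hu
  rw [MonoidHom.map_closure] at h1
  refine Subgroup.closure_mono ?_ h1
  rintro _ ⟨v, hv, rfl⟩
  exact j₂_invSet h2 h₁ h₂ hs hv

/-- **the orthogonal sum of two good subgroups is good** -/
theorem Good.sum {S₁ : Subgroup ↥(isometryGroup F ⇑Q₁)} {X₁ : Set ↥(isometryGroup F ⇑Q₁)}
    {w₁ : ℕ} {S₂ : Subgroup ↥(isometryGroup F ⇑Q₂)} {X₂ : Set ↥(isometryGroup F ⇑Q₂)} {w₂ : ℕ}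
    (G₁ : Good h2 Q₁ h₁ S₁ X₁ w₁) (G₂ : Good h2 Q₂ h₂ S₂ X₂ w₂) :
    Good h2 (sumForm Q₁ Q₂) hs (prodS S₁ S₂) (sumX X₁ X₂) (w₁ + w₂) := by
  haveI : Fact (Nat.Prime 2) := ⟨Nat.prime_two⟩
  have fw : ∀ s₁ ∈ S₁, ∀ s₂ ∈ S₂, ∀ n ∈ sumX X₁ X₂,
      blk Q₁ Q₂ s₁ s₂ * n * (blk Q₁ Q₂ s₁ s₂)⁻¹ ∈ sumX X₁ X₂ := by
    intro s₁ hs₁ s₂ hs₂ n hn
    rcases hn with ⟨x, hx, rfl⟩ | ⟨x, hx, rfl⟩
    · left
      refine ⟨s₁ * x * s₁⁻¹, (Subgroup.mem_set_normalizer_iff.mp (G₁.conj hs₁) x).mp hx, ?_⟩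
      show blk Q₁ Q₂ (s₁ * x * s₁⁻¹) 1 = blk Q₁ Q₂ s₁ s₂ * blk Q₁ Q₂ x 1 * (blk Q₁ Q₂ s₁ s₂)⁻¹
      rw [blk_inv, blk_mul, blk_mul, mul_one, mul_inv_cancel]
    · right
      refine ⟨s₂ * x * s₂⁻¹, (Subgroup.mem_set_normalizer_iff.mp (G₂.conj hs₂) x).mp hx, ?_⟩
      show blk Q₁ Q₂ 1 (s₂ * x * s₂⁻¹) = blk Q₁ Q₂ s₁ s₂ * blk Q₁ Q₂ 1 x * (blk Q₁ Q₂ s₁ s₂)⁻¹
      rw [blk_inv, blk_mul, blk_mul, mul_one, mul_inv_cancel]
  refine ⟨?_, ?_, ?_, ?_, ?_, ?_, ?_⟩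
  · obtain ⟨n₁, hn₁⟩ := G₁.pg.exists_card_eq
    obtain ⟨n₂, hn₂⟩ := G₂.pg.exists_card_eq
    apply IsPGroup.of_card (n := n₁ + n₂)
    rw [card_prodS, hn₁, hn₂, pow_add]
  · rw [card_prodS, pow_add]
    exact Nat.mul_le_mul G₁.card G₂.card
  · rintro _ (⟨x, hx, rfl⟩ | ⟨x, hx, rfl⟩)
    · exact blk_mem_prodS (G₁.sub hx) (one_mem _)
    · exact blk_mem_prodS (one_mem _) (G₂.sub hx)
  · rintro _ (⟨x, hx, rfl⟩ | ⟨x, hx, rfl⟩)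
    · show blk Q₁ Q₂ x 1 * blk Q₁ Q₂ x 1 = 1
      rw [blk_mul, G₁.inv x hx, mul_one, blk_one]
    · show blk Q₁ Q₂ 1 x * blk Q₁ Q₂ 1 x = 1
      rw [blk_mul, G₂.inv x hx, mul_one, blk_one]
  · rintro _ (⟨x, hx, rfl⟩ | ⟨x, hx, rfl⟩)
    · show theta _ h2 hs (blk Q₁ Q₂ x 1) = va ∨ theta _ h2 hs (blk Q₁ Q₂ x 1) = vb
      rw [theta_j₁ h2 h₁ h₂ hs]
      exact G₁.val x hx
    · show theta _ h2 hs (blk Q₁ Q₂ 1 x) = va ∨ theta _ h2 hs (blk Q₁ Q₂ 1 x) = vb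
      rw [theta_j₂ h2 h₁ h₂ hs]
      exact G₂.val x hx
  · intro s hs'
    obtain ⟨s₁, hs₁, s₂, hs₂, rfl⟩ := mem_prodS hs'
    rw [Subgroup.mem_set_normalizer_iff]
    intro n
    constructor
    · exact fw s₁ hs₁ s₂ hs₂ n
    · intro hn
      have h1 := fw s₁⁻¹ (inv_mem hs₁) s₂⁻¹ (inv_mem hs₂) _ hn
      rw [← blk_inv] at h1
      have : (blk Q₁ Q₂ s₁ s₂)⁻¹ * (blk Q₁ Q₂ s₁ s₂ * n * (blk Q₁ Q₂ s₁ s₂)⁻¹) *
          ((blk Q₁ Q₂ s₁ s₂)⁻¹)⁻¹ = n := by group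
      rwa [this] at h1
  · intro s hs'
    obtain ⟨s₁, hs₁, s₂, hs₂, rfl⟩ := mem_prodS hs'
    have e : blk Q₁ Q₂ s₁ s₂ = blk Q₁ Q₂ s₁ 1 * blk Q₁ Q₂ 1 s₂ := by
      rw [blk_mul, mul_one, one_mul]
    rw [e]
    apply mul_mem
    · have h1 : j₁ (Q₂ := Q₂) s₁ ∈
          (Subgroup.closure (X₁ ∪ invSet S₁ (theta Q₁ h2 h₁).ker)).map j₁ :=
        Subgroup.mem_map_of_mem _ (G₁.gen hs₁)
      rw [MonoidHom.map_closure] at h1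
      refine Subgroup.closure_mono ?_ h1
      rintro _ ⟨v, hv | hv, rfl⟩
      · left; left
        exact ⟨v, hv, rfl⟩
      · right
        exact j₁_invSet h2 h₁ h₂ hs hv
    · have h1 : j₂ (Q₁ := Q₁) s₂ ∈
          (Subgroup.closure (X₂ ∪ invSet S₂ (theta Q₂ h2 h₂).ker)).map j₂ :=
        Subgroup.mem_map_of_mem _ (G₂.gen hs₂)
      rw [MonoidHom.map_closure] at h1
      refine Subgroup.closure_mono ?_ h1
      rintro _ ⟨v, hv | hv, rfl⟩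
      · left; right
        exact ⟨v, hv, rfl⟩
      · right
        exact j₂_invSet h2 h₁ h₂ hs hv

theorem HasA.sum_left {X₁ : Set ↥(isometryGroup F ⇑Q₁)} (X₂ : Set ↥(isometryGroup F ⇑Q₂))
    (h : HasA h2 Q₁ h₁ X₁) : HasA h2 (sumForm Q₁ Q₂) hs (sumX X₁ X₂) := by
  obtain ⟨x, hx, hv⟩ := h
  exact ⟨blk Q₁ Q₂ x 1, Or.inl ⟨x, hx, rfl⟩, by rw [theta_j₁ h2 h₁ h₂ hs, hv]⟩

theorem HasA.sum_right (X₁ : Set ↥(isometryGroup F ⇑Q₁)) {X₂ : Set ↥(isometryGroup F ⇑Q₂)}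
    (h : HasA h2 Q₂ h₂ X₂) : HasA h2 (sumForm Q₁ Q₂) hs (sumX X₁ X₂) := by
  obtain ⟨x, hx, hv⟩ := h
  exact ⟨blk Q₁ Q₂ 1 x, Or.inr ⟨x, hx, rfl⟩, by rw [theta_j₂ h2 h₁ h₂ hs, hv]⟩

theorem HasB.sum_left {X₁ : Set ↥(isometryGroup F ⇑Q₁)} (X₂ : Set ↥(isometryGroup F ⇑Q₂))
    (h : HasB h2 Q₁ h₁ X₁) : HasB h2 (sumForm Q₁ Q₂) hs (sumX X₁ X₂) := by
  obtain ⟨x, hx, hv⟩ := h
  exact ⟨blk Q₁ Q₂ x 1, Or.inl ⟨x, hx, rfl⟩, by rw [theta_j₁ h2 h₁ h₂ hs, hv]⟩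

theorem HasB.sum_right (X₁ : Set ↥(isometryGroup F ⇑Q₁)) {X₂ : Set ↥(isometryGroup F ⇑Q₂)}
    (h : HasB h2 Q₂ h₂ X₂) : HasB h2 (sumForm Q₁ Q₂) hs (sumX X₁ X₂) := by
  obtain ⟨x, hx, hv⟩ := h
  exact ⟨blk Q₁ Q₂ 1 x, Or.inr ⟨x, hx, rfl⟩, by rw [theta_j₂ h2 h₁ h₂ hs, hv]⟩

/-- a mixed pair of the same type gives an involution of `Ω` -/
theorem mixed_mem {S₁ : Subgroup ↥(isometryGroup F ⇑Q₁)} {X₁ : Set ↥(isometryGroup F ⇑Q₁)}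
    {w₁ : ℕ} {S₂ : Subgroup ↥(isometryGroup F ⇑Q₂)} {X₂ : Set ↥(isometryGroup F ⇑Q₂)} {w₂ : ℕ}
    (G₁ : Good h2 Q₁ h₁ S₁ X₁ w₁) (G₂ : Good h2 Q₂ h₂ S₂ X₂ w₂)
    {x₁ : ↥(isometryGroup F ⇑Q₁)} (hx₁ : x₁ ∈ X₁) {x₂ : ↥(isometryGroup F ⇑Q₂)} (hx₂ : x₂ ∈ X₂)
    (hv : theta Q₁ h2 h₁ x₁ = theta Q₂ h2 h₂ x₂) :
    blk Q₁ Q₂ x₁ x₂ ∈ invSet (prodS S₁ S₂) (theta (sumForm Q₁ Q₂) h2 hs).ker := by
  refine ⟨blk_mem_prodS (G₁.sub hx₁) (G₂.sub hx₂), ?_, ?_⟩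
  · rw [MonoidHom.mem_ker, theta_blk Q₁ Q₂ h2 h₁ h₂ hs, hv]
    rcases G₂.val x₂ hx₂ with h | h
    · rw [h]; exact va_mul_va
    · rw [h]; exact vb_mul_vb
  · rw [blk_mul, G₁.inv x₁ hx₁, G₂.inv x₂ hx₂, blk_one]

/-- **products of elements of the same type in an orthogonal sum** -/
theorem Prod2.sum {S₁ : Subgroup ↥(isometryGroup F ⇑Q₁)} {X₁ : Set ↥(isometryGroup F ⇑Q₁)}
    {w₁ : ℕ} {S₂ : Subgroup ↥(isometryGroup F ⇑Q₂)} {X₂ : Set ↥(isometryGroup F ⇑Q₂)} {w₂ : ℕ}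
    (G₁ : Good h2 Q₁ h₁ S₁ X₁ w₁) (G₂ : Good h2 Q₂ h₂ S₂ X₂ w₂)
    (hP₁ : Prod2 h2 Q₁ h₁ S₁ X₁ ∨ (HasA h2 Q₂ h₂ X₂ ∧ HasB h2 Q₂ h₂ X₂))
    (hP₂ : Prod2 h2 Q₂ h₂ S₂ X₂ ∨ (HasA h2 Q₁ h₁ X₁ ∧ HasB h2 Q₁ h₁ X₁)) :
    Prod2 h2 (sumForm Q₁ Q₂) hs (prodS S₁ S₂) (sumX X₁ X₂) := by
  rintro _ (⟨x, hx, rfl⟩ | ⟨x, hx, rfl⟩) _ (⟨x', hx', rfl⟩ | ⟨x', hx', rfl⟩) hv
  · -- both in the first summand
    have hv' : theta Q₁ h2 h₁ x = theta Q₁ h2 h₁ x' := by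
      have := hv
      simp only [] at this
      rwa [theta_j₁ h2 h₁ h₂ hs, theta_j₁ h2 h₁ h₂ hs] at this
    show blk Q₁ Q₂ x 1 * blk Q₁ Q₂ x' 1 ∈ _
    rcases hP₁ with hP | ⟨hA, hB⟩
    · rw [blk_mul, mul_one]
      exact j₁_closure h2 h₁ h₂ hs (hP x hx x' hx' hv')
    · obtain ⟨y, hy, hyv⟩ : ∃ y ∈ X₂, theta Q₂ h2 h₂ y = theta Q₁ h2 h₁ x := by
        rcases G₁.val x hx with h | h
        · obtain ⟨y, hy, hyv⟩ := hA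
          exact ⟨y, hy, hyv.trans h.symm⟩
        · obtain ⟨y, hy, hyv⟩ := hB
          exact ⟨y, hy, hyv.trans h.symm⟩
      have e : blk Q₁ Q₂ x 1 * blk Q₁ Q₂ x' 1 = blk Q₁ Q₂ x y * blk Q₁ Q₂ x' y := by
        rw [blk_mul, blk_mul, G₂.inv y hy, mul_one]
      rw [e]
      apply mul_mem
      · exact Subgroup.subset_closure (mixed_mem h2 h₁ h₂ hs G₁ G₂ hx hy hyv.symm)
      · exact Subgroup.subset_closure (mixed_mem h2 h₁ h₂ hs G₁ G₂ hx' hy (hv'.symm.trans hyv.symm))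
  · -- first and second
    have hv' : theta Q₁ h2 h₁ x = theta Q₂ h2 h₂ x' := by
      have := hv
      simp only [] at this
      rwa [theta_j₁ h2 h₁ h₂ hs, theta_j₂ h2 h₁ h₂ hs] at this
    show blk Q₁ Q₂ x 1 * blk Q₁ Q₂ 1 x' ∈ _
    rw [blk_mul, mul_one, one_mul]
    exact Subgroup.subset_closure (mixed_mem h2 h₁ h₂ hs G₁ G₂ hx hx' hv')
  · -- second and first
    have hv' : theta Q₂ h2 h₂ x = theta Q₁ h2 h₁ x' := by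
      have := hv
      simp only [] at this
      rwa [theta_j₂ h2 h₁ h₂ hs, theta_j₁ h2 h₁ h₂ hs] at this
    show blk Q₁ Q₂ 1 x * blk Q₁ Q₂ x' 1 ∈ _
    rw [blk_mul, mul_one, one_mul]
    exact Subgroup.subset_closure (mixed_mem h2 h₁ h₂ hs G₁ G₂ hx' hx hv'.symm)
  · -- both in the second summand
    have hv' : theta Q₂ h2 h₂ x = theta Q₂ h2 h₂ x' := by
      have := hv
      simp only [] at this
      rwa [theta_j₂ h2 h₁ h₂ hs, theta_j₂ h2 h₁ h₂ hs] at this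
    show blk Q₁ Q₂ 1 x * blk Q₁ Q₂ 1 x' ∈ _
    rcases hP₂ with hP | ⟨hA, hB⟩
    · rw [blk_mul, mul_one]
      exact j₂_closure h2 h₁ h₂ hs (hP x hx x' hx' hv')
    · obtain ⟨y, hy, hyv⟩ : ∃ y ∈ X₁, theta Q₁ h2 h₁ y = theta Q₂ h2 h₂ x := by
        rcases G₂.val x hx with h | h
        · obtain ⟨y, hy, hyv⟩ := hA
          exact ⟨y, hy, hyv.trans h.symm⟩
        · obtain ⟨y, hy, hyv⟩ := hB
          exact ⟨y, hy, hyv.trans h.symm⟩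
      have e : blk Q₁ Q₂ 1 x * blk Q₁ Q₂ 1 x' = blk Q₁ Q₂ y x * blk Q₁ Q₂ y x' := by
        rw [blk_mul, blk_mul, G₁.inv y hy, mul_one]
      rw [e]
      apply mul_mem
      · exact Subgroup.subset_closure (mixed_mem h2 h₁ h₂ hs G₁ G₂ hy hx hyv)
      · exact Subgroup.subset_closure (mixed_mem h2 h₁ h₂ hs G₁ G₂ hy hx' (hyv.trans hv'))

end sum

end Cfsg.Agent.Lib.Helper2.Sy2
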