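import Mathlib
import Cfsg.Prelude
import Cfsg.Agent.Lib.Helper2.Sy2C

set_option autoImplicit false
set_option linter.unusedSectionVars false
set_option linter.unusedVariables false
open Cfsg

/-! Sylow `2`-subgroups of `Ω_n(q)`, `q` odd: doubling of a good subgroup (wreath product with a
group of order two) and the tower over `k` copies of a block. -/

namespace Cfsg.Agent.Lib.Helper2.Sy2

open Matrix QuadraticMap Module Cfsg.Agent.Lib.Helper5.CartanDieudonne Cfsg.Agent.Lib.Helper5.Refl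
  Cfsg.Agent.Lib.Helper5.SpinorNorm Cfsg.Agent.Lib.Helper5.OrthSum
  Cfsg.Agent.Lib.Helper5.OrthSumDiag Cfsg.Agent.Lib.Helper5.OrthCard

section dbl

variable {F : Type*} [Field F] [Fintype F] (h2 : (2 : F) ≠ 0)
  {ι : Type} [Fintype ι] [DecidableEq ι] {Q : QuadraticForm F (ι → F)}
  (hQ : (polarBilin Q).Nondegenerate)
  (hs : (polarBilin (sumForm Q Q)).Nondegenerate)

/-- a sum of squares -/
def IsSq {κ : Type} [Fintype κ] (Q : QuadraticForm F (κ → F)) : Prop :=
  ∀ v, Q v = ∑ i, v i * v i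

theorem IsSq.sum {κ₁ κ₂ : Type} [Fintype κ₁] [Fintype κ₂] [DecidableEq κ₁] [DecidableEq κ₂]
    {Q₁ : QuadraticForm F (κ₁ → F)}
    {Q₂ : QuadraticForm F (κ₂ → F)} (h₁ : IsSq Q₁) (h₂ : IsSq Q₂) : IsSq (sumForm Q₁ Q₂) := by
  intro v
  rw [sumForm_apply, h₁, h₂, Fintype.sum_sum_type]
  rfl

/-- the wreath product of `S` with a group of order two -/
noncomputable def dblS (S : Subgroup ↥(isometryGroup F ⇑Q)) :
    Subgroup ↥(isometryGroup F ⇑(sumForm Q Q)) :=
  Subgroup.zpowers (swap Q) ⊔ prodS S S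

include hQ in
/-- **doubling a good subgroup** -/
theorem Good.dbl [Nonempty ι] {S : Subgroup ↥(isometryGroup F ⇑Q)}
    {X : Set ↥(isometryGroup F ⇑Q)} {w : ℕ} (G : Good h2 Q hQ S X w)
    (hθ : theta (sumForm Q Q) h2 hs (swap Q) = 1) :
    Good h2 (sumForm Q Q) hs (dblS S) (sumX X X) (w + w + 1) := by
  have fw : ∀ n ∈ sumX X X, swap Q * n * (swap Q)⁻¹ ∈ sumX X X := by
    rintro _ (⟨x, hx, rfl⟩ | ⟨x, hx, rfl⟩)
    · right
      exact ⟨x, hx, (swap_blk Q x 1).symm⟩
    · left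
      exact ⟨x, hx, (swap_blk Q 1 x).symm⟩
  apply Good.ext h2 (Good.sum h2 hQ hQ hs G G) (swap Q) (swap_mul_self Q) hθ
  · intro h
    obtain ⟨g₁, _, g₂, _, hg⟩ := mem_prodS h
    exact swap_ne_blk Q g₁ g₂ hg
  · intro b hb
    obtain ⟨g₁, hg₁, g₂, hg₂, rfl⟩ := mem_prodS hb
    rw [swap_blk]
    exact blk_mem_prodS hg₂ hg₁
  · rw [Subgroup.mem_set_normalizer_iff]
    intro n
    constructor
    · exact fw n
    · intro hn
      have h1 := fw _ hn
      have : swap Q * (swap Q * n * (swap Q)⁻¹) * (swap Q)⁻¹ = n := by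
        rw [swap_inv]
        calc swap Q * (swap Q * n * swap Q) * swap Q
            = (swap Q * swap Q) * n * (swap Q * swap Q) := by group
          _ = n := by rw [swap_mul_self, one_mul, mul_one]
      rwa [this] at h1

include hQ in
theorem Prod2.dbl {S : Subgroup ↥(isometryGroup F ⇑Q)}
    {X : Set ↥(isometryGroup F ⇑Q)} {w : ℕ} (G : Good h2 Q hQ S X w)
    (hA : HasA h2 Q hQ X) (hB : HasB h2 Q hQ X) :
    Prod2 h2 (sumForm Q Q) hs (dblS S) (sumX X X) :=
  Prod2.ext h2 (Prod2.sum h2 hQ hQ hs G G (Or.inr ⟨hA, hB⟩) (Or.inr ⟨hA, hB⟩)) (swap Q)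

end dbl

section tower

variable {F : Type*} [Field F] [Fintype F] (h2 : (2 : F) ≠ 0)

/-- **the tower**: `k` orthogonal copies of a block carry a good subgroup of the expected order -/
theorem tower (k : ℕ) : 1 ≤ k →
    ∀ (ι : Type) [Fintype ι] [DecidableEq ι] [Nonempty ι] (Q : QuadraticForm F (ι → F))
      (hQ : (polarBilin Q).Nondegenerate) (S : Subgroup ↥(isometryGroup F ⇑Q))
      (X : Set ↥(isometryGroup F ⇑Q)) (w : ℕ), Good h2 Q hQ S X w → HasA h2 Q hQ X →
      HasB h2 Q hQ X → IsSq Q →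
      theta (sumForm Q Q) h2 (sumForm_nondegenerate Q Q hQ hQ) (swap Q) = 1 →
      ∃ (ι' : Type) (_ : Fintype ι') (_ : DecidableEq ι') (Q' : QuadraticForm F (ι' → F))
        (hQ' : (polarBilin Q').Nondegenerate) (S' : Subgroup ↥(isometryGroup F ⇑Q'))
        (X' : Set ↥(isometryGroup F ⇑Q')),
        Good h2 Q' hQ' S' X' (k * w + padicValNat 2 k.factorial) ∧ HasA h2 Q' hQ' X' ∧
        HasB h2 Q' hQ' X' ∧ IsSq Q' ∧ Fintype.card ι' = k * Fintype.card ι ∧
        ((Prod2 h2 Q hQ S X ∨ 2 ≤ k) → Prod2 h2 Q' hQ' S' X') := by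
  induction k using Nat.strong_induction_on with
  | _ k ih =>
    intro hk ι _ _ _ Q hQ S X w G hA hB hsq hθ
    haveI : Fact (Nat.Prime 2) := ⟨Nat.prime_two⟩
    rcases Nat.lt_or_ge k 2 with hk2 | hk2
    · have hk1 : k = 1 := by omega
      subst hk1
      refine ⟨ι, inferInstance, inferInstance, Q, hQ, S, X, ?_, hA, hB, hsq, by rw [one_mul], ?_⟩
      · have : 1 * w + padicValNat 2 (Nat.factorial 1) = w := by
          rw [Nat.factorial_one, padicValNat.one, one_mul, add_zero]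
        rw [this]
        exact G
      · rintro (h | h)
        · exact h
        · omega
    · -- the doubled block
      have hs := sumForm_nondegenerate Q Q hQ hQ
      have G₂ := Good.dbl h2 hQ hs G hθ
      have hA₂ : HasA h2 (sumForm Q Q) hs (sumX X X) := HasA.sum_left h2 hQ hQ hs X hA
      have hB₂ : HasB h2 (sumForm Q Q) hs (sumX X X) := HasB.sum_left h2 hQ hQ hs X hB
      have hsq₂ : IsSq (sumForm Q Q) := hsq.sum hsq
      have hθ₂ := theta_swap_dbl Q h2
        (sumForm_nondegenerate (sumForm Q Q) (sumForm Q Q) hs hs)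
      have hP₂ := Prod2.dbl h2 hQ hs G hA hB
      have hk' : k / 2 < k := by omega
      have hk'1 : 1 ≤ k / 2 := by omega
      obtain ⟨ι₃, i₁, i₂, Q₃, hQ₃, S₃, X₃, G₃, hA₃, hB₃, hsq₃, hc₃, hP₃⟩ :=
        ih (k / 2) hk' hk'1 (ι ⊕ ι) (sumForm Q Q) hs (dblS S) (sumX X X) (w + w + 1) G₂ hA₂ hB₂
          hsq₂ hθ₂
      have hP₃' := hP₃ (Or.inl hP₂)
      rcases Nat.even_or_odd' k with ⟨m, hm | hm⟩
      · -- `k = 2 m`
        have hm' : k / 2 = m := by omega
        rw [hm'] at G₃ hc₃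
        refine ⟨ι₃, i₁, i₂, Q₃, hQ₃, S₃, X₃, ?_, hA₃, hB₃, hsq₃, ?_, fun _ => hP₃'⟩
        · have e : k * w + padicValNat 2 k.factorial =
              m * (w + w + 1) + padicValNat 2 m.factorial := by
            rw [hm, padicValNat_factorial_mul]
            ring
          rw [e]
          exact G₃
        · rw [hc₃, Fintype.card_sum, hm]
          ring
      · -- `k = 2 m + 1`
        have hm' : k / 2 = m := by omega
        rw [hm'] at G₃ hc₃
        have hs' := sumForm_nondegenerate Q₃ Q hQ₃ hQ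
        refine ⟨ι₃ ⊕ ι, inferInstance, inferInstance, sumForm Q₃ Q, hs', prodS S₃ S, sumX X₃ X,
          ?_, HasA.sum_left h2 hQ₃ hQ hs' X hA₃, HasB.sum_left h2 hQ₃ hQ hs' X hB₃,
          hsq₃.sum hsq, ?_, fun _ => ?_⟩
        · have e : k * w + padicValNat 2 k.factorial =
              m * (w + w + 1) + padicValNat 2 m.factorial + w := by
            rw [hm, padicValNat_factorial_mul_add m (by norm_num : 1 < 2),
              padicValNat_factorial_mul]
            ring
          rw [e]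
          exact Good.sum h2 hQ₃ hQ hs' G₃ G
        · rw [Fintype.card_sum, hc₃, Fintype.card_sum, hm]
          ring
        · exact Prod2.sum h2 hQ₃ hQ hs' G₃ G (Or.inl hP₃') (Or.inr ⟨hA₃, hB₃⟩)

end tower

end Cfsg.Agent.Lib.Helper2.Sy2
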