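import Mathlib
import Cfsg.Prelude
import Cfsg.Agent.Lib.Helper2.Sy2D

set_option autoImplicit false
set_option linter.unusedSectionVars false
set_option linter.unusedVariables false
open Cfsg

/-! Sylow `2`-subgroups of `Ω_n(q)`, `q` odd: the blocks.  A reflection generates a good subgroup;
in dimension two every isometry of determinant `-1` is an involution. -/

namespace Cfsg.Agent.Lib.Helper2.Sy2

open Matrix QuadraticMap Module Cfsg.Agent.Lib.Helper5.CartanDieudonne Cfsg.Agent.Lib.Helper5.Refl
  Cfsg.Agent.Lib.Helper5.SpinorNorm Cfsg.Agent.Lib.Helper5.OrthSum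
  Cfsg.Agent.Lib.Helper5.OrthSumDiag Cfsg.Agent.Lib.Helper5.OrthCard

section refl

variable {F : Type*} [Field F] [Fintype F] (h2 : (2 : F) ≠ 0)
  {ι : Type} [Fintype ι] [DecidableEq ι] (Q : QuadraticForm F (ι → F))
  (hQ : (polarBilin Q).Nondegenerate)

theorem reflection_sq (v : ι → F) (hv : Q v ≠ 0) :
    reflection Q v hv * reflection Q v hv = 1 := by
  apply Subtype.ext
  apply Units.ext
  exact reflection_mul_self Q v hv

theorem theta_reflection (v : ι → F) (hv : Q v ≠ 0) :
    theta Q h2 hQ (reflection Q v hv) = (-1, sgn (Q v)) := by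
  rw [theta_eq Q h2 hQ _ [v] (isRep_reflection Q v hv)]
  unfold inv2
  simp

theorem theta_reflection_sq (v : ι → F) (hv : Q v ≠ 0) (h : IsSquare (Q v)) :
    theta Q h2 hQ (reflection Q v hv) = va := by
  rw [theta_reflection, sgn_of_isSquare h]
  rfl

theorem theta_reflection_nsq (v : ι → F) (hv : Q v ≠ 0) (h : ¬ IsSquare (Q v)) :
    theta Q h2 hQ (reflection Q v hv) = vb := by
  rw [theta_reflection, sgn_of_not_isSquare h]
  rfl

theorem theta_fst_sq (g : ↥(isometryGroup F ⇑Q)) :
    theta Q h2 hQ g = va ∨ theta Q h2 hQ g = vb ↔ (theta Q h2 hQ g).1 = -1 := by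
  obtain ⟨x1, x2, h⟩ : ∃ x1 x2, theta Q h2 hQ g = (x1, x2) := ⟨_, _, rfl⟩
  rw [h]
  rcases Int.units_eq_one_or x1 with rfl | rfl <;> rcases Int.units_eq_one_or x2 with rfl | rfl <;>
    decide

/-- **a reflection generates a good subgroup** -/
theorem good_refl (v : ι → F) (hv : Q v ≠ 0) :
    Good h2 Q hQ (Subgroup.zpowers (reflection Q v hv)) {reflection Q v hv} 1 := by
  have hsq := reflection_sq Q v hv
  have hθ : theta Q h2 hQ (reflection Q v hv) = va ∨ theta Q h2 hQ (reflection Q v hv) = vb := by
    rw [theta_fst_sq, theta_reflection]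
  have hne : reflection Q v hv ≠ 1 := by
    intro h
    rw [h, map_one] at hθ
    rcases hθ with h | h
    · exact va_ne_one h.symm
    · exact vb_ne_one h.symm
  have hord : orderOf (reflection Q v hv) = 2 :=
    orderOf_eq_prime (by rw [pow_two]; exact hsq) hne
  refine ⟨?_, ?_, ?_, ?_, ?_, ?_, ?_⟩
  · apply IsPGroup.of_card (n := 1)
    rw [Nat.card_zpowers, hord, pow_one]
  · rw [Nat.card_zpowers, hord, pow_one]
  · intro x hx
    rw [Set.mem_singleton_iff] at hx
    rw [hx]
    exact Subgroup.mem_zpowers _
  · intro x hx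
    rw [Set.mem_singleton_iff] at hx
    rw [hx]
    exact hsq
  · intro x hx
    rw [Set.mem_singleton_iff] at hx
    rw [hx]
    exact hθ
  · rw [Subgroup.zpowers_le, Subgroup.mem_set_normalizer_iff]
    intro n
    rw [Set.mem_singleton_iff, Set.mem_singleton_iff]
    constructor
    · intro h
      rw [h, mul_inv_cancel_right]
    · intro h
      have h1 : n = (reflection Q v hv)⁻¹ * (reflection Q v hv * n * (reflection Q v hv)⁻¹) *
          reflection Q v hv := by group
      rw [h1, h, inv_mul_cancel, one_mul]
  · have key : Subgroup.zpowers (reflection Q v hv) ≤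
        Subgroup.closure ({reflection Q v hv} ∪
          invSet (Subgroup.zpowers (reflection Q v hv)) (theta Q h2 hQ).ker) := by
      rw [Subgroup.zpowers_le]
      apply Subgroup.subset_closure
      left
      rfl
    exact key

theorem prod2_singleton (S : Subgroup ↥(isometryGroup F ⇑Q)) (x : ↥(isometryGroup F ⇑Q))
    (hx : x * x = 1) : Prod2 h2 Q hQ S {x} := by
  intro a ha b hb _
  rw [Set.mem_singleton_iff] at ha hb
  rw [ha, hb, hx]
  exact one_mem _

end refl

section dim2

variable {F : Type*} [Field F] [Fintype F] (h2 : (2 : F) ≠ 0)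
  {ι : Type} [Fintype ι] [DecidableEq ι] (Q : QuadraticForm F (ι → F))
  (hQ : (polarBilin Q).Nondegenerate)

include h2 in
/-- an orthogonal family of anisotropic vectors of full size spans -/
theorem orth_span {k : ℕ} (v : Fin k → ι → F) (hv : ∀ i, Q (v i) ≠ 0)
    (horth : ∀ i j, i ≠ j → polar ⇑Q (v i) (v j) = 0) (hk : Fintype.card ι ≤ k) :
    Submodule.span F (Set.range v) = ⊤ := by
  have hli := linearIndependent_of_orth h2 Q v hv horth
  have hle := hli.fintype_card_le_finrank
  rw [Module.finrank_fintype_fun_eq_card, Fintype.card_fin] at hle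
  exact hli.span_eq_top_of_card_eq_finrank' (by
    rw [Module.finrank_fintype_fun_eq_card, Fintype.card_fin]; omega)

include h2 hQ in
theorem eq_zero_of_perp {k : ℕ} (v : Fin k → ι → F) (hv : ∀ i, Q (v i) ≠ 0)
    (horth : ∀ i j, i ≠ j → polar ⇑Q (v i) (v j) = 0) (hk : Fintype.card ι ≤ k)
    (x : ι → F) (hx : ∀ i, polar ⇑Q (v i) x = 0) : x = 0 := by
  have hspan := orth_span h2 Q v hv horth hk
  have hall : ∀ y, polar ⇑Q y x = 0 := by
    intro y
    have hy : y ∈ Submodule.span F (Set.range v) := by rw [hspan]; trivial
    induction hy using Submodule.span_induction with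
    | mem z hz =>
      obtain ⟨i, rfl⟩ := hz
      exact hx i
    | zero => exact polar_zero_left _ _
    | add a b _ _ ha hb => rw [polar_add_left, ha, hb, add_zero]
    | smul c a _ ha => rw [polar_smul_left, ha, smul_zero]
  apply hQ.1 x
  intro y
  rw [polarBilin_apply_apply, polar_comm]
  exact hall y

include h2 hQ in
/-- in dimension two, a vector orthogonal to `w` of the same norm as `w'` is `± w'` -/
theorem eq_or_eq_neg (hc : Fintype.card ι = 2) (w w' y : ι → F) (hw : Q w ≠ 0) (hw' : Q w' ≠ 0)
    (hww' : polar ⇑Q w w' = 0) (hy : polar ⇑Q w y = 0) (hQy : Q y = Q w') :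
    y = w' ∨ y = -w' := by
  by_cases h : Q (y - w') = 0
  · left
    have h1 : polar ⇑Q y w' = 2 * Q w' := by
      rw [quad_sub', hQy] at h
      linear_combination -h
    have hz : y - w' = 0 := by
      apply eq_zero_of_perp h2 Q hQ ![w, w']
      · intro i
        fin_cases i
        · exact hw
        · exact hw'
      · intro i j hij
        fin_cases i <;> fin_cases j
        · exact absurd rfl hij
        · exact hww'
        · show polar ⇑Q w' w = 0
          rw [polar_comm]; exact hww'
        · exact absurd rfl hij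
      · rw [hc]
      · intro i
        fin_cases i
        · show polar ⇑Q w (y - w') = 0
          rw [polar_sub_right, hy, hww', sub_zero]
        · show polar ⇑Q w' (y - w') = 0
          rw [polar_sub_right, polar_comm ⇑Q w' y, h1, polar_self, nsmul_eq_mul]
          push_cast
          ring
    exact sub_eq_zero.mp hz
  · right
    have hz : y + w' = 0 := by
      apply eq_zero_of_perp h2 Q hQ ![w, y - w']
      · intro i
        fin_cases i
        · exact hw
        · exact h
      · intro i j hij
        fin_cases i <;> fin_cases j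
        · exact absurd rfl hij
        · show polar ⇑Q w (y - w') = 0
          rw [polar_sub_right, hy, hww', sub_zero]
        · show polar ⇑Q (y - w') w = 0
          rw [polar_comm, polar_sub_right, hy, hww', sub_zero]
        · exact absurd rfl hij
      · rw [hc]
      · intro i
        fin_cases i
        · show polar ⇑Q w (y + w') = 0
          rw [polar_add_right, hy, hww', add_zero]
        · show polar ⇑Q (y - w') (y + w') = 0
          rw [polar_sub_left, polar_add_right, polar_add_right, polar_self, polar_self,
            polar_comm ⇑Q w' y, hQy]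
          ring
    exact eq_neg_of_add_eq_zero_left hz

include h2 in
/-- an isometry negating an orthogonal basis is `-1` -/
theorem act_neg_all {k : ℕ} (v : Fin k → ι → F) (hv : ∀ i, Q (v i) ≠ 0)
    (horth : ∀ i j, i ≠ j → polar ⇑Q (v i) (v j) = 0) (hk : Fintype.card ι ≤ k)
    (h : ↥(isometryGroup F ⇑Q)) (hh : ∀ i, act Q h (v i) = -v i) (x : ι → F) :
    act Q h x = -x := by
  have hspan := orth_span h2 Q v hv horth hk
  have hx : x ∈ Submodule.span F (Set.range v) := by rw [hspan]; trivial
  induction hx using Submodule.span_induction with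
  | mem z hz =>
    obtain ⟨i, rfl⟩ := hz
    exact hh i
  | zero =>
    show _ *ᵥ (0 : ι → F) = -0
    rw [Matrix.mulVec_zero, neg_zero]
  | add a b _ _ ha hb =>
    show _ *ᵥ (a + b) = _
    rw [Matrix.mulVec_add, neg_add]
    exact congrArg₂ (· + ·) ha hb
  | smul c a _ ha =>
    show _ *ᵥ (c • a) = _
    rw [Matrix.mulVec_smul, ← smul_neg]
    exact congrArg (c • ·) ha

theorem act_neg (h : ↥(isometryGroup F ⇑Q)) (x : ι → F) : act Q h (-x) = -act Q h x :=
  Matrix.mulVec_neg _ _

/-- **in dimension two, an isometry of determinant `-1` is an involution** -/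
theorem sq_eq_one_of_det_neg (hc : Fintype.card ι = 2) (g : ↥(isometryGroup F ⇑Q))
    (hg : (theta Q h2 hQ g).1 = -1) : g * g = 1 := by
  obtain ⟨w, hw, -⟩ := exists_anisotropic_perp h2 Q hQ (k := 0) (fun i => i.elim0)
    (fun i => i.elim0) (fun i => i.elim0) (by omega)
  obtain ⟨w', hw', hww'0⟩ := exists_anisotropic_perp h2 Q hQ (k := 1) (fun _ => w)
    (fun _ => hw) (fun i j hij => absurd (Subsingleton.elim i j) hij) (by omega)
  have hww' : polar ⇑Q w w' = 0 := hww'0 0
  have hfam : ∀ i : Fin 2, Q (![w, w'] i) ≠ 0 := by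
    intro i
    fin_cases i
    · exact hw
    · exact hw'
  have horth : ∀ i j : Fin 2, i ≠ j → polar ⇑Q (![w, w'] i) (![w, w'] j) = 0 := by
    intro i j hij
    fin_cases i <;> fin_cases j
    · exact absurd rfl hij
    · exact hww'
    · show polar ⇑Q w' w = 0
      rw [polar_comm]; exact hww'
    · exact absurd rfl hij
  -- an isometry fixing `w` and `w'` is trivial
  have fix2 : ∀ h : ↥(isometryGroup F ⇑Q), act Q h w = w → act Q h w' = w' → h = 1 := by
    intro h h1 h3
    apply eq_one_of_fix h2 Q ![w, w'] hfam horth (by rw [hc])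
    intro i
    fin_cases i
    · exact h1
    · exact h3
  -- the image of `w'` under an isometry mapping `w` to `± w`
  have dich : ∀ h : ↥(isometryGroup F ⇑Q), (act Q h w = w ∨ act Q h w = -w) →
      (act Q h w' = w' ∨ act Q h w' = -w') := by
    intro h hh
    apply eq_or_eq_neg h2 Q hQ hc w w' _ hw hw' hww'
    · have h1 := polar_act Q h w w'
      rcases hh with h3 | h3
      · rw [h3] at h1
        rw [h1, hww']
      · rw [h3, polar_neg_left] at h1
        rw [← neg_eq_zero, h1, hww']
    · exact quad_act Q h w'
  have hθ1 : ∀ (v : ι → F) (hv : Q v ≠ 0), (theta Q h2 hQ (reflection Q v hv)).1 = -1 := by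
    intro v hv
    rw [theta_reflection]
  obtain ⟨u, hu⟩ : ∃ u, u = act Q g w := ⟨_, rfl⟩
  have hQu : Q u = Q w := by rw [hu]; exact quad_act Q g w
  have hsum : Q (w - u) + Q (w + u) = 4 * Q w := by
    rw [quad_sub', quad_add', hQu]
    ring
  have hcase : Q (w - u) ≠ 0 ∨ Q (w + u) ≠ 0 := by
    by_contra hcon
    push Not at hcon
    rw [hcon.1, hcon.2, add_zero] at hsum
    have h4 : (4 : F) ≠ 0 := by
      have : (4 : F) = 2 * 2 := by norm_num
      rw [this]
      exact mul_ne_zero h2 h2
    exact hw ((mul_eq_zero.mp hsum.symm).resolve_left h4)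
  rcases hcase with hne | hne
  · -- case A
    obtain ⟨r, hr⟩ : ∃ r, r = reflection Q (w - u) hne := ⟨_, rfl⟩
    have hrr : r * r = 1 := by rw [hr]; exact reflection_sq Q _ hne
    have hru : act Q r u = w := by rw [hr]; exact refl_move Q w u hQu.symm hne
    have hhw : act Q (r * g) w = w := by rw [act_mul, ← hu, hru]
    rcases dich (r * g) (Or.inl hhw) with h3 | h3
    · have h1 := fix2 (r * g) hhw h3
      have hgr : g = r := by
        have : g = r⁻¹ := eq_inv_of_mul_eq_one_right h1
        rw [this]
        exact inv_eq_of_mul_eq_one_right hrr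
      rw [hgr]
      exact hrr
    · exfalso
      have h5 : act Q (reflection Q w' hw' * (r * g)) w = w := by
        rw [act_mul, hhw]
        exact reflection_fix Q w' w (by rw [polar_comm]; exact hww')
      have h6 : act Q (reflection Q w' hw' * (r * g)) w' = w' := by
        rw [act_mul, h3, act_neg]
        have : act Q (reflection Q w' hw') w' = -w' := reflection_self Q w' hw'
        rw [this, neg_neg]
      have h7 := fix2 _ h5 h6
      have h8 := congrArg (fun x => (theta Q h2 hQ x).1) h7
      simp only [map_mul, map_one, Prod.fst_mul, Prod.fst_one] at h8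
      rw [hθ1, hr, hθ1, hg] at h8
      revert h8
      decide
  · -- case B
    obtain ⟨r, hr⟩ : ∃ r, r = reflection Q (w + u) hne := ⟨_, rfl⟩
    have hrr : r * r = 1 := by rw [hr]; exact reflection_sq Q _ hne
    have hru : act Q r u = -w := by rw [hr]; exact refl_move' Q w u hQu.symm hne
    have hhw : act Q (r * g) w = -w := by rw [act_mul, ← hu, hru]
    rcases dich (r * g) (Or.inr hhw) with h3 | h3
    · exfalso
      have h5 : act Q (reflection Q w hw * (r * g)) w = w := by
        rw [act_mul, hhw, act_neg]
        have : act Q (reflection Q w hw) w = -w := reflection_self Q w hw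
        rw [this, neg_neg]
      have h6 : act Q (reflection Q w hw * (r * g)) w' = w' := by
        rw [act_mul, h3]
        exact reflection_fix Q w w' hww'
      have h7 := fix2 _ h5 h6
      have h8 := congrArg (fun x => (theta Q h2 hQ x).1) h7
      simp only [map_mul, map_one, Prod.fst_mul, Prod.fst_one] at h8
      rw [hθ1, hr, hθ1, hg] at h8
      revert h8
      decide
    · -- `r * g = -1`
      have hneg : ∀ x, act Q (r * g) x = -x := by
        apply act_neg_all h2 Q ![w, w'] hfam horth (by rw [hc])
        intro i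
        fin_cases i
        · exact hhw
        · exact h3
      have hgx : ∀ x, act Q g x = -act Q r x := by
        intro x
        have h1 : g = r * (r * g) := by
          rw [← mul_assoc, hrr, one_mul]
        conv_lhs => rw [h1, act_mul, hneg, act_neg]
      apply isom_ext
      intro x
      show act Q (g * g) x = act Q 1 x
      rw [act_mul, hgx, hgx, act_neg, neg_neg, ← act_mul, hrr]

end dim2

end Cfsg.Agent.Lib.Helper2.Sy2
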