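import Mathlib
import Cfsg.Prelude
import Cfsg.Agent.Lib.Helper2.Sy2E
import Cfsg.Agent.Lib.Helper5.QuadDiag

set_option autoImplicit false
set_option linter.unusedSectionVars false
set_option linter.unusedVariables false
open Cfsg

/-! Sylow `2`-subgroups of `Ω_n(q)`, `q` odd: transport of the isometry group along a linear
isometry, and diagonal models of a nondegenerate quadratic form. -/

namespace Cfsg.Agent.Lib.Helper2.Sy2

open Matrix QuadraticMap Module Cfsg.Agent.Lib.Helper5.CartanDieudonne Cfsg.Agent.Lib.Helper5.Refl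
  Cfsg.Agent.Lib.Helper5.SpinorNorm Cfsg.Agent.Lib.Helper5.OrthSum
  Cfsg.Agent.Lib.Helper5.OrthSumDiag Cfsg.Agent.Lib.Helper5.OrthCard

section transport

variable {ι ι' : Type} [Fintype ι] [DecidableEq ι] [Fintype ι'] [DecidableEq ι']
  {F : Type*} [Field F]

/-- conjugation of a matrix by a linear equivalence -/
noncomputable def cMat (T : (ι → F) ≃ₗ[F] (ι' → F)) (M : Matrix ι ι F) : Matrix ι' ι' F :=
  LinearMap.toMatrix' ((T : (ι → F) →ₗ[F] (ι' → F)) ∘ₗ Matrix.toLin' M ∘ₗ
    (T.symm : (ι' → F) →ₗ[F] (ι → F)))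

theorem cMat_mulVec (T : (ι → F) ≃ₗ[F] (ι' → F)) (M : Matrix ι ι F) (v : ι' → F) :
    cMat T M *ᵥ v = T (M *ᵥ T.symm v) := by
  unfold cMat
  rw [LinearMap.toMatrix'_mulVec]
  simp [Matrix.toLin'_apply]

theorem cMat_mul (T : (ι → F) ≃ₗ[F] (ι' → F)) (M N : Matrix ι ι F) :
    cMat T (M * N) = cMat T M * cMat T N := by
  rw [ext_iff_mulVec]
  intro v
  rw [← Matrix.mulVec_mulVec, cMat_mulVec, cMat_mulVec, cMat_mulVec, T.symm_apply_apply,
    Matrix.mulVec_mulVec]

theorem cMat_one (T : (ι → F) ≃ₗ[F] (ι' → F)) : cMat T (1 : Matrix ι ι F) = 1 := by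
  rw [ext_iff_mulVec]
  intro v
  rw [cMat_mulVec, Matrix.one_mulVec, Matrix.one_mulVec, T.apply_symm_apply]

theorem cMat_symm (T : (ι → F) ≃ₗ[F] (ι' → F)) (M : Matrix ι ι F) :
    cMat T.symm (cMat T M) = M := by
  rw [ext_iff_mulVec]
  intro v
  rw [cMat_mulVec, cMat_mulVec, LinearEquiv.symm_symm, T.symm_apply_apply, T.symm_apply_apply]

/-- conjugation of an invertible matrix by a linear equivalence -/
noncomputable def cGL (T : (ι → F) ≃ₗ[F] (ι' → F)) (g : Matrix.GeneralLinearGroup ι F) :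
    Matrix.GeneralLinearGroup ι' F :=
  ⟨cMat T (g : Matrix ι ι F), cMat T ((g⁻¹ : Matrix.GeneralLinearGroup ι F) : Matrix ι ι F),
    by rw [← cMat_mul, ← Units.val_mul, mul_inv_cancel, Units.val_one, cMat_one],
    by rw [← cMat_mul, ← Units.val_mul, inv_mul_cancel, Units.val_one, cMat_one]⟩

theorem cGL_coe (T : (ι → F) ≃ₗ[F] (ι' → F)) (g : Matrix.GeneralLinearGroup ι F) :
    ((cGL T g : Matrix.GeneralLinearGroup ι' F) : Matrix ι' ι' F) = cMat T (g : Matrix ι ι F) :=
  rfl

theorem cGL_mem (Q : QuadraticForm F (ι → F)) (Q' : QuadraticForm F (ι' → F))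
    (T : (ι → F) ≃ₗ[F] (ι' → F)) (hT : ∀ v, Q' (T v) = Q v)
    (g : Matrix.GeneralLinearGroup ι F) (hg : g ∈ isometryGroup F ⇑Q) :
    cGL T g ∈ isometryGroup F ⇑Q' := by
  rw [mem_isometryGroup_iff] at hg ⊢
  intro v
  rw [cGL_coe, cMat_mulVec, hT, hg, ← hT, T.apply_symm_apply]

/-- conjugation by a linear isometry, as a homomorphism of isometry groups -/
noncomputable def conjHom (Q : QuadraticForm F (ι → F)) (Q' : QuadraticForm F (ι' → F))
    (T : (ι → F) ≃ₗ[F] (ι' → F)) (hT : ∀ v, Q' (T v) = Q v) :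
    ↥(isometryGroup F ⇑Q) →* ↥(isometryGroup F ⇑Q') where
  toFun g := ⟨cGL T (g : Matrix.GeneralLinearGroup ι F), cGL_mem Q Q' T hT _ g.2⟩
  map_one' := by
    apply Subtype.ext
    apply Units.ext
    show cMat T (1 : Matrix ι ι F) = 1
    exact cMat_one T
  map_mul' x y := by
    apply Subtype.ext
    apply Units.ext
    show cMat T (((x : Matrix.GeneralLinearGroup ι F) : Matrix ι ι F) *
      ((y : Matrix.GeneralLinearGroup ι F) : Matrix ι ι F)) = _
    rw [cMat_mul]
    rfl

theorem conjHom_coe (Q : QuadraticForm F (ι → F)) (Q' : QuadraticForm F (ι' → F))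
    (T : (ι → F) ≃ₗ[F] (ι' → F)) (hT : ∀ v, Q' (T v) = Q v) (g : ↥(isometryGroup F ⇑Q)) :
    ((conjHom Q Q' T hT g : Matrix.GeneralLinearGroup ι' F) : Matrix ι' ι' F) =
      cMat T ((g : Matrix.GeneralLinearGroup ι F) : Matrix ι ι F) := rfl

/-- **a linear isometry induces an isomorphism of the isometry groups** -/
noncomputable def conjIso (Q : QuadraticForm F (ι → F)) (Q' : QuadraticForm F (ι' → F))
    (T : (ι → F) ≃ₗ[F] (ι' → F)) (hT : ∀ v, Q' (T v) = Q v) :
    ↥(isometryGroup F ⇑Q) ≃* ↥(isometryGroup F ⇑Q') :=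
  MonoidHom.toMulEquiv (conjHom Q Q' T hT)
    (conjHom Q' Q T.symm (fun v => by rw [← hT, T.apply_symm_apply]))
    (by
      ext g : 1
      apply Subtype.ext
      apply Units.ext
      show cMat T.symm (cMat T ((g : Matrix.GeneralLinearGroup ι F) : Matrix ι ι F)) = _
      rw [cMat_symm]
      rfl)
    (by
      ext g : 1
      apply Subtype.ext
      apply Units.ext
      show cMat T (cMat T.symm ((g : Matrix.GeneralLinearGroup ι' F) : Matrix ι' ι' F)) = _
      have h := cMat_symm T.symm ((g : Matrix.GeneralLinearGroup ι' F) : Matrix ι' ι' F)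
      rw [LinearEquiv.symm_symm] at h
      rw [h]
      rfl)

end transport

section orth

variable {F : Type*} [Field F] {V : Type*} [AddCommGroup V] [Module F V]

theorem polar_sum_right {κ : Type} (Q : QuadraticForm F V) (x : V) (s : Finset κ) (f : κ → V) :
    polar ⇑Q x (∑ j ∈ s, f j) = ∑ j ∈ s, polar ⇑Q x (f j) := by
  have h := map_sum (polarBilin Q x) f s
  simpa only [polarBilin_apply_apply] using h

/-- the value of a quadratic form at a combination of pairwise orthogonal vectors -/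
theorem quad_sum_orth {κ : Type} [DecidableEq κ] (Q : QuadraticForm F V) (u : κ → V) (x : κ → F)
    (s : Finset κ) (horth : ∀ i j, i ≠ j → polar ⇑Q (u i) (u j) = 0) :
    Q (∑ j ∈ s, x j • u j) = ∑ j ∈ s, x j * x j * Q (u j) := by
  induction s using Finset.induction_on with
  | empty => simp
  | insert i s hi ih =>
    rw [Finset.sum_insert hi, Finset.sum_insert hi, QuadraticMap.map_add ⇑Q, ih,
      QuadraticMap.map_smul, polar_sum_right]
    have h0 : ∑ j ∈ s, polar ⇑Q (x i • u i) (x j • u j) = 0 := by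
      apply Finset.sum_eq_zero
      intro j hj
      rw [polar_smul_left, polar_smul_right, horth i j (by rintro rfl; exact hi hj)]
      simp
    rw [h0, add_zero, smul_eq_mul]

theorem polar_sum_orth {κ : Type} [DecidableEq κ] (Q : QuadraticForm F V) (u : κ → V) (x : κ → F)
    (s : Finset κ) (horth : ∀ i j, i ≠ j → polar ⇑Q (u i) (u j) = 0) (i : κ) (hi : i ∈ s) :
    polar ⇑Q (u i) (∑ j ∈ s, x j • u j) = x i * (2 * Q (u i)) := by
  rw [polar_sum_right, Finset.sum_eq_single i]
  · rw [polar_smul_right, polar_self, smul_eq_mul, nsmul_eq_mul]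
    push_cast
    ring
  · intro j _ hji
    rw [polar_smul_right, horth i j (Ne.symm hji), smul_zero]
  · intro h
    exact absurd hi h

end orth

section diag

variable {F : Type*} [Field F] [Fintype F] (h2 : (2 : F) ≠ 0)
  {ι : Type} [Fintype ι] [DecidableEq ι] (Q : QuadraticForm F (ι → F))

include h2 in
/-- **a form with an orthogonal family of anisotropic vectors of full size is isometric to the
diagonal form of its values** -/
theorem iso_of_orth {κ : Type} [Fintype κ] [DecidableEq κ] (Q'' : QuadraticForm F (κ → F))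
    (a : κ → F) (hQ'' : ∀ v, Q'' v = ∑ j, a j * v j * v j) (u : κ → ι → F)
    (horth : ∀ i j, i ≠ j → polar ⇑Q (u i) (u j) = 0) (hu : ∀ j, Q (u j) = a j)
    (ha : ∀ j, a j ≠ 0) (hcard : Fintype.card κ = Fintype.card ι) :
    Nonempty (↥(isometryGroup F ⇑Q'') ≃* ↥(isometryGroup F ⇑Q)) := by
  have hinj : Function.Injective (Fintype.linearCombination F u) := by
    rw [injective_iff_map_eq_zero]
    intro x hx
    rw [Fintype.linearCombination_apply] at hx
    funext i
    have h1 := polar_sum_orth Q u x Finset.univ horth i (Finset.mem_univ i)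
    rw [hx, polar_zero_right] at h1
    have h3 : (2 : F) * Q (u i) ≠ 0 := mul_ne_zero h2 (by rw [hu]; exact ha i)
    exact (mul_eq_zero.mp h1.symm).resolve_right h3
  have hdim : Module.finrank F (κ → F) = Module.finrank F (ι → F) := by
    rw [Module.finrank_fintype_fun_eq_card, Module.finrank_fintype_fun_eq_card, hcard]
  refine ⟨conjIso Q'' Q (LinearMap.linearEquivOfInjective _ hinj hdim) ?_⟩
  intro v
  rw [LinearMap.linearEquivOfInjective_apply, Fintype.linearCombination_apply,
    quad_sum_orth Q u v Finset.univ horth, hQ'']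
  apply Finset.sum_congr rfl
  intro j _
  rw [hu]
  ring

/-- `Q` has an orthogonal family of full size with values `1, …, 1, d` -/
def DiagAt (d : F) : Prop :=
  ∃ (n' : ℕ) (b : Fin (n' + 1) → ι → F), Fintype.card ι = n' + 1 ∧
    (∀ i j, i ≠ j → polar ⇑Q (b i) (b j) = 0) ∧ (∀ i : Fin (n' + 1), (i : ℕ) < n' → Q (b i) = 1) ∧
    Q (b (Fin.last n')) = d

include h2 in
theorem exists_diagAt (hQ : (polarBilin Q).Nondegenerate) (hn : 1 ≤ Fintype.card ι) :
    ∃ d : F, d ≠ 0 ∧ DiagAt Q d := by
  obtain ⟨n', hn'⟩ : ∃ n', Fintype.card ι = n' + 1 := ⟨Fintype.card ι - 1, by omega⟩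
  obtain ⟨b, hb1, hb2⟩ := Cfsg.Agent.Lib.Helper5.exists_diag_basis h2 n' Q
    (fun z hz => hQ.1 z (fun y => by rw [polarBilin_apply_apply]; exact hz y))
    (by rw [Module.finrank_fintype_fun_eq_card, hn'])
  refine ⟨Q (b (Fin.last n')), ?_, n', fun i => b i, hn', hb1, hb2, rfl⟩
  intro h0
  have hz : polarBilin Q (b (Fin.last n')) = 0 := by
    apply b.ext
    intro j
    rw [polarBilin_apply_apply, LinearMap.zero_apply]
    by_cases hj : Fin.last n' = j
    · rw [← hj, polar_self, h0, smul_zero]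
    · exact hb1 _ _ hj
  have h1 : b (Fin.last n') = 0 := by
    apply hQ.1
    intro y
    rw [hz, LinearMap.zero_apply]
  exact b.ne_zero _ h1

variable {Q}

theorem DiagAt.scale {d : F} (h : DiagAt Q d) (c : F) : DiagAt Q (c * c * d) := by
  obtain ⟨n', b, hn, hb1, hb2, hb3⟩ := h
  refine ⟨n', fun i => if i = Fin.last n' then c • b i else b i, hn, ?_, ?_, ?_⟩
  · intro i j hij
    show polar ⇑Q (if i = Fin.last n' then c • b i else b i)
      (if j = Fin.last n' then c • b j else b j) = 0
    by_cases hi : i = Fin.last n' <;> by_cases hj : j = Fin.last n'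
    · exact absurd (hi.trans hj.symm) hij
    · rw [if_pos hi, if_neg hj, polar_smul_left, hb1 i j hij, smul_zero]
    · rw [if_neg hi, if_pos hj, polar_smul_right, hb1 i j hij, smul_zero]
    · rw [if_neg hi, if_neg hj, hb1 i j hij]
  · intro i hi
    have hne : i ≠ Fin.last n' := by
      intro h
      rw [h, Fin.val_last] at hi
      omega
    show Q (if i = Fin.last n' then c • b i else b i) = 1
    rw [if_neg hne]
    exact hb2 i hi
  · show Q (if Fin.last n' = Fin.last n' then c • b (Fin.last n') else b (Fin.last n')) = _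
    rw [if_pos rfl, QuadraticMap.map_smul, hb3, smul_eq_mul]

include h2 in
/-- a diagonal form with the same values is isometric -/
theorem DiagAt.iso {d : F} (h : DiagAt Q d) (hd : d ≠ 0) {κ : Type} [Fintype κ] [DecidableEq κ]
    (Q'' : QuadraticForm F (κ → F)) (a : κ → F) (hQ'' : ∀ v, Q'' v = ∑ j, a j * v j * v j)
    (k₀ : κ) (ha1 : ∀ j, j ≠ k₀ → a j = 1) (ha0 : a k₀ = d)
    (hcard : Fintype.card κ = Fintype.card ι) :
    Nonempty (↥(isometryGroup F ⇑Q'') ≃* ↥(isometryGroup F ⇑Q)) := by
  obtain ⟨n', b, hn, hb1, hb2, hb3⟩ := h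
  have hκ : Fintype.card κ = n' + 1 := hcard.trans hn
  obtain ⟨e, he⟩ : ∃ e : κ ≃ Fin (n' + 1), e k₀ = Fin.last n' := by
    refine ⟨(Fintype.equivFinOfCardEq hκ).trans
      (Equiv.swap (Fintype.equivFinOfCardEq hκ k₀) (Fin.last n')), ?_⟩
    rw [Equiv.trans_apply, Equiv.swap_apply_left]
  have hval : ∀ j, Q (b (e j)) = a j := by
    intro j
    by_cases hj : j = k₀
    · rw [hj, he, hb3, ha0]
    · rw [ha1 j hj]
      apply hb2
      apply Fin.val_lt_last
      intro h
      apply hj
      apply e.injective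
      rw [h, he]
  apply iso_of_orth h2 Q Q'' a hQ'' (fun j => b (e j))
  · intro i j hij
    exact hb1 _ _ (fun h => hij (e.injective h))
  · exact hval
  · intro j
    by_cases hj : j = k₀
    · rw [hj, ha0]; exact hd
    · rw [ha1 j hj]; exact one_ne_zero
  · exact hcard

include h2 in
/-- two forms with the same diagonal shape have isometry groups of the same order -/
theorem DiagAt.card_eq {d : F} (h : DiagAt Q d) (hd : d ≠ 0) {ι' : Type} [Fintype ι']
    [DecidableEq ι'] {Q' : QuadraticForm F (ι' → F)} (h' : DiagAt Q' d)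
    (hcard : Fintype.card ι' = Fintype.card ι) :
    Nat.card ↥(isometryGroup F ⇑Q') = Nat.card ↥(isometryGroup F ⇑Q) := by
  obtain ⟨k₀⟩ : Nonempty ι := by
    obtain ⟨n', b, hn, -⟩ := h
    rw [← Fintype.card_pos_iff, hn]
    omega
  have hws : ∀ v : ι → F, (weightedSumSquares F (fun j : ι => if j = k₀ then d else 1)) v =
      ∑ j, (if j = k₀ then d else 1) * v j * v j := by
    intro v
    rw [weightedSumSquares_apply]
    apply Finset.sum_congr rfl
    intro j _
    rw [smul_eq_mul, mul_assoc]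
  obtain ⟨e1⟩ := h.iso h2 hd (weightedSumSquares F (fun j : ι => if j = k₀ then d else 1))
    (fun j => if j = k₀ then d else 1) hws k₀ (fun j hj => if_neg hj) (if_pos rfl) rfl
  obtain ⟨e2⟩ := h'.iso h2 hd (weightedSumSquares F (fun j : ι => if j = k₀ then d else 1))
    (fun j => if j = k₀ then d else 1) hws k₀ (fun j hj => if_neg hj) (if_pos rfl) hcard.symm
  rw [← Nat.card_congr e1.toEquiv, ← Nat.card_congr e2.toEquiv]

include h2 in
/-- two forms of the same dimension whose last diagonal values are both nonsquares have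
isometry groups of the same order -/
theorem DiagAt.card_eq_of_nonsquare {d d' : F} (h : DiagAt Q d) (hd : d ≠ 0) (hds : ¬ IsSquare d)
    {ι' : Type} [Fintype ι'] [DecidableEq ι'] {Q' : QuadraticForm F (ι' → F)} (h' : DiagAt Q' d')
    (hd' : d' ≠ 0) (hds' : ¬ IsSquare d') (hcard : Fintype.card ι' = Fintype.card ι) :
    Nat.card ↥(isometryGroup F ⇑Q') = Nat.card ↥(isometryGroup F ⇑Q) := by
  have hs : IsSquare (d * d') := by
    rw [← sgn_eq_one_iff, sgn_mul hd hd', sgn_of_not_isSquare hds, sgn_of_not_isSquare hds']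
    rfl
  obtain ⟨s, hs⟩ := hs
  have h'' : DiagAt Q' d := by
    have := h'.scale (s / d')
    have he : s / d' * (s / d') * d' = d := by
      field_simp
      rw [pow_two, ← hs, mul_comm]
    rwa [he] at this
  exact h.card_eq h2 hd h'' hcard

end diag

end Cfsg.Agent.Lib.Helper2.Sy2
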