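import Mathlib

set_option autoImplicit false

/-! Sylow `2`-subgroups of `Ω_n(q)`, `q` odd: the `2`-adic valuations of the orders of the
orthogonal groups. -/

namespace Cfsg.Agent.Lib.Helper2.Sy2

theorem v2_of_mod4 (n : ℕ) (h : n % 4 = 2) : padicValNat 2 n = 1 := by
  haveI : Fact (Nat.Prime 2) := ⟨Nat.prime_two⟩
  obtain ⟨k, rfl⟩ : ∃ k, n = 2 * k := ⟨n / 2, by omega⟩
  have hk : k % 2 = 1 := by omega
  rw [padicValNat.mul (by norm_num) (by intro h0; rw [h0] at hk; omega),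
    padicValNat.self (by norm_num), padicValNat.eq_zero_of_not_dvd (by omega)]

theorem sq_sub_one (q : ℕ) (hq : 1 ≤ q) : q ^ 2 - 1 = (q - 1) * (q + 1) := by
  obtain ⟨k, rfl⟩ : ∃ k, q = k + 1 := ⟨q - 1, by omega⟩
  rw [Nat.add_sub_cancel]
  apply Nat.sub_eq_of_eq_add
  ring

theorem v2_sq_sub_one (q : ℕ) (hq1 : 1 < q) :
    padicValNat 2 (q ^ 2 - 1) = padicValNat 2 (q - 1) + padicValNat 2 (q + 1) := by
  haveI : Fact (Nat.Prime 2) := ⟨Nat.prime_two⟩
  rw [sq_sub_one q (by omega), padicValNat.mul (by omega) (by omega)]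

theorem v2_plane_sq (q : ℕ) (hq1 : 1 < q) (h : q % 4 = 1) :
    padicValNat 2 (2 * (q - 1)) = padicValNat 2 (q ^ 2 - 1) := by
  haveI : Fact (Nat.Prime 2) := ⟨Nat.prime_two⟩
  rw [v2_sq_sub_one q hq1, v2_of_mod4 (q + 1) (by omega),
    padicValNat.mul (by norm_num) (by omega), padicValNat.self (by norm_num)]
  ring

theorem v2_plane_nsq (q : ℕ) (hq1 : 1 < q) (h : q % 4 = 3) :
    padicValNat 2 (2 * (q + 1)) = padicValNat 2 (q ^ 2 - 1) := by
  haveI : Fact (Nat.Prime 2) := ⟨Nat.prime_two⟩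
  rw [v2_sq_sub_one q hq1, v2_of_mod4 (q - 1) (by omega),
    padicValNat.mul (by norm_num) (by omega), padicValNat.self (by norm_num)]

theorem v2_pow_sub_one (q : ℕ) (hodd : Odd q) (hq1 : 1 < q) (j : ℕ) (hj : j ≠ 0) :
    padicValNat 2 (q ^ (2 * j) - 1) = padicValNat 2 (q ^ 2 - 1) + padicValNat 2 j := by
  haveI : Fact (Nat.Prime 2) := ⟨Nat.prime_two⟩
  have hd : 2 ∣ q - 1 := by
    obtain ⟨k, rfl⟩ := hodd
    exact ⟨k, by omega⟩
  have hnd : ¬ 2 ∣ q := by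
    obtain ⟨k, rfl⟩ := hodd
    omega
  have h := padicValNat.pow_two_sub_pow (x := q) (y := 1) hq1 hd hnd (n := 2 * j) (by omega)
    (even_two_mul j)
  rw [one_pow, padicValNat.mul (by norm_num) hj, padicValNat.self (by norm_num)] at h
  rw [v2_sq_sub_one q hq1]
  omega

theorem v2_factorial_succ (k : ℕ) :
    padicValNat 2 (k + 1).factorial = padicValNat 2 (k + 1) + padicValNat 2 k.factorial := by
  haveI : Fact (Nat.Prime 2) := ⟨Nat.prime_two⟩
  rw [Nat.factorial_succ, padicValNat.mul (by omega) (Nat.factorial_ne_zero k)]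

theorem pow_sub_one_ne_zero (q : ℕ) (hq1 : 1 < q) (i : ℕ) : q ^ (2 * (i + 1)) - 1 ≠ 0 := by
  have : 1 < q ^ (2 * (i + 1)) := Nat.one_lt_pow (by omega) hq1
  omega

theorem prod_ne_zero (q : ℕ) (hq1 : 1 < q) (k : ℕ) :
    ∏ i ∈ Finset.range k, (q ^ (2 * (i + 1)) - 1) ≠ 0 :=
  Finset.prod_ne_zero_iff.mpr (fun i _ => pow_sub_one_ne_zero q hq1 i)

theorem v2_prod (q : ℕ) (hodd : Odd q) (hq1 : 1 < q) (k : ℕ) :
    padicValNat 2 (∏ i ∈ Finset.range k, (q ^ (2 * (i + 1)) - 1)) =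
      k * padicValNat 2 (q ^ 2 - 1) + padicValNat 2 k.factorial := by
  haveI : Fact (Nat.Prime 2) := ⟨Nat.prime_two⟩
  induction k with
  | zero => simp
  | succ k ih =>
    rw [Finset.prod_range_succ, padicValNat.mul (prod_ne_zero q hq1 k)
      (pow_sub_one_ne_zero q hq1 k), ih, v2_pow_sub_one q hodd hq1 (k + 1) (by omega),
      v2_factorial_succ]
    ring

theorem v2_pow_odd (q : ℕ) (hodd : Odd q) (e : ℕ) : padicValNat 2 (q ^ e) = 0 := by
  apply padicValNat.eq_zero_of_not_dvd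
  have h := hodd.pow (n := e)
  intro hd
  rw [← even_iff_two_dvd] at hd
  exact (Nat.not_even_iff_odd.mpr h) hd

theorem v2_pm (q : ℕ) (hodd : Odd q) (hq1 : 1 < q) (m : ℕ) (hm : m ≠ 0) :
    padicValNat 2 (q ^ m - 1) + padicValNat 2 (q ^ m + 1) =
      padicValNat 2 (q ^ 2 - 1) + padicValNat 2 m := by
  haveI : Fact (Nat.Prime 2) := ⟨Nat.prime_two⟩
  have h1 : 1 < q ^ m := Nat.one_lt_pow hm hq1
  rw [← v2_pow_sub_one q hodd hq1 m hm]
  have : q ^ (2 * m) - 1 = (q ^ m - 1) * (q ^ m + 1) := by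
    rw [mul_comm 2 m, pow_mul]
    exact sq_sub_one (q ^ m) (by omega)
  rw [this, padicValNat.mul (by omega) (by omega)]

theorem v2_sub_pos (q : ℕ) (hodd : Odd q) (hq1 : 1 < q) (m : ℕ) (hm : m ≠ 0) :
    1 ≤ padicValNat 2 (q ^ m - 1) := by
  haveI : Fact (Nat.Prime 2) := ⟨Nat.prime_two⟩
  have h1 : 1 < q ^ m := Nat.one_lt_pow hm hq1
  apply one_le_padicValNat_of_dvd (by omega)
  obtain ⟨k, hk⟩ := hodd.pow (n := m)
  exact ⟨k, by omega⟩

theorem v2_add_pos (q : ℕ) (hodd : Odd q) (m : ℕ) :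
    1 ≤ padicValNat 2 (q ^ m + 1) := by
  haveI : Fact (Nat.Prime 2) := ⟨Nat.prime_two⟩
  apply one_le_padicValNat_of_dvd (by omega)
  obtain ⟨k, hk⟩ := hodd.pow (n := m)
  exact ⟨k + 1, by omega⟩

/-- the `2`-part of `|GO_{2m+1}(q)|` -/
theorem v2_odd_order (q : ℕ) (hodd : Odd q) (hq1 : 1 < q) (m : ℕ) :
    (2 * q ^ (m ^ 2) * ∏ i ∈ Finset.range m, (q ^ (2 * (i + 1)) - 1)).factorization 2 =
      m * padicValNat 2 (q ^ 2 - 1) + padicValNat 2 m.factorial + 1 := by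
  haveI : Fact (Nat.Prime 2) := ⟨Nat.prime_two⟩
  have hq0 : q ^ (m ^ 2) ≠ 0 := pow_ne_zero _ (by omega)
  rw [Nat.factorization_def _ Nat.prime_two,
    padicValNat.mul (mul_ne_zero (by norm_num) hq0) (prod_ne_zero q hq1 m),
    padicValNat.mul (by norm_num) hq0, padicValNat.self (by norm_num), v2_pow_odd q hodd,
    v2_prod q hodd hq1]
  ring

/-- the `2`-part of `|GO⁺_{2m}(q)|` -/
theorem v2_plus_order (q : ℕ) (hodd : Odd q) (hq1 : 1 < q) (m : ℕ) (hm : m ≠ 0) :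
    (2 * q ^ (m * (m - 1)) * (q ^ m - 1) *
      ∏ i ∈ Finset.range (m - 1), (q ^ (2 * (i + 1)) - 1)).factorization 2 =
      (m - 1) * padicValNat 2 (q ^ 2 - 1) + padicValNat 2 (m - 1).factorial + 1 +
        padicValNat 2 (q ^ m - 1) := by
  haveI : Fact (Nat.Prime 2) := ⟨Nat.prime_two⟩
  have hq0 : q ^ (m * (m - 1)) ≠ 0 := pow_ne_zero _ (by omega)
  have h1 : 1 < q ^ m := Nat.one_lt_pow hm hq1
  have h3 : q ^ m - 1 ≠ 0 := by omega
  rw [Nat.factorization_def _ Nat.prime_two,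
    padicValNat.mul (mul_ne_zero (mul_ne_zero (by norm_num) hq0) h3) (prod_ne_zero q hq1 _),
    padicValNat.mul (mul_ne_zero (by norm_num) hq0) h3,
    padicValNat.mul (by norm_num) hq0, padicValNat.self (by norm_num), v2_pow_odd q hodd,
    v2_prod q hodd hq1]
  ring

/-- the `2`-part of `|GO⁻_{2m}(q)|` -/
theorem v2_minus_order (q : ℕ) (hodd : Odd q) (hq1 : 1 < q) (m : ℕ) :
    (2 * q ^ (m * (m - 1)) * (q ^ m + 1) *
      ∏ i ∈ Finset.range (m - 1), (q ^ (2 * (i + 1)) - 1)).factorization 2 =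
      (m - 1) * padicValNat 2 (q ^ 2 - 1) + padicValNat 2 (m - 1).factorial + 1 +
        padicValNat 2 (q ^ m + 1) := by
  haveI : Fact (Nat.Prime 2) := ⟨Nat.prime_two⟩
  have hq0 : q ^ (m * (m - 1)) ≠ 0 := pow_ne_zero _ (by omega)
  have h3 : q ^ m + 1 ≠ 0 := by omega
  rw [Nat.factorization_def _ Nat.prime_two,
    padicValNat.mul (mul_ne_zero (mul_ne_zero (by norm_num) hq0) h3) (prod_ne_zero q hq1 _),
    padicValNat.mul (mul_ne_zero (by norm_num) hq0) h3,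
    padicValNat.mul (by norm_num) hq0, padicValNat.self (by norm_num), v2_pow_odd q hodd,
    v2_prod q hodd hq1]
  ring

/-- the two orders differ -/
theorem plus_ne_minus (q : ℕ) (hq1 : 1 < q) (m : ℕ) :
    2 * q ^ (m * (m - 1)) * (q ^ m - 1) *
      ∏ i ∈ Finset.range (m - 1), (q ^ (2 * (i + 1)) - 1) ≠
    2 * q ^ (m * (m - 1)) * (q ^ m + 1) *
      ∏ i ∈ Finset.range (m - 1), (q ^ (2 * (i + 1)) - 1) := by
  intro h
  have hq0 : q ^ (m * (m - 1)) ≠ 0 := pow_ne_zero _ (by omega)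
  have h1 := Nat.eq_of_mul_eq_mul_right (Nat.pos_of_ne_zero (prod_ne_zero q hq1 (m - 1))) h
  have h3 := Nat.eq_of_mul_eq_mul_left (Nat.pos_of_ne_zero (mul_ne_zero (by norm_num) hq0)) h1
  omega

/-- the factorial at a successor, in the form used for the tower -/
theorem v2_factorial_pred (m : ℕ) (hm : m ≠ 0) :
    padicValNat 2 m.factorial = padicValNat 2 m + padicValNat 2 (m - 1).factorial := by
  obtain ⟨k, rfl⟩ : ∃ k, m = k + 1 := ⟨m - 1, by omega⟩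
  rw [v2_factorial_succ, Nat.add_sub_cancel]

end Cfsg.Agent.Lib.Helper2.Sy2
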