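import Mathlib
import Cfsg.Prelude
import Cfsg.Agent.Lib.Helper2.Sy2F
import Cfsg.Agent.Lib.Helper2.Sy2G
import Cfsg.Agent.S0287
import Cfsg.Agent.Lib.Helper5.OrthPlane
import Cfsg.Agent.Lib.Helper5.QuadStd

set_option autoImplicit false
set_option linter.unusedSectionVars false
set_option linter.unusedVariables false
open Cfsg

/-! Sylow `2`-subgroups of `Ω_n(q)`, `q` odd: the blocks of the diagonal model, lines and the
plane `x² + y²`. -/

namespace Cfsg.Agent.Lib.Helper2.Sy2

open Matrix QuadraticMap Module Cfsg.Agent.Lib.Helper5.CartanDieudonne Cfsg.Agent.Lib.Helper5.Refl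
  Cfsg.Agent.Lib.Helper5.SpinorNorm Cfsg.Agent.Lib.Helper5.OrthSum
  Cfsg.Agent.Lib.Helper5.OrthSumDiag Cfsg.Agent.Lib.Helper5.OrthCard

section forms

variable {F : Type*} [Field F] [Fintype F]

/-- diagonal forms -/
def IsDiag {κ : Type} [Fintype κ] (Q : QuadraticForm F (κ → F)) (a : κ → F) : Prop :=
  ∀ v, Q v = ∑ j, a j * v j * v j

theorem IsDiag.sum {κ₁ κ₂ : Type} [Fintype κ₁] [Fintype κ₂] [DecidableEq κ₁] [DecidableEq κ₂]
    {Q₁ : QuadraticForm F (κ₁ → F)} {Q₂ : QuadraticForm F (κ₂ → F)} {a₁ : κ₁ → F} {a₂ : κ₂ → F}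
    (h₁ : IsDiag Q₁ a₁) (h₂ : IsDiag Q₂ a₂) : IsDiag (sumForm Q₁ Q₂) (Sum.elim a₁ a₂) := by
  intro v
  rw [sumForm_apply, h₁, h₂, Fintype.sum_sum_type]
  rfl

theorem IsSq.isDiag {κ : Type} [Fintype κ] {Q : QuadraticForm F (κ → F)} (h : IsSq Q) :
    IsDiag Q (fun _ => 1) := by
  intro v
  rw [h]
  apply Finset.sum_congr rfl
  intro j _
  rw [one_mul]

/-- the form `d x²` on a line -/
noncomputable def lineForm (d : F) : QuadraticForm F (Fin 1 → F) :=
  weightedSumSquares F (fun _ : Fin 1 => d)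

theorem lineForm_isDiag (d : F) : IsDiag (lineForm d) (fun _ => d) := by
  intro v
  unfold lineForm
  rw [weightedSumSquares_apply]
  apply Finset.sum_congr rfl
  intro j _
  rw [smul_eq_mul, mul_assoc]

theorem lineForm_apply (d : F) (v : Fin 1 → F) : lineForm d v = d * v 0 * v 0 := by
  rw [lineForm_isDiag d v, Fin.sum_univ_one]

theorem lineForm_one_isSq : IsSq (lineForm (1 : F)) := by
  intro v
  rw [lineForm_isDiag]
  apply Finset.sum_congr rfl
  intro j _
  rw [one_mul]

theorem lineForm_e1 (d : F) : lineForm d (fun _ => (1 : F)) = d := by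
  rw [lineForm_apply, mul_one, mul_one]

theorem lineForm_nondegenerate (h2 : (2 : F) ≠ 0) (d : F) (hd : d ≠ 0) :
    (polarBilin (lineForm d)).Nondegenerate := by
  have key : ∀ u : Fin 1 → F, (∀ v, polar ⇑(lineForm d) u v = 0) → u = 0 := by
    intro u hu
    have h := hu u
    rw [polar_self, lineForm_apply, nsmul_eq_mul] at h
    push_cast at h
    have h0 : u 0 = 0 := by
      rcases mul_eq_zero.mp h with h | h
      · exact absurd h h2
      · rcases mul_eq_zero.mp h with h | h
        · rcases mul_eq_zero.mp h with h | h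
          · exact absurd h hd
          · exact h
        · exact h
    funext i
    rw [Subsingleton.elim i 0, h0]
    rfl
  constructor
  · intro u hu
    exact key u (fun v => by simpa using hu v)
  · intro u hu
    apply key u
    intro v
    rw [polar_comm]
    simpa using hu v

/-- the plane `x² + y²` -/
noncomputable def planeForm (F : Type*) [Field F] [Fintype F] :
    QuadraticForm F (Fin 1 ⊕ Fin 1 → F) :=
  sumForm (lineForm 1) (lineForm 1)

theorem planeForm_isSq : IsSq (planeForm F) := IsSq.sum lineForm_one_isSq lineForm_one_isSq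

theorem planeForm_nondegenerate (h2 : (2 : F) ≠ 0) : (polarBilin (planeForm F)).Nondegenerate :=
  sumForm_nondegenerate _ _ (lineForm_nondegenerate h2 1 one_ne_zero)
    (lineForm_nondegenerate h2 1 one_ne_zero)

theorem plusForm_one_apply (x : Fin 1 ⊕ Fin 1 → F) :
    Cfsg.Agent.Lib.Helper5.plusForm 1 F x = x (Sum.inl 0) * x (Sum.inr 0) := by
  rw [Cfsg.Agent.Lib.Helper5.plusForm_apply]
  unfold Cfsg.quadFormPlus
  rw [Fin.sum_univ_one]

theorem polar_plusForm_one (x y : Fin 1 ⊕ Fin 1 → F) :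
    polar ⇑(Cfsg.Agent.Lib.Helper5.plusForm 1 F) x y =
      x (Sum.inl 0) * y (Sum.inr 0) + y (Sum.inl 0) * x (Sum.inr 0) := by
  simp only [polar, plusForm_one_apply, Pi.add_apply]
  ring

end forms

section orders

variable {F : Type*} [Field F] [Fintype F] (h2 : (2 : F) ≠ 0)

include h2 in
theorem card_plane_sq (hs : IsSquare (-1 : F)) :
    Nat.card ↥(isometryGroup F ⇑(planeForm F)) = 2 * (Fintype.card F - 1) := by
  obtain ⟨i, hi⟩ := hs
  have hiso : Nonempty (↥(isometryGroup F ⇑(planeForm F)) ≃*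
      ↥(isometryGroup F ⇑(Cfsg.Agent.Lib.Helper5.plusForm 1 F))) := by
    apply iso_of_orth h2 (Cfsg.Agent.Lib.Helper5.plusForm 1 F) (planeForm F) (fun _ => 1)
      planeForm_isSq.isDiag
      (Sum.elim (fun _ => Sum.elim (fun _ => 1) (fun _ => 1))
        (fun _ => Sum.elim (fun _ => i) (fun _ => -i)))
    · intro j l hjl
      rcases j with j | j <;> rcases l with l | l
      · exact absurd (by rw [Subsingleton.elim j l]) hjl
      · rw [polar_plusForm_one]
        simp only [Sum.elim_inl, Sum.elim_inr]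
        ring
      · rw [polar_plusForm_one]
        simp only [Sum.elim_inl, Sum.elim_inr]
        ring
      · exact absurd (by rw [Subsingleton.elim j l]) hjl
    · intro j
      rcases j with j | j
      · rw [plusForm_one_apply]
        simp only [Sum.elim_inl, Sum.elim_inr]
        ring
      · rw [plusForm_one_apply]
        simp only [Sum.elim_inl, Sum.elim_inr]
        linear_combination hi
    · intro j
      exact one_ne_zero
    · rfl
  obtain ⟨e⟩ := hiso
  rw [Nat.card_congr e.toEquiv, Cfsg.Agent.Lib.Helper5.coe_plusForm,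
    Cfsg.Agent.S0287.result rfl 1 le_rfl]
  simp

include h2 in
theorem card_plane_nsq (hs : ¬ IsSquare (-1 : F)) :
    Nat.card ↥(isometryGroup F ⇑(planeForm F)) = 2 * (Fintype.card F + 1) := by
  have han : ∀ v : Fin 2 → F, Cfsg.Agent.Lib.Helper5.OrthPlane.binForm (0 : F) 1 v = 0 → v = 0 := by
    intro v hv
    rw [Cfsg.Agent.Lib.Helper5.OrthPlane.binForm_apply] at hv
    have h1 : v 1 = 0 := by
      by_contra h
      apply hs
      refine ⟨v 0 / v 1, ?_⟩
      field_simp
      linear_combination (-1 : F) * hv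
    have h0 : v 0 = 0 := by
      rw [h1] at hv
      have : v 0 * v 0 = 0 := by linear_combination hv
      exact mul_self_eq_zero.mp this
    ext j
    fin_cases j
    · exact h0
    · exact h1
  have hiso : Nonempty (↥(isometryGroup F ⇑(planeForm F)) ≃*
      ↥(isometryGroup F ⇑(Cfsg.Agent.Lib.Helper5.OrthPlane.binForm (0 : F) 1))) := by
    apply iso_of_orth h2 (Cfsg.Agent.Lib.Helper5.OrthPlane.binForm (0 : F) 1) (planeForm F)
      (fun _ => 1) planeForm_isSq.isDiag
      (Sum.elim (fun _ => ![1, 0]) (fun _ => ![0, 1]))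
    · intro j l hjl
      rcases j with j | j <;> rcases l with l | l
      · exact absurd (by rw [Subsingleton.elim j l]) hjl
      · rw [Cfsg.Agent.Lib.Helper5.OrthPlane.polar_binForm]
        simp
      · rw [Cfsg.Agent.Lib.Helper5.OrthPlane.polar_binForm]
        simp
      · exact absurd (by rw [Subsingleton.elim j l]) hjl
    · intro j
      rcases j with j | j
      · rw [Cfsg.Agent.Lib.Helper5.OrthPlane.binForm_apply]
        simp
      · rw [Cfsg.Agent.Lib.Helper5.OrthPlane.binForm_apply]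
        simp
    · intro j
      exact one_ne_zero
    · rfl
  obtain ⟨e⟩ := hiso
  rw [Nat.card_congr e.toEquiv, Cfsg.Agent.Lib.Helper5.OrthPlane.card_binForm_isom 0 1 han]

include h2 in
/-- the `2`-part of `|O(x² + y²)|` -/
theorem val2_card_plane (hq : Odd (Fintype.card F)) :
    (Nat.card ↥(isometryGroup F ⇑(planeForm F))).factorization 2 =
      padicValNat 2 (Fintype.card F ^ 2 - 1) := by
  have hq1 : 1 < Fintype.card F := Fintype.one_lt_card
  rw [Nat.factorization_def _ Nat.prime_two]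
  by_cases hs : IsSquare (-1 : F)
  · rw [card_plane_sq h2 hs]
    have h4 := FiniteField.isSquare_neg_one_iff.mp hs
    apply v2_plane_sq _ hq1
    obtain ⟨k, hk⟩ := hq
    omega
  · rw [card_plane_nsq h2 hs]
    have h4 : Fintype.card F % 4 = 3 := by
      by_contra h
      exact hs (FiniteField.isSquare_neg_one_iff.mpr h)
    exact v2_plane_nsq _ hq1 h4

end orders

section blocks

variable {F : Type*} [Field F] [Fintype F] (h2 : (2 : F) ≠ 0)

/-- **the line block** -/
theorem line_block (d : F) (hd : d ≠ 0) :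
    ∃ (S : Subgroup ↥(isometryGroup F ⇑(lineForm d)))
      (X : Set ↥(isometryGroup F ⇑(lineForm d))),
      Good h2 (lineForm d) (lineForm_nondegenerate h2 d hd) S X 1 ∧
      Prod2 h2 (lineForm d) (lineForm_nondegenerate h2 d hd) S X ∧
      (IsSquare d → HasA h2 (lineForm d) (lineForm_nondegenerate h2 d hd) X) ∧
      (¬ IsSquare d → HasB h2 (lineForm d) (lineForm_nondegenerate h2 d hd) X) := by
  have hv : lineForm d (fun _ => (1 : F)) ≠ 0 := by rw [lineForm_e1]; exact hd
  refine ⟨Subgroup.zpowers (reflection (lineForm d) _ hv), {reflection (lineForm d) _ hv},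
    good_refl h2 _ _ _ hv, prod2_singleton h2 _ _ _ _ (reflection_sq _ _ hv), ?_, ?_⟩
  · intro hs
    exact ⟨_, rfl, theta_reflection_sq h2 _ _ _ hv (by rw [lineForm_e1]; exact hs)⟩
  · intro hs
    exact ⟨_, rfl, theta_reflection_nsq h2 _ _ _ hv (by rw [lineForm_e1]; exact hs)⟩

/-- **a Sylow `2`-subgroup of the orthogonal group of a plane is good** -/
theorem sylow_block {ι : Type} [Fintype ι] [DecidableEq ι] (Q : QuadraticForm F (ι → F))
    (hQ : (polarBilin Q).Nondegenerate) (hc : Fintype.card ι = 2)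
    (D : Sylow 2 ↥(isometryGroup F ⇑Q)) :
    Good h2 Q hQ (D : Subgroup ↥(isometryGroup F ⇑Q))
      {g | g ∈ (D : Subgroup ↥(isometryGroup F ⇑Q)) ∧ (theta Q h2 hQ g).1 = -1}
      ((Nat.card ↥(isometryGroup F ⇑Q)).factorization 2) ∧
    HasA h2 Q hQ {g | g ∈ (D : Subgroup ↥(isometryGroup F ⇑Q)) ∧ (theta Q h2 hQ g).1 = -1} ∧
    HasB h2 Q hQ {g | g ∈ (D : Subgroup ↥(isometryGroup F ⇑Q)) ∧ (theta Q h2 hQ g).1 = -1} := by
  haveI : Fact (Nat.Prime 2) := ⟨Nat.prime_two⟩
  have hsurj := theta_surjective Q h2 hQ (by omega)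
  have h4 : Nat.card (ℤˣ × ℤˣ) = 4 := by
    rw [Nat.card_prod, Nat.card_eq_fintype_card, Fintype.card_units_int]
  have hmap : (D : Subgroup ↥(isometryGroup F ⇑Q)).map (theta Q h2 hQ) = ⊤ := by
    have h1 := Sylow.card_eq_multiplicity (D.mapSurjective hsurj)
    rw [Sylow.coe_mapSurjective, h4] at h1
    have h5 : (4 : ℕ).factorization 2 = 2 := by
      have : (4 : ℕ) = 2 ^ 2 := by norm_num
      rw [this, Nat.Prime.factorization_pow Nat.prime_two]
      simp
    rw [h5] at h1
    apply Subgroup.eq_top_of_card_eq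
    rw [h1, h4]
    norm_num
  have hex : ∀ y : ℤˣ × ℤˣ, ∃ x ∈ (D : Subgroup ↥(isometryGroup F ⇑Q)),
      theta Q h2 hQ x = y := by
    intro y
    have : y ∈ (D : Subgroup ↥(isometryGroup F ⇑Q)).map (theta Q h2 hQ) := by
      rw [hmap]; trivial
    obtain ⟨x, hx, hxy⟩ := Subgroup.mem_map.mp this
    exact ⟨x, hx, hxy⟩
  obtain ⟨xa, hxaD, hxa⟩ := hex va
  obtain ⟨xb, hxbD, hxb⟩ := hex vb
  have hXa : xa ∈ {g | g ∈ (D : Subgroup ↥(isometryGroup F ⇑Q)) ∧
      (theta Q h2 hQ g).1 = -1} := ⟨hxaD, by rw [hxa]; rfl⟩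
  have hXb : xb ∈ {g | g ∈ (D : Subgroup ↥(isometryGroup F ⇑Q)) ∧
      (theta Q h2 hQ g).1 = -1} := ⟨hxbD, by rw [hxb]; rfl⟩
  have hxa2 : xa * xa = 1 := sq_eq_one_of_det_neg h2 Q hQ hc xa hXa.2
  have hθc : ∀ d n : ↥(isometryGroup F ⇑Q),
      theta Q h2 hQ (d * n * d⁻¹) = theta Q h2 hQ n := by
    intro d n
    rw [map_mul, map_mul, map_inv, mul_comm, inv_mul_cancel_left]
  refine ⟨⟨D.isPGroup', ?_, ?_, ?_, ?_, ?_, ?_⟩, ⟨xa, hXa, hxa⟩, ⟨xb, hXb, hxb⟩⟩
  · rw [Sylow.card_eq_multiplicity]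
  · intro x hx
    exact hx.1
  · intro x hx
    exact sq_eq_one_of_det_neg h2 Q hQ hc x hx.2
  · intro x hx
    exact (theta_fst_sq h2 Q hQ x).mpr hx.2
  · intro d hd
    rw [Subgroup.mem_set_normalizer_iff]
    intro n
    constructor
    · intro hn
      exact ⟨Subgroup.mul_mem _ (Subgroup.mul_mem _ hd hn.1) (Subgroup.inv_mem _ hd), by
        rw [hθc]; exact hn.2⟩
    · intro hn
      have h1 : n = d⁻¹ * (d * n * d⁻¹) * d := by group
      refine ⟨?_, ?_⟩
      · rw [h1]
        exact Subgroup.mul_mem _ (Subgroup.mul_mem _ (Subgroup.inv_mem _ hd) hn.1) hd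
      · rw [← hθc d n]
        exact hn.2
  · intro g hg
    by_cases h1 : (theta Q h2 hQ g).1 = -1
    · exact Subgroup.subset_closure (Or.inl ⟨hg, h1⟩)
    · have h1' : (theta Q h2 hQ g).1 = 1 := (Int.units_eq_one_or _).resolve_right h1
      have hgx : g * xa ∈ {g | g ∈ (D : Subgroup ↥(isometryGroup F ⇑Q)) ∧
          (theta Q h2 hQ g).1 = -1} :=
        ⟨Subgroup.mul_mem _ hg hxaD, by rw [map_mul, Prod.fst_mul, h1', hxa]; rfl⟩
      have h3 : g = (g * xa) * xa := by rw [mul_assoc, hxa2, mul_one]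
      rw [h3]
      exact Subgroup.mul_mem _ (Subgroup.subset_closure (Or.inl hgx))
        (Subgroup.subset_closure (Or.inl hXa))

/-- **the plane block** -/
theorem plane_block (hq : Odd (Fintype.card F)) :
    ∃ (S : Subgroup ↥(isometryGroup F ⇑(planeForm F)))
      (X : Set ↥(isometryGroup F ⇑(planeForm F))),
      Good h2 (planeForm F) (planeForm_nondegenerate h2) S X
        (padicValNat 2 (Fintype.card F ^ 2 - 1)) ∧
      HasA h2 (planeForm F) (planeForm_nondegenerate h2) X ∧
      HasB h2 (planeForm F) (planeForm_nondegenerate h2) X := by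
  haveI : Fact (Nat.Prime 2) := ⟨Nat.prime_two⟩
  obtain ⟨D⟩ : Nonempty (Sylow 2 ↥(isometryGroup F ⇑(planeForm F))) := inferInstance
  have h := sylow_block h2 (planeForm F) (planeForm_nondegenerate h2) rfl D
  rw [val2_card_plane h2 hq] at h
  exact ⟨_, _, h⟩

end blocks

end Cfsg.Agent.Lib.Helper2.Sy2
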