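import Mathlib
import Cfsg.Prelude
import Cfsg.Agent.Lib.Helper2.Sy2H

set_option autoImplicit false
set_option linter.unusedSectionVars false
set_option linter.unusedVariables false
open Cfsg

/-! Sylow `2`-subgroups of `Ω_n(q)`, `q` odd: the diagonal models and the assembly. -/

namespace Cfsg.Agent.Lib.Helper2.Sy2

open Matrix QuadraticMap Module Cfsg.Agent.Lib.Helper5.CartanDieudonne Cfsg.Agent.Lib.Helper5.Refl
  Cfsg.Agent.Lib.Helper5.SpinorNorm Cfsg.Agent.Lib.Helper5.OrthSum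
  Cfsg.Agent.Lib.Helper5.OrthSumDiag Cfsg.Agent.Lib.Helper5.OrthCard

theorem two_ne_zero_odd {F : Type*} [Field F] [Fintype F] (hq : Odd (Fintype.card F)) :
    (2 : F) ≠ 0 := by
  apply Ring.two_ne_zero
  intro h
  have := FiniteField.even_card_iff_char_two.mp h
  rw [Nat.odd_iff] at hq
  omega

section finish

variable {F : Type*} [Field F] [Fintype F] (h2 : (2 : F) ≠ 0)
  {ι : Type} [Fintype ι] [DecidableEq ι] {Q : QuadraticForm F (ι → F)}
  {hQ : (polarBilin Q).Nondegenerate}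

/-- Lagrange for a good subgroup -/
theorem Good.le_val {S : Subgroup ↥(isometryGroup F ⇑Q)} {X : Set ↥(isometryGroup F ⇑Q)} {w : ℕ}
    (G : Good h2 Q hQ S X w) : w ≤ (Nat.card ↥(isometryGroup F ⇑Q)).factorization 2 := by
  haveI : Fact (Nat.Prime 2) := ⟨Nat.prime_two⟩
  obtain ⟨s, hs⟩ := G.pg.exists_card_eq
  have h1 : 2 ^ w ≤ 2 ^ s := by rw [← hs]; exact G.card
  have h3 : w ≤ s := (Nat.pow_le_pow_iff_right (by norm_num)).mp h1
  have h4 : 2 ^ s ∣ Nat.card ↥(isometryGroup F ⇑Q) := by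
    rw [← hs]; exact Subgroup.card_subgroup_dvd_card S
  have h5 := (Nat.Prime.pow_dvd_iff_le_factorization Nat.prime_two (Nat.card_pos.ne')).mp h4
  omega

/-- a good subgroup of the right order witnesses `SylGen` -/
theorem sylGen_of_good {S : Subgroup ↥(isometryGroup F ⇑Q)} {X : Set ↥(isometryGroup F ⇑Q)}
    {w : ℕ} (G : Good h2 Q hQ S X w) (hP : Prod2 h2 Q hQ S X) (hn : 2 ≤ Fintype.card ι)
    (hw : (Nat.card ↥(isometryGroup F ⇑Q)).factorization 2 ≤ w) :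
    SylGen ↥(isometryGroup F ⇑Q) := by
  haveI : Fact (Nat.Prime 2) := ⟨Nat.prime_two⟩
  obtain ⟨s, hs⟩ := G.pg.exists_card_eq
  have h1 : 2 ^ w ≤ 2 ^ s := by rw [← hs]; exact G.card
  have h3 : w ≤ s := (Nat.pow_le_pow_iff_right (by norm_num)).mp h1
  have h4 : 2 ^ s ∣ Nat.card ↥(isometryGroup F ⇑Q) := by
    rw [← hs]; exact Subgroup.card_subgroup_dvd_card S
  have h5 := (Nat.Prime.pow_dvd_iff_le_factorization Nat.prime_two (Nat.card_pos.ne')).mp h4
  refine ⟨S, ?_, ?_⟩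
  · rw [hs]
    congr 1
    omega
  · rw [← ker_theta Q h2 hQ hn]
    exact G.gen_inv h2 hP

end finish

section models

variable {F : Type*} [Field F] [Fintype F] (h2 : (2 : F) ≠ 0)

/-- the model `x₁² + … + x_{2k}²` -/
theorem model_sq (hq : Odd (Fintype.card F)) (k : ℕ) (hk : 1 ≤ k) :
    ∃ (κ : Type) (_ : Fintype κ) (_ : DecidableEq κ) (Q' : QuadraticForm F (κ → F))
      (hQ' : (polarBilin Q').Nondegenerate) (S' : Subgroup ↥(isometryGroup F ⇑Q'))
      (X' : Set ↥(isometryGroup F ⇑Q')),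
      Good h2 Q' hQ' S' X'
        (k * padicValNat 2 (Fintype.card F ^ 2 - 1) + padicValNat 2 k.factorial) ∧
      HasA h2 Q' hQ' X' ∧ HasB h2 Q' hQ' X' ∧ IsSq Q' ∧ Fintype.card κ = 2 * k ∧
      (2 ≤ k → Prod2 h2 Q' hQ' S' X') := by
  obtain ⟨S, X, G, hA, hB⟩ := plane_block h2 hq
  have hθ : theta (sumForm (planeForm F) (planeForm F)) h2
      (sumForm_nondegenerate _ _ (planeForm_nondegenerate h2) (planeForm_nondegenerate h2))
      (swap (planeForm F)) = 1 := theta_swap_dbl (lineForm 1) h2 _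
  obtain ⟨κ, i1, i2, Q', hQ', S', X', G', hA', hB', hsq', hcard, hP⟩ :=
    tower h2 k hk (Fin 1 ⊕ Fin 1) (planeForm F) (planeForm_nondegenerate h2) S X _ G hA hB
      planeForm_isSq hθ
  refine ⟨κ, i1, i2, Q', hQ', S', X', G', hA', hB', hsq', ?_, fun h => hP (Or.inr h)⟩
  rw [hcard]
  simp [mul_comm]

/-- the model `x₁² + … + x_{2k}² + d y²` -/
theorem model_odd (hq : Odd (Fintype.card F)) (k : ℕ) (hk : 2 ≤ k) (d : F) (hd : d ≠ 0) :
    ∃ (κ : Type) (_ : Fintype κ) (_ : DecidableEq κ) (Q' : QuadraticForm F (κ → F))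
      (hQ' : (polarBilin Q').Nondegenerate) (S' : Subgroup ↥(isometryGroup F ⇑Q'))
      (X' : Set ↥(isometryGroup F ⇑Q')) (a : κ → F) (k₀ : κ),
      Good h2 Q' hQ' S' X'
        (k * padicValNat 2 (Fintype.card F ^ 2 - 1) + padicValNat 2 k.factorial + 1) ∧
      Prod2 h2 Q' hQ' S' X' ∧ IsDiag Q' a ∧ (∀ j, j ≠ k₀ → a j = 1) ∧ a k₀ = d ∧
      Fintype.card κ = 2 * k + 1 := by
  obtain ⟨κ, i1, i2, Q₁, hQ₁, S₁, X₁, G₁, hA₁, hB₁, hsq₁, hcard₁, hP₁⟩ :=
    model_sq h2 hq k (by omega)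
  obtain ⟨S₂, X₂, G₂, hP₂, -, -⟩ := line_block h2 d hd
  have hLd := lineForm_nondegenerate h2 d hd
  have hs := sumForm_nondegenerate Q₁ (lineForm d) hQ₁ hLd
  refine ⟨κ ⊕ Fin 1, inferInstance, inferInstance, sumForm Q₁ (lineForm d), hs, prodS S₁ S₂,
    sumX X₁ X₂, Sum.elim (fun _ => 1) (fun _ => d), Sum.inr 0,
    Good.sum h2 hQ₁ hLd hs G₁ G₂,
    Prod2.sum h2 hQ₁ hLd hs G₁ G₂ (Or.inl (hP₁ hk)) (Or.inl hP₂),
    hsq₁.isDiag.sum (lineForm_isDiag d), ?_, rfl, ?_⟩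
  · intro j hj
    rcases j with j | j
    · rfl
    · exfalso
      apply hj
      rw [Subsingleton.elim j 0]
  · rw [Fintype.card_sum, hcard₁, Fintype.card_fin]

/-- the model `x₁² + … + x_{2k}² + y² + d z²` -/
theorem model_nsq (hq : Odd (Fintype.card F)) (k : ℕ) (hk : 1 ≤ k) (d : F) (hd : d ≠ 0)
    (hds : ¬ IsSquare d) :
    ∃ (κ : Type) (_ : Fintype κ) (_ : DecidableEq κ) (Q' : QuadraticForm F (κ → F))
      (hQ' : (polarBilin Q').Nondegenerate) (S' : Subgroup ↥(isometryGroup F ⇑Q'))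
      (X' : Set ↥(isometryGroup F ⇑Q')) (a : κ → F) (k₀ : κ),
      Good h2 Q' hQ' S' X'
        (k * padicValNat 2 (Fintype.card F ^ 2 - 1) + padicValNat 2 k.factorial + 2) ∧
      Prod2 h2 Q' hQ' S' X' ∧ IsDiag Q' a ∧ (∀ j, j ≠ k₀ → a j = 1) ∧ a k₀ = d ∧
      Fintype.card κ = 2 * k + 2 := by
  obtain ⟨κ, i1, i2, Q₁, hQ₁, S₁, X₁, G₁, hA₁, hB₁, hsq₁, hcard₁, -⟩ := model_sq h2 hq k hk
  obtain ⟨S₂, X₂, G₂, hP₂, hA₂, -⟩ := line_block h2 (1 : F) one_ne_zero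
  obtain ⟨S₃, X₃, G₃, hP₃, -, hB₃⟩ := line_block h2 d hd
  have hL1 := lineForm_nondegenerate h2 (1 : F) one_ne_zero
  have hLd := lineForm_nondegenerate h2 d hd
  have hs23 := sumForm_nondegenerate (lineForm (1 : F)) (lineForm d) hL1 hLd
  have G23 := Good.sum h2 hL1 hLd hs23 G₂ G₃
  have P23 := Prod2.sum h2 hL1 hLd hs23 G₂ G₃ (Or.inl hP₂) (Or.inl hP₃)
  have A23 := HasA.sum_left h2 hL1 hLd hs23 X₃ (hA₂ ⟨1, (mul_one 1).symm⟩)
  have B23 := HasB.sum_right h2 hL1 hLd hs23 X₂ (hB₃ hds)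
  have hs := sumForm_nondegenerate Q₁ (sumForm (lineForm (1 : F)) (lineForm d)) hQ₁ hs23
  refine ⟨κ ⊕ (Fin 1 ⊕ Fin 1), inferInstance, inferInstance,
    sumForm Q₁ (sumForm (lineForm (1 : F)) (lineForm d)), hs, prodS S₁ (prodS S₂ S₃),
    sumX X₁ (sumX X₂ X₃), Sum.elim (fun _ => 1) (Sum.elim (fun _ => 1) (fun _ => d)),
    Sum.inr (Sum.inr 0), Good.sum h2 hQ₁ hs23 hs G₁ G23,
    Prod2.sum h2 hQ₁ hs23 hs G₁ G23 (Or.inr ⟨A23, B23⟩) (Or.inl P23),
    hsq₁.isDiag.sum ((lineForm_isDiag 1).sum (lineForm_isDiag d)), ?_, rfl, ?_⟩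
  · intro j hj
    rcases j with j | j | j
    · rfl
    · rfl
    · exfalso
      apply hj
      rw [Subsingleton.elim j 0]
  · rw [Fintype.card_sum, hcard₁]
    simp

end models

section assembly

variable {F : Type*} [Field F] [Fintype F] (h2 : (2 : F) ≠ 0)
  {ι : Type} [Fintype ι] [DecidableEq ι] (Q : QuadraticForm F (ι → F))

include h2

/-- **odd dimension** -/
theorem sylGen_odd (hq : Odd (Fintype.card F)) (hQ : (polarBilin Q).Nondegenerate) (m : ℕ)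
    (hm : 2 ≤ m) (hcard : Fintype.card ι = 2 * m + 1)
    (hN : (Nat.card ↥(isometryGroup F ⇑Q)).factorization 2 ≤
      m * padicValNat 2 (Fintype.card F ^ 2 - 1) + padicValNat 2 m.factorial + 1) :
    SylGen ↥(isometryGroup F ⇑Q) := by
  obtain ⟨d, hd, hD⟩ := exists_diagAt h2 Q hQ (by omega)
  obtain ⟨κ, i1, i2, Q', hQ', S', X', a, k₀, G, hP, hdiag, ha1, ha0, hκ⟩ :=
    model_odd h2 hq m hm d hd
  obtain ⟨e⟩ := hD.iso h2 hd Q' a hdiag k₀ ha1 ha0 (by rw [hκ, hcard])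
  apply SylGen.of_equiv e
  apply sylGen_of_good h2 G hP (by omega)
  rw [Nat.card_congr e.toEquiv]
  exact hN

/-- **even dimension, square discriminant** -/
theorem sylGen_even_sq (hq : Odd (Fintype.card F)) (m : ℕ) (hm : 2 ≤ m)
    (hcard : Fintype.card ι = 2 * m) (hD : DiagAt Q 1)
    (hN : (Nat.card ↥(isometryGroup F ⇑Q)).factorization 2 ≤
      m * padicValNat 2 (Fintype.card F ^ 2 - 1) + padicValNat 2 m.factorial) :
    SylGen ↥(isometryGroup F ⇑Q) := by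
  obtain ⟨κ, i1, i2, Q', hQ', S', X', G, -, -, hsq, hκ, hP⟩ := model_sq h2 hq m (by omega)
  obtain ⟨k₀⟩ : Nonempty κ := by
    rw [← Fintype.card_pos_iff, hκ]
    omega
  obtain ⟨e⟩ := hD.iso h2 one_ne_zero Q' (fun _ => 1) hsq.isDiag k₀ (fun _ _ => rfl) rfl
    (by rw [hκ, hcard])
  apply SylGen.of_equiv e
  apply sylGen_of_good h2 G (hP hm) (by omega)
  rw [Nat.card_congr e.toEquiv]
  exact hN

/-- **even dimension, nonsquare discriminant** -/
theorem sylGen_even_nsq (hq : Odd (Fintype.card F)) (m : ℕ) (hm : 2 ≤ m)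
    (hcard : Fintype.card ι = 2 * m) (d : F) (hd : d ≠ 0) (hds : ¬ IsSquare d)
    (hD : DiagAt Q d)
    (hN : (Nat.card ↥(isometryGroup F ⇑Q)).factorization 2 ≤
      (m - 1) * padicValNat 2 (Fintype.card F ^ 2 - 1) + padicValNat 2 (m - 1).factorial + 2) :
    SylGen ↥(isometryGroup F ⇑Q) := by
  obtain ⟨κ, i1, i2, Q', hQ', S', X', a, k₀, G, hP, hdiag, ha1, ha0, hκ⟩ :=
    model_nsq h2 hq (m - 1) (by omega) d hd hds
  obtain ⟨e⟩ := hD.iso h2 hd Q' a hdiag k₀ ha1 ha0 (by rw [hκ, hcard]; omega)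
  apply SylGen.of_equiv e
  apply sylGen_of_good h2 G hP (by omega)
  rw [Nat.card_congr e.toEquiv]
  exact hN

/-- Lagrange for the model with square discriminant -/
theorem tower_le_of_sq (hq : Odd (Fintype.card F)) (m : ℕ) (hm : 1 ≤ m)
    (hcard : Fintype.card ι = 2 * m) (hD : DiagAt Q 1) :
    m * padicValNat 2 (Fintype.card F ^ 2 - 1) + padicValNat 2 m.factorial ≤
      (Nat.card ↥(isometryGroup F ⇑Q)).factorization 2 := by
  obtain ⟨κ, i1, i2, Q', hQ', S', X', G, -, -, hsq, hκ, -⟩ := model_sq h2 hq m hm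
  obtain ⟨k₀⟩ : Nonempty κ := by
    rw [← Fintype.card_pos_iff, hκ]
    omega
  obtain ⟨e⟩ := hD.iso h2 one_ne_zero Q' (fun _ => 1) hsq.isDiag k₀ (fun _ _ => rfl) rfl
    (by rw [hκ, hcard])
  rw [← Nat.card_congr e.toEquiv]
  exact G.le_val h2

/-- **the discriminant trick**: if `Q` has nonsquare discriminant and `Q̃` is a form of the same
dimension with an isometry group of a different order, then `Q̃` has square discriminant -/
theorem val_le_of_nsq (hq : Odd (Fintype.card F)) {ι' : Type} [Fintype ι'] [DecidableEq ι']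
    (Q' : QuadraticForm F (ι' → F)) (hQ' : (polarBilin Q').Nondegenerate) (m : ℕ) (hm : 1 ≤ m)
    (hcard : Fintype.card ι = 2 * m) (hcard' : Fintype.card ι' = 2 * m) (d : F) (hd : d ≠ 0)
    (hds : ¬ IsSquare d) (hD : DiagAt Q d)
    (hne : Nat.card ↥(isometryGroup F ⇑Q) ≠ Nat.card ↥(isometryGroup F ⇑Q')) :
    m * padicValNat 2 (Fintype.card F ^ 2 - 1) + padicValNat 2 m.factorial ≤
      (Nat.card ↥(isometryGroup F ⇑Q')).factorization 2 := by
  obtain ⟨d', hd', hD'⟩ := exists_diagAt h2 Q' hQ' (by omega)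
  by_cases hs' : IsSquare d'
  · obtain ⟨c, hc⟩ := hs'
    have hc0 : c ≠ 0 := by
      rintro rfl
      apply hd'
      rw [hc, mul_zero]
    have h1 := hD'.scale c⁻¹
    have h3 : c⁻¹ * c⁻¹ * d' = 1 := by
      rw [hc]
      field_simp
    rw [h3] at h1
    exact tower_le_of_sq h2 Q' hq m hm hcard' h1
  · exfalso
    apply hne
    exact (hD.card_eq_of_nonsquare h2 hd hds hD' hd' hs' (by rw [hcard, hcard'])).symm

end assembly

end Cfsg.Agent.Lib.Helper2.Sy2
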