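import Mathlib
import Cfsg.Prelude
import Cfsg.Agent.Lib.Helper2.Sy2I
import Cfsg.Agent.S0287
import Cfsg.Agent.S0288
import Cfsg.Agent.Lib.Helper5.PlusGeom

set_option autoImplicit false
set_option linter.unusedSectionVars false
set_option linter.unusedVariables false
open Cfsg

/-! Sylow `2`-subgroups of `Ω_n(q)`, `q` odd: even dimension, the two types together. -/

namespace Cfsg.Agent.Lib.Helper2.Sy2

open Matrix QuadraticMap Module Cfsg.Agent.Lib.Helper5.CartanDieudonne Cfsg.Agent.Lib.Helper5.Refl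
  Cfsg.Agent.Lib.Helper5.SpinorNorm Cfsg.Agent.Lib.Helper5.OrthSum
  Cfsg.Agent.Lib.Helper5.OrthSumDiag Cfsg.Agent.Lib.Helper5.OrthCard

section even

variable {F : Type*} [Field F] [Fintype F] (h2 : (2 : F) ≠ 0)
  {ι : Type} [Fintype ι] [DecidableEq ι] (Q : QuadraticForm F (ι → F))

include h2 in
/-- **even dimension**: two forms of the same dimension whose isometry groups have different
orders -/
theorem sylGen_even (hq : Odd (Fintype.card F)) (hQ : (polarBilin Q).Nondegenerate)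
    {ι' : Type} [Fintype ι'] [DecidableEq ι']
    (Q' : QuadraticForm F (ι' → F)) (hQ' : (polarBilin Q').Nondegenerate) (m : ℕ) (hm : 2 ≤ m)
    (hcard : Fintype.card ι = 2 * m) (hcard' : Fintype.card ι' = 2 * m) (vs vt : ℕ)
    (hN : (Nat.card ↥(isometryGroup F ⇑Q)).factorization 2 =
      (m - 1) * padicValNat 2 (Fintype.card F ^ 2 - 1) + padicValNat 2 (m - 1).factorial + 1 + vs)
    (hN' : (Nat.card ↥(isometryGroup F ⇑Q')).factorization 2 =
      (m - 1) * padicValNat 2 (Fintype.card F ^ 2 - 1) + padicValNat 2 (m - 1).factorial + 1 + vt)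
    (hst : vs + vt = padicValNat 2 (Fintype.card F ^ 2 - 1) + padicValNat 2 m)
    (ht1 : 1 ≤ vt)
    (hne : Nat.card ↥(isometryGroup F ⇑Q) ≠ Nat.card ↥(isometryGroup F ⇑Q')) :
    SylGen ↥(isometryGroup F ⇑Q) := by
  have hf := v2_factorial_pred m (by omega)
  have hmA : m * padicValNat 2 (Fintype.card F ^ 2 - 1) =
      (m - 1) * padicValNat 2 (Fintype.card F ^ 2 - 1) + padicValNat 2 (Fintype.card F ^ 2 - 1) := by
    obtain ⟨k, rfl⟩ : ∃ k, m = k + 1 := ⟨m - 1, by omega⟩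
    rw [Nat.add_sub_cancel]
    ring
  obtain ⟨d, hd, hD⟩ := exists_diagAt h2 Q hQ (by omega)
  by_cases hs : IsSquare d
  · obtain ⟨c, hc⟩ := hs
    have hc0 : c ≠ 0 := by
      rintro rfl
      apply hd
      rw [hc, mul_zero]
    have h1 := hD.scale c⁻¹
    have h3 : c⁻¹ * c⁻¹ * d = 1 := by
      rw [hc]
      field_simp
    rw [h3] at h1
    apply sylGen_even_sq h2 Q hq m hm hcard h1
    rw [hN, hmA, hf]
    omega
  · apply sylGen_even_nsq h2 Q hq m hm hcard d hd hs hD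
    have h1 := val_le_of_nsq h2 Q hq Q' hQ' m (by omega) hcard hcard' d hd hs hD hne
    rw [hN', hmA, hf] at h1
    rw [hN]
    omega

end even

section std

variable {F : Type*} [Field F] [Fintype F]

theorem card_plus_index (m : ℕ) : Fintype.card (Fin m ⊕ Fin m) = 2 * m := by
  rw [Fintype.card_sum, Fintype.card_fin]
  omega

theorem card_minus_index (m : ℕ) (hm : 1 ≤ m) :
    Fintype.card ((Fin (m - 1) ⊕ Fin (m - 1)) ⊕ Fin 2) = 2 * m := by
  rw [Fintype.card_sum, Fintype.card_sum, Fintype.card_fin, Fintype.card_fin]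
  omega

/-- the minus type form as a bundled quadratic form -/
noncomputable def minusQ (k : ℕ) (a b : F) : QuadraticForm F ((Fin k ⊕ Fin k) ⊕ Fin 2 → F) :=
  genForm (Cfsg.Agent.Lib.Helper5.OrthPlane.binForm a b) k

theorem coe_minusQ (k : ℕ) (a b : F) : ⇑(minusQ k a b) = Cfsg.quadFormMinus k F a b :=
  (Cfsg.Agent.S0288.minus_eq k a b).symm

theorem minusQ_nondegenerate (k : ℕ) (a b : F)
    (hab : ∀ z₁ z₂ : F, z₁ ^ 2 + a * z₁ * z₂ + b * z₂ ^ 2 = 0 → z₁ = 0 ∧ z₂ = 0) :
    (polarBilin (minusQ k a b)).Nondegenerate :=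
  genForm_nondegenerate _ (Cfsg.Agent.Lib.Helper5.OrthPlane.binForm_nondegenerate a b
    (Cfsg.Agent.Lib.Helper5.OrthPlane.anisotropic_of a b hab)) k

theorem card_plusQ (m : ℕ) (hm : 1 ≤ m) :
    Nat.card ↥(isometryGroup F ⇑(Cfsg.Agent.Lib.Helper5.plusForm m F)) =
      2 * Fintype.card F ^ (m * (m - 1)) * (Fintype.card F ^ m - 1) *
        ∏ i ∈ Finset.range (m - 1), (Fintype.card F ^ (2 * (i + 1)) - 1) := by
  rw [Cfsg.Agent.Lib.Helper5.coe_plusForm]
  exact Cfsg.Agent.S0287.result rfl m hm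

theorem card_minusQ (m : ℕ) (hm : 1 ≤ m) (a b : F)
    (hab : ∀ z₁ z₂ : F, z₁ ^ 2 + a * z₁ * z₂ + b * z₂ ^ 2 = 0 → z₁ = 0 ∧ z₂ = 0) :
    Nat.card ↥(isometryGroup F ⇑(minusQ (m - 1) a b)) =
      2 * Fintype.card F ^ (m * (m - 1)) * (Fintype.card F ^ m + 1) *
        ∏ i ∈ Finset.range (m - 1), (Fintype.card F ^ (2 * (i + 1)) - 1) := by
  rw [coe_minusQ]
  exact Cfsg.Agent.S0288.result rfl m hm a b hab

/-- an anisotropic binary form exists -/
theorem exists_anisotropic (h2 : (2 : F) ≠ 0) :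
    ∃ a b : F, ∀ z₁ z₂ : F, z₁ ^ 2 + a * z₁ * z₂ + b * z₂ ^ 2 = 0 → z₁ = 0 ∧ z₂ = 0 := by
  obtain ⟨ν, hν0, hν⟩ := exists_nonsquare (F := F) h2
  refine ⟨0, -ν, ?_⟩
  intro z₁ z₂ h
  have hz2 : z₂ = 0 := by
    by_contra hz
    apply hν
    refine ⟨z₁ / z₂, ?_⟩
    field_simp
    linear_combination (-1 : F) * h
  have hz1 : z₁ = 0 := by
    rw [hz2] at h
    have : z₁ * z₁ = 0 := by linear_combination h
    exact mul_self_eq_zero.mp this
  exact ⟨hz1, hz2⟩

/-- **plus type** -/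
theorem sylGen_plus (hq : Odd (Fintype.card F)) (m : ℕ) (hm : 2 ≤ m) :
    SylGen ↥(isometryGroup F (Cfsg.quadFormPlus m F)) := by
  have h2 : (2 : F) ≠ 0 := two_ne_zero_odd hq
  have hq1 : 1 < Fintype.card F := Fintype.one_lt_card
  obtain ⟨a, b, hab⟩ := exists_anisotropic (F := F) h2
  have key : SylGen ↥(isometryGroup F ⇑(Cfsg.Agent.Lib.Helper5.plusForm m F)) := by
    apply sylGen_even h2 (Cfsg.Agent.Lib.Helper5.plusForm m F) hq
      (Cfsg.Agent.Lib.Helper5.PlusGeom.plus_nondegenerate m) (minusQ (m - 1) a b)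
      (minusQ_nondegenerate (m - 1) a b hab) m hm (card_plus_index m)
      (card_minus_index m (by omega)) (padicValNat 2 (Fintype.card F ^ m - 1))
      (padicValNat 2 (Fintype.card F ^ m + 1))
    · rw [card_plusQ m (by omega)]
      exact v2_plus_order _ hq hq1 m (by omega)
    · rw [card_minusQ m (by omega) a b hab]
      exact v2_minus_order _ hq hq1 m
    · exact v2_pm _ hq hq1 m (by omega)
    · exact v2_add_pos _ hq m
    · rw [card_plusQ m (by omega), card_minusQ m (by omega) a b hab]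
      exact plus_ne_minus _ hq1 m
  rw [Cfsg.Agent.Lib.Helper5.coe_plusForm] at key
  exact key

/-- **minus type** -/
theorem sylGen_minus (hq : Odd (Fintype.card F)) (m : ℕ) (hm : 2 ≤ m) (a b : F)
    (hab : ∀ z₁ z₂ : F, z₁ ^ 2 + a * z₁ * z₂ + b * z₂ ^ 2 = 0 → z₁ = 0 ∧ z₂ = 0) :
    SylGen ↥(isometryGroup F (Cfsg.quadFormMinus (m - 1) F a b)) := by
  have h2 : (2 : F) ≠ 0 := two_ne_zero_odd hq
  have hq1 : 1 < Fintype.card F := Fintype.one_lt_card
  have key : SylGen ↥(isometryGroup F ⇑(minusQ (m - 1) a b)) := by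
    apply sylGen_even h2 (minusQ (m - 1) a b) hq (minusQ_nondegenerate (m - 1) a b hab)
      (Cfsg.Agent.Lib.Helper5.plusForm m F)
      (Cfsg.Agent.Lib.Helper5.PlusGeom.plus_nondegenerate m) m hm
      (card_minus_index m (by omega)) (card_plus_index m)
      (padicValNat 2 (Fintype.card F ^ m + 1)) (padicValNat 2 (Fintype.card F ^ m - 1))
    · rw [card_minusQ m (by omega) a b hab]
      exact v2_minus_order _ hq hq1 m
    · rw [card_plusQ m (by omega)]
      exact v2_plus_order _ hq hq1 m (by omega)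
    · rw [add_comm]
      exact v2_pm _ hq hq1 m (by omega)
    · exact v2_sub_pos _ hq hq1 m (by omega)
    · rw [card_plusQ m (by omega), card_minusQ m (by omega) a b hab]
      exact (plus_ne_minus _ hq1 m).symm
  rw [coe_minusQ] at key
  exact key

end std

end Cfsg.Agent.Lib.Helper2.Sy2
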