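import Cfsg.Prelude.Def_SylowControl
import Mathlib

set_option autoImplicit false

/-! # Right conjugation, `sylowMembers` and conjugation families -/

namespace Cfsg.Agent.Lib.Helper2.SC

open Cfsg

variable {G : Type*} [Group G]

theorem mem_scr_iff {g : G} {X : Subgroup G} {y : G} :
    y ∈ subgroupConjRight g X ↔ g * y * g⁻¹ ∈ X := by
  unfold subgroupConjRight
  rw [Subgroup.mem_map]
  constructor
  · rintro ⟨x, hx, rfl⟩
    simp only [MulEquiv.coe_toMonoidHom, MulAut.conj_apply, inv_inv]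
    have : g * (g⁻¹ * x * g) * g⁻¹ = x := by group
    rwa [this]
  · intro h
    refine ⟨g * y * g⁻¹, h, ?_⟩
    simp only [MulEquiv.coe_toMonoidHom, MulAut.conj_apply, inv_inv]
    group

theorem conj_mem_scr {g : G} {X : Subgroup G} {x : G} (hx : x ∈ X) :
    g⁻¹ * x * g ∈ subgroupConjRight g X := by
  rw [mem_scr_iff]
  have : g * (g⁻¹ * x * g) * g⁻¹ = x := by group
  rwa [this]

@[simp] theorem scr_one (X : Subgroup G) : subgroupConjRight 1 X = X := by
  ext y; rw [mem_scr_iff]; simp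

theorem scr_scr (g h : G) (X : Subgroup G) :
    subgroupConjRight h (subgroupConjRight g X) = subgroupConjRight (g * h) X := by
  ext y
  rw [mem_scr_iff, mem_scr_iff, mem_scr_iff]
  have : g * (h * y * h⁻¹) * g⁻¹ = g * h * y * (g * h)⁻¹ := by group
  rw [this]

theorem scr_inv_scr (g : G) (X : Subgroup G) :
    subgroupConjRight g⁻¹ (subgroupConjRight g X) = X := by
  rw [scr_scr, mul_inv_cancel, scr_one]

theorem scr_scr_inv (g : G) (X : Subgroup G) :
    subgroupConjRight g (subgroupConjRight g⁻¹ X) = X := by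
  rw [scr_scr, inv_mul_cancel, scr_one]

theorem scr_mono {g : G} {X Y : Subgroup G} (h : X ≤ Y) :
    subgroupConjRight g X ≤ subgroupConjRight g Y := Subgroup.map_mono h

theorem scr_le_iff {g : G} {X Y : Subgroup G} :
    subgroupConjRight g X ≤ Y ↔ X ≤ subgroupConjRight g⁻¹ Y := by
  constructor
  · intro h
    have := scr_mono (g := g⁻¹) h
    rwa [scr_inv_scr] at this
  · intro h
    have := scr_mono (g := g) h
    rwa [scr_scr_inv] at this

theorem scr_inf (g : G) (X Y : Subgroup G) :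
    subgroupConjRight g (X ⊓ Y) = subgroupConjRight g X ⊓ subgroupConjRight g Y := by
  ext y
  simp only [Subgroup.mem_inf, mem_scr_iff]

theorem scr_eq_self_of_mem {g : G} {X : Subgroup G} (hg : g ∈ X) : subgroupConjRight g X = X := by
  ext y
  rw [mem_scr_iff]
  constructor
  · intro h
    have : y = g⁻¹ * (g * y * g⁻¹) * g := by group
    rw [this]
    exact X.mul_mem (X.mul_mem (X.inv_mem hg) h) hg
  · intro h
    exact X.mul_mem (X.mul_mem hg h) (X.inv_mem hg)

theorem scr_eq_bot_iff {g : G} {X : Subgroup G} : subgroupConjRight g X = ⊥ ↔ X = ⊥ := by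
  unfold subgroupConjRight
  exact Subgroup.map_eq_bot_iff_of_injective _ (MulAut.conj g⁻¹).injective

theorem card_scr (g : G) (X : Subgroup G) :
    Nat.card ↥(subgroupConjRight g X) = Nat.card X :=
  Subgroup.card_map_of_injective (MulAut.conj g⁻¹).injective

theorem scr_eq_self_iff_mem_normalizer {g : G} {X : Subgroup G} :
    subgroupConjRight g X = X ↔ g ∈ Subgroup.normalizer (X : Set G) := by
  rw [← inv_mem_iff, Subgroup.mem_normalizer_iff_map_conj_eq]
  rfl

theorem mem_conjRight_iff {g : G} {A : Set G} {y : G} :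
    y ∈ conjRight g A ↔ g * y * g⁻¹ ∈ A := by
  unfold conjRight
  constructor
  · rintro ⟨a, ha, rfl⟩
    have : g * (g⁻¹ * a * g) * g⁻¹ = a := by group
    rwa [this]
  · intro h
    exact ⟨g * y * g⁻¹, h, by group⟩

theorem conjRight_conjRight (g h : G) (A : Set G) :
    conjRight h (conjRight g A) = conjRight (g * h) A := by
  ext y
  rw [mem_conjRight_iff, mem_conjRight_iff, mem_conjRight_iff]
  have : g * (h * y * h⁻¹) * g⁻¹ = g * h * y * (g * h)⁻¹ := by group
  rw [this]

@[simp] theorem conjRight_one (A : Set G) : conjRight 1 A = A := by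
  ext y; rw [mem_conjRight_iff]; simp

theorem conjRight_mono {g : G} {A B : Set G} (h : A ⊆ B) : conjRight g A ⊆ conjRight g B :=
  Set.image_mono h

theorem conjRight_coe (g : G) (X : Subgroup G) :
    conjRight g (X : Set G) = (subgroupConjRight g X : Set G) := by
  ext y
  rw [mem_conjRight_iff, SetLike.mem_coe, SetLike.mem_coe, mem_scr_iff]

theorem conjRight_subset_iff {g : G} {A B : Set G} :
    conjRight g A ⊆ B ↔ A ⊆ conjRight g⁻¹ B := by
  constructor
  · intro h a ha
    rw [mem_conjRight_iff]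
    apply h
    rw [mem_conjRight_iff]
    have : g * (g⁻¹ * a * g⁻¹⁻¹) * g⁻¹ = a := by group
    rwa [this]
  · intro h y hy
    rw [mem_conjRight_iff] at hy
    have := h hy
    rw [mem_conjRight_iff] at this
    have e : g⁻¹ * (g * y * g⁻¹) * g⁻¹⁻¹ = y := by group
    rwa [e] at this

section Finite

variable [Finite G] {p : ℕ} [Fact p.Prime]

/-- Cardinality characterization of `sylowMembers`. -/
theorem exists_sylow_map_eq_iff (X Q : Subgroup G) :
    (∃ P : Sylow p ↥X, (P : Subgroup ↥X).map X.subtype = Q) ↔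
      Q ≤ X ∧ Nat.card Q = p ^ (Nat.card X).factorization p := by
  constructor
  · rintro ⟨P, rfl⟩
    refine ⟨Subgroup.map_subtype_le _, ?_⟩
    rw [Subgroup.card_map_of_injective X.subtype_injective]
    exact P.card_eq_multiplicity
  · rintro ⟨hQX, hcard⟩
    have h1 : Nat.card ↥(Q.subgroupOf X) = p ^ (Nat.card X).factorization p := by
      rw [← hcard]
      exact Nat.card_congr (Subgroup.subgroupOfEquivOfLe hQX).toEquiv
    refine ⟨Sylow.ofCard (Q.subgroupOf X) h1, ?_⟩
    rw [Sylow.coe_ofCard, Subgroup.subgroupOf_map_subtype, inf_eq_left.2 hQX]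

theorem mem_sylowMembers_iff (𝓕 : Set (Subgroup G)) (S X : Subgroup G) :
    X ∈ sylowMembers p 𝓕 S ↔
      X ∈ 𝓕 ∧ Nat.card ↥(S ⊓ X) = p ^ (Nat.card X).factorization p := by
  show (X ∈ 𝓕 ∧ ∃ P : Sylow p ↥X, (P : Subgroup ↥X).map X.subtype = S ⊓ X) ↔ _
  rw [exists_sylow_map_eq_iff]
  constructor
  · rintro ⟨h1, -, h2⟩; exact ⟨h1, h2⟩
  · rintro ⟨h1, h2⟩; exact ⟨h1, inf_le_right, h2⟩

theorem scr_mem_sylowMembers {𝓕 : Set (Subgroup G)} (h𝓕 : IsNormalSet 𝓕) {S X : Subgroup G}
    (h : X ∈ sylowMembers p 𝓕 S) (g : G) :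
    subgroupConjRight g X ∈ sylowMembers p 𝓕 (subgroupConjRight g S) := by
  rw [mem_sylowMembers_iff] at h ⊢
  refine ⟨h𝓕 X h.1 g, ?_⟩
  rw [← scr_inf, card_scr, card_scr]
  exact h.2

theorem mem_sylowMembers_of_scr {𝓕 : Set (Subgroup G)} (h𝓕 : IsNormalSet 𝓕) {S X : Subgroup G}
    {g : G} (h : X ∈ sylowMembers p 𝓕 (subgroupConjRight g S)) :
    subgroupConjRight g⁻¹ X ∈ sylowMembers p 𝓕 S := by
  have := scr_mem_sylowMembers h𝓕 h g⁻¹
  rwa [scr_inv_scr] at this

theorem sylowMembers_scr_of_mem {𝓕 : Set (Subgroup G)} {S X : Subgroup G} {x : G}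
    (hx : x ∈ X) (h : X ∈ sylowMembers p 𝓕 S) :
    X ∈ sylowMembers p 𝓕 (subgroupConjRight x S) := by
  rw [mem_sylowMembers_iff] at h ⊢
  refine ⟨h.1, ?_⟩
  have : subgroupConjRight x S ⊓ X = subgroupConjRight x (S ⊓ X) := by
    rw [scr_inf, scr_eq_self_of_mem hx]
  rw [this, card_scr]
  exact h.2

/-- The Sylow subgroup `S^g`. -/
theorem coe_inv_smul_sylow (S : Sylow p G) (g : G) :
    ((g⁻¹ • S : Sylow p G) : Subgroup G) = subgroupConjRight g (S : Subgroup G) := rfl

end Finite

end Cfsg.Agent.Lib.Helper2.SC
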