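import Mathlib
import Cfsg.Agent.Lib.Helper2.SylowNormal

set_option autoImplicit false

namespace Cfsg.Agent.Lib.Helper2

variable {G : Type*} [Group G]

/-- Generalised Frattini argument: if `L` contains the Sylow subgroup `P`, then
`N_G(L) ≤ L N_G(P)`. -/
theorem normalizer_le_sup_normalizer_of_sylow_le [Finite G] {p : ℕ} [Fact p.Prime]
    (P : Sylow p G) (L : Subgroup G) (hPL : (P : Subgroup G) ≤ L) :
    Subgroup.normalizer (L : Set G) ≤ L ⊔ Subgroup.normalizer ((P : Subgroup G) : Set G) := by
  intro g hg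
  have hgP : ((g • P : Sylow p G) : Subgroup G) ≤ L := by
    intro x hx
    rw [Sylow.smul_def, Sylow.pointwise_smul_def, Subgroup.mem_pointwise_smul_iff_inv_smul_mem]
      at hx
    have h1 := hPL hx
    have h2 : g * (g⁻¹ * x * g) * g⁻¹ ∈ L := (Subgroup.mem_normalizer_iff.1 hg _).1 (by
      simpa [MulAut.smul_def] using h1)
    simpa [mul_assoc] using h2
  obtain ⟨m, hm⟩ := MulAction.exists_smul_eq L ((g • P : Sylow p G).subtype hgP) (P.subtype hPL)
  have hm2 : ((m : G) * g) • P = P := by
    rw [mul_smul]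
    apply Sylow.subtype_injective (hP := ?_) (hQ := hPL)
    swap
    · intro x hx
      rw [Sylow.smul_def, Sylow.pointwise_smul_def,
        Subgroup.mem_pointwise_smul_iff_inv_smul_mem] at hx
      have h1 := hgP hx
      have h2 : x = m * ((m : G)⁻¹ * x * m) * (m : G)⁻¹ := by group
      rw [h2]
      refine L.mul_mem (L.mul_mem m.2 ?_) (L.inv_mem m.2)
      simpa [MulAut.smul_def] using h1
    · rw [← hm]
      apply Sylow.ext
      ext x
      simp only [Sylow.coe_subtype, Subgroup.mem_subgroupOf, Sylow.smul_def,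
        Sylow.pointwise_smul_def, Subgroup.mem_pointwise_smul_iff_inv_smul_mem]
      simp [MulAut.smul_def]
  have hmg : (m : G) * g ∈ Subgroup.normalizer ((P : Subgroup G) : Set G) :=
    Sylow.smul_eq_iff_mem_normalizer.1 hm2
  have : g = (m : G)⁻¹ * ((m : G) * g) := by group
  rw [this]
  exact Subgroup.mul_mem_sup (L.inv_mem m.2) hmg

/-- `N_G(PK) = N_G(P) K` for `K` normal and `P` Sylow. -/
theorem normalizer_sup_normal_eq [Finite G] {p : ℕ} [Fact p.Prime]
    (P : Sylow p G) (K : Subgroup G) [K.Normal] :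
    Subgroup.normalizer (((P : Subgroup G) ⊔ K : Subgroup G) : Set G) =
      Subgroup.normalizer ((P : Subgroup G) : Set G) ⊔ K := by
  apply le_antisymm
  · refine (normalizer_le_sup_normalizer_of_sylow_le P _ le_sup_left).trans ?_
    rw [sup_comm]
    apply sup_le
    · exact le_sup_left
    · apply sup_le
      · exact Subgroup.le_normalizer.trans le_sup_left
      · exact le_sup_right
  · apply sup_le
    · have h1 := Subgroup.normalizer_inf_normalizer_le_normalizer_sup (P : Subgroup G) K
      have h2 : Subgroup.normalizer (K : Set G) = ⊤ := Subgroup.normalizer_eq_top_iff.2 inferInstance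
      rw [h2, inf_top_eq] at h1
      exact h1
    · exact le_sup_right.trans Subgroup.le_normalizer

/-- The number of Sylow subgroups of a quotient. -/
theorem card_sylow_quotient [Finite G] {p : ℕ} [Fact p.Prime]
    (P : Sylow p G) (K : Subgroup G) [K.Normal] :
    Nat.card (Sylow p (G ⧸ K)) =
      (Subgroup.normalizer ((P : Subgroup G) : Set G) ⊔ K).index := by
  have hsurj : Function.Surjective (QuotientGroup.mk' K) := QuotientGroup.mk'_surjective K
  set Pbar : Sylow p (G ⧸ K) := P.mapSurjective hsurj with hPbar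
  have h1 : Nat.card (Sylow p (G ⧸ K)) =
      (Subgroup.normalizer ((Pbar : Subgroup (G ⧸ K)) : Set (G ⧸ K))).index :=
    Sylow.card_eq_index_normalizer Pbar
  have h2 := Subgroup.comap_normalizer_eq_of_surjective (Pbar : Subgroup (G ⧸ K)) hsurj
  have : ((Pbar : Subgroup (G ⧸ K)).comap (QuotientGroup.mk' K)) = (P : Subgroup G) ⊔ K := by
    rw [hPbar, Sylow.coe_mapSurjective, Subgroup.comap_map_eq, QuotientGroup.ker_mk']
  rw [h1, ← Subgroup.index_comap_of_surjective _ hsurj, h2, this, normalizer_sup_normal_eq]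

end Cfsg.Agent.Lib.Helper2
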