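import Mathlib

/-!
# Symmetrized products in groups of class two

`symProd L = L.prod * L.reverse.prod`.  In a group whose commutators are central, this does not
depend on the order of the list; it replaces the Baer trick.
-/

set_option autoImplicit false

namespace Cfsg.Agent.Lib.Helper2

open scoped commutatorElement

variable {G : Type*} [Group G]

/-- The symmetrized product of a list. -/
def symProd (L : List G) : G := L.prod * L.reverse.prod

theorem symProd_nil : symProd ([] : List G) = 1 := by simp [symProd]

theorem symProd_cons (a : G) (L : List G) : symProd (a :: L) = a * symProd L * a := by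
  simp [symProd, List.prod_cons, List.reverse_cons, List.prod_append, mul_assoc]

theorem symProd_mem {H : Subgroup G} {L : List G} (hL : ∀ x ∈ L, x ∈ H) : symProd L ∈ H := by
  unfold symProd
  apply H.mul_mem
  · exact Subgroup.list_prod_mem _ hL
  · exact Subgroup.list_prod_mem _ (fun x hx => hL x (List.mem_reverse.1 hx))

theorem symProd_swap_aux {a b s c : G} (hc : c = ⁅a, b⁆) (hca : Commute c a) (hcb : Commute c b)
    (hcs : Commute c s) : b * (a * s * a) * b = a * (b * s * b) * a := by
  have e1 : a * b = c * (b * a) := by
    rw [hc, commutatorElement_def]; group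
  have hcba : Commute c (b * a) := hcb.mul_right hca
  calc b * (a * s * a) * b = (b * a) * s * (a * b) := by group
    _ = (b * a) * s * (c * (b * a)) := by rw [e1]
    _ = c * ((b * a) * s * (b * a)) := by
      rw [← mul_assoc ((b * a) * s) c, mul_assoc (b * a) s c, ← hcs.eq, ← mul_assoc (b * a) c s,
        ← hcba.eq]
      group
    _ = (c * (b * a)) * s * (b * a) := by group
    _ = (a * b) * s * (b * a) := by rw [← e1]
    _ = a * (b * s * b) * a := by group

/-- In a subgroup whose commutators are central, the symmetrized product is invariant under
permutations of the list. -/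
theorem symProd_perm {H : Subgroup G} (hcl : ∀ a ∈ H, ∀ b ∈ H, ∀ c ∈ H, Commute ⁅a, b⁆ c)
    {L L' : List G} (h : L.Perm L') (hL : ∀ x ∈ L, x ∈ H) : symProd L = symProd L' := by
  induction h with
  | nil => rfl
  | cons a h ih =>
    rw [symProd_cons, symProd_cons, ih (fun x hx => hL x (List.mem_cons_of_mem _ hx))]
  | swap a b L =>
    rw [symProd_cons, symProd_cons, symProd_cons, symProd_cons]
    have hb : b ∈ H := hL b (by simp)
    have ha : a ∈ H := hL a (by simp)
    have hs : symProd L ∈ H := symProd_mem (fun x hx => hL x (by simp [hx]))
    exact (symProd_swap_aux rfl (hcl b hb a ha b hb) (hcl b hb a ha a ha)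
      (hcl b hb a ha _ hs)).symm
  | trans h1 h2 ih1 ih2 =>
    rw [ih1 hL, ih2 (fun x hx => hL x (h1.mem_iff.2 hx))]

theorem symProd_map_hom {G' : Type*} [Group G'] (f : G →* G') (L : List G) :
    symProd (L.map f) = f (symProd L) := by
  unfold symProd
  rw [← List.map_reverse, List.prod_hom, List.prod_hom, map_mul]

theorem prod_map_mul_right {z : G} {L : List G} (hz : ∀ x ∈ L, Commute z x) :
    (L.map (· * z)).prod = L.prod * z ^ L.length := by
  induction L with
  | nil => simp
  | cons a L ih =>
    have hzL : Commute z L.prod := Commute.list_prod_right _ _ (fun x hx => hz x (by simp [hx]))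
    rw [List.map_cons, List.prod_cons, List.prod_cons, List.length_cons,
      ih (fun x hx => hz x (by simp [hx])), pow_succ]
    calc a * z * (L.prod * z ^ L.length) = a * (z * L.prod) * z ^ L.length := by group
      _ = a * (L.prod * z) * z ^ L.length := by rw [hzL.eq]
      _ = a * L.prod * (z * z ^ L.length) := by group
      _ = a * L.prod * (z ^ L.length * z) := by rw [← pow_succ, ← pow_succ']

theorem symProd_map_mul_right {z : G} {L : List G} (hz : ∀ x ∈ L, Commute z x) :
    symProd (L.map (· * z)) = symProd L * z ^ (2 * L.length) := by
  unfold symProd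
  rw [← List.map_reverse, prod_map_mul_right hz,
    prod_map_mul_right (fun x hx => hz x (List.mem_reverse.1 hx)), List.length_reverse]
  have hzr : Commute z L.reverse.prod :=
    Commute.list_prod_right _ _ (fun x hx => hz x (List.mem_reverse.1 hx))
  have := (hzr.pow_left L.length).eq
  calc L.prod * z ^ L.length * (L.reverse.prod * z ^ L.length)
      = L.prod * (z ^ L.length * L.reverse.prod) * z ^ L.length := by group
    _ = L.prod * (L.reverse.prod * z ^ L.length) * z ^ L.length := by rw [this]
    _ = L.prod * L.reverse.prod * (z ^ L.length * z ^ L.length) := by group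
    _ = L.prod * L.reverse.prod * z ^ (2 * L.length) := by rw [← pow_add, two_mul]

end Cfsg.Agent.Lib.Helper2
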