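import Mathlib
import Cfsg.Agent.Lib.Helper2.GY2C
import Cfsg.Agent.Lib.Helper7.GY2
import Cfsg.Agent.Lib.Helper9.T97c

/-!
# S3797, the core (in helper3's shape): in a solvable group with `O(G) = 1`, one class of
involutions and more than one involution, every 2-element lies in `O₂(G)`.
-/

set_option autoImplicit false
set_option linter.style.haveILetI false
open Cfsg

namespace Cfsg.Agent.Lib.Helper2.T97

theorem mem_of_index_coprime {G : Type*} [Group G] [Finite G] (P : Subgroup G) [P.Normal]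
    (hidx : P.index.Coprime 2) (s : G) (hs : ∃ j : ℕ, s ^ (2 ^ j) = 1) : s ∈ P := by
  obtain ⟨j, hj⟩ := hs
  rw [← QuotientGroup.eq_one_iff]
  have h1 : orderOf (s : G ⧸ P) ∣ 2 ^ j := by
    apply orderOf_dvd_of_pow_eq_one
    rw [← QuotientGroup.mk_pow, hj]; rfl
  have h2 : orderOf (s : G ⧸ P) ∣ P.index := by
    rw [Subgroup.index_eq_card]
    exact orderOf_dvd_natCard _
  have h3 : orderOf (s : G ⧸ P) ∣ 1 := by
    have hc : (2 ^ j).Coprime P.index := Nat.Coprime.pow_left j hidx.symm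
    have := Nat.dvd_gcd h1 h2
    rwa [hc.gcd_eq_one] at this
  exact orderOf_eq_one_iff.mp (Nat.dvd_one.mp h3)

theorem core {G : Type*} [Group G] [Finite G] (hG : Group.IsSolvable G)
    (hO : Cfsg.pPrimeCore 2 G = ⊥)
    (htwo : ∃ x y : G, x ≠ y ∧ x ≠ 1 ∧ x ^ 2 = 1 ∧ y ≠ 1 ∧ y ^ 2 = 1)
    (hconj : ∀ x y : G, x ≠ 1 → x ^ 2 = 1 → y ≠ 1 → y ^ 2 = 1 → IsConj x y) :
    ∀ s : G, (∃ j : ℕ, s ^ (2 ^ j) = 1) → s ∈ Cfsg.pCore 2 G := by
  have hidx : (pCore 2 G).index.Coprime 2 :=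
    Cfsg.Agent.Lib.Helper2.GYtwo.core_index_aux
      (fun t P Z0 _ _ hP hZ0P hZ0c hZ02 hCP hmax ht1 ht2 =>
        Cfsg.Agent.Lib.Helper7.GY2.stab_mem P Z0 hP hZ0P hZ0c hZ02 hCP hmax t ht1 ht2)
      (fun T htr => Cfsg.Agent.Lib.Helper7.GY2.exists_Y hG T htr)
      (fun Z0 _ hZ02 hinv hconj' =>
        Cfsg.Agent.Lib.Helper9.T97.index_cent_odd hG Z0 hZ02 hinv hconj')
      hG hO hconj htwo
  intro s hs
  exact mem_of_index_coprime (pCore 2 G) hidx s hs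

end Cfsg.Agent.Lib.Helper2.T97
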