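import Mathlib

/-!
# TGS farm (S3161), unit U4 core: the abelian lemma (S4)

`B` a finite abelian 2-group, `α` an involutory endomorphism, `ρ` an endomorphism commuting with
`α`, `V = Fix α` of exponent two and `ρ`-irreducible.  Then either `Ω₁(B) = V`, or `B` is
elementary abelian of order `|V|²`.
-/

namespace Cfsg.Agent.Lib.Helper2.TGSAb

/-- Irreducibility from transitivity (iterate form). -/
theorem irr_of_transitive_iterate {B : Type*} [Group B] (ρ : B → B) (V : Subgroup B)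
    (htr : ∀ x y : B, x ∈ V → y ∈ V → x ≠ 1 → y ≠ 1 → ∃ k : ℕ, (ρ^[k]) x = y) :
    ∀ W : Subgroup B, W ≤ V → (∀ w ∈ W, ρ w ∈ W) → W = ⊥ ∨ W = V := by
  intro W hWV hWρ
  by_cases hW : W = ⊥
  · exact Or.inl hW
  · right
    obtain ⟨x, hxW, hx1⟩ := (Subgroup.ne_bot_iff_exists_ne_one.1 hW |>.elim
      (fun x hx => ⟨(x : B), x.2, fun h => hx (Subtype.ext h)⟩) : ∃ x : B, x ∈ W ∧ x ≠ 1)
    apply le_antisymm hWV
    intro y hyV
    by_cases hy1 : y = 1
    · rw [hy1]; exact W.one_mem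
    · obtain ⟨k, hk⟩ := htr x y (hWV hxW) hyV hx1 hy1
      have : ∀ k : ℕ, (ρ^[k]) x ∈ W := by
        intro k
        induction k with
        | zero => exact hxW
        | succ k ih => rw [Function.iterate_succ_apply']; exact hWρ _ ih
      rw [← hk]; exact this k

/-- Irreducibility from transitivity (`MulAut` power form). -/
theorem irr_of_transitive {B : Type*} [Group B] (ρ : MulAut B) (V : Subgroup B)
    (htr : ∀ x y : B, x ∈ V → y ∈ V → x ≠ 1 → y ≠ 1 → ∃ k : ℕ, (ρ ^ k) x = y) :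
    ∀ W : Subgroup B, W ≤ V → (∀ w ∈ W, ρ w ∈ W) → W = ⊥ ∨ W = V := by
  apply irr_of_transitive_iterate (fun b => ρ b) V
  intro x y hx hy hx1 hy1
  obtain ⟨k, hk⟩ := htr x y hx hy hx1 hy1
  refine ⟨k, ?_⟩
  rw [← hk]
  clear hk
  induction k with
  | zero => rfl
  | succ k ih =>
    rw [Function.iterate_succ_apply', ih, pow_succ', MulAut.mul_apply]

/-- **Abelian lemma (S4).** -/
theorem abelian_lemma {B : Type*} [Group B] [Finite B] (hab : ∀ a b : B, a * b = b * a)
    (hB : IsPGroup 2 B)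
    (α ρ : B →* B) (hα : ∀ b, α (α b) = b) (hc : ∀ b, α (ρ b) = ρ (α b))
    (V : Subgroup B) (hV : ∀ b, b ∈ V ↔ α b = b) (hV2 : ∀ b ∈ V, b * b = 1)
    (hirr : ∀ W : Subgroup B, W ≤ V → (∀ w ∈ W, ρ w ∈ W) → W = ⊥ ∨ W = V) :
    (∀ b : B, b * b = 1 → b ∈ V) ∨
      ((∀ b : B, b * b = 1) ∧ Nat.card B = Nat.card V ^ 2) := by
  classical
  by_cases hT : ∀ b : B, b * b = 1 → b ∈ V
  · exact Or.inl hT
  right
  push_neg at hT
  obtain ⟨t₀, ht₀, ht₀V⟩ := hT
  letI : CommGroup B := { ‹Group B› with mul_comm := hab }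
  -- the endomorphism `N b = b⁻¹ * α b`
  let N : B →* B :=
    { toFun := fun b => b⁻¹ * α b
      map_one' := by simp
      map_mul' := by
        intro a b
        rw [map_mul, mul_inv]
        exact mul_mul_mul_comm _ _ _ _ }
  have N_apply : ∀ b, N b = b⁻¹ * α b := fun b => rfl
  have hNN : ∀ b, N (N b) = (N b * N b)⁻¹ := by
    intro b
    rw [N_apply (N b), N_apply b, map_mul, map_inv, hα]
    rw [mul_inv, mul_inv, mul_inv, inv_inv]
    rw [mul_comm (α b)⁻¹ b]
  have hNker : ∀ b, N b = 1 ↔ b ∈ V := by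
    intro b
    rw [hV, N_apply, inv_mul_eq_one, eq_comm]
  have hNρ : ∀ b, N (ρ b) = ρ (N b) := by
    intro b
    rw [N_apply, N_apply, map_mul, map_inv, hc]
  -- the subgroup `T = Ω₁(B)`
  let T : Subgroup B :=
    { carrier := {b | b * b = 1}
      one_mem' := by simp
      mul_mem' := by
        intro a b ha hb
        show a * b * (a * b) = 1
        rw [mul_mul_mul_comm, ha, hb, one_mul]
      inv_mem' := by
        intro a ha
        show a⁻¹ * a⁻¹ = 1
        rw [← mul_inv, ha, inv_one] }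
  have memT : ∀ b, b ∈ T ↔ b * b = 1 := fun b => Iff.rfl
  have hVT : V ≤ T := fun b hb => hV2 b hb
  -- `N b ∈ T → N b ∈ V`
  have hNTV : ∀ b, N b ∈ T → N b ∈ V := by
    intro b hb
    rw [← hNker, hNN, (memT _).1 hb, inv_one]
  let W : Subgroup B := T.map N
  have hWV : W ≤ V := by
    rintro w ⟨t, ht, rfl⟩
    apply hNTV
    rw [memT, ← map_mul, (memT t).1 ht, map_one]
  have hWρ : ∀ w ∈ W, ρ w ∈ W := by
    rintro w ⟨t, ht, rfl⟩
    refine ⟨ρ t, ?_, hNρ t⟩
    show ρ t * ρ t = 1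
    rw [← map_mul, (memT t).1 ht, map_one]
  have hWne : W ≠ ⊥ := by
    intro h
    have : N t₀ ∈ W := ⟨t₀, ht₀, rfl⟩
    rw [h, Subgroup.mem_bot, hNker] at this
    exact ht₀V this
  have hWeq : W = V := (hirr W hWV hWρ).resolve_left hWne
  -- `N b ∈ V → b ∈ T`
  have hNVT : ∀ b, N b ∈ V → b ∈ T := by
    intro b hb
    rw [← hWeq] at hb
    obtain ⟨t, ht, htb⟩ := hb
    have h1 : N (b * t⁻¹) = 1 := by
      rw [map_mul, map_inv, htb, mul_inv_cancel]
    have h2 : b * t⁻¹ ∈ T := hVT ((hNker _).1 h1)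
    have := T.mul_mem h2 ht
    rwa [inv_mul_cancel_right] at this
  -- elements of order dividing four have order dividing two
  have h4 : ∀ b : B, (b * b) * (b * b) = 1 → b * b = 1 := by
    intro b hb
    have hbbT : b * b ∈ T := hb
    have h1 : N (N b * (b * b)) = 1 := by
      rw [map_mul, hNN, ← map_mul, inv_mul_cancel]
    have h2 : N b * (b * b) ∈ V := (hNker _).1 h1
    have h3 := hV2 _ h2
    rw [mul_mul_mul_comm, hb, mul_one] at h3
    exact hNVT b (hNTV b h3)
  have hexp : ∀ b : B, b * b = 1 := by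
    have key : ∀ k : ℕ, ∀ b : B, b ^ 2 ^ k = 1 → b * b = 1 := by
      intro k
      induction k with
      | zero =>
        intro b hb
        rw [pow_zero, pow_one] at hb
        rw [hb, one_mul]
      | succ k ih =>
        intro b hb
        apply h4
        apply ih
        rw [← hb, pow_succ', pow_mul, pow_two]
    intro b
    obtain ⟨k, hk⟩ := hB b
    exact key k b hk
  refine ⟨hexp, ?_⟩
  -- counting
  have hker : N.ker = V := by
    ext b
    rw [MonoidHom.mem_ker, hNker]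
  have hrange : N.range = V := by
    rw [← hWeq]
    ext w
    constructor
    · rintro ⟨b, rfl⟩
      exact ⟨b, hexp b, rfl⟩
    · rintro ⟨t, -, rfl⟩
      exact ⟨t, rfl⟩
  have h1 := Subgroup.card_mul_index N.ker
  rw [Subgroup.index_ker, hker, hrange] at h1
  rw [← h1, pow_two]

end Cfsg.Agent.Lib.Helper2.TGSAb
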