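import Mathlib

/-!
# TGS farm (S3161), unit U8: the extension lemma

Two central extensions of `B` by `A` having the same squaring map are isomorphic, provided the
quotient of the fibre product has exponent two (automatic from the squaring law).
-/

namespace Cfsg.Agent.Lib.Helper2.TGSExt

/-- A group in which every element squares to one is commutative. -/
theorem mul_comm_of_sq_eq_one {G : Type*} [Group G] (h2 : ∀ g : G, g * g = 1) (a b : G) :
    a * b = b * a := by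
  have hainv : a⁻¹ = a := by
    rw [inv_eq_iff_mul_eq_one]; exact h2 a
  have hbinv : b⁻¹ = b := by
    rw [inv_eq_iff_mul_eq_one]; exact h2 b
  calc a * b = (a * b)⁻¹ := by rw [eq_comm, inv_eq_iff_mul_eq_one]; exact h2 (a * b)
    _ = b⁻¹ * a⁻¹ := mul_inv_rev a b
    _ = b * a := by rw [hainv, hbinv]

/-- In a finite group of exponent two every subgroup has a complement (elementwise form). -/
theorem exists_compl_of_sq_eq_one' {G : Type*} [Group G] [Finite G]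
    (h2 : ∀ g : G, g * g = 1) (K : Subgroup G) :
    ∃ H : Subgroup G, (∀ g : G, g ∈ H → g ∈ K → g = 1) ∧
      (∀ g : G, ∃ h ∈ H, ∃ k ∈ K, g = h * k) := by
  classical
  have hcomm := mul_comm_of_sq_eq_one h2
  have hinv : ∀ a : G, a⁻¹ = a := fun a => by
    rw [inv_eq_iff_mul_eq_one]; exact h2 a
  haveI : Finite (Subgroup G) := inferInstance
  obtain ⟨H, -, hH⟩ := Finite.exists_le_maximal (p := fun H : Subgroup G => H ⊓ K = ⊥)
    (a := (⊥ : Subgroup G)) (by simp)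
  have hHK : ∀ g : G, g ∈ H → g ∈ K → g = 1 := by
    intro g hg hgK
    have : g ∈ H ⊓ K := ⟨hg, hgK⟩
    rw [hH.prop] at this; exact this
  refine ⟨H, hHK, ?_⟩
  by_contra hne
  push_neg at hne
  obtain ⟨x, hx⟩ := hne
  -- the subgroup `H ∪ xH`
  let H' : Subgroup G :=
    { carrier := {g | g ∈ H ∨ x * g ∈ H}
      one_mem' := Or.inl H.one_mem
      mul_mem' := by
        rintro a b (ha | ha) (hb | hb)
        · exact Or.inl (H.mul_mem ha hb)
        · right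
          have : x * (a * b) = a * (x * b) := by
            rw [← mul_assoc, hcomm x a, mul_assoc]
          rw [this]; exact H.mul_mem ha hb
        · right
          rw [← mul_assoc]; exact H.mul_mem ha hb
        · left
          have : a * b = (x * a) * (x * b) := by
            rw [hcomm x a, mul_assoc, ← mul_assoc x x b, h2 x, one_mul]
          rw [this]; exact H.mul_mem ha hb
      inv_mem' := by
        rintro a (ha | ha)
        · exact Or.inl (H.inv_mem ha)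
        · right
          rw [hinv a]; exact ha }
  have hle : H ≤ H' := fun g hg => Or.inl hg
  have hxH' : x ∈ H' := Or.inr (by rw [h2 x]; exact H.one_mem)
  have hxH : x ∉ H := fun h => hx x h 1 K.one_mem (mul_one x).symm
  have hH'K : H' ⊓ K = ⊥ := by
    rw [eq_bot_iff]
    rintro g ⟨hg1, hgK⟩
    rcases hg1 with hg | hg
    · exact hHK g hg hgK
    · exfalso
      refine hx (x * g) hg g hgK ?_
      rw [mul_assoc, h2 g, mul_one]
  have := hH.le_of_ge hH'K hle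
  exact hxH (this hxH')

/-- In a finite group of exponent two every subgroup has a complement. -/
theorem exists_compl_of_sq_eq_one {G : Type*} [Group G] [Finite G]
    (h2 : ∀ g : G, g * g = 1) (K : Subgroup G) :
    ∃ H : Subgroup G, H ⊓ K = ⊥ ∧ H ⊔ K = ⊤ := by
  obtain ⟨H, h1, h3⟩ := exists_compl_of_sq_eq_one' h2 K
  refine ⟨H, ?_, ?_⟩
  · rw [eq_bot_iff]
    rintro g ⟨hg, hgK⟩
    exact h1 g hg hgK
  · rw [eq_top_iff]
    intro g _
    obtain ⟨h, hh, k, hk, rfl⟩ := h3 g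
    exact Subgroup.mul_mem_sup hh hk

/-- A subgroup of a product both of whose projections are bijective is the graph of an
isomorphism. -/
theorem exists_equiv_of_graph {Q1 Q2 : Type*} [Group Q1] [Group Q2] (D : Subgroup (Q1 × Q2))
    (h1s : ∀ g1 : Q1, ∃ g2 : Q2, (g1, g2) ∈ D) (h2s : ∀ g2 : Q2, ∃ g1 : Q1, (g1, g2) ∈ D)
    (h1i : ∀ g2 : Q2, ((1 : Q1), g2) ∈ D → g2 = 1) (h2i : ∀ g1 : Q1, (g1, (1 : Q2)) ∈ D → g1 = 1) :
    ∃ e : Q1 ≃* Q2, ∀ g1 : Q1, (g1, e g1) ∈ D := by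
  have hf1 : Function.Bijective ((MonoidHom.fst Q1 Q2).comp D.subtype) := by
    constructor
    · rw [injective_iff_map_eq_one]
      rintro ⟨⟨a, b⟩, hab⟩ h
      simp only [MonoidHom.coe_comp, Subgroup.coe_subtype, Function.comp_apply,
        MonoidHom.coe_fst] at h
      subst h
      have := h1i b hab
      subst this
      rfl
    · intro g1
      obtain ⟨g2, hg⟩ := h1s g1
      exact ⟨⟨(g1, g2), hg⟩, rfl⟩
  have hf2 : Function.Bijective ((MonoidHom.snd Q1 Q2).comp D.subtype) := by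
    constructor
    · rw [injective_iff_map_eq_one]
      rintro ⟨⟨a, b⟩, hab⟩ h
      simp only [MonoidHom.coe_comp, Subgroup.coe_subtype, Function.comp_apply,
        MonoidHom.coe_snd] at h
      subst h
      have := h2i a hab
      subst this
      rfl
    · intro g2
      obtain ⟨g1, hg⟩ := h2s g2
      exact ⟨⟨(g1, g2), hg⟩, rfl⟩
  let e1 := MulEquiv.ofBijective _ hf1
  let e2 := MulEquiv.ofBijective _ hf2
  refine ⟨e1.symm.trans e2, fun g1 => ?_⟩
  have h : (e1.symm g1 : Q1 × Q2).1 = g1 := by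
    have := e1.apply_symm_apply g1
    exact this
  have hmem : (e1.symm g1 : Q1 × Q2) ∈ D := (e1.symm g1).2
  have h3 : (g1, (e1.symm.trans e2) g1) = (e1.symm g1 : Q1 × Q2) := by
    apply Prod.ext
    · exact h.symm
    · rfl
  rw [h3]; exact hmem

/-- **Extension lemma.** Two central extensions of `B` by `A` (with `A` central, the quotient
`B`) having the same squaring map `σ : B → A` are isomorphic, compatibly with `A` and `B`. -/
theorem ext_iso {Q1 Q2 A B : Type*} [Group Q1] [Group Q2] [Group A] [Group B]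
    [Finite Q1] [Finite Q2]
    (i1 : A →* Q1) (i2 : A →* Q2) (b1 : Q1 →* B) (b2 : Q2 →* B)
    (hi1 : Function.Injective i1) (hi2 : Function.Injective i2)
    (hb1 : Function.Surjective b1) (hb2 : Function.Surjective b2)
    (hk1 : ∀ g : Q1, b1 g = 1 ↔ ∃ a, i1 a = g) (hk2 : ∀ g : Q2, b2 g = 1 ↔ ∃ a, i2 a = g)
    (hc1 : ∀ a g, i1 a * g = g * i1 a) (hc2 : ∀ a g, i2 a * g = g * i2 a)
    (σ : B → A) (hs1 : ∀ g : Q1, g * g = i1 (σ (b1 g)))
    (hs2 : ∀ g : Q2, g * g = i2 (σ (b2 g))) :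
    ∃ e : Q1 ≃* Q2, (∀ a, e (i1 a) = i2 a) ∧ (∀ g, b2 (e g) = b1 g) := by
  classical
  let D : Subgroup (Q1 × Q2) :=
    MonoidHom.eqLocus (b1.comp (MonoidHom.fst Q1 Q2)) (b2.comp (MonoidHom.snd Q1 Q2))
  have memD : ∀ p : Q1 × Q2, p ∈ D ↔ b1 p.1 = b2 p.2 := fun p => Iff.rfl
  have hb1i : ∀ a, b1 (i1 a) = 1 := fun a => (hk1 _).2 ⟨a, rfl⟩
  have hb2i : ∀ a, b2 (i2 a) = 1 := fun a => (hk2 _).2 ⟨a, rfl⟩
  have hjD : ∀ a, (i1 a, i2 a) ∈ D := fun a => by
    rw [memD]; show b1 (i1 a) = b2 (i2 a); rw [hb1i, hb2i]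
  let jD : A →* D := (i1.prod i2).codRestrict D hjD
  have jD_val : ∀ a, ((jD a : D) : Q1 × Q2) = (i1 a, i2 a) := fun a => rfl
  let N : Subgroup D := jD.range
  have hNnormal : N.Normal := by
    constructor
    rintro n ⟨a, rfl⟩ g
    refine ⟨a, ?_⟩
    apply Subtype.ext
    apply Prod.ext
    · show i1 a = (g : Q1 × Q2).1 * i1 a * ((g : Q1 × Q2).1)⁻¹
      rw [← hc1 a, mul_inv_cancel_right]
    · show i2 a = (g : Q1 × Q2).2 * i2 a * ((g : Q1 × Q2).2)⁻¹
      rw [← hc2 a, mul_inv_cancel_right]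
  haveI := hNnormal
  have h2G : ∀ g : D ⧸ N, g * g = 1 := by
    intro g
    induction g using QuotientGroup.induction_on with
    | H d =>
      rw [← QuotientGroup.mk_mul, QuotientGroup.eq_one_iff]
      refine ⟨σ (b1 (d : Q1 × Q2).1), ?_⟩
      apply Subtype.ext
      apply Prod.ext
      · show i1 (σ (b1 (d : Q1 × Q2).1)) = (d : Q1 × Q2).1 * (d : Q1 × Q2).1
        rw [hs1]
      · show i2 (σ (b1 (d : Q1 × Q2).1)) = (d : Q1 × Q2).2 * (d : Q1 × Q2).2
        rw [hs2, (memD _).1 d.2]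
  -- the subgroup `Z = {(1, g2)}` of `D` and its image `K`
  let Z : Subgroup D := ((MonoidHom.fst Q1 Q2).comp D.subtype).ker
  have memZ : ∀ d : D, d ∈ Z ↔ (d : Q1 × Q2).1 = 1 := fun d => MonoidHom.mem_ker
  let K : Subgroup (D ⧸ N) := Z.map (QuotientGroup.mk' N)
  obtain ⟨H, hHK, hHs⟩ := exists_compl_of_sq_eq_one' h2G K
  -- pull back `H`
  let Δ : Subgroup (Q1 × Q2) := (H.comap (QuotientGroup.mk' N)).map D.subtype
  have memΔ : ∀ d : D, (d : Q1 × Q2) ∈ Δ ↔ (d : D ⧸ N) ∈ H := by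
    intro d
    constructor
    · rintro ⟨d', hd', hdd⟩
      have : d' = d := Subtype.ext hdd
      subst this
      exact hd'
    · intro h
      exact ⟨d, h, rfl⟩
  have ΔleD : ∀ p, p ∈ Δ → p ∈ D := by
    rintro p ⟨d, -, rfl⟩
    exact d.2
  have hNΔ : ∀ a, (i1 a, i2 a) ∈ Δ := by
    intro a
    have h := (memΔ (jD a)).2 (by
      have : ((jD a : D) : D ⧸ N) = 1 := (QuotientGroup.eq_one_iff _).2 ⟨a, rfl⟩
      rw [this]; exact H.one_mem)
    exact h
  -- elements of K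
  have memK : ∀ d : D, (d : Q1 × Q2).1 = 1 → (d : D ⧸ N) ∈ K := fun d hd =>
    ⟨d, (memZ d).2 hd, rfl⟩
  -- key: if `(1, g2) ∈ Δ` then `g2 = 1`
  have h1i : ∀ g2 : Q2, ((1 : Q1), g2) ∈ Δ → g2 = 1 := by
    intro g2 hg
    have hD : ((1 : Q1), g2) ∈ D := ΔleD _ hg
    have hH : ((⟨_, hD⟩ : D) : D ⧸ N) ∈ H := (memΔ ⟨_, hD⟩).1 hg
    have hK : ((⟨_, hD⟩ : D) : D ⧸ N) ∈ K := memK ⟨_, hD⟩ rfl
    have h1 := hHK _ hH hK
    rw [QuotientGroup.eq_one_iff] at h1
    obtain ⟨a, ha⟩ := h1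
    have ha' : (i1 a, i2 a) = ((1 : Q1), g2) := congrArg Subtype.val ha
    have ha1 : i1 a = 1 := congrArg Prod.fst ha'
    have ha2 : i2 a = g2 := congrArg Prod.snd ha'
    have : a = 1 := hi1 (by rw [ha1, map_one])
    rw [← ha2, this, map_one]
  have h2i : ∀ g1 : Q1, (g1, (1 : Q2)) ∈ Δ → g1 = 1 := by
    intro g1 hg
    have hD : (g1, (1 : Q2)) ∈ D := ΔleD _ hg
    have hb : b1 g1 = 1 := by
      have := (memD _).1 hD
      simpa using this
    obtain ⟨a, rfl⟩ := (hk1 g1).1 hb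
    -- `(1, (i2 a)⁻¹) = (i1 a, i2 a)⁻¹ * (i1 a, 1) ∈ Δ`
    have h3 : ((1 : Q1), (i2 a)⁻¹) ∈ Δ := by
      have := Δ.mul_mem (Δ.inv_mem (hNΔ a)) hg
      simpa using this
    have h4 := h1i _ h3
    have h5 : i2 a = 1 := by simpa using h4
    have : a = 1 := hi2 (by rw [h5, map_one])
    rw [this, map_one]
  -- decomposition of elements of `D`
  have hdec : ∀ g1 g2, b1 g1 = b2 g2 → ∃ a, (g1, g2 * i2 a) ∈ Δ := by
    intro g1 g2 hg
    have hD : (g1, g2) ∈ D := (memD _).2 hg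
    obtain ⟨h, hh, k, ⟨z, hz, rfl⟩, hdk⟩ := hHs ((⟨_, hD⟩ : D) : D ⧸ N)
    have hz1 : (z : Q1 × Q2).1 = 1 := (memZ z).1 hz
    have hzD : b1 (z : Q1 × Q2).1 = b2 (z : Q1 × Q2).2 := (memD _).1 z.2
    rw [hz1, map_one] at hzD
    obtain ⟨a, ha⟩ := (hk2 _).1 hzD.symm
    refine ⟨a⁻¹, ?_⟩
    have hh' : ((⟨_, hD⟩ : D) * z⁻¹ : D ⧸ N) ∈ H := by
      have : h = ((⟨_, hD⟩ : D) : D ⧸ N) * ((z : D ⧸ N))⁻¹ := by
        rw [hdk]; simp
      rw [this] at hh
      exact hh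
    have hh'' : (((⟨_, hD⟩ : D) * z⁻¹ : D) : D ⧸ N) ∈ H := by
      simpa using hh'
    have h6 := (memΔ _).2 hh''
    have h7 : (((⟨_, hD⟩ : D) * z⁻¹ : D) : Q1 × Q2) = (g1, g2 * i2 a⁻¹) := by
      apply Prod.ext
      · show g1 * ((z : Q1 × Q2).1)⁻¹ = g1
        rw [hz1, inv_one, mul_one]
      · show g2 * ((z : Q1 × Q2).2)⁻¹ = g2 * i2 a⁻¹
        rw [← ha, map_inv]
    rw [h7] at h6
    exact h6
  have h1s : ∀ g1 : Q1, ∃ g2 : Q2, (g1, g2) ∈ Δ := by
    intro g1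
    obtain ⟨g2, hg2⟩ := hb2 (b1 g1)
    obtain ⟨a, ha⟩ := hdec g1 g2 hg2.symm
    exact ⟨_, ha⟩
  have h2s : ∀ g2 : Q2, ∃ g1 : Q1, (g1, g2) ∈ Δ := by
    intro g2
    obtain ⟨g1, hg1⟩ := hb1 (b2 g2)
    obtain ⟨a, ha⟩ := hdec g1 g2 hg1
    refine ⟨g1 * i1 a⁻¹, ?_⟩
    have := Δ.mul_mem ha (hNΔ a⁻¹)
    simpa [mul_assoc] using this
  obtain ⟨e, he⟩ := exists_equiv_of_graph Δ h1s h2s h1i h2i
  refine ⟨e, ?_, ?_⟩
  · intro a
    have h3 := Δ.mul_mem (Δ.inv_mem (hNΔ a)) (he (i1 a))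
    have h4 : ((1 : Q1), (i2 a)⁻¹ * e (i1 a)) ∈ Δ := by simpa using h3
    have := h1i _ h4
    rw [inv_mul_eq_one] at this
    exact this.symm
  · intro g
    have := (memD _).1 (ΔleD _ (he g))
    exact this.symm

end Cfsg.Agent.Lib.Helper2.TGSExt
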