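import Mathlib
import Cfsg.Agent.Lib.Helper3.TGSDefs

/-!
# TGS farm (S3161), unit U3b: the quotient by `Fix α` satisfies (H) again
-/

set_option autoImplicit false

namespace Cfsg.Agent.Lib.Helper2.TGSU3b

open Cfsg.Agent.Lib.Helper3.TGSDefs

/-- an involutory self-map fixing `1` of a nontrivial finite 2-group has a fixed point `≠ 1`. -/
theorem exists_fixed_ne_one {H : Type*} [Group H] [Finite H] (h2 : IsPGroup 2 H) [Nontrivial H]
    (σ : H → H) (hσ1 : σ 1 = 1) (hσ : ∀ x, σ (σ x) = x) : ∃ x : H, x ≠ 1 ∧ σ x = x := by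
  classical
  haveI : Fintype H := Fintype.ofFinite H
  haveI : Fact (Nat.Prime 2) := ⟨Nat.prime_two⟩
  have hdvd : 2 ∣ Fintype.card H := by
    rcases h2.card_eq_or_dvd with h | h
    · exfalso
      have := Finite.one_lt_card (α := H)
      omega
    · rwa [Nat.card_eq_fintype_card] at h
  let τ : Equiv.Perm H := ⟨σ, σ, hσ, hσ⟩
  have hτ : τ ^ 2 ^ 1 = 1 := by
    ext x
    show (τ ^ 2 ^ 1) x = x
    rw [pow_one, pow_two, Equiv.Perm.mul_apply]
    exact hσ x
  obtain ⟨b, hb, hb1⟩ := Equiv.Perm.exists_fixed_point_of_prime' hdvd hτ (a := 1) hσ1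
  exact ⟨b, hb1, hb⟩

section

variable {F : Type} [Field F] [Fintype F] [CharP F 2] {mu : F}

omit [CharP F 2] in
theorem iota_zero {G : Type*} [Group G] {α ρ : MulAut G} {ι : F → G} (h : Hyp mu α ρ ι) :
    ι 0 = 1 := by
  have := h.iota_add 0 0
  rw [add_zero] at this
  exact (mul_eq_left (a := ι 0) (b := ι 0)).1 this.symm

omit [CharP F 2] in
theorem iota_rho_pow {G : Type*} [Group G] {α ρ : MulAut G} {ι : F → G} (h : Hyp mu α ρ ι)
    (k : ℕ) (a : F) : (ρ ^ k) (ι a) = ι ((mu ^ 2) ^ k * a) := by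
  induction k with
  | zero => simp
  | succ k ih =>
    rw [pow_succ' ρ, MulAut.mul_apply, ih, h.iota_rho, pow_succ' (mu ^ 2) k, mul_assoc]

/-- `Fix α` is central (own copy of U3a, to keep this file self-contained). -/
theorem central_of_hyp (hmu : ∀ x : F, x ≠ 0 → ∃ k : ℕ, x = mu ^ k)
    {G : Type*} [Group G] [Finite G] (h2 : IsPGroup 2 G)
    {α ρ : MulAut G} {ι : F → G} (h : Hyp mu α ρ ι) : ∀ a g, ι a * g = g * ι a := by
  classical
  rcases subsingleton_or_nontrivial G with hs | hnt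
  · intro a g; exact Subsingleton.elim _ _
  haveI := h2.center_nontrivial
  have hαc : ∀ z : G, z ∈ Subgroup.center G → α z ∈ Subgroup.center G := by
    intro z hz
    rw [Subgroup.mem_center_iff] at hz ⊢
    intro g
    have hg : g = α (α g) := (h.alpha_sq g).symm
    rw [hg, ← map_mul, ← map_mul, hz]
  have hρc : ∀ z : G, z ∈ Subgroup.center G → ρ z ∈ Subgroup.center G := by
    intro z hz
    rw [Subgroup.mem_center_iff] at hz ⊢
    intro g
    have hg : g = ρ (ρ.symm g) := (ρ.apply_symm_apply g).symm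
    rw [hg, ← map_mul, ← map_mul, hz]
  have h2c : IsPGroup 2 (Subgroup.center G) := h2.to_subgroup _
  obtain ⟨z, hz1, hzfix⟩ := exists_fixed_ne_one h2c
    (fun z : Subgroup.center G => ⟨α z, hαc z z.2⟩)
    (by apply Subtype.ext; exact map_one α)
    (by intro z; apply Subtype.ext; exact h.alpha_sq z)
  have hzfix' : α (z : G) = z := congrArg Subtype.val hzfix
  obtain ⟨a0, ha0⟩ := (h.iota_fix _).1 hzfix'
  have ha0ne : a0 ≠ 0 := by
    rintro rfl
    apply hz1
    apply Subtype.ext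
    rw [← ha0, iota_zero h]; rfl
  have hcen0 : ι a0 ∈ Subgroup.center G := by rw [ha0]; exact z.2
  have hpow : ∀ k : ℕ, ι ((mu ^ 2) ^ k * a0) ∈ Subgroup.center G := by
    intro k
    rw [← iota_rho_pow h]
    induction k with
    | zero => simpa using hcen0
    | succ k ih =>
      rw [pow_succ', MulAut.mul_apply]
      exact hρc _ ih
  intro a g
  by_cases ha : a = 0
  · rw [ha, iota_zero h, one_mul, mul_one]
  · have hne : a / a0 ≠ 0 := div_ne_zero ha ha0ne
    obtain ⟨k, hk⟩ := gen_sq hmu _ hne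
    have : a = (mu ^ 2) ^ k * a0 := by
      rw [← hk, div_mul_cancel₀ _ ha0ne]
    rw [this]
    have hc := hpow k
    rw [Subgroup.mem_center_iff] at hc
    exact (hc g).symm

/-- U3b: the quotient by `Fix α` satisfies (H) again; `ι'` is linked to `ι` by
`θ (xE) = x⁻¹ α x`. -/
theorem U3b_quotient (hmu : ∀ x : F, x ≠ 0 → ∃ k : ℕ, x = mu ^ k)
    {G : Type*} {B : Type*} [Group G] [Group B] [Finite G] (h2 : IsPGroup 2 G)
    {α ρ : MulAut G} {ι : F → G} (h : Hyp mu α ρ ι)
    {α' ρ' : MulAut B} {p : G →* B} (hq : Quo α ρ α' ρ' p) (hne : ∃ g, α g ≠ g) :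
    ∃ ι' : F → B, Hyp mu α' ρ' ι' ∧ ∀ a g, p g = ι' a → g⁻¹ * α g = ι a := by
  classical
  have hcen := central_of_hyp hmu h2 h
  -- basic transport facts
  have hα'sq : ∀ b, α' (α' b) = b := by
    intro b
    obtain ⟨g, rfl⟩ := hq.surj b
    rw [hq.alpha, hq.alpha, h.alpha_sq]
  have hcomm' : ∀ b, α' (ρ' b) = ρ' (α' b) := by
    intro b
    obtain ⟨g, rfl⟩ := hq.surj b
    rw [hq.rho, hq.alpha, hq.alpha, hq.rho, h.comm]
  have hρ'pow : ∀ (k : ℕ) (g : G), (ρ' ^ k) (p g) = p ((ρ ^ k) g) := by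
    intro k
    induction k with
    | zero => intro g; simp
    | succ k ih =>
      intro g
      rw [pow_succ', MulAut.mul_apply, ih, hq.rho, pow_succ', MulAut.mul_apply]
  -- `θ x = x⁻¹ α x`
  have hK : ∀ x y : G, x⁻¹ * α x = y⁻¹ * α y → p x = p y := by
    intro x y hxy
    have h1 : α (y * x⁻¹) = y * x⁻¹ := by
      rw [map_mul, map_inv]
      have : α y = y * (x⁻¹ * α x) := by rw [hxy, mul_inv_cancel_left]
      rw [this, mul_assoc, mul_assoc, mul_inv_cancel, mul_one]
    have h3 := (hq.ker _).2 h1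
    rw [map_mul, map_inv, mul_inv_eq_one] at h3
    exact h3.symm
  have hK' : ∀ x y : G, p x = p y → x⁻¹ * α x = y⁻¹ * α y := by
    intro x y hxy
    have h1 : p (x⁻¹ * y) = 1 := by
      rw [map_mul, map_inv, hxy, inv_mul_cancel]
    have h3 := (hq.ker _).1 h1
    obtain ⟨c, hc⟩ := (h.iota_fix _).1 h3
    have hy : y = x * ι c := by rw [hc, mul_inv_cancel_left]
    rw [hy, map_mul, mul_inv_rev, (h.iota_fix (ι c)).2 ⟨c, rfl⟩]
    rw [mul_assoc, ← mul_assoc x⁻¹, ← hcen c, inv_mul_cancel_left]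
  -- `B` is a nontrivial finite 2-group
  haveI : Finite B := Finite.of_surjective p hq.surj
  have h2B : IsPGroup 2 B := h2.of_surjective p hq.surj
  obtain ⟨g0, hg0⟩ := hne
  haveI : Nontrivial B := ⟨⟨p g0, 1, fun hp => hg0 ((hq.ker _).1 hp)⟩⟩
  obtain ⟨b0, hb01, hb0fix⟩ := exists_fixed_ne_one h2B (fun b => α' b) (map_one α') hα'sq
  obtain ⟨x0, rfl⟩ := hq.surj b0
  have hx0 : α (x0⁻¹ * α x0) = x0⁻¹ * α x0 := by
    apply (hq.ker _).1
    rw [map_mul, map_inv, ← hq.alpha]
    show (p x0)⁻¹ * α' (p x0) = 1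
    rw [hb0fix, inv_mul_cancel]
  obtain ⟨a0, ha0⟩ := (h.iota_fix _).1 hx0
  have ha0ne : a0 ≠ 0 := by
    rintro rfl
    apply hb01
    rw [iota_zero h] at ha0
    have : α x0 = x0 := by
      have := ha0.symm
      rwa [inv_mul_eq_one, eq_comm] at this
    exact (hq.ker _).2 this
  -- surjectivity of `θ`
  have hθρ : ∀ (k : ℕ) (x : G), ((ρ ^ k) x)⁻¹ * α ((ρ ^ k) x) = (ρ ^ k) (x⁻¹ * α x) := by
    intro k
    induction k with
    | zero => intro x; simp
    | succ k ih =>
      intro x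
      rw [pow_succ', MulAut.mul_apply, MulAut.mul_apply, h.comm, ← map_inv, ← map_mul, ih]
  have hsurj : ∀ a : F, ∃ x : G, x⁻¹ * α x = ι a := by
    intro a
    by_cases ha : a = 0
    · exact ⟨1, by rw [ha, iota_zero h]; simp⟩
    · have hne : a / a0 ≠ 0 := div_ne_zero ha ha0ne
      obtain ⟨k, hk⟩ := gen_sq hmu _ hne
      have ha' : a = (mu ^ 2) ^ k * a0 := by
        rw [← hk, div_mul_cancel₀ _ ha0ne]
      refine ⟨(ρ ^ k) x0, ?_⟩
      rw [hθρ, ← ha0, iota_rho_pow h, ha']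
  choose xs hxs using hsurj
  refine ⟨fun a => p (xs a), ?_, ?_⟩
  · refine ⟨hα'sq, hcomm', ?_, ?_, ?_, ?_, ?_⟩
    · intro b
      obtain ⟨g, rfl⟩ := hq.surj b
      rw [hρ'pow, h.rho_pow]
    · intro a b
      show p (xs (a + b)) = p (xs a) * p (xs b)
      rw [← map_mul]
      apply hK
      rw [hxs, mul_inv_rev, map_mul, mul_assoc, ← mul_assoc (xs a)⁻¹, hxs a, hcen a,
        ← mul_assoc, hxs b, h.iota_add]
      exact hcen a (ι b)
    · intro a b hab
      have := hK' _ _ hab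
      rw [hxs, hxs] at this
      exact h.iota_inj this
    · intro b
      constructor
      · intro hb
        obtain ⟨x, rfl⟩ := hq.surj b
        have hx : α (x⁻¹ * α x) = x⁻¹ * α x := by
          apply (hq.ker _).1
          rw [map_mul, map_inv, ← hq.alpha, hb, inv_mul_cancel]
        obtain ⟨a, ha⟩ := (h.iota_fix _).1 hx
        refine ⟨a, ?_⟩
        apply hK
        rw [hxs, ha]
      · rintro ⟨a, rfl⟩
        show α' (p (xs a)) = p (xs a)
        rw [hq.alpha]
        have : α (xs a) = xs a * ι a := by rw [← hxs a, mul_inv_cancel_left]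
        rw [this, map_mul]
        have : p (ι a) = 1 := (hq.ker _).2 ((h.iota_fix _).2 ⟨a, rfl⟩)
        rw [this, mul_one]
    · intro a
      show ρ' (p (xs a)) = p (xs (mu ^ 2 * a))
      rw [hq.rho]
      apply hK
      have := hθρ 1 (xs a)
      rw [pow_one] at this
      rw [this, hxs, hxs, h.iota_rho]
  · intro a g hg
    have := hK' _ _ hg
    rw [this, hxs]

end

end Cfsg.Agent.Lib.Helper2.TGSU3b
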