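import Mathlib
import Cfsg.Agent.Lib.Helper3.TGSDefs
import Cfsg.Agent.Lib.Helper7.TGSline

/-!
# TGS farm (S3161), unit U5: abelian quotient with `Ω₁ = Fix` forces `G` abelian
-/

set_option autoImplicit false

namespace Cfsg.Agent.Lib.Helper2.TGSU5

open Cfsg.Agent.Lib.Helper3.TGSDefs

/-- In a finite abelian group `B` whose elements of order `≤ 2` are exactly the image of an
injective map `ι' : F → B`, every element killed by a surjective additive map `π : B → F` (into a
type of exponent two of the same size) is a square. -/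
theorem exists_sq_of_pi_eq_zero {F : Type} [Field F] [Fintype F] [CharP F 2]
    {B : Type*} [Group B] [Finite B] (hB : ∀ x y : B, x * y = y * x)
    (ι' : F → B) (hinj : Function.Injective ι') (hΩ : ∀ b : B, b ^ 2 = 1 ↔ ∃ a, ι' a = b)
    (π : B → F) (hπadd : ∀ g h, π (g * h) = π g + π h) (hπsurj : Function.Surjective π) :
    ∀ b : B, π b = 0 → ∃ c : B, c ^ 2 = b := by
  classical
  have hπ1 : π 1 = 0 := by
    have := hπadd 1 1
    rw [one_mul] at this
    exact left_eq_add.mp this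
  let sq : B →* B :=
    { toFun := fun b => b ^ 2
      map_one' := one_pow 2
      map_mul' := by
        intro a b
        rw [pow_two, pow_two, pow_two, mul_assoc a b, ← mul_assoc b a b, hB b a, mul_assoc a b b,
          ← mul_assoc a a] }
  let πh : B →* Multiplicative F :=
    { toFun := fun b => Multiplicative.ofAdd (π b)
      map_one' := by rw [hπ1]; rfl
      map_mul' := by
        intro a b
        rw [hπadd]; rfl }
  have hq : 0 < Fintype.card F := Fintype.card_pos
  -- card of ker sq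
  have hker : Nat.card sq.ker = Fintype.card F := by
    rw [← Nat.card_eq_fintype_card]
    symm
    apply Nat.card_congr
    refine Equiv.ofBijective (fun a => ⟨ι' a, ?_⟩) ⟨?_, ?_⟩
    · rw [MonoidHom.mem_ker]
      exact (hΩ _).2 ⟨a, rfl⟩
    · intro a b hab
      exact hinj (congrArg Subtype.val hab)
    · rintro ⟨b, hb⟩
      rw [MonoidHom.mem_ker] at hb
      obtain ⟨a, ha⟩ := (hΩ b).1 hb
      exact ⟨a, Subtype.ext ha⟩
  have h1 : Fintype.card F * Nat.card sq.range = Nat.card B := by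
    have := Subgroup.card_mul_index sq.ker
    rw [Subgroup.index_ker, hker] at this
    exact this
  have hπhsurj : Function.Surjective πh := by
    intro x
    obtain ⟨b, hb⟩ := hπsurj (Multiplicative.toAdd x)
    exact ⟨b, by show Multiplicative.ofAdd (π b) = x; rw [hb]; rfl⟩
  have h2 : Nat.card πh.ker * Fintype.card F = Nat.card B := by
    have := Subgroup.card_mul_index πh.ker
    rw [Subgroup.index_ker, MonoidHom.range_eq_top.2 hπhsurj, Subgroup.card_top] at this
    rw [← this]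
    congr 1
    rw [← Nat.card_eq_fintype_card]
    exact Nat.card_congr Multiplicative.ofAdd
  have hle : sq.range ≤ πh.ker := by
    rintro _ ⟨b, rfl⟩
    rw [MonoidHom.mem_ker]
    show Multiplicative.ofAdd (π (b ^ 2)) = 1
    rw [pow_two, hπadd, CharTwo.add_self_eq_zero]; rfl
  have hcard : Nat.card πh.ker ≤ Nat.card sq.range := by
    have : Fintype.card F * Nat.card sq.range = Fintype.card F * Nat.card πh.ker := by
      rw [h1, mul_comm, h2]
    exact (Nat.eq_of_mul_eq_mul_left hq this).ge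
  have heq : sq.range = πh.ker := Subgroup.eq_of_le_of_card_ge hle hcard
  intro b hb
  have : b ∈ πh.ker := by
    rw [MonoidHom.mem_ker]
    show Multiplicative.ofAdd (π b) = 1
    rw [hb]; rfl
  rw [← heq] at this
  obtain ⟨c, hc⟩ := this
  exact ⟨c, hc⟩

section

variable {F : Type} [Field F] [Fintype F] [CharP F 2] {mu : F}

/-- U5: abelian quotient with `Ω₁ = Fix` forces `G` abelian. -/
theorem U5_abelian_quotient (hmu : ∀ x : F, x ≠ 0 → ∃ k : ℕ, x = mu ^ k)
    {G : Type*} {B : Type*} [Group G] [Group B] [Finite G] [Finite B]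
    {α ρ : MulAut G} {ι : F → G} (h : Hyp mu α ρ ι) (hcen : ∀ a g, ι a * g = g * ι a)
    {α' ρ' : MulAut B} {p : G →* B} (hq : Quo α ρ α' ρ' p)
    {ι' : F → B} (h' : Hyp mu α' ρ' ι') (hB : ∀ x y : B, x * y = y * x)
    (hfix : ∀ b : B, b ^ 2 = 1 → α' b = b) (htop : Top mu ρ') :
    ∀ x y : G, x * y = y * x := by
  classical
  obtain ⟨π, hπadd, hπsurj, hπρ⟩ := htop
  have hι0 : ι 0 = 1 := by
    have := h.iota_add 0 0
    rw [add_zero] at this
    exact (mul_eq_left (a := ι 0) (b := ι 0)).1 this.symm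
  have hι'0 : ι' 0 = 1 := by
    have := h'.iota_add 0 0
    rw [add_zero] at this
    exact (mul_eq_left (a := ι' 0) (b := ι' 0)).1 this.symm
  have hιsq : ∀ a, ι a * ι a = 1 := by
    intro a
    rw [← h.iota_add, CharTwo.add_self_eq_zero, hι0]
  -- `Ω₁(B) = range ι'`
  have hΩ : ∀ b : B, b ^ 2 = 1 ↔ ∃ a, ι' a = b := by
    intro b
    constructor
    · intro hb
      exact (h'.iota_fix b).1 (hfix b hb)
    · rintro ⟨a, rfl⟩
      rw [pow_two, ← h'.iota_add, CharTwo.add_self_eq_zero, hι'0]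
  have hsqB := exists_sq_of_pi_eq_zero hB ι' h'.iota_inj hΩ π hπadd hπsurj
  -- commutators lie in `range ι`
  have hcomm : ∀ x y : G, ∃ a, ι a = x * y * x⁻¹ * y⁻¹ := by
    intro x y
    apply (h.iota_fix _).1
    apply (hq.ker _).1
    rw [map_mul, map_mul, map_mul, map_inv, map_inv, hB (p x) (p y), mul_assoc (p y),
      mul_inv_cancel, mul_one, mul_inv_cancel]
  choose γ hγ using hcomm
  -- the top map
  let t : G → F := fun g => π (p g)
  have ht_mul : ∀ g g', t (g * g') = t g + t g' := by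
    intro g g'
    show π (p (g * g')) = _
    rw [map_mul, hπadd]
  have ht_surj : Function.Surjective t := by
    intro a
    obtain ⟨b, hb⟩ := hπsurj a
    obtain ⟨g, hg⟩ := hq.surj b
    exact ⟨g, by show π (p g) = a; rw [hg, hb]⟩
  have ht_rho : ∀ g, t (ρ g) = mu ^ 2 * t g := by
    intro g
    show π (p (ρ g)) = _
    rw [← hq.rho, hπρ]
  -- elements killed by `t` are central
  have hcz : ∀ z : G, t z = 0 → ∀ y, z * y = y * z := by
    intro z hz y
    obtain ⟨c, hc⟩ := hsqB (p z) hz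
    obtain ⟨g, rfl⟩ := hq.surj c
    have h1 : p ((g ^ 2)⁻¹ * z) = 1 := by
      rw [map_mul, map_inv, map_pow, hc, inv_mul_cancel]
    obtain ⟨e, he⟩ := (h.iota_fix _).1 ((hq.ker _).1 h1)
    have hzz : z = g ^ 2 * ι e := by rw [he, mul_inv_cancel_left]
    -- `g^2` commutes with `y`
    have hgy : g * y = ι (γ g y) * y * g := by
      rw [hγ]; group
    have hg2 : g ^ 2 * y = y * g ^ 2 := by
      rw [pow_two, mul_assoc, hgy, ← mul_assoc, ← mul_assoc, ← hcen (γ g y) g, mul_assoc (ι _) g y,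
        hgy, ← mul_assoc, ← mul_assoc, hιsq, one_mul, mul_assoc]
    rw [hzz, mul_assoc, hcen e y, ← mul_assoc, hg2, mul_assoc]
  have hγ_cl : ∀ z y : G, (∀ y, z * y = y * z) → γ z y = 0 := by
    intro z y hz
    apply h.iota_inj
    rw [hγ, hι0, hz y, mul_assoc y, mul_inv_cancel, mul_one, mul_inv_cancel]
  have hγ_cr : ∀ z y : G, (∀ y, z * y = y * z) → γ y z = 0 := by
    intro z y hz
    apply h.iota_inj
    rw [hγ, hι0, ← hz y, mul_assoc z, mul_inv_cancel, mul_one, mul_inv_cancel]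
  have hγ_ml : ∀ x x' y : G, γ (x * x') y = γ x y + γ x' y := by
    intro x x' y
    apply h.iota_inj
    rw [h.iota_add, hγ, hγ x y]
    have : x * x' * y * (x * x')⁻¹ * y⁻¹ = x * (x' * y * x'⁻¹ * y⁻¹) * y * x⁻¹ * y⁻¹ := by group
    rw [this, ← hγ x' y, ← hcen]
    simp only [mul_assoc]
    rw [hcen]
    simp only [mul_assoc]
  have hγ_mr : ∀ x y y' : G, γ x (y * y') = γ x y + γ x y' := by
    intro x y y'
    apply h.iota_inj
    rw [h.iota_add, hγ, hγ x y]
    have : x * (y * y') * x⁻¹ * (y * y')⁻¹ =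
        x * y * x⁻¹ * y⁻¹ * (y * (x * y' * x⁻¹ * y'⁻¹) * y⁻¹) := by group
    rw [this, ← hγ x y', ← hcen _ y, mul_assoc (ι _) y, mul_inv_cancel, mul_one]
  have hγ_self : ∀ x : G, γ x x = 0 := by
    intro x
    apply h.iota_inj
    rw [hγ, hι0, mul_assoc x, mul_inv_cancel, mul_one, mul_inv_cancel]
  have hγ_rho : ∀ x y : G, γ (ρ x) (ρ y) = mu ^ 2 * γ x y := by
    intro x y
    apply h.iota_inj
    rw [hγ, ← h.iota_rho, hγ, map_mul, map_mul, map_mul, map_inv, map_inv]
  -- `γ` only depends on the top coordinates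
  have hdec : ∀ x x' : G, t x = t x' → ∃ z, (∀ y, z * y = y * z) ∧ x = x' * z := by
    intro x x' hxx
    refine ⟨x'⁻¹ * x, hcz _ ?_, by rw [mul_inv_cancel_left]⟩
    have h3 := ht_mul x' (x'⁻¹ * x)
    rw [mul_inv_cancel_left, hxx] at h3
    exact (left_eq_add.mp h3)
  have hγt : ∀ x x' y y' : G, t x = t x' → t y = t y' → γ x y = γ x' y' := by
    intro x x' y y' hx hy
    obtain ⟨z, hz, rfl⟩ := hdec x x' hx
    obtain ⟨w, hw, rfl⟩ := hdec y y' hy
    rw [hγ_ml, hγ_cl z _ hz, add_zero, hγ_mr, hγ_cr w _ hw, add_zero]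
  choose s hs using ht_surj
  let β : F → F → F := fun a b => γ (s a) (s b)
  have hβ1 : ∀ a a' b, β (a + a') b = β a b + β a' b := by
    intro a a' b
    show γ (s (a + a')) (s b) = γ (s a) (s b) + γ (s a') (s b)
    rw [← hγ_ml]
    apply hγt _ _ _ _ _ rfl
    rw [ht_mul, hs, hs, hs]
  have hβ2 : ∀ a b b', β a (b + b') = β a b + β a b' := by
    intro a b b'
    show γ (s a) (s (b + b')) = γ (s a) (s b) + γ (s a) (s b')
    rw [← hγ_mr]
    apply hγt _ _ _ _ rfl
    rw [ht_mul, hs, hs, hs]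
  have hβeq : ∀ a b, β (mu ^ 2 * a) (mu ^ 2 * b) = mu ^ 2 * β a b := by
    intro a b
    show γ (s (mu ^ 2 * a)) (s (mu ^ 2 * b)) = mu ^ 2 * γ (s a) (s b)
    rw [← hγ_rho]
    apply hγt
    · rw [ht_rho, hs, hs]
    · rw [ht_rho, hs, hs]
  have hβalt : ∀ a, β a a = 0 := fun a => hγ_self (s a)
  have hβ0 := Cfsg.Agent.Lib.Helper7.TGSline.alternating_eq_zero (mu ^ 2) (gen_sq hmu) β hβ1 hβ2
    hβeq hβalt
  intro x y
  have h0 : γ x y = 0 := by
    have h1 : γ x y = β (t x) (t y) := by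
      apply hγt
      · rw [hs]
      · rw [hs]
    rw [h1, ← sqrtF_sq (t x), ← sqrtF_sq (t y)]
    exact hβ0 _ _
  have h1 := hγ x y
  rw [h0, hι0] at h1
  have h2 : x * y = (x * y * x⁻¹ * y⁻¹) * (y * x) := by group
  rw [h2, ← h1, one_mul]

end

end Cfsg.Agent.Lib.Helper2.TGSU5
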