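import Mathlib
import Cfsg.Agent.Lib.Helper3.TGSDefs

/-!
# TGS farm (S3161), unit U6b3: conclusion of (S6)
-/

set_option autoImplicit false

namespace Cfsg.Agent.Lib.Helper2.TGSU6b3

open Cfsg.Agent.Lib.Helper3.TGSDefs

variable {F : Type} [Field F] [Fintype F] [CharP F 2] {mu : F}

/-- U6b3: conclusion of (S6). -/
theorem U6b3_struct (hmu : ∀ x : F, x ≠ 0 → ∃ k : ℕ, x = mu ^ k)
    {G : Type*} {B : Type*} [Group G] [Group B]
    {α ρ : MulAut G} {ι : F → G} (h : Hyp mu α ρ ι) (hcen : ∀ a g, ι a * g = g * ι a)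
    {α' ρ' : MulAut B} {p : G →* B} (hq : Quo α ρ α' ρ' p)
    {ι' : F → B} {X W : B → F} (hc : Coord2Data mu α' ρ' ι' X W)
    {S : F → F → F} (hS : SqData mu ι p X W S) (c a₃ : F)
    (hform : ∀ s t : F, S (s ^ 2) (t ^ 2) = c * s ^ 2 + c * s * t + a₃ * t ^ 2) :
    (∀ x y : G, x * y = y * x) ∨ Struct3 mu α ρ ι := by
  classical
  have hι0 : ι 0 = 1 := by
    have := h.iota_add 0 0
    rw [add_zero] at this
    exact (mul_eq_left (a := ι 0) (b := ι 0)).1 this.symm
  have hX1 : X 1 = 0 := by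
    have := hc.X_mul 1 1
    rw [one_mul] at this
    exact left_eq_add.mp this
  have hW1 : W 1 = 0 := by
    have := hc.W_mul 1 1
    rw [one_mul] at this
    exact left_eq_add.mp this
  have hSxw : ∀ x w : F, S x w = c * x + c * sqrtF x * sqrtF w + a₃ * w := by
    intro x w
    have := hform (sqrtF x) (sqrtF w)
    rw [sqrtF_sq, sqrtF_sq] at this
    exact this
  by_cases hc0 : c = 0
  · left
    intro x y
    have h1 := hS.comm x y
    have h2 : S (X (p x) + X (p y)) (W (p x) + W (p y)) + S (X (p x)) (W (p x)) +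
        S (X (p y)) (W (p y)) = 0 := by
      rw [hSxw, hSxw, hSxw, hc0]
      have e1 := CharTwo.add_self_eq_zero (a₃ * W (p x))
      have e2 := CharTwo.add_self_eq_zero (a₃ * W (p y))
      linear_combination e1 + e2
    rw [h2, hι0] at h1
    have h3 : x * y = (x * y * x⁻¹ * y⁻¹) * (y * x) := by group
    rw [h3, h1, one_mul]
  · right
    obtain ⟨k, hk⟩ := exists_sq c
    have hk0 : k ≠ 0 := by
      rintro rfl
      apply hc0
      rw [← hk]; ring
    refine ⟨fun g => k * sqrtF (X (p g)), fun g => k * sqrtF (W (p g)), a₃ / c,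
      ⟨h.iota_add, h.iota_inj, hcen, ?_, ?_, ?_, ?_, ?_⟩, ?_, ?_, ?_, ?_⟩
    · intro g g'
      show k * sqrtF (X (p (g * g'))) = k * sqrtF (X (p g)) + k * sqrtF (X (p g'))
      rw [map_mul, hc.X_mul, sqrtF_add, mul_add]
    · intro g g'
      show k * sqrtF (W (p (g * g'))) = k * sqrtF (W (p g)) + k * sqrtF (W (p g'))
      rw [map_mul, hc.W_mul, sqrtF_add, mul_add]
    · intro a b
      obtain ⟨bb, hbX, hbW⟩ := hc.surj ((a / k) ^ 2) ((b / k) ^ 2)
      obtain ⟨g, rfl⟩ := hq.surj bb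
      refine ⟨g, ?_, ?_⟩
      · show k * sqrtF (X (p g)) = a
        rw [hbX, sqrtF_of_sq, mul_div_cancel₀ _ hk0]
      · show k * sqrtF (W (p g)) = b
        rw [hbW, sqrtF_of_sq, mul_div_cancel₀ _ hk0]
    · intro g
      show (k * sqrtF (X (p g)) = 0 ∧ k * sqrtF (W (p g)) = 0) ↔ ∃ a, ι a = g
      constructor
      · rintro ⟨h1, h2⟩
        have h1' : X (p g) = 0 := sqrtF_eq_zero ((mul_eq_zero.1 h1).resolve_left hk0)
        have h2' : W (p g) = 0 := sqrtF_eq_zero ((mul_eq_zero.1 h2).resolve_left hk0)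
        have := hc.inj _ h1' h2'
        exact (h.iota_fix g).1 ((hq.ker g).1 this)
      · intro hg
        have : p g = 1 := (hq.ker g).2 ((h.iota_fix g).2 hg)
        rw [this, hX1, hW1, sqrtF_zero, mul_zero]
        exact ⟨rfl, rfl⟩
    · intro g
      show g ^ 2 = ι (sig (a₃ / c) (k * sqrtF (X (p g))) (k * sqrtF (W (p g))))
      rw [hS.sq, hSxw]
      congr 1
      unfold sig
      have e1 := sqrtF_sq (X (p g))
      have e2 := sqrtF_sq (W (p g))
      rw [← hk]
      field_simp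
      rw [← e1, ← e2]
      rw [sqrtF_of_sq, sqrtF_of_sq]
      ring
    · intro g
      show k * sqrtF (X (p (ρ g))) = mu * (k * sqrtF (X (p g)))
      rw [← hq.rho, hc.X_rho, sqrtF_mul, sqrtF_of_sq]; ring
    · intro g
      show k * sqrtF (W (p (ρ g))) = mu * (k * sqrtF (W (p g)))
      rw [← hq.rho, hc.W_rho, sqrtF_mul, sqrtF_of_sq]; ring
    · intro g
      show k * sqrtF (X (p (α g))) = k * sqrtF (X (p g)) + k * sqrtF (W (p g))
      rw [← hq.alpha, hc.X_alpha, sqrtF_add, mul_add]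
    · intro g
      show k * sqrtF (W (p (α g))) = k * sqrtF (W (p g))
      rw [← hq.alpha, hc.W_alpha]

end Cfsg.Agent.Lib.Helper2.TGSU6b3
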