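import Mathlib
import Cfsg.Prelude.Def_OddOrderLocal
import Cfsg.Agent.Lib.Helper1.Fitting

/-!
# S4064 Part A (b): TI-centralizer groups with nontrivial centre are nilpotent
-/

set_option autoImplicit false
set_option linter.style.haveILetI false
set_option linter.unusedSectionVars false

namespace Cfsg.Agent.Lib.Helper2.TIC

variable {G : Type*} [Group G]

theorem isNilpotent_of_isMulCommutative (K : Subgroup G) [IsMulCommutative K] :
    Group.IsNilpotent K := by
  letI : CommGroup K := { (inferInstance : Group K) with mul_comm := mul_comm' }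
  exact CommGroup.isNilpotent

/-- usable form of the hypothesis: `1 ≠ y ∈ C(x) ∩ g⁻¹ C(x) g` forces `g ∈ N(C(x))`. -/
theorem mem_normalizer_of_ti
    (hTI : ∀ x : G, Cfsg.IsTISubset (Subgroup.centralizer ({x} : Set G) : Set G))
    {x y g : G} (hy : y ∈ Subgroup.centralizer ({x} : Set G)) (hy1 : y ≠ 1)
    (hgy : g * y * g⁻¹ ∈ Subgroup.centralizer ({x} : Set G)) :
    g ∈ Subgroup.normalizer (Subgroup.centralizer ({x} : Set G) : Set G) := by
  by_contra h
  exact hy1 (hTI x g h y hy hgy)

/-- The hypothesis passes to subgroups. -/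
theorem ti_subgroup
    (hTI : ∀ x : G, Cfsg.IsTISubset (Subgroup.centralizer ({x} : Set G) : Set G))
    (H : Subgroup G) :
    ∀ x : H, Cfsg.IsTISubset (Subgroup.centralizer ({x} : Set H) : Set H) := by
  intro x g hg y hy hgy
  have hy' : (y : G) ∈ Subgroup.centralizer ({(x : G)} : Set G) := by
    rw [Subgroup.mem_centralizer_singleton_iff]
    have := Subgroup.mem_centralizer_singleton_iff.1 hy
    exact_mod_cast congrArg Subtype.val this
  have hgy' : (g : G) * (y : G) * (g : G)⁻¹ ∈ Subgroup.centralizer ({(x : G)} : Set G) := by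
    rw [Subgroup.mem_centralizer_singleton_iff]
    have := Subgroup.mem_centralizer_singleton_iff.1 hgy
    exact_mod_cast congrArg Subtype.val this
  by_cases hy1 : (y : G) = 1
  · exact Subtype.ext hy1
  exfalso
  apply hg
  have hn := mem_normalizer_of_ti hTI hy' hy1 hgy'
  rw [Subgroup.mem_normalizer_iff] at hn ⊢
  intro h
  have := hn (h : G)
  rw [Subgroup.mem_centralizer_singleton_iff, Subgroup.mem_centralizer_singleton_iff] at this ⊢
  constructor
  · intro h1
    have h2 := this.1 (by exact_mod_cast congrArg Subtype.val h1)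
    exact Subtype.ext (by exact_mod_cast h2)
  · intro h1
    have h2 := this.2 (by exact_mod_cast congrArg Subtype.val h1)
    exact Subtype.ext (by exact_mod_cast h2)

/-- (b), step 1: if `Z(G) ≠ 1` all centralizers are normal. -/
theorem cent_conj_mem_of_center
    (hTI : ∀ x : G, Cfsg.IsTISubset (Subgroup.centralizer ({x} : Set G) : Set G))
    (hZ : Subgroup.center G ≠ ⊥) (x : G) {y : G}
    (hy : y ∈ Subgroup.centralizer ({x} : Set G)) (g : G) :
    g * y * g⁻¹ ∈ Subgroup.centralizer ({x} : Set G) := by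
  obtain ⟨⟨c, hc⟩, hc1⟩ := Subgroup.ne_bot_iff_exists_ne_one.1 hZ
  have hc1' : c ≠ 1 := fun h => hc1 (Subtype.ext h)
  have hcx : c ∈ Subgroup.centralizer ({x} : Set G) := Subgroup.center_le_centralizer _ hc
  have hgc : g * c * g⁻¹ = c := by
    have := Subgroup.mem_center_iff.1 hc g
    rw [this, mul_inv_cancel_right]
  have hn := mem_normalizer_of_ti hTI hcx hc1' (by rw [hgc]; exact hcx)
  exact ((Subgroup.mem_normalizer_iff.1 hn) y).1 hy

/-- (b): a TI-centralizer group with nontrivial centre is nilpotent. -/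
theorem nilpotent_of_center_ne_bot [Finite G]
    (hTI : ∀ x : G, Cfsg.IsTISubset (Subgroup.centralizer ({x} : Set G) : Set G))
    (hZ : Subgroup.center G ≠ ⊥) : Group.IsNilpotent G := by
  -- x commutes with all of its conjugates
  have hcomm : ∀ x g : G, (g * x * g⁻¹) * x = x * (g * x * g⁻¹) := by
    intro x g
    have hx : x ∈ Subgroup.centralizer ({x} : Set G) := by
      rw [Subgroup.mem_centralizer_singleton_iff]
    have := cent_conj_mem_of_center hTI hZ x hx g
    exact Subgroup.mem_centralizer_singleton_iff.1 this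
  have hF : ∀ x : G, x ∈ Cfsg.fittingSubgroup G := by
    intro x
    have hab : IsMulCommutative (Subgroup.normalClosure ({x} : Set G)) := by
      apply Subgroup.isMulCommutative_closure
      intro a ha b hb
      obtain ⟨a0, ha0, hca⟩ := Group.mem_conjugatesOfSet_iff.1 ha
      obtain ⟨b0, hb0, hcb⟩ := Group.mem_conjugatesOfSet_iff.1 hb
      rw [Set.mem_singleton_iff] at ha0 hb0
      rw [ha0] at hca
      rw [hb0] at hcb
      obtain ⟨g, rfl⟩ := isConj_iff.1 hca
      obtain ⟨h, rfl⟩ := isConj_iff.1 hcb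
      have e := hcomm x (g⁻¹ * h)
      -- conjugate `e` by `g`
      have e2 : g * ((g⁻¹ * h) * x * (g⁻¹ * h)⁻¹ * x) * g⁻¹ =
          g * (x * ((g⁻¹ * h) * x * (g⁻¹ * h)⁻¹)) * g⁻¹ := by rw [e]
      have l : g * ((g⁻¹ * h) * x * (g⁻¹ * h)⁻¹ * x) * g⁻¹ = h * x * h⁻¹ * (g * x * g⁻¹) := by
        group
      have r : g * (x * ((g⁻¹ * h) * x * (g⁻¹ * h)⁻¹)) * g⁻¹ = g * x * g⁻¹ * (h * x * h⁻¹) := by
        group
      rw [l, r] at e2
      exact e2.symm
    have hnil : Group.IsNilpotent (Subgroup.normalClosure ({x} : Set G)) :=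
      isNilpotent_of_isMulCommutative _
    exact Cfsg.Agent.Lib.Helper1.le_fittingSubgroup Subgroup.normalClosure_normal hnil
      (Subgroup.subset_normalClosure (Set.mem_singleton x))
  have htop : Cfsg.fittingSubgroup G = ⊤ := by
    rw [eq_top_iff]
    intro x _
    exact hF x
  have h1 : Group.IsNilpotent (Cfsg.fittingSubgroup G) :=
    Cfsg.Agent.Lib.Helper1.fittingSubgroup_isNilpotent
  rw [htop] at h1
  exact (Group.isNilpotent_congr Subgroup.topEquiv).1 h1

/-- Corollary: the centralizer of a nonidentity element of a TI-centralizer group is nilpotent. -/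
theorem nilpotent_centralizer [Finite G]
    (hTI : ∀ x : G, Cfsg.IsTISubset (Subgroup.centralizer ({x} : Set G) : Set G))
    {x : G} (hx : x ≠ 1) : Group.IsNilpotent (Subgroup.centralizer ({x} : Set G)) := by
  apply nilpotent_of_center_ne_bot (ti_subgroup hTI _)
  rw [Subgroup.ne_bot_iff_exists_ne_one]
  have hxx : x ∈ Subgroup.centralizer ({x} : Set G) := by
    rw [Subgroup.mem_centralizer_singleton_iff]
  refine ⟨⟨⟨x, hxx⟩, ?_⟩, ?_⟩
  · rw [Subgroup.mem_center_iff]
    intro g
    have := Subgroup.mem_centralizer_singleton_iff.1 g.2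
    exact Subtype.ext this
  · intro h
    apply hx
    have := congrArg (fun y : Subgroup.center (Subgroup.centralizer ({x} : Set G)) => ((y : Subgroup.centralizer ({x} : Set G)) : G)) h
    simpa using this

end Cfsg.Agent.Lib.Helper2.TIC
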