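import Mathlib
import Cfsg.Prelude.Def_OddOrderLocal
import Cfsg.Prelude.Def_Solvable
import Cfsg.Agent.Lib.Helper1.Fitting
import Cfsg.Agent.Lib.Helper1.Nilpotent
import Cfsg.Agent.Lib.Helper2.TICAb

/-!
# S4064 Part A (c): `Z(G) = 1`, `F(G) ≠ 1`: nilpotent normal Hall kernel and malnormal complement
-/

set_option autoImplicit false
set_option linter.style.haveILetI false
set_option linter.unusedSectionVars false
set_option linter.unusedVariables false

namespace Cfsg.Agent.Lib.Helper2.TIC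

open scoped Pointwise

variable {G : Type*} [Group G]

/-- (c1) a nontrivial abelian normal subgroup. -/
theorem exists_abelian_normal [Finite G] (hF : Cfsg.fittingSubgroup G ≠ ⊥) :
    ∃ A : Subgroup G, A.Normal ∧ A ≠ ⊥ ∧ ∀ a ∈ A, ∀ b ∈ A, a * b = b * a := by
  haveI hFn : (Cfsg.fittingSubgroup G).Normal := Cfsg.Agent.Lib.Helper1.fittingSubgroup_normal
  haveI : Group.IsNilpotent (Cfsg.fittingSubgroup G) :=
    Cfsg.Agent.Lib.Helper1.fittingSubgroup_isNilpotent
  have htop : (⊤ : Subgroup (Cfsg.fittingSubgroup G)) ≠ ⊥ := by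
    intro h
    apply hF
    rw [eq_bot_iff]
    intro x hx
    have : (⟨x, hx⟩ : Cfsg.fittingSubgroup G) ∈ (⊤ : Subgroup (Cfsg.fittingSubgroup G)) :=
      Subgroup.mem_top _
    rw [h, Subgroup.mem_bot] at this
    rw [Subgroup.mem_bot]
    exact congrArg Subtype.val this
  have h1 := Cfsg.Agent.Lib.Helper1.normal_inf_center_ne_bot
    (⊤ : Subgroup (Cfsg.fittingSubgroup G)) htop
  rw [top_inf_eq] at h1
  obtain ⟨⟨z, hz⟩, hz1⟩ := Subgroup.ne_bot_iff_exists_ne_one.1 h1
  refine ⟨Cfsg.fittingSubgroup G ⊓ Subgroup.centralizer (Cfsg.fittingSubgroup G : Set G),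
    inferInstance, ?_, ?_⟩
  · intro hbot
    apply hz1
    have hzmem : (z : G) ∈ Cfsg.fittingSubgroup G ⊓
        Subgroup.centralizer (Cfsg.fittingSubgroup G : Set G) := by
      rw [Subgroup.mem_inf]
      refine ⟨z.2, ?_⟩
      rw [Subgroup.mem_centralizer_iff]
      intro f hf
      have := Subgroup.mem_center_iff.1 hz ⟨f, hf⟩
      exact congrArg Subtype.val this
    rw [hbot, Subgroup.mem_bot] at hzmem
    exact Subtype.ext (Subtype.ext hzmem)
  · rintro a ⟨ha1, ha2⟩ b ⟨hb1, hb2⟩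
    exact (Subgroup.mem_centralizer_iff.1 hb2 a ha1)

/-- (c1') choice of `V` and `K`. -/
theorem exists_V_K [Finite G]
    (hTI : ∀ x : G, Cfsg.IsTISubset (Subgroup.centralizer ({x} : Set G) : Set G))
    (hZ : Subgroup.center G = ⊥) (hF : Cfsg.fittingSubgroup G ≠ ⊥) :
    ∃ V K : Subgroup G, V.Normal ∧ V ≠ ⊥ ∧ K.Normal ∧ K ≠ ⊤ ∧ Group.IsNilpotent K ∧ V ≤ K ∧
      (∀ v ∈ V, ∀ k ∈ K, v * k = k * v) ∧
      (∀ v ∈ V, v ≠ 1 → Subgroup.centralizer ({v} : Set G) = K) := by
  obtain ⟨A, hAn, hA1, hAab⟩ := exists_abelian_normal hF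
  -- all C(v), v ∈ A#, are normal
  have hnorm : ∀ v ∈ A, v ≠ 1 → ∀ y ∈ Subgroup.centralizer ({v} : Set G), ∀ g : G,
      g * y * g⁻¹ ∈ Subgroup.centralizer ({v} : Set G) := by
    intro v hv hv1 y hy g
    have hvv : v ∈ Subgroup.centralizer ({v} : Set G) := by
      rw [Subgroup.mem_centralizer_singleton_iff]
    have hgv : g * v * g⁻¹ ∈ Subgroup.centralizer ({v} : Set G) := by
      rw [Subgroup.mem_centralizer_singleton_iff]
      exact hAab _ (hAn.conj_mem v hv g) _ hv
    have hn := mem_normalizer_of_ti hTI hvv hv1 hgv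
    exact ((Subgroup.mem_normalizer_iff.1 hn) y).1 hy
  -- choose v0 with |C(v0)| maximal
  obtain ⟨⟨a0, ha0⟩, ha01⟩ := Subgroup.ne_bot_iff_exists_ne_one.1 hA1
  have ha01' : a0 ≠ 1 := fun h => ha01 (Subtype.ext h)
  haveI : Nonempty {v : G // v ∈ A ∧ v ≠ 1} := ⟨⟨a0, ha0, ha01'⟩⟩
  obtain ⟨⟨v0, hv0A, hv01⟩, hmax⟩ := Finite.exists_max
    (fun v : {v : G // v ∈ A ∧ v ≠ 1} => Nat.card (Subgroup.centralizer ({(v : G)} : Set G)))
  let K : Subgroup G := Subgroup.centralizer ({v0} : Set G)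
  haveI hKn : K.Normal := ⟨fun y hy g => hnorm v0 hv0A hv01 y hy g⟩
  let V : Subgroup G := A ⊓ (K ⊓ Subgroup.centralizer (K : Set G))
  have hv0K : v0 ∈ K := by
    show v0 ∈ Subgroup.centralizer ({v0} : Set G)
    rw [Subgroup.mem_centralizer_singleton_iff]
  have hv0V : v0 ∈ V := by
    show v0 ∈ A ⊓ (K ⊓ Subgroup.centralizer (K : Set G))
    rw [Subgroup.mem_inf, Subgroup.mem_inf]
    refine ⟨hv0A, hv0K, ?_⟩
    rw [Subgroup.mem_centralizer_iff]
    intro k hk
    exact Subgroup.mem_centralizer_singleton_iff.1 hk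
  refine ⟨V, K, inferInstance, ?_, hKn, ?_, nilpotent_centralizer hTI hv01, ?_, ?_, ?_⟩
  · intro h
    rw [h, Subgroup.mem_bot] at hv0V
    exact hv01 hv0V
  · intro htop
    have : v0 ∈ Subgroup.center G := by
      rw [Subgroup.mem_center_iff]
      intro g
      have hg : g ∈ K := by rw [htop]; exact Subgroup.mem_top g
      exact Subgroup.mem_centralizer_singleton_iff.1 hg
    rw [hZ, Subgroup.mem_bot] at this
    exact hv01 this
  · intro v hv
    exact hv.2.1
  · intro v hv k hk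
    exact ((Subgroup.mem_centralizer_iff.1 hv.2.2) k hk).symm
  · intro v hv hv1
    have hle : K ≤ Subgroup.centralizer ({v} : Set G) := by
      intro k hk
      rw [Subgroup.mem_centralizer_singleton_iff]
      exact ((Subgroup.mem_centralizer_iff.1 hv.2.2) k hk)
    have hcard := hmax ⟨v, hv.1, hv1⟩
    exact (Subgroup.eq_of_le_of_card_ge hle hcard).symm

/-- (c3) elements outside `K` act fixed-point-freely on `K`. -/
theorem fpf_of_not_mem [Finite G]
    (hTI : ∀ x : G, Cfsg.IsTISubset (Subgroup.centralizer ({x} : Set G) : Set G))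
    (V K : Subgroup G) (hVn : V.Normal) (hV1 : V ≠ ⊥)
    (hVK : ∀ v ∈ V, ∀ k ∈ K, v * k = k * v)
    (hcent : ∀ v ∈ V, v ≠ 1 → Subgroup.centralizer ({v} : Set G) = K)
    {g k : G} (hg : g ∉ K) (hk : k ∈ K) (hgk : g * k = k * g) : k = 1 := by
  by_contra hk1
  apply hg
  let L : Subgroup G := Subgroup.centralizer ({k} : Set G)
  have hgL : g ∈ L := by
    show g ∈ Subgroup.centralizer ({k} : Set G)
    rw [Subgroup.mem_centralizer_singleton_iff]
    exact hgk
  have hVL : V ≤ L := by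
    intro v hv
    show v ∈ Subgroup.centralizer ({k} : Set G)
    rw [Subgroup.mem_centralizer_singleton_iff]
    exact hVK v hv k hk
  haveI : Group.IsNilpotent L := nilpotent_centralizer hTI hk1
  haveI : (V.subgroupOf L).Normal := Subgroup.normal_subgroupOf
  have hne : V.subgroupOf L ≠ ⊥ := by
    intro h
    apply hV1
    rw [eq_bot_iff]
    intro v hv
    have : (⟨v, hVL hv⟩ : L) ∈ V.subgroupOf L := by
      rw [Subgroup.mem_subgroupOf]; exact hv
    rw [h, Subgroup.mem_bot] at this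
    rw [Subgroup.mem_bot]
    exact congrArg Subtype.val this
  have h1 := Cfsg.Agent.Lib.Helper1.normal_inf_center_ne_bot (V.subgroupOf L) hne
  obtain ⟨⟨v, hv⟩, hv1⟩ := Subgroup.ne_bot_iff_exists_ne_one.1 h1
  obtain ⟨hvV, hvZ⟩ := Subgroup.mem_inf.1 hv
  rw [Subgroup.mem_subgroupOf] at hvV
  have hv1' : (v : G) ≠ 1 := by
    intro h
    apply hv1
    exact Subtype.ext (Subtype.ext h)
  rw [← hcent (v : G) hvV hv1', Subgroup.mem_centralizer_singleton_iff]
  have := Subgroup.mem_center_iff.1 hvZ ⟨g, hgL⟩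
  exact congrArg Subtype.val this

/-- (c4) `K` is a Hall subgroup. -/
theorem coprime_of_fpf [Finite G] (K : Subgroup G) [hKn : K.Normal]
    (hfpf : ∀ g k : G, g ∉ K → k ∈ K → g * k = k * g → k = 1) :
    (Nat.card K).Coprime K.index := by
  rw [Nat.coprime_iff_gcd_eq_one] 
  by_contra hne
  obtain ⟨p, hp, hpd⟩ := Nat.exists_prime_and_dvd hne
  haveI : Fact p.Prime := ⟨hp⟩
  have hpK : p ∣ Nat.card K := hpd.trans (Nat.gcd_dvd_left _ _)
  have hpI : p ∣ K.index := hpd.trans (Nat.gcd_dvd_right _ _)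
  obtain ⟨P⟩ : Nonempty (Sylow p G) := inferInstance
  -- (a) an element of order p of K inside a conjugate of P; replace P
  obtain ⟨x, hx⟩ := exists_prime_orderOf_dvd_card' (G := K) p hpK
  have hxp : IsPGroup p (Subgroup.zpowers (x : G)) := by
    apply IsPGroup.of_card (n := 1)
    rw [Nat.card_zpowers, pow_one, Subgroup.orderOf_coe, hx]
  obtain ⟨Q, hQ⟩ := hxp.exists_le_sylow
  have hxQ : (x : G) ∈ (Q : Subgroup G) := hQ (Subgroup.mem_zpowers _)
  have hx1 : (x : G) ≠ 1 := by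
    intro h
    have : orderOf (x : G) = 1 := by rw [h, orderOf_one]
    rw [Subgroup.orderOf_coe, hx] at this
    exact hp.one_lt.ne' this
  -- (b) Q is not contained in K
  have hQK : ¬ (Q : Subgroup G) ≤ K := by
    intro hle
    have h1 := Subgroup.card_dvd_of_le hle
    rw [Q.card_eq_multiplicity] at h1
    have h2 := Subgroup.card_mul_index K
    have hK0 : Nat.card K ≠ 0 := Nat.card_pos.ne'
    have hI0 : K.index ≠ 0 := Subgroup.index_ne_zero_of_finite
    have h3 : (Nat.card G).factorization p ≤ (Nat.card K).factorization p :=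
      (hp.pow_dvd_iff_le_factorization hK0).1 h1
    have h4 : (Nat.card G).factorization p =
        (Nat.card K).factorization p + K.index.factorization p := by
      rw [← h2, Nat.factorization_mul hK0 hI0]; rfl
    have h5 : 1 ≤ K.index.factorization p :=
      (hp.pow_dvd_iff_le_factorization hI0).1 (by rw [pow_one]; exact hpI)
    omega
  obtain ⟨g, hgQ, hgK⟩ := Set.not_subset.1 hQK
  -- (c) centre of Q meets K
  haveI : Group.IsNilpotent (Q : Subgroup G) := Q.isPGroup'.isNilpotent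
  haveI : (K.subgroupOf (Q : Subgroup G)).Normal := Subgroup.normal_subgroupOf
  have hne' : K.subgroupOf (Q : Subgroup G) ≠ ⊥ := by
    intro h
    have : (⟨(x : G), hxQ⟩ : (Q : Subgroup G)) ∈ K.subgroupOf (Q : Subgroup G) := by
      rw [Subgroup.mem_subgroupOf]; exact x.2
    rw [h, Subgroup.mem_bot] at this
    exact hx1 (congrArg Subtype.val this)
  have h1 := Cfsg.Agent.Lib.Helper1.normal_inf_center_ne_bot (K.subgroupOf (Q : Subgroup G)) hne'
  obtain ⟨⟨z, hz⟩, hz1⟩ := Subgroup.ne_bot_iff_exists_ne_one.1 h1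
  obtain ⟨hzK, hzZ⟩ := Subgroup.mem_inf.1 hz
  rw [Subgroup.mem_subgroupOf] at hzK
  have hcomm : g * (z : G) = (z : G) * g := by
    have := Subgroup.mem_center_iff.1 hzZ ⟨g, hgQ⟩
    exact congrArg Subtype.val this
  have := hfpf g (z : G) hgK hzK hcomm
  apply hz1
  exact Subtype.ext (Subtype.ext this)

/-- (c5)-(c7): the complement is malnormal. -/
theorem frobeniusComplement_of_fpf (K H : Subgroup G) [hKn : K.Normal]
    (hKH : K.IsComplement' H) (hK1 : K ≠ ⊥) (hKt : K ≠ ⊤)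
    (hfpf : ∀ g k : G, g ∉ K → k ∈ K → g * k = k * g → k = 1) :
    Cfsg.IsFrobeniusComplement H := by
  have hdisj : ∀ x : G, x ∈ K → x ∈ H → x = 1 := by
    intro x hxK hxH
    have := hKH.disjoint
    rw [disjoint_iff, eq_bot_iff] at this
    exact (Subgroup.mem_bot.1 (this ⟨hxK, hxH⟩))
  refine ⟨?_, ?_, ?_⟩
  · intro h
    rw [h] at hKH
    exact hKt (Subgroup.isComplement'_bot_right.1 hKH)
  · intro h
    rw [h] at hKH
    exact hK1 (Subgroup.isComplement'_top_right.1 hKH)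
  · intro g hg
    rw [eq_bot_iff]
    rintro x ⟨hxH, hxg⟩
    rw [Subgroup.mem_bot]
    by_contra hx1
    apply hg
    obtain ⟨y, hy, hyx⟩ := Subgroup.mem_pointwise_smul_iff_inv_smul_mem.1 hxg |> fun h => 
      (⟨(MulAut.conj g)⁻¹ • x, h, rfl⟩ : ∃ y, y ∈ H ∧ (MulAut.conj g)⁻¹ • x = y)
    have hy' : y = g⁻¹ * x * g := by
      rw [← hyx]
      simp [MulAut.smul_def, MulAut.conj_inv_apply]
    obtain ⟨⟨⟨k, hk⟩, ⟨h, hh⟩⟩, hkh, -⟩ := (Subgroup.isComplement_iff_existsUnique.1 hKH) g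
    simp only at hkh
    -- x = k * (h y h⁻¹) * k⁻¹
    set y' : G := h * y * h⁻¹ with hy'def
    have hy'H : y' ∈ H := H.mul_mem (H.mul_mem hh hy) (H.inv_mem hh)
    have hx : x = k * y' * k⁻¹ := by
      rw [hy'def, hy', ← hkh]; group
    have hxy : x * y'⁻¹ ∈ K := by
      have : x * y'⁻¹ = k * (y' * k⁻¹ * y'⁻¹) := by rw [hx]; group
      rw [this]
      exact K.mul_mem hk (hKn.conj_mem _ (K.inv_mem hk) y')
    have hxy1 : x * y'⁻¹ = 1 := hdisj _ hxy (H.mul_mem hxH (H.inv_mem hy'H))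
    have hxy' : x = y' := by
      have := mul_inv_eq_one.1 hxy1
      exact this
    have hkx : x * k = k * x := by
      have e : x = k * x * k⁻¹ := by
        conv_lhs => rw [hx, ← hxy']
      calc x * k = (k * x * k⁻¹) * k := by rw [← e]
        _ = k * x := by group
    have hxK : x ∉ K := fun hxK => hx1 (hdisj x hxK hxH)
    have hk1 : k = 1 := hfpf x k hxK hk hkx
    rw [← hkh, hk1, one_mul]
    exact hh

/-- (c1)-(c7) assembled. -/
theorem exists_kernel_complement [Finite G]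
    (hTI : ∀ x : G, Cfsg.IsTISubset (Subgroup.centralizer ({x} : Set G) : Set G))
    (hZ : Subgroup.center G = ⊥) (hF : Cfsg.fittingSubgroup G ≠ ⊥) :
    ∃ K H : Subgroup G, K.Normal ∧ Group.IsNilpotent K ∧ K ≠ ⊥ ∧ K.IsComplement' H ∧
      (Nat.card K).Coprime (Nat.card H) ∧ Cfsg.IsFrobeniusComplement H ∧
      (∀ h ∈ H, h ≠ 1 → ∀ k ∈ K, h * k = k * h → k = 1) := by
  obtain ⟨V, K, hVn, hV1, hKn, hKt, hKnil, hVleK, hVK, hcent⟩ := exists_V_K hTI hZ hF
  haveI := hKn
  have hfpf : ∀ g k : G, g ∉ K → k ∈ K → g * k = k * g → k = 1 := by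
    intro g k hg hk hgk
    exact fpf_of_not_mem hTI V K hVn hV1 hVK hcent hg hk hgk
  have hK1 : K ≠ ⊥ := by
    intro h
    apply hV1
    rw [eq_bot_iff]
    intro v hv
    have := hVleK hv
    rwa [h] at this
  have hcop := coprime_of_fpf K hfpf
  obtain ⟨H, hH⟩ := Subgroup.exists_right_complement'_of_coprime hcop
  have hidx : K.index = Nat.card H := by
    have h1 := hH.card_mul_card
    have h2 := Subgroup.card_mul_index K
    rw [← h2] at h1
    exact (Nat.eq_of_mul_eq_mul_left Nat.card_pos h1).symm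
  have hfrob := frobeniusComplement_of_fpf K H hH hK1 hKt hfpf
  refine ⟨K, H, hKn, hKnil, hK1, hH, by rw [← hidx]; exact hcop, hfrob, ?_⟩
  intro h hh hh1 k hk hhk
  have hhK : h ∉ K := by
    intro hhK
    apply hh1
    have := hH.disjoint
    rw [disjoint_iff, eq_bot_iff] at this
    exact Subgroup.mem_bot.1 (this ⟨hhK, hh⟩)
  exact hfpf h k hhK hk hhk

end Cfsg.Agent.Lib.Helper2.TIC
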