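import Mathlib
import Cfsg.Prelude.Def_OddOrderLocal
import Cfsg.Prelude.Def_Solvable
import Cfsg.Agent.Lib.Helper2.TICAb

/-!
# S4064 Part A: the complement `H`: (i) even order => nilpotent, (ii) transport of Frobenius
complements from `↥H` to `G`
-/

set_option autoImplicit false
set_option linter.style.haveILetI false
set_option linter.unusedSectionVars false
set_option linter.unusedVariables false

namespace Cfsg.Agent.Lib.Helper2.TIC

open scoped Pointwise

variable {G : Type*} [Group G]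

theorem mem_conj_smul {g x : G} {H : Subgroup G} :
    x ∈ MulAut.conj g • H ↔ g⁻¹ * x * g ∈ H := by
  rw [Subgroup.mem_pointwise_smul_iff_inv_smul_mem]
  have : (MulAut.conj g)⁻¹ • x = g⁻¹ * x * g := by
    simp [MulAut.smul_def, MulAut.conj_inv_apply]
  rw [this]

/-- A fixed-point-free involution inverts. -/
theorem inverts_of_fpf_involution [Finite G] (K : Subgroup G) [hKn : K.Normal] {t : G}
    (ht2 : t * t = 1) (hfpf : ∀ k ∈ K, t * k = k * t → k = 1) :
    ∀ k ∈ K, t * k * t⁻¹ = k⁻¹ := by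
  have htinv : t⁻¹ = t := inv_eq_of_mul_eq_one_right ht2
  let φ : K → K := fun k => ⟨(k : G)⁻¹ * (t * k * t⁻¹), K.mul_mem (K.inv_mem k.2) (hKn.conj_mem k k.2 t)⟩
  have hinj : Function.Injective φ := by
    intro a b hab
    have h1 : (a : G)⁻¹ * (t * a * t⁻¹) = (b : G)⁻¹ * (t * b * t⁻¹) := congrArg Subtype.val hab
    -- b a⁻¹ commutes with t
    have h2 : t * ((b : G) * (a : G)⁻¹) = ((b : G) * (a : G)⁻¹) * t := by
      have e1 : (b : G) * (a : G)⁻¹ = (t * b * t⁻¹) * (t * a * t⁻¹)⁻¹ := by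
        have : (b : G) * ((a : G)⁻¹ * (t * a * t⁻¹)) = (b : G) * ((b : G)⁻¹ * (t * b * t⁻¹)) := by
          rw [h1]
        have e : (b : G) * (a : G)⁻¹ * (t * a * t⁻¹) = t * b * t⁻¹ := by
          rw [mul_assoc, this, mul_inv_cancel_left]
        rw [← e]; group
      have e2 : (t * b * t⁻¹) * (t * a * t⁻¹)⁻¹ = t * ((b : G) * (a : G)⁻¹) * t⁻¹ := by group
      rw [e2] at e1
      calc t * ((b : G) * (a : G)⁻¹) = (t * ((b : G) * (a : G)⁻¹) * t⁻¹) * t := by group
        _ = ((b : G) * (a : G)⁻¹) * t := by rw [← e1]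
    have h3 := hfpf _ (K.mul_mem b.2 (K.inv_mem a.2)) h2
    have h4 : (b : G) = a := mul_inv_eq_one.1 h3
    exact Subtype.ext h4.symm
  have hsurj : Function.Surjective φ := Finite.injective_iff_surjective.1 hinj
  intro m hm
  obtain ⟨k, hk⟩ := hsurj ⟨m, hm⟩
  have hm' : m = (k : G)⁻¹ * (t * k * t⁻¹) := (congrArg Subtype.val hk).symm
  rw [hm', htinv]
  have e1 : t * ((k : G)⁻¹ * (t * k * t)) * t = t * (k : G)⁻¹ * (t * (k * (t * t))) := by group
  have e2 : ((k : G)⁻¹ * (t * k * t))⁻¹ = (t⁻¹ * (k : G)⁻¹ * t⁻¹) * k := by group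
  rw [e1, e2, ht2, htinv, mul_one]
  group

/-- (i) a complement of even order is nilpotent. -/
theorem complement_nilpotent_of_even [Finite G]
    (hTI : ∀ x : G, Cfsg.IsTISubset (Subgroup.centralizer ({x} : Set G) : Set G))
    (K H : Subgroup G) [hKn : K.Normal] (hK1 : K ≠ ⊥)
    (hfpf : ∀ h ∈ H, h ≠ 1 → ∀ k ∈ K, h * k = k * h → k = 1)
    (h2 : 2 ∣ Nat.card H) : Group.IsNilpotent H := by
  haveI : Fact (Nat.Prime 2) := ⟨Nat.prime_two⟩
  obtain ⟨t, ht⟩ := exists_prime_orderOf_dvd_card' (G := H) 2 h2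
  have ht1 : (t : G) ≠ 1 := by
    intro h
    have : orderOf (t : G) = 1 := by rw [h, orderOf_one]
    rw [Subgroup.orderOf_coe, ht] at this
    omega
  have ht2 : (t : G) * (t : G) = 1 := by
    have := pow_orderOf_eq_one (t : G)
    rw [Subgroup.orderOf_coe, ht, pow_two] at this
    exact this
  obtain ⟨⟨k0, hk0⟩, hk01⟩ := Subgroup.ne_bot_iff_exists_ne_one.1 hK1
  have hk01' : k0 ≠ 1 := fun h => hk01 (Subtype.ext h)
  -- uniqueness of the involution
  have huniq : ∀ s ∈ H, s ≠ 1 → s * s = 1 → s = (t : G) := by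
    intro s hs hs1 hs2
    have hsinv : s⁻¹ = s := inv_eq_of_mul_eq_one_right hs2
    have htinv : (t : G)⁻¹ = t := inv_eq_of_mul_eq_one_right ht2
    have i1 := inverts_of_fpf_involution K ht2 (hfpf t t.2 ht1)
    have i2 := inverts_of_fpf_involution K hs2 (hfpf s hs hs1)
    by_contra hne
    have hts1 : (t : G) * s ≠ 1 := by
      intro h
      apply hne
      have : s = (t : G)⁻¹ := (inv_eq_of_mul_eq_one_right h).symm
      rw [this, htinv]
    have hcomm : ((t : G) * s) * k0 = k0 * ((t : G) * s) := by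
      have e1 : s * k0 * s⁻¹ = k0⁻¹ := i2 k0 hk0
      have e2 : (t : G) * k0⁻¹ * (t : G)⁻¹ = (k0⁻¹)⁻¹ := i1 k0⁻¹ (K.inv_mem hk0)
      rw [inv_inv] at e2
      have e3 : ((t : G) * s) * k0 * ((t : G) * s)⁻¹ = k0 := by
        have : ((t : G) * s) * k0 * ((t : G) * s)⁻¹ = (t : G) * (s * k0 * s⁻¹) * (t : G)⁻¹ := by
          group
        rw [this, e1, e2]
      calc ((t : G) * s) * k0 = (((t : G) * s) * k0 * ((t : G) * s)⁻¹) * ((t : G) * s) := by group
        _ = k0 * ((t : G) * s) := by rw [e3]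
    exact hk01' (hfpf _ (H.mul_mem t.2 hs) hts1 k0 hk0 hcomm)
  -- t is central in H
  apply nilpotent_of_center_ne_bot (ti_subgroup hTI H)
  rw [Subgroup.ne_bot_iff_exists_ne_one]
  refine ⟨⟨t, ?_⟩, ?_⟩
  · rw [Subgroup.mem_center_iff]
    intro h
    have hconj : (h : G) * t * (h : G)⁻¹ = t := by
      apply huniq _ (H.mul_mem (H.mul_mem h.2 t.2) (H.inv_mem h.2))
      · intro h1
        apply ht1
        have : (t : G) = (h : G)⁻¹ * ((h : G) * t * (h : G)⁻¹) * h := by group
        rw [this, h1]; group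
      · have : (h : G) * t * (h : G)⁻¹ * ((h : G) * t * (h : G)⁻¹) =
            (h : G) * ((t : G) * t) * (h : G)⁻¹ := by group
        rw [this, ht2]; group
    apply Subtype.ext
    have : (h : G) * t = ((h : G) * t * (h : G)⁻¹) * h := by group
    rw [Subgroup.coe_mul, Subgroup.coe_mul, this, hconj]
  · intro h
    apply ht1
    have := congrArg (fun y : Subgroup.center H => ((y : H) : G)) h
    simpa using this

/-- (ii) a Frobenius complement of a Frobenius complement is a Frobenius complement. -/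
theorem frobeniusComplement_map (H : Subgroup G) (hH : Cfsg.IsFrobeniusComplement H)
    (H1 : Subgroup H) (h1 : Cfsg.IsFrobeniusComplement H1) :
    Cfsg.IsFrobeniusComplement (H1.map H.subtype) := by
  obtain ⟨hHb, hHt, hHm⟩ := hH
  obtain ⟨h1b, h1t, h1m⟩ := h1
  refine ⟨?_, ?_, ?_⟩
  · intro h
    exact h1b ((Subgroup.map_eq_bot_iff_of_injective H1 H.subtype_injective).1 h)
  · intro h
    apply hHt
    rw [eq_top_iff, ← h]
    exact Subgroup.map_subtype_le H1
  · intro g hg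
    rw [eq_bot_iff]
    rintro x ⟨hx1, hx2⟩
    rw [Subgroup.mem_bot]
    have hx2' : g⁻¹ * x * g ∈ H1.map H.subtype := mem_conj_smul.1 hx2
    obtain ⟨x1, hx1H1, hx1x⟩ := hx1
    obtain ⟨y1, hy1H1, hy1x⟩ := hx2'
    by_cases hgH : g ∈ H
    · have hg1 : (⟨g, hgH⟩ : H) ∉ H1 := by
        intro h
        exact hg ⟨⟨g, hgH⟩, h, rfl⟩
      have hmem : x1 ∈ H1 ⊓ MulAut.conj (⟨g, hgH⟩ : H) • H1 := by
        rw [Subgroup.mem_inf]
        refine ⟨hx1H1, ?_⟩
        rw [mem_conj_smul]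
        have : (⟨g, hgH⟩ : H)⁻¹ * x1 * ⟨g, hgH⟩ = y1 := by
          apply Subtype.ext
          simp only [Subgroup.coe_mul, Subgroup.coe_inv]
          have e1 : ((x1 : H) : G) = x := hx1x
          have e2 : ((y1 : H) : G) = g⁻¹ * x * g := hy1x
          rw [e1, e2]
        rw [this]
        exact hy1H1
      rw [h1m _ hg1, Subgroup.mem_bot] at hmem
      rw [← hx1x, hmem]
      rfl
    · have hmem : x ∈ H ⊓ MulAut.conj g • H := by
        rw [Subgroup.mem_inf]
        refine ⟨?_, ?_⟩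
        · rw [← hx1x]; exact x1.2
        · rw [mem_conj_smul, ← hy1x]; exact y1.2
      rw [hHm g hgH, Subgroup.mem_bot] at hmem
      exact hmem

end Cfsg.Agent.Lib.Helper2.TIC
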