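import Mathlib
import Cfsg.Prelude.Def_OddOrderLocal
import Cfsg.Prelude.Def_Solvable
import Cfsg.Agent.Lib.Lead.CNSolv
import Cfsg.Agent.Lib.Lead.FittingHall
import Cfsg.Agent.Lib.Helper7.TICQuat
import Cfsg.Agent.Lib.Helper1.Nilpotent
import Cfsg.Agent.Lib.Helper2.TICAb

/-!
# S4064 Part A (iii): a nilpotent fixed-point-free complement in a TI-centralizer group is cyclic
or `Z_m × Q8`
-/

set_option autoImplicit false
set_option linter.style.haveILetI false
set_option linter.unusedSectionVars false
set_option linter.unusedVariables false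

namespace Cfsg.Agent.Lib.Helper2.TIC

open Cfsg.Agent.Lib.Lead.CNSolv Cfsg.Agent.Lib.Lead.UniqueP
  Cfsg.Agent.Lib.Lead.NilpotentCoprime Cfsg.Agent.Lib.Lead.FittingHall

variable {G : Type*} [Group G]

theorem shape_of_nilpotent_fpf [Finite G]
    (hTI : ∀ x : G, Cfsg.IsTISubset (Subgroup.centralizer ({x} : Set G) : Set G))
    (K H : Subgroup G) [hKn : K.Normal] (hK1 : K ≠ ⊥)
    (hfpf : ∀ h ∈ H, h ≠ 1 → ∀ k ∈ K, h * k = k * h → k = 1)
    (hnil : Group.IsNilpotent H) :
    IsCyclic H ∨ ∃ m : ℕ, Odd m ∧ Nonempty (H ≃* Multiplicative (ZMod m) × QuaternionGroup 2) := by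
  classical
  haveI := hnil
  have hfpf' : ∀ h ∈ H, h ≠ 1 → K ⊓ Subgroup.centralizer {h} = ⊥ := by
    intro h hh hh1
    rw [eq_bot_iff]
    intro k hk
    obtain ⟨hkK, hkc⟩ := Subgroup.mem_inf.1 hk
    rw [Subgroup.mem_bot]
    have := Subgroup.mem_centralizer_singleton_iff.1 hkc
    exact hfpf h hh hh1 k hkK this.symm
  by_cases hZ : IsZGroup H
  · left
    infer_instance
  right
  obtain ⟨r, hr, S, hSnc⟩ : ∃ (r : ℕ) (_ : r.Prime) (S : Sylow r H), ¬ IsCyclic S := by
    by_contra hcon
    push Not at hcon
    exact hZ ⟨fun r hr S => hcon r hr S⟩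
  haveI : Fact r.Prime := ⟨hr⟩
  have hS'p : IsPGroup r ((S : Subgroup H).map H.subtype) := S.2.map _
  have hS'H : (S : Subgroup H).map H.subtype ≤ H := Subgroup.map_subtype_le _
  have hu := uop_of_fpf K hK1 r _ hS'p (fun h hh hh1 => hfpf' h (hS'H hh) hh1)
  have e : (S : Subgroup H) ≃* ((S : Subgroup H).map H.subtype) :=
    (S : Subgroup H).equivMapOfInjective H.subtype H.subtype_injective
  rcases cyclic_or_quaternion r hS'p hu with hc | ⟨h2, n, ⟨eq⟩⟩
  · exfalso
    haveI := hc
    exact hSnc (isCyclic_of_surjective e.symm e.symm.surjective)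
  subst h2
  -- n ≠ 0
  have hn0 : n ≠ 0 := by
    rintro rfl
    apply hSnc
    haveI : IsCyclic (QuaternionGroup (2 ^ 0)) := QuaternionGroup.quaternionGroup_one_isCyclic
    exact isCyclic_of_surjective (e.trans eq).symm (e.trans eq).symm.surjective
  -- n < 2
  have hn2 : n < 2 := by
    by_contra hge
    push Not at hge
    have hnt : Nontrivial H := by
      by_contra hsub
      rw [not_nontrivial_iff_subsingleton] at hsub
      apply hSnc
      haveI : Subsingleton (S : Subgroup H) := by
        constructor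
        intro a b
        apply Subtype.ext
        exact Subsingleton.elim _ _
      exact isCyclic_of_subsingleton
    have hZH : Subgroup.center H ≠ ⊥ := by
      have := Cfsg.Agent.Lib.Helper1.normal_inf_center_ne_bot (⊤ : Subgroup H) top_ne_bot
      rwa [top_inf_eq] at this
    let B := eq.symm (QuaternionGroup.xa 0)
    let A := eq.symm (QuaternionGroup.a 1)
    let bH : H := ⟨(B : G), hS'H B.2⟩
    let gH : H := ⟨(A : G), hS'H A.2⟩
    have hbb : bH ∈ Subgroup.centralizer ({bH} : Set H) := by
      rw [Subgroup.mem_centralizer_singleton_iff]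
    have h1 := cent_conj_mem_of_center (ti_subgroup hTI H) hZH bH hbb gH
    have h2 := Subgroup.mem_centralizer_singleton_iff.1 h1
    -- back to the Sylow subgroup
    have h3 : (A * B * A⁻¹) * B = B * (A * B * A⁻¹) := by
      apply Subtype.ext
      have := congrArg (fun y : H => (y : G)) h2
      simpa [bH, gH] using this
    have h4 := congrArg eq h3
    simp only [map_mul, map_inv, A, B, MulEquiv.apply_symm_apply] at h4
    exact Cfsg.Agent.Lib.Helper7.TICQuat.not_commute_conj_xa n hge h4
  obtain rfl : n = 1 := by omega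
  -- complement of S in H
  haveI hSn : (S : Subgroup H).Normal := inferInstance
  obtain ⟨C', hC'⟩ := Subgroup.exists_right_complement'_of_coprime S.card_coprime_index
  have hC'card : Nat.card C' = (S : Subgroup H).index := hC'.symm.index_eq_card.symm
  have hS1 : (S : Subgroup H) ≠ ⊥ := by
    intro h
    apply hSnc
    haveI : Subsingleton (S : Subgroup H) := by rw [h]; infer_instance
    exact isCyclic_of_subsingleton
  have h2S : 2 ∣ Nat.card (S : Subgroup H) := by
    obtain ⟨k, hk⟩ := S.2.exists_card_eq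
    have hk0 : k ≠ 0 := by
      intro h0
      rw [h0, pow_zero] at hk
      exact hS1 (Subgroup.card_eq_one.mp hk)
    rw [hk]
    exact dvd_pow_self 2 hk0
  have hC'odd : Odd (Nat.card C') := by
    rw [hC'card, ← Nat.not_even_iff_odd, even_iff_two_dvd]
    intro h
    have := Nat.dvd_gcd h2S h
    rw [S.card_coprime_index] at this
    omega
  have hCcard : Nat.card (C'.map H.subtype) = Nat.card C' :=
    Subgroup.card_map_of_injective H.subtype_injective
  have hCH : C'.map H.subtype ≤ H := Subgroup.map_subtype_le _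
  have hCcyc' : IsCyclic (C'.map H.subtype) := by
    apply cyclic_of_odd_nilpotent_fpf K hK1 _ (isNilpotent_of_le hCH hnil)
      (by rw [hCcard]; exact hC'odd)
    intro h hh hh1
    exact hfpf' h (hCH hh) hh1
  have eC : C' ≃* (C'.map H.subtype) := C'.equivMapOfInjective H.subtype H.subtype_injective
  have hCcyc : IsCyclic C' := by
    haveI := hCcyc'
    exact isCyclic_of_surjective eC.symm eC.symm.surjective
  -- S and C' commute elementwise
  have hcomm : ∀ (s : (S : Subgroup H)) (c : C'),
      Commute ((S : Subgroup H).subtype s) (C'.subtype c) := by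
    intro s c
    show ((s : H)) * (c : H) = (c : H) * (s : H)
    apply Subtype.ext
    rw [Subgroup.coe_mul, Subgroup.coe_mul]
    apply commute_of_coprime_of_mem H hnil (s : H).2 (c : H).2
    have h1 : orderOf ((c : H) : G) ∣ Nat.card C' := by
      rw [Subgroup.orderOf_coe, Subgroup.orderOf_coe]
      exact orderOf_dvd_natCard c
    have h2 : orderOf ((s : H) : G) ∣ Nat.card (S : Subgroup H) := by
      rw [Subgroup.orderOf_coe, Subgroup.orderOf_coe]
      exact orderOf_dvd_natCard s
    obtain ⟨k, hk⟩ := S.2.exists_card_eq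
    rw [hk] at h2
    apply Nat.Coprime.coprime_dvd_left h2
    apply Nat.Coprime.coprime_dvd_right h1
    apply Nat.Coprime.pow_left
    exact (Nat.coprime_two_left).mpr hC'odd
  let f : ↥(S : Subgroup H) × ↥C' →* H :=
    MonoidHom.noncommCoprod (S : Subgroup H).subtype C'.subtype hcomm
  have hbij : Function.Bijective f := by
    have h := hC'
    unfold Subgroup.IsComplement' Subgroup.IsComplement at h
    have hf : (f : ↥(S : Subgroup H) × ↥C' → H) = fun x => (x.1 : H) * (x.2 : H) := by
      funext x
      rw [MonoidHom.noncommCoprod_apply]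
      rfl
    rw [hf]
    exact h
  let E1 : ↥(S : Subgroup H) × ↥C' ≃* H := MulEquiv.ofBijective f hbij
  let eCz : Multiplicative (ZMod (Nat.card C')) ≃* C' := zmodCyclicMulEquiv hCcyc
  let eS : ↥(S : Subgroup H) ≃* QuaternionGroup 2 := e.trans eq
  exact ⟨Nat.card C', hC'odd,
    ⟨E1.symm.trans ((MulEquiv.prodCongr eS eCz.symm).trans MulEquiv.prodComm)⟩⟩

end Cfsg.Agent.Lib.Helper2.TIC
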