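import Mathlib
import Cfsg.Prelude.Def_OddOrderLocal
import Cfsg.Prelude.Def_Solvable
import Cfsg.Agent.Lib.Helper4.SLCenter
import Cfsg.Agent.Lib.Helper2.TICAb
import Cfsg.Agent.Lib.Helper2.TICAc
import Cfsg.Agent.Lib.Helper2.TICAd
import Cfsg.Agent.Lib.Helper2.TICAe

/-!
# S4064 Part A, assembled: `F(G) ≠ 1` gives "nilpotent or Frobenius with complement cyclic / `Z_m × Q8`"
-/

set_option autoImplicit false
set_option linter.style.haveILetI false
set_option linter.unusedSectionVars false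
set_option linter.unusedVariables false

namespace Cfsg.Agent.Lib.Helper2.TIC

variable {G : Type*} [Group G]

/-- `PSL₂(2ⁿ)` has even order. -/
theorem two_dvd_card_psl2 (n : ℕ) (hn : n ≠ 0) :
    2 ∣ Nat.card (Matrix.ProjectiveSpecialLinearGroup (Fin 2) (GaloisField 2 n)) := by
  haveI : Fintype (GaloisField 2 n) := Fintype.ofFinite _
  have hq : Fintype.card (GaloisField 2 n) = 2 ^ n := by
    rw [← Nat.card_eq_fintype_card]
    exact GaloisField.card 2 n hn
  have h1 := Cfsg.Agent.Lib.Helper4.card_PSL_mul (F := GaloisField 2 n) 2 (by norm_num)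
  rw [Cfsg.Agent.Lib.Helper4.card_SL2, hq] at h1
  have h2 : 2 ∣ 2 ^ n * ((2 ^ n) ^ 2 - 1) := Dvd.dvd.mul_right (dvd_pow_self 2 hn) _
  rw [← h1] at h2
  have hodd : Nat.Coprime 2 (Nat.gcd 2 (2 ^ n - 1)) := by
    rw [Nat.coprime_two_left]
    have h3 : Odd (2 ^ n - 1) := by
      have : Even (2 ^ n) := (Nat.even_pow).2 ⟨even_two, hn⟩
      have hpos : 0 < 2 ^ n := pow_pos two_pos n
      rcases this with ⟨k, hk⟩
      exact ⟨k - 1, by omega⟩
    have h4 : Nat.gcd 2 (2 ^ n - 1) ∣ 2 ^ n - 1 := Nat.gcd_dvd_right _ _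
    exact Odd.of_dvd_nat h3 h4
  exact hodd.dvd_of_dvd_mul_left h2

/-- Part A (c): `Z(G) = 1`, `F(G) ≠ 1`. -/
theorem frob_of_fitting_ne_bot [Finite G]
    (hTI : ∀ x : G, Cfsg.IsTISubset (Subgroup.centralizer ({x} : Set G) : Set G))
    (hZ : Subgroup.center G = ⊥) (hF : Cfsg.fittingSubgroup G ≠ ⊥)
    (hIH : ∀ X : Subgroup G, Nat.card X < Nat.card G →
      (Group.IsNilpotent X ∨
        (∃ H : Subgroup X, Cfsg.IsFrobeniusComplement H ∧
          (IsCyclic H ∨ ∃ m : ℕ, Odd m ∧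
            Nonempty (H ≃* Multiplicative (ZMod m) × QuaternionGroup 2))) ∨
        (∃ n : ℕ, 2 ≤ n ∧
          Nonempty (X ≃* Matrix.ProjectiveSpecialLinearGroup (Fin 2) (GaloisField 2 n))))) :
    ∃ H : Subgroup G, Cfsg.IsFrobeniusComplement H ∧
      (IsCyclic H ∨ ∃ m : ℕ, Odd m ∧
        Nonempty (H ≃* Multiplicative (ZMod m) × QuaternionGroup 2)) := by
  obtain ⟨K, H, hKn, hKnil, hK1, hKH, hcop, hfrob, hfpf⟩ := exists_kernel_complement hTI hZ hF
  haveI := hKn
  have hnilcase : Group.IsNilpotent H → ∃ H : Subgroup G, Cfsg.IsFrobeniusComplement H ∧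
      (IsCyclic H ∨ ∃ m : ℕ, Odd m ∧
        Nonempty (H ≃* Multiplicative (ZMod m) × QuaternionGroup 2)) := fun hnil =>
    ⟨H, hfrob, shape_of_nilpotent_fpf hTI K H hK1 hfpf hnil⟩
  by_cases h2 : 2 ∣ Nat.card H
  · exact hnilcase (complement_nilpotent_of_even hTI K H hK1 hfpf h2)
  have hlt : Nat.card H < Nat.card G := by
    have hne : H ≠ ⊤ := hfrob.2.1
    have hle : Nat.card H ≤ Nat.card G := Subgroup.card_le_card_group H
    rcases hle.lt_or_eq with h | h
    · exact h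
    · exact absurd (Subgroup.eq_top_of_card_eq H h) hne
  rcases hIH H hlt with hnil | ⟨H1, hH1, hshape⟩ | ⟨n, hn, ⟨e⟩⟩
  · exact hnilcase hnil
  · refine ⟨H1.map H.subtype, frobeniusComplement_map H hfrob H1 hH1, ?_⟩
    have e : H1 ≃* (H1.map H.subtype) := H1.equivMapOfInjective H.subtype H.subtype_injective
    rcases hshape with hc | ⟨m, hm, ⟨e2⟩⟩
    · left
      haveI := hc
      exact isCyclic_of_surjective e e.surjective
    · right
      exact ⟨m, hm, ⟨e.symm.trans e2⟩⟩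
  · exfalso
    apply h2
    rw [Nat.card_congr e.toEquiv]
    exact two_dvd_card_psl2 n (by omega)

/-- Part A: `F(G) ≠ 1`. -/
theorem partA [Finite G]
    (hTI : ∀ x : G, Cfsg.IsTISubset (Subgroup.centralizer ({x} : Set G) : Set G))
    (hF : Cfsg.fittingSubgroup G ≠ ⊥)
    (hIH : ∀ X : Subgroup G, Nat.card X < Nat.card G →
      (Group.IsNilpotent X ∨
        (∃ H : Subgroup X, Cfsg.IsFrobeniusComplement H ∧
          (IsCyclic H ∨ ∃ m : ℕ, Odd m ∧
            Nonempty (H ≃* Multiplicative (ZMod m) × QuaternionGroup 2))) ∨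
        (∃ n : ℕ, 2 ≤ n ∧
          Nonempty (X ≃* Matrix.ProjectiveSpecialLinearGroup (Fin 2) (GaloisField 2 n))))) :
    Group.IsNilpotent G ∨
      (∃ H : Subgroup G, Cfsg.IsFrobeniusComplement H ∧
        (IsCyclic H ∨ ∃ m : ℕ, Odd m ∧
          Nonempty (H ≃* Multiplicative (ZMod m) × QuaternionGroup 2))) := by
  by_cases hZ : Subgroup.center G = ⊥
  · right
    exact frob_of_fitting_ne_bot hTI hZ hF hIH
  · left
    exact nilpotent_of_center_ne_bot hTI hZ

end Cfsg.Agent.Lib.Helper2.TIC
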