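import Mathlib
import Cfsg.Agent.Lib.Helper5.TICE0

/-!
# S4064 Part E, piece G1: the key identity `(w t)³ = (z w)²`
-/

set_option autoImplicit false

namespace Cfsg.Agent.Lib.Helper2.TICE

open Cfsg.Agent.Lib.Helper5.TICE

theorem key_identity {G : Type*} [Group G] (w r t1 : G) (hw : w * w = 1)
    (ht1 : t1 = r⁻¹ * w * r) (hz : (r * r) * (r * r) = 1)
    (htr : (w * t1 * w) * r = r * (w * t1 * w)) :
    (w * (w * t1 * w)) ^ 3 = ((r * r) * w) ^ 2 := by
  have hwinv : w⁻¹ = w := inv_eq_of_mul_eq_one_right hw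
  have hzinv : (r * r)⁻¹ = r * r := inv_eq_of_mul_eq_one_right hz
  -- (R)
  have hR : w * r * w = r * w * (w * t1 * w) := by
    rw [ht1]
    have e : r * w * (w * (r⁻¹ * w * r) * w) = r * (w * w) * (r⁻¹ * w * r * w) := by group
    rw [e, hw]
    group
  have hwr : w * r = r * w * (w * t1 * w) * w := by
    calc w * r = (w * r * w) * w⁻¹ := by group
      _ = (r * w * (w * t1 * w)) * w := by rw [hR, hwinv]
  have h1 : (w * r * w) * (w * r * w) = w * (r * r) * w := by
    calc (w * r * w) * (w * r * w) = w * r * (w * w) * r * w := by group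
      _ = w * (r * r) * w := by rw [hw]; group
  have h2 : (r * w * (w * t1 * w)) * (r * w * (w * t1 * w)) =
      (r * r) * (w * (w * t1 * w)) ^ 3 := by
    calc (r * w * (w * t1 * w)) * (r * w * (w * t1 * w))
        = r * w * ((w * t1 * w) * r) * w * (w * t1 * w) := by group
      _ = r * w * (r * (w * t1 * w)) * w * (w * t1 * w) := by rw [htr]
      _ = r * (w * r) * (w * t1 * w) * w * (w * t1 * w) := by group
      _ = r * (r * w * (w * t1 * w) * w) * (w * t1 * w) * w * (w * t1 * w) := by rw [hwr]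
      _ = (r * r) * (w * (w * t1 * w)) ^ 3 := by rw [pow_three']; group
  have key : w * (r * r) * w = (r * r) * (w * (w * t1 * w)) ^ 3 := by
    rw [← h1, ← h2, hR]
  calc (w * (w * t1 * w)) ^ 3 = (r * r)⁻¹ * ((r * r) * (w * (w * t1 * w)) ^ 3) := by group
    _ = (r * r)⁻¹ * (w * (r * r) * w) := by rw [← key]
    _ = (r * r) * (w * (r * r) * w) := by rw [hzinv]
    _ = ((r * r) * w) ^ 2 := by rw [pow_two]; group

end Cfsg.Agent.Lib.Helper2.TICE
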