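import Mathlib
import Cfsg.Agent.Lib.Helper5.TICE0
import Cfsg.Agent.Lib.Lead.NilpotentCoprime

/-!
# S4064 Part E, piece G2: the centralizer of an inverted element of odd order in a CN-group
-/

set_option autoImplicit false
set_option linter.style.haveILetI false

namespace Cfsg.Agent.Lib.Helper2.TICE

open Cfsg.Agent.Lib.Helper5.TICE Cfsg.Agent.Lib.Lead.NilpotentCoprime

theorem eq_one_of_sq_of_odd {G : Type*} [Group G] {g : G} (h2 : g * g = 1)
    (hodd : Odd (orderOf g)) : g = 1 := by
  have h1 : orderOf g ∣ 2 := orderOf_dvd_of_pow_eq_one (by rw [pow_two]; exact h2)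
  have h3 : orderOf g = 1 := by
    rcases (Nat.dvd_prime Nat.prime_two).1 h1 with h | h
    · exact h
    · rw [h] at hodd
      exact absurd hodd (by decide)
  exact orderOf_eq_one_iff.1 h3

theorem inverted_aux {G : Type*} [Group G] [Finite G]
    (hcn : ∀ g : G, g ≠ 1 → Group.IsNilpotent (Subgroup.centralizer ({g} : Set G)))
    (w g : G) (hw : w * w = 1) (hg1 : g ≠ 1) (hodd : Odd (orderOf g))
    (hinv : w * g * w⁻¹ = g⁻¹) :
    (∀ c ∈ Subgroup.centralizer ({g} : Set G), w * c * w⁻¹ = c⁻¹) ∧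
    (∀ c ∈ Subgroup.centralizer ({g} : Set G), ∀ c' ∈ Subgroup.centralizer ({g} : Set G),
      c * c' = c' * c) ∧
    Odd (Nat.card (Subgroup.centralizer ({g} : Set G))) := by
  have hwinv : w⁻¹ = w := inv_eq_of_mul_eq_one_right hw
  have hw1 : w ≠ 1 := by
    intro h
    rw [h, one_mul, inv_one, mul_one] at hinv
    apply hg1
    apply eq_one_of_sq_of_odd _ hodd
    calc g * g = g * g⁻¹ := by rw [← hinv]
      _ = 1 := mul_inv_cancel g
  have how : orderOf w = 2 := orderOf_eq_prime (by rw [pow_two]; exact hw) hw1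
  have hinv' : w * g⁻¹ * w⁻¹ = g := by
    have e : w * g⁻¹ * w⁻¹ = (w * g * w⁻¹)⁻¹ := by group
    rw [e, hinv, inv_inv]
  have hnorm : ∀ c ∈ Subgroup.centralizer ({g} : Set G),
      w * c * w⁻¹ ∈ Subgroup.centralizer ({g} : Set G) := by
    intro c hc
    rw [Subgroup.mem_centralizer_singleton_iff] at hc ⊢
    have hc' : c * g⁻¹ = g⁻¹ * c := by
      calc c * g⁻¹ = g⁻¹ * (g * c) * g⁻¹ := by group
        _ = g⁻¹ * (c * g) * g⁻¹ := by rw [hc]
        _ = g⁻¹ * c := by group
    calc w * c * w⁻¹ * g = w * c * w⁻¹ * (w * g⁻¹ * w⁻¹) := by rw [hinv']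
      _ = w * (c * g⁻¹) * w⁻¹ := by group
      _ = w * (g⁻¹ * c) * w⁻¹ := by rw [hc']
      _ = (w * g⁻¹ * w⁻¹) * (w * c * w⁻¹) := by group
      _ = g * (w * c * w⁻¹) := by rw [hinv']
  let φ : Subgroup.centralizer ({g} : Set G) →* Subgroup.centralizer ({g} : Set G) :=
    { toFun := fun c => ⟨w * c * w⁻¹, hnorm c c.2⟩
      map_one' := by
        apply Subtype.ext
        simp
      map_mul' := by
        intro a b
        apply Subtype.ext
        simp only [Subgroup.coe_mul]
        group }
  have hφ : ∀ c : Subgroup.centralizer ({g} : Set G), ((φ c : Subgroup.centralizer ({g} : Set G)) : G)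
      = w * c * w⁻¹ := fun c => rfl
  have hinvol : Function.Involutive φ := by
    intro c
    apply Subtype.ext
    rw [hφ, hφ]
    calc w * (w * (c : G) * w⁻¹) * w⁻¹ = (w * w) * c * (w * w)⁻¹ := by group
      _ = c := by rw [hw]; group
  have hfpf : MonoidHom.FixedPointFree φ := by
    intro c hc
    by_contra hc1
    have hc1' : (c : G) ≠ 1 := fun h => hc1 (Subtype.ext h)
    have hcw : w * (c : G) * w⁻¹ = c := by
      have := congrArg Subtype.val hc
      rw [hφ] at this
      exact this
    have hwc : w ∈ Subgroup.centralizer ({(c : G)} : Set G) := by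
      rw [Subgroup.mem_centralizer_singleton_iff]
      calc w * (c : G) = (w * c * w⁻¹) * w := by group
        _ = c * w := by rw [hcw]
    have hgc : g ∈ Subgroup.centralizer ({(c : G)} : Set G) := by
      rw [Subgroup.mem_centralizer_singleton_iff]
      exact (Subgroup.mem_centralizer_singleton_iff.1 c.2).symm
    have hcop : (orderOf w).Coprime (orderOf g) := by
      rw [how]
      exact (Nat.coprime_two_left).2 hodd
    have hcomm := commute_of_coprime_of_mem _ (hcn (c : G) hc1') hwc hgc hcop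
    apply hg1
    apply eq_one_of_sq_of_odd _ hodd
    have : g⁻¹ = g := by
      rw [← hinv, hcomm]
      group
    calc g * g = g * g⁻¹ := by rw [this]
      _ = 1 := mul_inv_cancel g
  refine ⟨?_, ?_, ?_⟩
  · intro c hc
    have h1 := MonoidHom.FixedPointFree.coe_eq_inv_of_involutive hfpf hinvol
    have h2 := congrFun h1 ⟨c, hc⟩
    have h3 := congrArg Subtype.val h2
    rw [hφ] at h3
    simpa using h3
  · intro c hc c' hc'
    have := MonoidHom.FixedPointFree.commute_all_of_involutive hfpf hinvol ⟨c, hc⟩ ⟨c', hc'⟩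
    exact congrArg Subtype.val this
  · exact MonoidHom.FixedPointFree.odd_card_of_involutive hfpf hinvol

theorem centralizer_of_inverted {G : Type*} [Group G] [Finite G]
    (hcn : ∀ g : G, g ≠ 1 → Group.IsNilpotent (Subgroup.centralizer ({g} : Set G)))
    (w g : G) (hw : w * w = 1) (hg1 : g ≠ 1) (hodd : Odd (orderOf g))
    (hinv : w * g * w⁻¹ = g⁻¹) :
    (∀ c ∈ Subgroup.centralizer ({g} : Set G), w * c * w⁻¹ = c⁻¹) ∧
    (∀ c ∈ Subgroup.centralizer ({g} : Set G), ∀ c' ∈ Subgroup.centralizer ({g} : Set G),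
      c * c' = c' * c) ∧
    Odd (Nat.card (Subgroup.centralizer ({g} : Set G))) ∧
    (∀ c ∈ Subgroup.centralizer ({g} : Set G), c ≠ 1 →
      Subgroup.centralizer ({c} : Set G) = Subgroup.centralizer ({g} : Set G)) := by
  obtain ⟨h1, h2, h3⟩ := inverted_aux hcn w g hw hg1 hodd hinv
  refine ⟨h1, h2, h3, ?_⟩
  intro c hc hc1
  have hcodd : Odd (orderOf c) := by
    have hd : orderOf c ∣ Nat.card (Subgroup.centralizer ({g} : Set G)) := by
      have := orderOf_dvd_natCard (⟨c, hc⟩ : Subgroup.centralizer ({g} : Set G))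
      rwa [← Subgroup.orderOf_coe] at this
    exact Odd.of_dvd_nat h3 hd
  obtain ⟨-, k2, -⟩ := inverted_aux hcn w c hw hc1 hcodd (h1 c hc)
  have hgc : g ∈ Subgroup.centralizer ({c} : Set G) := by
    rw [Subgroup.mem_centralizer_singleton_iff]
    exact (Subgroup.mem_centralizer_singleton_iff.1 hc).symm
  apply le_antisymm
  · intro x hx
    rw [Subgroup.mem_centralizer_singleton_iff]
    exact k2 x hx g hgc
  · intro x hx
    rw [Subgroup.mem_centralizer_singleton_iff]
    exact h2 x hx c hc

end Cfsg.Agent.Lib.Helper2.TICE
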