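import Mathlib
import Cfsg.Agent.Lib.Helper2.TICE_G2

/-!
# S4064 Part E / ZT-Suzuki, piece G2': `centralizer_of_inverted` without the CN hypothesis,
from "centralizers of involutions are 2-groups" (CIT)
-/

set_option autoImplicit false
set_option linter.style.haveILetI false

namespace Cfsg.Agent.Lib.Helper2.TICE

/-- core: if conjugation by the involution `w` (inverting `g`) has no non-trivial fixed point on
`C(g)`, then `C(g)` is abelian of odd order and inverted by `w`. -/
theorem inverted_core {G : Type*} [Group G] [Finite G]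
    (w g : G) (hw : w * w = 1) (hinv : w * g * w⁻¹ = g⁻¹)
    (hfpf : ∀ c ∈ Subgroup.centralizer ({g} : Set G), w * c * w⁻¹ = c → c = 1) :
    (∀ c ∈ Subgroup.centralizer ({g} : Set G), w * c * w⁻¹ = c⁻¹) ∧
    (∀ c ∈ Subgroup.centralizer ({g} : Set G), ∀ c' ∈ Subgroup.centralizer ({g} : Set G),
      c * c' = c' * c) ∧
    Odd (Nat.card (Subgroup.centralizer ({g} : Set G))) := by
  have hwinv : w⁻¹ = w := inv_eq_of_mul_eq_one_right hw
  have hinv' : w * g⁻¹ * w⁻¹ = g := by
    have e : w * g⁻¹ * w⁻¹ = (w * g * w⁻¹)⁻¹ := by group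
    rw [e, hinv, inv_inv]
  have hnorm : ∀ c ∈ Subgroup.centralizer ({g} : Set G),
      w * c * w⁻¹ ∈ Subgroup.centralizer ({g} : Set G) := by
    intro c hc
    rw [Subgroup.mem_centralizer_singleton_iff] at hc ⊢
    have hc' : c * g⁻¹ = g⁻¹ * c := by
      calc c * g⁻¹ = g⁻¹ * (g * c) * g⁻¹ := by group
        _ = g⁻¹ * (c * g) * g⁻¹ := by rw [hc]
        _ = g⁻¹ * c := by group
    calc w * c * w⁻¹ * g = w * c * w⁻¹ * (w * g⁻¹ * w⁻¹) := by rw [hinv']
      _ = w * (c * g⁻¹) * w⁻¹ := by group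
      _ = w * (g⁻¹ * c) * w⁻¹ := by rw [hc']
      _ = (w * g⁻¹ * w⁻¹) * (w * c * w⁻¹) := by group
      _ = g * (w * c * w⁻¹) := by rw [hinv']
  let φ : Subgroup.centralizer ({g} : Set G) →* Subgroup.centralizer ({g} : Set G) :=
    { toFun := fun c => ⟨w * c * w⁻¹, hnorm c c.2⟩
      map_one' := by
        apply Subtype.ext
        simp
      map_mul' := by
        intro a b
        apply Subtype.ext
        simp only [Subgroup.coe_mul]
        group }
  have hφ : ∀ c : Subgroup.centralizer ({g} : Set G),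
      ((φ c : Subgroup.centralizer ({g} : Set G)) : G) = w * c * w⁻¹ := fun c => rfl
  have hinvol : Function.Involutive φ := by
    intro c
    apply Subtype.ext
    rw [hφ, hφ]
    calc w * (w * (c : G) * w⁻¹) * w⁻¹ = (w * w) * c * (w * w)⁻¹ := by group
      _ = c := by rw [hw]; group
  have hfpf' : MonoidHom.FixedPointFree φ := by
    intro c hc
    have hcw : w * (c : G) * w⁻¹ = c := by
      have := congrArg Subtype.val hc
      rw [hφ] at this
      exact this
    exact Subtype.ext (hfpf c c.2 hcw)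
  refine ⟨?_, ?_, ?_⟩
  · intro c hc
    have h1 := MonoidHom.FixedPointFree.coe_eq_inv_of_involutive hfpf' hinvol
    have h2 := congrFun h1 ⟨c, hc⟩
    have h3 := congrArg Subtype.val h2
    rw [hφ] at h3
    simpa using h3
  · intro c hc c' hc'
    have := MonoidHom.FixedPointFree.commute_all_of_involutive hfpf' hinvol ⟨c, hc⟩ ⟨c', hc'⟩
    exact congrArg Subtype.val this
  · exact MonoidHom.FixedPointFree.odd_card_of_involutive hfpf' hinvol

/-- a non-identity element of 2-power order has a power which is an involution -/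
theorem exists_involution_pow {G : Type*} [Group G] {c : G} (hc1 : c ≠ 1)
    (hc : ∃ k, c ^ (2 ^ k) = 1) : ∃ j : ℕ, c ^ j * c ^ j = 1 ∧ c ^ j ≠ 1 := by
  classical
  have hk1 : c ^ (2 ^ (Nat.find hc)) = 1 := Nat.find_spec hc
  have hk0 : Nat.find hc ≠ 0 := by
    intro h0
    rw [h0, pow_zero, pow_one] at hk1
    exact hc1 hk1
  obtain ⟨m, hm⟩ := Nat.exists_eq_succ_of_ne_zero hk0
  refine ⟨2 ^ m, ?_, ?_⟩
  · rw [← pow_add, ← two_mul, ← pow_succ', ← Nat.succ_eq_add_one, ← hm]
    exact hk1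
  · intro hh
    have := Nat.find_min' hc hh
    omega

theorem inverted_aux' {G : Type*} [Group G] [Finite G]
    (hcit : ∀ a : G, a * a = 1 → a ≠ 1 → ∀ c : G, c * a = a * c → ∃ k, c ^ (2 ^ k) = 1)
    (w g : G) (hw : w * w = 1) (hg1 : g ≠ 1) (hodd : Odd (orderOf g))
    (hinv : w * g * w⁻¹ = g⁻¹) :
    (∀ c ∈ Subgroup.centralizer ({g} : Set G), w * c * w⁻¹ = c⁻¹) ∧
    (∀ c ∈ Subgroup.centralizer ({g} : Set G), ∀ c' ∈ Subgroup.centralizer ({g} : Set G),
      c * c' = c' * c) ∧
    Odd (Nat.card (Subgroup.centralizer ({g} : Set G))) := by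
  have hw1 : w ≠ 1 := by
    intro h
    rw [h, one_mul, inv_one, mul_one] at hinv
    apply hg1
    apply eq_one_of_sq_of_odd _ hodd
    calc g * g = g * g⁻¹ := by rw [← hinv]
      _ = 1 := mul_inv_cancel g
  apply inverted_core w g hw hinv
  intro c hc hcw
  by_contra hc1
  have hcw' : c * w = w * c := by
    calc c * w = (w * c * w⁻¹) * w := by rw [hcw]
      _ = w * c := by group
  have h2 := hcit w hw hw1 c hcw'
  obtain ⟨j, hjj, hj1⟩ := exists_involution_pow hc1 h2
  have hcg : c * g = g * c := Subgroup.mem_centralizer_singleton_iff.1 hc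
  have hga : g * c ^ j = c ^ j * g := by
    have : Commute g c := hcg.symm
    exact (this.pow_right j)
  obtain ⟨k, hk⟩ := hcit (c ^ j) hjj hj1 g hga
  apply hg1
  have hd : orderOf g ∣ 2 ^ k := orderOf_dvd_of_pow_eq_one hk
  have h1 : orderOf g = 1 := by
    have hcop : Nat.Coprime (orderOf g) (2 ^ k) :=
      Nat.Coprime.pow_right k ((Nat.coprime_two_right).2 hodd)
    exact Nat.eq_one_of_dvd_coprimes hcop (dvd_refl _) hd
  exact orderOf_eq_one_iff.1 h1

/-- G2' -/
theorem centralizer_of_inverted' {G : Type*} [Group G] [Finite G]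
    (hcit : ∀ a : G, a * a = 1 → a ≠ 1 → ∀ c : G, c * a = a * c → ∃ k, c ^ (2 ^ k) = 1)
    (w g : G) (hw : w * w = 1) (hg1 : g ≠ 1) (hodd : Odd (orderOf g))
    (hinv : w * g * w⁻¹ = g⁻¹) :
    (∀ c ∈ Subgroup.centralizer ({g} : Set G), w * c * w⁻¹ = c⁻¹) ∧
    (∀ c ∈ Subgroup.centralizer ({g} : Set G), ∀ c' ∈ Subgroup.centralizer ({g} : Set G),
      c * c' = c' * c) ∧
    Odd (Nat.card (Subgroup.centralizer ({g} : Set G))) ∧
    (∀ c ∈ Subgroup.centralizer ({g} : Set G), c ≠ 1 →
      Subgroup.centralizer ({c} : Set G) = Subgroup.centralizer ({g} : Set G)) := by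
  obtain ⟨h1, h2, h3⟩ := inverted_aux' hcit w g hw hg1 hodd hinv
  refine ⟨h1, h2, h3, ?_⟩
  intro c hc hc1
  have hcodd : Odd (orderOf c) := by
    have hd : orderOf c ∣ Nat.card (Subgroup.centralizer ({g} : Set G)) := by
      have := orderOf_dvd_natCard (⟨c, hc⟩ : Subgroup.centralizer ({g} : Set G))
      rwa [← Subgroup.orderOf_coe] at this
    exact Odd.of_dvd_nat h3 hd
  obtain ⟨-, k2, -⟩ := inverted_aux' hcit w c hw hc1 hcodd (h1 c hc)
  have hgc : g ∈ Subgroup.centralizer ({c} : Set G) := by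
    rw [Subgroup.mem_centralizer_singleton_iff]
    exact (Subgroup.mem_centralizer_singleton_iff.1 hc).symm
  apply le_antisymm
  · intro x hx
    rw [Subgroup.mem_centralizer_singleton_iff]
    exact k2 x hx g hgc
  · intro x hx
    rw [Subgroup.mem_centralizer_singleton_iff]
    exact h2 x hx c hc

end Cfsg.Agent.Lib.Helper2.TICE
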