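import Mathlib
import Cfsg.Agent.Lib.Helper5.TICE0

/-!
# S4064 Part E, piece G3: a 2-group with a unique involution `a`, all squares and commutators in
`{1, a}`, has order at most `8`
-/

set_option autoImplicit false
set_option linter.style.haveILetI false

namespace Cfsg.Agent.Lib.Helper2.TICE

open Cfsg.Agent.Lib.Helper5.TICE

theorem exists_not_mem_list {α : Type*} [Finite α] (l : List α) (h : l.length < Nat.card α) :
    ∃ y : α, y ∉ l := by
  classical
  by_contra hall
  push Not at hall
  haveI := Fintype.ofFinite α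
  have : Nat.card α ≤ l.length := by
    rw [Nat.card_eq_fintype_card]
    calc Fintype.card α = (Finset.univ : Finset α).card := rfl
      _ ≤ l.toFinset.card := Finset.card_le_card (fun y _ => List.mem_toFinset.2 (hall y))
      _ ≤ l.length := List.toFinset_card_le l
  omega

/-- the abstract version, in a group `Q` -/
theorem card_le_eight_aux {Q : Type*} [Group Q] [Finite Q] (a : Q) (haa : a * a = 1)
    (hsq : ∀ y : Q, y * y = 1 ∨ y * y = a)
    (hcomm : ∀ y y' : Q, y * y' = y' * y ∨ y * y' = a * (y' * y))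
    (huniq : ∀ y : Q, y * y = 1 → y = 1 ∨ y = a)
    (hac : ∀ y : Q, a * y = y * a) :
    Nat.card Q ≤ 8 := by
  by_contra hcard
  push Not at hcard
  -- F1
  have F1 : ∀ y : Q, y ≠ 1 → y ≠ a → y * y = a := by
    intro y h1 h2
    rcases hsq y with h | h
    · rcases huniq y h with h' | h'
      · exact absurd h' h1
      · exact absurd h' h2
    · exact h
  -- inverse
  have hinv : ∀ u : Q, u * u = a → u⁻¹ = u * a := by
    intro u hu
    apply inv_eq_of_mul_eq_one_right
    calc u * (u * a) = (u * u) * a := by group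
      _ = 1 := by rw [hu, haa]
  -- F2
  have F2 : ∀ u v : Q, u * u = a → v * v = a → u * v = v * u → v = u ∨ v = u * a := by
    intro u v hu hv huv
    have h1 : (u * v) * (u * v) = 1 := by
      calc (u * v) * (u * v) = u * (v * u) * v := by group
        _ = u * (u * v) * v := by rw [← huv]
        _ = (u * u) * (v * v) := by group
        _ = 1 := by rw [hu, hv, haa]
    rcases huniq _ h1 with h | h
    · right
      have : v = u⁻¹ := by
        calc v = u⁻¹ * (u * v) := by group
          _ = u⁻¹ := by rw [h, mul_one]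
      rw [this, hinv u hu]
    · left
      calc v = u⁻¹ * (u * v) := by group
        _ = (u * a) * a := by rw [h, hinv u hu]
        _ = u * (a * a) := by group
        _ = u := by rw [haa, mul_one]
  -- choose y1, y2, y3
  obtain ⟨y1, hy1⟩ := exists_not_mem_list ([1, a] : List Q) (by simp; omega)
  obtain ⟨y2, hy2⟩ := exists_not_mem_list ([1, a, y1, y1 * a] : List Q) (by simp; omega)
  obtain ⟨y3, hy3⟩ := exists_not_mem_list
    ([1, a, y1, y1 * a, y2, y2 * a, y1 * y2, y1 * y2 * a] : List Q) (by simp; omega)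
  simp only [List.mem_cons, List.not_mem_nil, or_false, not_or] at hy1 hy2 hy3
  obtain ⟨h11, h1a⟩ := hy1
  obtain ⟨h21, h2a, h2y1, h2y1a⟩ := hy2
  obtain ⟨h31, h3a, h3y1, h3y1a, h3y2, h3y2a, h3y12, h3y12a⟩ := hy3
  have s1 := F1 y1 h11 h1a
  have s2 := F1 y2 h21 h2a
  have s3 := F1 y3 h31 h3a
  -- y1 y2 is not in {1, a}
  have h12_1 : y1 * y2 ≠ 1 := by
    intro h
    apply h2y1a
    calc y2 = y1⁻¹ * (y1 * y2) := by group
      _ = y1 * a := by rw [h, mul_one, hinv y1 s1]
  have h12_a : y1 * y2 ≠ a := by
    intro h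
    apply h2y1
    calc y2 = y1⁻¹ * (y1 * y2) := by group
      _ = (y1 * a) * a := by rw [h, hinv y1 s1]
      _ = y1 * (a * a) := by group
      _ = y1 := by rw [haa, mul_one]
  have s12 := F1 (y1 * y2) h12_1 h12_a
  -- non-commuting pairs
  have c13 : y1 * y3 = a * (y3 * y1) := by
    rcases hcomm y1 y3 with h | h
    · rcases F2 y1 y3 s1 s3 h with h' | h'
      · exact absurd h' h3y1
      · exact absurd h' h3y1a
    · exact h
  have c23 : y2 * y3 = a * (y3 * y2) := by
    rcases hcomm y2 y3 with h | h
    · rcases F2 y2 y3 s2 s3 h with h' | h'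
      · exact absurd h' h3y2
      · exact absurd h' h3y2a
    · exact h
  have c123 : (y1 * y2) * y3 ≠ y3 * (y1 * y2) := by
    intro h
    rcases F2 (y1 * y2) y3 s12 s3 h with h' | h'
    · exact absurd h' h3y12
    · exact absurd h' h3y12a
  apply c123
  calc (y1 * y2) * y3 = y1 * (y2 * y3) := by group
    _ = y1 * (a * (y3 * y2)) := by rw [c23]
    _ = (y1 * a) * (y3 * y2) := by group
    _ = (a * y1) * (y3 * y2) := by rw [hac y1]
    _ = a * (y1 * y3) * y2 := by group
    _ = a * (a * (y3 * y1)) * y2 := by rw [c13]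
    _ = (a * a) * (y3 * (y1 * y2)) := by group
    _ = y3 * (y1 * y2) := by rw [haa, one_mul]

theorem card_le_eight {G : Type*} [Group G] (E : Subgroup G) [Finite E] (a : G)
    (ha : a ∈ E) (haa : a * a = 1)
    (hsq : ∀ y ∈ E, y * y = 1 ∨ y * y = a)
    (hcomm : ∀ y ∈ E, ∀ y' ∈ E, y * y' = y' * y ∨ y * y' = a * (y' * y))
    (huniq : ∀ y ∈ E, y * y = 1 → y = 1 ∨ y = a)
    (hac : ∀ y ∈ E, a * y = y * a) :
    Nat.card E ≤ 8 := by
  apply card_le_eight_aux (⟨a, ha⟩ : E)
  · exact Subtype.ext haa
  · intro y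
    rcases hsq y y.2 with h | h
    · left; exact Subtype.ext h
    · right; exact Subtype.ext h
  · intro y y'
    rcases hcomm y y.2 y' y'.2 with h | h
    · left; exact Subtype.ext h
    · right; exact Subtype.ext h
  · intro y hy
    have hy' : (y : G) * (y : G) = 1 := congrArg Subtype.val hy
    rcases huniq y y.2 hy' with h | h
    · left; exact Subtype.ext h
    · right; exact Subtype.ext h
  · intro y
    exact Subtype.ext (hac y y.2)

end Cfsg.Agent.Lib.Helper2.TICE
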