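import Mathlib
import Cfsg.Agent.Lib.Helper5.TICE1

/-!
# S4064 Part E, piece P1b: `ZSInv`, `|S α| = q ^ 3`, transitivity of `D` on `T α ∖ 1`
-/

set_option autoImplicit false
set_option linter.style.haveILetI false

namespace Cfsg.Agent.Lib.Helper2.TICE

open Cfsg.Agent.Lib.Helper5.TICE

variable {G : Type*} [Group G] {Ω : Type*} [MulAction G Ω] {S T : Ω → Subgroup G} {q : ℕ}

theorem card_subtype_ne {α : Type*} [Finite α] (a : α) :
    Nat.card {b : α // b ≠ a} + 1 = Nat.card α := by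
  classical
  rw [← Finite.card_option]
  exact Nat.card_congr (Equiv.optionSubtypeNe a)

theorem card_T_ne_one [Finite G] (h : Resid S T q) (α : Ω) :
    Nat.card {t : T α // t ≠ 1} = q - 1 := by
  have := card_subtype_ne (1 : T α)
  rw [h.card_T α] at this
  omega

theorem toZSInv [Finite G] [Finite Ω] (h : Resid S T q) : ZSInv G Ω (q - 1) := by
  refine ⟨fun a ha => h.isInv_fix_unique ha, ?_, h.inverted⟩
  intro α
  rw [← card_T_ne_one h α]
  apply Nat.card_congr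
  refine
    { toFun := fun a => ⟨⟨a.1, h.mem_T_of_isInv_of_fix a.2.1 a.2.2⟩, fun hh => a.2.1.2 (congrArg Subtype.val hh)⟩
      invFun := fun t => ⟨t.1.1, h.isInv_of_mem_T t.1.2 (fun hh => t.2 (Subtype.ext hh)), h.T_fix t.1.2⟩
      left_inv := fun a => rfl
      right_inv := fun t => rfl }

theorem card_S [Finite G] [Finite Ω] (h : Resid S T q) (α : Ω) : Nat.card (S α) = q ^ 3 := by
  have hΩ : 1 < Nat.card Ω := by
    rw [h.card_pts]
    have := h.four_le
    have : 0 < q ^ 3 := pow_pos (by omega) 3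
    omega
  haveI : Nontrivial Ω := Finite.one_lt_card_iff_nontrivial.1 hΩ
  obtain ⟨β0, hβ0⟩ := exists_ne α
  have hcard : Nat.card {β : Ω // β ≠ α} = q ^ 3 := by
    have := card_subtype_ne α
    rw [h.card_pts] at this
    omega
  rw [← hcard]
  let f : S α → {β : Ω // β ≠ α} := fun s => ⟨(s : G) • β0, by
    intro hh
    apply hβ0
    have h1 : β0 = (s : G)⁻¹ • ((s : G) • β0) := by rw [inv_smul_smul]
    have h2 : (s : G)⁻¹ • ((s : G) • β0) = α := by
      have h3 := h.S_fix α _ ((S α).inv_mem s.2)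
      exact (congrArg (fun x => (s : G)⁻¹ • x) hh).trans h3
    exact h1.trans h2⟩
  apply Nat.card_congr
  refine Equiv.ofBijective f ⟨?_, ?_⟩
  · intro s s' hss
    have : (s : G) • β0 = (s' : G) • β0 := congrArg Subtype.val hss
    exact Subtype.ext (h.S_eq_of_smul_eq hβ0 s.2 s'.2 this)
  · rintro ⟨γ, hγ⟩
    obtain ⟨s, hs, hsγ⟩ := h.S_trans α β0 γ hβ0 hγ
    exact ⟨⟨s, hs⟩, Subtype.ext hsγ⟩

theorem D_trans [Finite G] [Finite Ω] (h : Resid S T q) :
    ∀ α β : Ω, α ≠ β → ∀ t ∈ T α, t ≠ 1 → ∀ t' ∈ T α, t' ≠ 1 →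
      ∃ d : G, d • α = α ∧ d • β = β ∧ d * t * d⁻¹ = t' := by
  intro α β hαβ t ht ht1 t' ht' ht'1
  let f : {d : G // d • α = α ∧ d • β = β} → {t' : T α // t' ≠ 1} := fun d =>
    ⟨⟨d.1 * t * d.1⁻¹, by
      have := h.T_conj d.1 ht
      rwa [d.2.1] at this⟩, by
      intro hh
      have h1 : d.1 * t * d.1⁻¹ = 1 := congrArg Subtype.val hh
      exact ((h.isInv_of_mem_T ht ht1).conj d.1).2 h1⟩
  have hinj : Function.Injective f := by
    intro d d' hdd
    have h1 : d.1 * t * d.1⁻¹ = d'.1 * t * d'.1⁻¹ :=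
      congrArg (fun x : {t' : T α // t' ≠ 1} => ((x : T α) : G)) hdd
    have h2 : (d'.1⁻¹ * d.1) * t = t * (d'.1⁻¹ * d.1) := by
      calc (d'.1⁻¹ * d.1) * t = d'.1⁻¹ * (d.1 * t * d.1⁻¹) * d.1 := by group
        _ = d'.1⁻¹ * (d'.1 * t * d'.1⁻¹) * d.1 := by rw [h1]
        _ = t * (d'.1⁻¹ * d.1) := by group
    have h3 : d'.1⁻¹ * d.1 ∈ S α := h.cent_invol α t ht ht1 _ h2
    have h4 : (d'.1⁻¹ * d.1) • β = β := by
      rw [mul_smul, d.2.2, inv_smul_eq_iff, d'.2.2]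
    have h5 := h.S_free α β (Ne.symm hαβ) _ h3 h4
    apply Subtype.ext
    exact (inv_mul_eq_one.1 h5).symm
  have hbij : Function.Bijective f := by
    apply hinj.bijective_of_nat_card_le
    rw [h.card_D α β hαβ, card_T_ne_one h α]
  obtain ⟨d, hd⟩ := hbij.2 ⟨⟨t', ht'⟩, fun hh => ht'1 (congrArg Subtype.val hh)⟩
  refine ⟨d.1, d.2.1, d.2.2, ?_⟩
  exact congrArg (fun x : {t' : T α // t' ≠ 1} => ((x : T α) : G)) hd

end Cfsg.Agent.Lib.Helper2.TICE
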