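import Mathlib
import Cfsg.Agent.Lib.Helper5.TICE1

/-!
# S4064 Part E, piece P2: lines when `3 ∣ q - 1`
-/

set_option autoImplicit false
set_option linter.style.haveILetI false

namespace Cfsg.Agent.Lib.Helper2.TICE

open Cfsg.Agent.Lib.Helper5.TICE MulAction

variable {G : Type*} [Group G] {Ω : Type*} [MulAction G Ω] {S T : Ω → Subgroup G} {q : ℕ}

theorem lines_of_three_dvd [Finite G] [Finite Ω] (h : Resid S T q) (h3 : 3 ∣ q - 1)
    (hD : ∀ α β : Ω, α ≠ β → ∀ t ∈ T α, t ≠ 1 → ∀ t' ∈ T α, t' ≠ 1 →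
      ∃ d : G, d • α = α ∧ d • β = β ∧ d * t * d⁻¹ = t') :
    Lines S T := by
  intro α β hαβ t1 ht1 ht11 r hr hrε
  -- w
  have hwT : r * t1 * r⁻¹ ∈ T (r • β) := h.T_conj r ht1
  have hw1 : r * t1 * r⁻¹ ≠ 1 := (h.isInv_of_mem_T ht1 ht11).conj r |>.2
  have hww : (r * t1 * r⁻¹) * (r * t1 * r⁻¹) = 1 := h.mul_self_of_mem_T hwT
  have hwinv : (r * t1 * r⁻¹)⁻¹ = r * t1 * r⁻¹ := inv_eq_of_mul_eq_one_left hww
  have hrα : r • α = α := h.S_fix α r hr
  have hrinvα : r⁻¹ • α = α := by rw [inv_smul_eq_iff, hrα]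
  have hωα : r • β ≠ α := by
    intro hh
    apply hαβ
    have : β = r⁻¹ • α := by rw [← hh, inv_smul_smul]
    rw [this, hrinvα]
  have hwα : (r * t1 * r⁻¹) • α = β := by
    rw [mul_smul, mul_smul, hrinvα, hrε]
  obtain ⟨w, hwdef⟩ : ∃ w : G, w = r * t1 * r⁻¹ := ⟨_, rfl⟩
  obtain ⟨ω, hωdef⟩ : ∃ ω : Ω, ω = r • β := ⟨_, rfl⟩
  rw [← hwdef] at hwT hw1 hww hwinv hwα
  rw [← hωdef] at hwT hωα
  -- an element of order 3 in the two-point stabilizer
  have hcardD : Nat.card (stabilizer G α ⊓ stabilizer G β : Subgroup G) = q - 1 := by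
    rw [← h.card_D α β hαβ]
    apply Nat.card_congr
    exact Equiv.subtypeEquivRight (fun g => by
      rw [Subgroup.mem_inf, mem_stabilizer_iff, mem_stabilizer_iff])
  haveI : Fact (Nat.Prime 3) := ⟨by norm_num⟩
  obtain ⟨⟨x, hxD⟩, hx3⟩ := exists_prime_orderOf_dvd_card'
    (G := (stabilizer G α ⊓ stabilizer G β : Subgroup G)) 3 (by rw [hcardD]; exact h3)
  have hox : orderOf x = 3 := by
    rw [← hx3, ← Subgroup.orderOf_coe]
  obtain ⟨hxα', hxβ'⟩ := Subgroup.mem_inf.1 hxD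
  have hxα : x • α = α := mem_stabilizer_iff.1 hxα'
  have hxβ : x • β = β := mem_stabilizer_iff.1 hxβ'
  have hx1 : x ≠ 1 := by
    intro hh
    rw [hh, orderOf_one] at hox
    omega
  have hx3' : x ^ 3 = 1 := by rw [← hox]; exact pow_orderOf_eq_one x
  -- u
  obtain ⟨u, huu, huα, huβ, huinv⟩ := h.inverted α β hαβ
  have huinv' : u⁻¹ = u := inv_eq_of_mul_eq_one_left huu
  have hu1 : u ≠ 1 := by
    intro hh
    rw [hh, one_smul] at huα
    exact hαβ huα
  have hua : IsInv u := ⟨huu, hu1⟩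
  have hbb : (u * x) * (u * x) = 1 := by
    have e := huinv x hxα hxβ
    rw [huinv'] at e
    calc (u * x) * (u * x) = (u * x * u) * x := by group
      _ = x⁻¹ * x := by rw [e]
      _ = 1 := inv_mul_cancel x
  have hb1 : u * x ≠ 1 := by
    intro hh
    have : (u * x) • α = β := by rw [mul_smul, hxα, huα]
    rw [hh, one_smul] at this
    exact hαβ this
  have hub : IsInv (u * x) := ⟨hbb, hb1⟩
  obtain ⟨γa, hγa⟩ := h.invol u hua
  obtain ⟨γb, hγb⟩ := h.invol (u * x) hub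
  have hab : u * (u * x) = x := by rw [← mul_assoc, huu, one_mul]
  have hγab : γa ≠ γb := by
    intro hh
    rw [hh] at hγa
    have hxT : x ∈ T γb := by
      rw [← hab]
      exact (T γb).mul_mem hγa hγb
    have hxx : x * x = 1 := h.mul_self_of_mem_T hxT
    apply hx1
    calc x = x ^ 3 * (x * x)⁻¹ := by group
      _ = 1 := by rw [hx3', hxx, inv_one, mul_one]
  -- move to (α, ω)
  obtain ⟨g, hgα, hgω⟩ := h.two_trans γa γb α ω hγab (Ne.symm hωα)
  have ha'T : g * u * g⁻¹ ∈ T α := by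
    have := h.T_conj g hγa
    rwa [hgα] at this
  have hb'T : g * (u * x) * g⁻¹ ∈ T ω := by
    have := h.T_conj g hγb
    rwa [hgω] at this
  have hb'1 : g * (u * x) * g⁻¹ ≠ 1 := (hub.conj g).2
  obtain ⟨d, hdω, hdα, hdb⟩ := hD ω α hωα _ hb'T hb'1 w hwT hw1
  -- t'
  have ht'T : d * (g * u * g⁻¹) * d⁻¹ ∈ T α := by
    have := h.T_conj d ha'T
    rwa [hdα] at this
  obtain ⟨t', ht'def⟩ : ∃ t' : G, t' = d * (g * u * g⁻¹) * d⁻¹ := ⟨_, rfl⟩
  rw [← ht'def] at ht'T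
  have ht't' : t' * t' = 1 := h.mul_self_of_mem_T ht'T
  have ht'inv : t'⁻¹ = t' := inv_eq_of_mul_eq_one_left ht't'
  have ht'w : t' * w = (d * g) * x * (d * g)⁻¹ := by
    rw [← hdb, ht'def]
    calc d * (g * u * g⁻¹) * d⁻¹ * (d * (g * (u * x) * g⁻¹) * d⁻¹)
        = d * g * (u * u) * x * g⁻¹ * d⁻¹ := by group
      _ = (d * g) * x * (d * g)⁻¹ := by rw [huu]; group
  have h3' : (t' * w) ^ 3 = 1 := by
    rw [ht'w, conj_pow, hx3']
    group
  -- braid relation
  have hbraid : w * t' * w = t' * w * t' := by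
    have e1 : (t' * w * t') * (w * t' * w) = 1 := by
      calc (t' * w * t') * (w * t' * w) = (t' * w) ^ 3 := by rw [pow_three']; group
        _ = 1 := h3'
    have e2 : (t' * w * t')⁻¹ = t' * w * t' := by
      rw [mul_inv_rev, mul_inv_rev, ht'inv, hwinv]
      group
    calc w * t' * w = (t' * w * t')⁻¹ * ((t' * w * t') * (w * t' * w)) := by group
      _ = t' * w * t' := by rw [e1, mul_one, e2]
  have ht'α : t' • α = α := h.T_fix ht'T
  have hfix : w • (t' • β) = t' • β := by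
    calc w • (t' • β) = (w * t' * w) • α := by rw [mul_smul, mul_smul, hwα]
      _ = (t' * w * t') • α := by rw [hbraid]
      _ = t' • β := by rw [mul_smul, mul_smul, ht'α, hwα]
  have hfix' : t' • β = ω := h.S_fix_eq (h.T_le ω hwT) hw1 hfix
  have : t' = r := h.S_eq_of_smul_eq (Ne.symm hαβ) (h.T_le α ht'T) hr (by rw [hfix', hωdef])
  rw [← this]
  exact ht'T

end Cfsg.Agent.Lib.Helper2.TICE
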