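import Mathlib
import Cfsg.Agent.Lib.Helper5.TICE2

/-!
# S4064 Part E, piece P6a: a fixed-point-free element inverted by an involution has odd order
-/

set_option autoImplicit false
set_option linter.style.haveILetI false

namespace Cfsg.Agent.Lib.Helper2.TICE

open Cfsg.Agent.Lib.Helper5.TICE

variable {G : Type*} [Group G] {Ω : Type*} [MulAction G Ω] {S T : Ω → Subgroup G} {q : ℕ}

theorem ne_one_of_fpf [Finite Ω] (h : Resid S T q) {x : G} (hx : Fpf Ω x) : x ≠ 1 := by
  intro hh
  have hΩ : 0 < Nat.card Ω := by rw [h.card_pts]; omega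
  obtain ⟨α⟩ : Nonempty Ω := (Nat.card_pos_iff.1 hΩ).1
  exact hx α (by rw [hh, one_smul])

theorem odd_of_fpf_inverted [Finite G] [Finite Ω] (h : Resid S T q) {x a : G} (hx : Fpf Ω x)
    (ha : a ∈ invSet x) : Odd (orderOf x) ∧ x ≠ 1 := by
  refine ⟨?_, ne_one_of_fpf h hx⟩
  obtain ⟨hai, hinv⟩ := ha
  have hainv : a⁻¹ = a := hai.inv_eq
  have hbb : (a * x) * (a * x) = 1 := by
    calc (a * x) * (a * x) = (a * x * a) * x := by group
      _ = x⁻¹ * x := by
        have : a * x * a = a * x * a⁻¹ := by rw [hainv]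
        rw [this, hinv]
      _ = 1 := inv_mul_cancel x
  obtain ⟨α, hα⟩ := h.invol a hai
  have hb1 : a * x ≠ 1 := by
    intro hh
    have hxa : x = a := by
      calc x = a⁻¹ * (a * x) := by group
        _ = a := by rw [hh, mul_one, hainv]
    exact hx α (by rw [hxa]; exact h.T_fix hα)
  obtain ⟨β, hβ⟩ := h.invol (a * x) ⟨hbb, hb1⟩
  have hxab : x = a * (a * x) := by rw [← mul_assoc, hai.1, one_mul]
  have hαβ : α ≠ β := by
    intro hh
    rw [← hh] at hβ
    have : x ∈ T α := by
      rw [hxab]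
      exact (T α).mul_mem hα hβ
    exact hx α (h.T_fix this)
  have := (h.mul_odd hαβ hα hai.2 hβ hb1).1
  rwa [← hxab] at this

end Cfsg.Agent.Lib.Helper2.TICE
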