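import Mathlib
import Cfsg.Agent.Lib.Helper5.TICE2
import Cfsg.Agent.Lib.Helper2.TICE_P6a
import Cfsg.Agent.Lib.Helper2.TICE_G2

/-!
# S4064 Part E, piece P6c: the involutions inverting `c ∈ M = C(x)` are the coset `M a`
-/

set_option autoImplicit false
set_option linter.style.haveILetI false

namespace Cfsg.Agent.Lib.Helper2.TICE

open Cfsg.Agent.Lib.Helper5.TICE

variable {G : Type*} [Group G] {Ω : Type*} [MulAction G Ω] {S T : Ω → Subgroup G} {q : ℕ}

theorem card_invSet_eq [Finite G] [Finite Ω] (h : Resid S T q) (hSR : SRHyp G) {x a : G}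
    (hx : Fpf Ω x) (ha : a ∈ invSet x) {c : G} (hc : c ∈ Subgroup.centralizer ({x} : Set G))
    (hc1 : c ≠ 1) :
    Nat.card {a' : G // a' ∈ invSet c} = Nat.card (Subgroup.centralizer ({x} : Set G)) := by
  obtain ⟨hodd, hx1⟩ := odd_of_fpf_inverted h hx ha
  obtain ⟨hai, hinv⟩ := ha
  have hainv : a⁻¹ = a := hai.inv_eq
  obtain ⟨hi, hii, hiii, hiv⟩ := hSR a x hai.1 hx1 hodd hinv
  -- a ∉ M
  have haM : a ∉ Subgroup.centralizer ({x} : Set G) := by
    intro haM
    have hd : orderOf a ∣ Nat.card (Subgroup.centralizer ({x} : Set G)) := by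
      have := orderOf_dvd_natCard (⟨a, haM⟩ : Subgroup.centralizer ({x} : Set G))
      rwa [← Subgroup.orderOf_coe] at this
    exact hai.2 (eq_one_of_sq_of_odd hai.1 (Odd.of_dvd_nat hiii hd))
  symm
  apply Nat.card_congr
  have hmem : ∀ m : Subgroup.centralizer ({x} : Set G), (m : G) * a ∈ invSet c := by
    intro m
    have hm := hi m m.2
    refine ⟨⟨?_, ?_⟩, ?_⟩
    · calc (m : G) * a * ((m : G) * a) = (m : G) * (a * m * a⁻¹) * (a * a) := by group
        _ = 1 := by rw [hm, hai.1, mul_inv_cancel, one_mul]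
    · intro hh
      apply haM
      have : a = (m : G)⁻¹ := by
        calc a = (m : G)⁻¹ * ((m : G) * a) := by group
          _ = (m : G)⁻¹ := by rw [hh, mul_one]
      rw [this]
      exact (Subgroup.centralizer ({x} : Set G)).inv_mem m.2
    · have hcinv : c⁻¹ ∈ Subgroup.centralizer ({x} : Set G) :=
        (Subgroup.centralizer ({x} : Set G)).inv_mem hc
      calc (m : G) * a * c * ((m : G) * a)⁻¹ = (m : G) * (a * c * a⁻¹) * (m : G)⁻¹ := by group
        _ = (m : G) * c⁻¹ * (m : G)⁻¹ := by rw [hi c hc]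
        _ = c⁻¹ * (m : G) * (m : G)⁻¹ := by rw [hii m m.2 c⁻¹ hcinv]
        _ = c⁻¹ := by group
  refine Equiv.ofBijective (fun m => ⟨(m : G) * a, hmem m⟩) ⟨?_, ?_⟩
  · intro m m' hmm
    have : (m : G) * a = (m' : G) * a := congrArg Subtype.val hmm
    exact Subtype.ext (mul_right_cancel this)
  · rintro ⟨a', ha'i, ha'inv⟩
    have hcomm : a' * a⁻¹ ∈ Subgroup.centralizer ({c} : Set G) := by
      rw [Subgroup.mem_centralizer_singleton_iff]
      have e1 : a⁻¹ * c * a = c⁻¹ := by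
        have := hi c hc
        rw [hainv] at this ⊢
        exact this
      have e2 : a' * c⁻¹ * a'⁻¹ = c := by
        have e : a' * c⁻¹ * a'⁻¹ = (a' * c * a'⁻¹)⁻¹ := by group
        rw [e, ha'inv, inv_inv]
      calc a' * a⁻¹ * c = a' * (a⁻¹ * c * a) * a⁻¹ := by group
        _ = a' * c⁻¹ * a⁻¹ := by rw [e1]
        _ = (a' * c⁻¹ * a'⁻¹) * (a' * a⁻¹) := by group
        _ = c * (a' * a⁻¹) := by rw [e2]
    rw [hiv c hc hc1] at hcomm
    refine ⟨⟨a' * a⁻¹, hcomm⟩, ?_⟩
    apply Subtype.ext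
    show a' * a⁻¹ * a = a'
    group

end Cfsg.Agent.Lib.Helper2.TICE
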