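import Mathlib
import Cfsg.Agent.Lib.Helper5.TICE2
import Cfsg.Agent.Lib.Helper2.TICE_P6a

/-!
# S4064 Part E, piece P6dA: `M = C(x)` is a TI-subgroup with normalizer `N(M)`
-/

set_option autoImplicit false
set_option linter.style.haveILetI false

namespace Cfsg.Agent.Lib.Helper2.TICE

open Cfsg.Agent.Lib.Helper5.TICE

variable {G : Type*} [Group G] {Ω : Type*} [MulAction G Ω] {S T : Ω → Subgroup G} {q : ℕ}

theorem mem_normalizer_of_conj_mem [Finite G] [Finite Ω] (h : Resid S T q) (hSR : SRHyp G)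
    {x a : G} (hx : Fpf Ω x) (ha : a ∈ invSet x) (g : G) {c : G}
    (hc : c ∈ Subgroup.centralizer ({x} : Set G)) (hc1 : c ≠ 1)
    (hg : g * c * g⁻¹ ∈ Subgroup.centralizer ({x} : Set G)) :
    g ∈ Subgroup.normalizer ((Subgroup.centralizer ({x} : Set G) : Subgroup G) : Set G) := by
  obtain ⟨hodd, hx1⟩ := odd_of_fpf_inverted h hx ha
  obtain ⟨hai, hinv⟩ := ha
  obtain ⟨-, -, -, hiv⟩ := hSR a x hai.1 hx1 hodd hinv
  have hgc1 : g * c * g⁻¹ ≠ 1 := by
    intro hh
    apply hc1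
    calc c = g⁻¹ * (g * c * g⁻¹) * g := by group
      _ = 1 := by rw [hh]; group
  have e1 := hiv c hc hc1
  have e2 := hiv (g * c * g⁻¹) hg hgc1
  rw [Subgroup.mem_normalizer_iff]
  intro m
  constructor
  · intro hm
    rw [← e2, Subgroup.mem_centralizer_singleton_iff]
    rw [← e1, Subgroup.mem_centralizer_singleton_iff] at hm
    calc g * m * g⁻¹ * (g * c * g⁻¹) = g * (m * c) * g⁻¹ := by group
      _ = g * (c * m) * g⁻¹ := by rw [hm]
      _ = g * c * g⁻¹ * (g * m * g⁻¹) := by group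
  · intro hm
    rw [← e1, Subgroup.mem_centralizer_singleton_iff]
    rw [← e2, Subgroup.mem_centralizer_singleton_iff] at hm
    calc m * c = g⁻¹ * (g * m * g⁻¹ * (g * c * g⁻¹)) * g := by group
      _ = g⁻¹ * (g * c * g⁻¹ * (g * m * g⁻¹)) * g := by rw [hm]
      _ = c * m := by group

end Cfsg.Agent.Lib.Helper2.TICE
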