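import Mathlib
import Cfsg.Agent.Lib.Helper1.SZHelpers
import Cfsg.Agent.Lib.Helper1.FrattiniHall

set_option autoImplicit false

namespace Cfsg.Agent.Lib.Helper2

open Cfsg.Agent.Lib.Helper1
open scoped Pointwise

variable {G : Type*} [Group G]

/-- The trivial-intersection property for a Sylow subgroup, phrased for pairs of Sylow
subgroups. -/
theorem ti_pairwise_of_ti [Finite G] {p : ℕ} [Fact p.Prime] (P : Sylow p G)
    (hTI : ∀ g : G, g ∉ Subgroup.normalizer ((P : Subgroup G) : Set G) →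
      (P : Subgroup G) ⊓ (MulAut.conj g • (P : Subgroup G)) = ⊥)
    (R₁ R₂ : Sylow p G) (hne : R₁ ≠ R₂) : (R₁ : Subgroup G) ⊓ (R₂ : Subgroup G) = ⊥ := by
  obtain ⟨a, rfl⟩ := MulAction.exists_smul_eq G P R₁
  obtain ⟨b, rfl⟩ := MulAction.exists_smul_eq G P R₂
  have hg : a⁻¹ * b ∉ Subgroup.normalizer ((P : Subgroup G) : Set G) := by
    intro hg
    apply hne
    have := Sylow.smul_eq_iff_mem_normalizer.2 hg
    rw [mul_smul] at this
    nth_rewrite 1 [← this]
    rw [smul_inv_smul]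
  have h1 := hTI _ hg
  have h2 := congrArg (fun X : Subgroup G => MulAut.conj a • X) h1
  simp only [Subgroup.smul_inf, Subgroup.smul_bot, ← mul_smul, ← map_mul,
    mul_inv_cancel_left] at h2
  exact h2

theorem ti_of_ti_pairwise [Finite G] {p : ℕ} [Fact p.Prime]
    (h : ∀ R₁ R₂ : Sylow p G, R₁ ≠ R₂ → (R₁ : Subgroup G) ⊓ (R₂ : Subgroup G) = ⊥)
    (P : Sylow p G) (g : G) (hg : g ∉ Subgroup.normalizer ((P : Subgroup G) : Set G)) :
    (P : Subgroup G) ⊓ (MulAut.conj g • (P : Subgroup G)) = ⊥ := by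
  have hne : P ≠ g • P := by
    intro heq
    exact hg (Sylow.smul_eq_iff_mem_normalizer.1 heq.symm)
  exact h P (g • P) hne

end Cfsg.Agent.Lib.Helper2
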