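import Mathlib

set_option linter.style.haveILetI false

/-! (T) Part A for S3396: local structure of a finite group with TI Sylow 2-subgroups in which
centralizers of involutions are 2-groups. -/

namespace Cfsg.Agent.Lib.Helper2.TIZ

open MulAction

variable {G : Type*} [Group G]

theorem mem_smul_iff {g x : G} {P : Sylow 2 G} : x ∈ g • P ↔ g⁻¹ * x * g ∈ P := by
  have h : x ∈ ((g • P : Sylow 2 G) : Subgroup G) ↔ g⁻¹ * x * g ∈ (P : Subgroup G) := by
    rw [Sylow.coe_subgroup_smul, Subgroup.mem_pointwise_smul_iff_inv_smul_mem]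
    simp [MulAut.smul_def]
  exact h

theorem conj_mem_smul {g x : G} {P : Sylow 2 G} (hx : x ∈ P) : g * x * g⁻¹ ∈ g • P := by
  rw [mem_smul_iff]
  have : g⁻¹ * (g * x * g⁻¹) * g = x := by group
  rw [this]; exact hx

theorem isPGroup_zpowers_of_orderOf_two {x : G} (hx : orderOf x = 2) :
    IsPGroup 2 (Subgroup.zpowers x) := by
  apply IsPGroup.of_card (n := 1)
  rw [Nat.card_zpowers, hx, pow_one]

theorem sq_eq_one_of_orderOf_two {x : G} (hx : orderOf x = 2) : x * x = 1 := by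
  have := pow_orderOf_eq_one x
  rw [hx, pow_two] at this
  exact this

theorem inv_eq_self_of_orderOf_two {x : G} (hx : orderOf x = 2) : x⁻¹ = x :=
  inv_eq_of_mul_eq_one_right (sq_eq_one_of_orderOf_two hx)

theorem ne_one_of_orderOf_two {x : G} (hx : orderOf x = 2) : x ≠ 1 := by
  intro h
  rw [h, orderOf_one] at hx
  omega

theorem orderOf_two_of_sq {x : G} (h1 : x ≠ 1) (h2 : x * x = 1) : orderOf x = 2 := by
  haveI : Fact (Nat.Prime 2) := ⟨Nat.prime_two⟩
  exact orderOf_eq_prime (by rw [pow_two]; exact h2) h1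

/-- L1 -/
theorem eq_of_mem_mem (hTI : ∀ P Q : Sylow 2 G, P ≠ Q → (P : Subgroup G) ⊓ (Q : Subgroup G) = ⊥)
    {P Q : Sylow 2 G} {x : G} (hx1 : x ≠ 1) (hP : x ∈ P) (hQ : x ∈ Q) : P = Q := by
  by_contra hne
  have h := hTI P Q hne
  have hx : x ∈ (P : Subgroup G) ⊓ (Q : Subgroup G) := ⟨hP, hQ⟩
  rw [h, Subgroup.mem_bot] at hx
  exact hx1 hx

/-- L2 -/
theorem mem_of_smul_eq {P : Sylow 2 G} {x : G} (hx : IsPGroup 2 (Subgroup.zpowers x))
    (h : x • P = P) : x ∈ P := by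
  have hn : x ∈ Subgroup.normalizer ((P : Subgroup G) : Set G) := Sylow.smul_eq_iff_mem_normalizer.mp h
  have hle : Subgroup.zpowers x ≤ Subgroup.normalizer ((P : Subgroup G) : Set G) := by
    rw [Subgroup.zpowers_le]; exact hn
  have hp : IsPGroup 2 (Subgroup.zpowers x ⊔ (P : Subgroup G) : Subgroup G) :=
    IsPGroup.to_sup_of_normal_right' hx P.isPGroup' hle
  have heq := P.is_maximal' hp le_sup_right
  have : x ∈ (Subgroup.zpowers x ⊔ (P : Subgroup G) : Subgroup G) :=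
    (le_sup_left : Subgroup.zpowers x ≤ _) (Subgroup.mem_zpowers x)
  rw [heq] at this
  exact this

theorem mem_of_smul_eq_of_orderOf_two {P : Sylow 2 G} {x : G} (hx : orderOf x = 2)
    (h : x • P = P) : x ∈ P :=
  mem_of_smul_eq (isPGroup_zpowers_of_orderOf_two hx) h

theorem smul_eq_of_mem {P : Sylow 2 G} {x : G} (hx : x ∈ P) : x • P = P := by
  rw [Sylow.smul_eq_iff_mem_normalizer]
  exact Subgroup.le_normalizer hx

theorem exists_sylow_mem [Finite G] {x : G} (hx : orderOf x = 2) : ∃ R : Sylow 2 G, x ∈ R := by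
  haveI : Fact (Nat.Prime 2) := ⟨Nat.prime_two⟩
  obtain ⟨R, hR⟩ := (isPGroup_zpowers_of_orderOf_two hx).exists_le_sylow
  exact ⟨R, hR (Subgroup.mem_zpowers x)⟩

theorem smul_eq_of_conj_mem
    (hTI : ∀ P Q : Sylow 2 G, P ≠ Q → (P : Subgroup G) ⊓ (Q : Subgroup G) = ⊥)
    {P : Sylow 2 G} {g z : G} (hz1 : z ≠ 1) (hz : z ∈ P) (hgz : g * z * g⁻¹ ∈ P) : g • P = P := by
  have h1 : g * z * g⁻¹ ∈ g • P := conj_mem_smul hz
  have h2 : g * z * g⁻¹ ≠ 1 := by
    intro h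
    apply hz1
    have : z = g⁻¹ * (g * z * g⁻¹) * g := by group
    rw [this, h]; group
  exact eq_of_mem_mem hTI h2 h1 hgz

/-- an element of a 2-point stabilizer generating a 2-group is trivial -/
theorem eq_one_of_fix_two
    (hTI : ∀ P Q : Sylow 2 G, P ≠ Q → (P : Subgroup G) ⊓ (Q : Subgroup G) = ⊥)
    {P Q : Sylow 2 G} (hPQ : P ≠ Q) {x : G} (hx : IsPGroup 2 (Subgroup.zpowers x))
    (h1 : x • P = P) (h2 : x • Q = Q) : x = 1 := by
  by_contra hne
  exact hPQ (eq_of_mem_mem hTI hne (mem_of_smul_eq hx h1) (mem_of_smul_eq hx h2))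

theorem conj_pow_inv {t r : G} (h : t * r * t⁻¹ = r⁻¹) (j : ℕ) : t * r ^ j * t⁻¹ = (r ^ j)⁻¹ := by
  rw [← conj_pow, h, inv_pow]

/-- L4 (dihedral lemma): involutions in distinct Sylow 2-subgroups are swapped by an involution -/
theorem exists_swap [Finite G]
    (hTI : ∀ P Q : Sylow 2 G, P ≠ Q → (P : Subgroup G) ⊓ (Q : Subgroup G) = ⊥)
    {P Q : Sylow 2 G} (hPQ : P ≠ Q) {t u : G} (ht : orderOf t = 2) (htP : t ∈ P)
    (hu : orderOf u = 2) (huQ : u ∈ Q) : ∃ w : G, orderOf w = 2 ∧ w * t * w⁻¹ = u := by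
  have htt := sq_eq_one_of_orderOf_two ht
  have huu := sq_eq_one_of_orderOf_two hu
  have hti := inv_eq_self_of_orderOf_two ht
  have hui := inv_eq_self_of_orderOf_two hu
  have ht1 := ne_one_of_orderOf_two ht
  have hu1 := ne_one_of_orderOf_two hu
  obtain ⟨r, hr⟩ : ∃ r, r = t * u := ⟨_, rfl⟩
  have hri : r⁻¹ = u * t := by rw [hr, mul_inv_rev, hti, hui]
  have htr : t * r * t⁻¹ = r⁻¹ := by
    rw [hri, hr, hti]
    calc t * (t * u) * t = (t * t) * u * t := by group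
      _ = u * t := by rw [htt, one_mul]
  have hur : u * r * u⁻¹ = r⁻¹ := by
    rw [hri, hr, hui]
    calc u * (t * u) * u = u * t * (u * u) := by group
      _ = u * t := by rw [huu, mul_one]
  have hm0 : 0 < orderOf r := orderOf_pos r
  rcases Nat.even_or_odd (orderOf r) with hev | hodd
  · exfalso
    obtain ⟨k, hk⟩ := hev
    have hk0 : 0 < k := by omega
    obtain ⟨z, hz⟩ : ∃ z, z = r ^ k := ⟨_, rfl⟩
    have hz1 : z ≠ 1 := by
      rw [hz]; exact pow_ne_one_of_lt_orderOf (by omega) (by omega)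
    have hzz : z * z = 1 := by
      rw [hz, ← pow_add, ← hk]; exact pow_orderOf_eq_one r
    have hzo : orderOf z = 2 := orderOf_two_of_sq hz1 hzz
    have hzi : z⁻¹ = z := inv_eq_self_of_orderOf_two hzo
    have htz : t * z * t⁻¹ = z := by rw [hz, conj_pow_inv htr, ← hz, hzi]
    have huz : u * z * u⁻¹ = z := by rw [hz, conj_pow_inv hur, ← hz, hzi]
    obtain ⟨R, hzR⟩ := exists_sylow_mem hzo
    have h1 : t • R = R := smul_eq_of_conj_mem hTI hz1 hzR (by rw [htz]; exact hzR)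
    have h2 : u • R = R := smul_eq_of_conj_mem hTI hz1 hzR (by rw [huz]; exact hzR)
    have h3 : t ∈ R := mem_of_smul_eq_of_orderOf_two ht h1
    have h4 : u ∈ R := mem_of_smul_eq_of_orderOf_two hu h2
    have h5 : R = P := eq_of_mem_mem hTI ht1 h3 htP
    have h6 : R = Q := eq_of_mem_mem hTI hu1 h4 huQ
    exact hPQ (h5.symm.trans h6)
  · obtain ⟨k, hk⟩ := hodd
    obtain ⟨y, hy⟩ : ∃ y, y = r ^ (k + 1) := ⟨_, rfl⟩
    have hyy : y * y = r := by
      rw [hy, ← pow_add]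
      have : k + 1 + (k + 1) = orderOf r + 1 := by omega
      rw [this, pow_succ, pow_orderOf_eq_one, one_mul]
    have hty : t * y * t⁻¹ = y⁻¹ := by rw [hy, conj_pow_inv htr]
    have hty' : t * y * t = y⁻¹ := by rw [← hty, hti]
    have hconj : (t * y) * t * (t * y)⁻¹ = u := by
      have e1 : (t * y) * t * (t * y)⁻¹ = (t * y * t) * y⁻¹ * t⁻¹ := by group
      rw [e1, hty']
      have e2 : y⁻¹ * y⁻¹ * t⁻¹ = (t * (y * y))⁻¹ := by group
      rw [e2, hyy, hr]
      have e3 : t * (t * u) = (t * t) * u := by group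
      rw [e3, htt, one_mul, hui]
    have hw1 : t * y ≠ 1 := by
      intro h
      rw [h] at hconj
      have htu : t = u := by simpa using hconj
      exact hPQ (eq_of_mem_mem hTI ht1 htP (htu ▸ huQ))
    have hww : (t * y) * (t * y) = 1 := by
      have e1 : (t * y) * (t * y) = (t * y * t) * y := by group
      rw [e1, hty', inv_mul_cancel]
    exact ⟨t * y, orderOf_two_of_sq hw1 hww, hconj⟩

/-- conjugating by an involution that maps `P` to `Q` maps `Q` back to `P` -/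
theorem swap_back {P Q : Sylow 2 G} {w : G} (hw : orderOf w = 2) (h : w • P = Q) : w • Q = P := by
  rw [← h, smul_smul, sq_eq_one_of_orderOf_two hw, one_smul]

theorem smul_eq_of_conj_mem_mem
    (hTI : ∀ P Q : Sylow 2 G, P ≠ Q → (P : Subgroup G) ⊓ (Q : Subgroup G) = ⊥)
    {P Q : Sylow 2 G} {g t : G} (ht1 : t ≠ 1) (ht : t ∈ P) (hgt : g * t * g⁻¹ ∈ Q) : g • P = Q := by
  have h1 : g * t * g⁻¹ ∈ g • P := conj_mem_smul ht
  have h2 : g * t * g⁻¹ ≠ 1 := by
    intro h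
    apply ht1
    have : t = g⁻¹ * (g * t * g⁻¹) * g := by group
    rw [this, h]; group
  exact eq_of_mem_mem hTI h2 h1 hgt

theorem orderOf_conj_eq (g t : G) : orderOf (g * t * g⁻¹) = orderOf t := by
  have := (MulAut.conj g).orderOf_eq t
  simpa using this

/-- L6 -/
theorem card_inv_eq [Finite G] (P Q : Sylow 2 G) :
    Nat.card {t : G // t ∈ P ∧ orderOf t = 2} = Nat.card {t : G // t ∈ Q ∧ orderOf t = 2} := by
  haveI : Fact (Nat.Prime 2) := ⟨Nat.prime_two⟩
  obtain ⟨g, hg⟩ := MulAction.exists_smul_eq G P Q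
  apply Nat.card_congr
  refine (MulAut.conj g).toEquiv.subtypeEquiv ?_
  intro t
  simp only [MulEquiv.toEquiv_eq_coe, MulEquiv.coe_toEquiv, MulAut.conj_apply]
  rw [← hg, mem_smul_iff, orderOf_conj_eq]
  have : g⁻¹ * (g * t * g⁻¹) * g = t := by group
  rw [this]

theorem exists_pow_orderOf_two [Finite G] {s : G} (hs : IsPGroup 2 (Subgroup.zpowers s))
    (hs1 : s ≠ 1) : ∃ n : ℕ, orderOf (s ^ n) = 2 := by
  haveI : Fact (Nat.Prime 2) := ⟨Nat.prime_two⟩
  obtain ⟨k, hk⟩ := IsPGroup.iff_card.mp hs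
  rw [Nat.card_zpowers] at hk
  have hk0 : k ≠ 0 := by
    intro h
    rw [h, pow_zero, orderOf_eq_one_iff] at hk
    exact hs1 hk
  obtain ⟨j, rfl⟩ := Nat.exists_eq_succ_of_ne_zero hk0
  refine ⟨2 ^ j, ?_⟩
  rw [orderOf_pow_of_dvd (by positivity) (by rw [hk]; exact pow_dvd_pow 2 (Nat.le_succ j)), hk,
    pow_succ, Nat.mul_div_cancel_left _ (by positivity)]

theorem exists_invol_of_mem [Finite G] {P : Sylow 2 G} {x : G} (hx : x ∈ P) (hx1 : x ≠ 1) :
    ∃ t : G, t ∈ P ∧ orderOf t = 2 := by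
  have h1 : IsPGroup 2 (Subgroup.zpowers x) :=
    P.isPGroup'.to_le (by rw [Subgroup.zpowers_le]; exact hx)
  obtain ⟨n, hn⟩ := exists_pow_orderOf_two h1 hx1
  exact ⟨x ^ n, pow_mem hx n, hn⟩

theorem exists_invol_of_ne [Finite G] {P Q : Sylow 2 G} (hPQ : P ≠ Q) :
    ∃ t : G, t ∈ P ∧ orderOf t = 2 := by
  have h1 : ¬ (P : Subgroup G) ≤ Q := by
    intro hle
    exact hPQ (Sylow.ext (P.is_maximal' Q.isPGroup' hle).symm)
  obtain ⟨x, hxP, hxQ⟩ := SetLike.not_le_iff_exists.mp h1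
  have hx1 : x ≠ 1 := by
    intro h; rw [h] at hxQ; exact hxQ (one_mem _)
  exact exists_invol_of_mem hxP hx1

theorem isPGroup_zpowers_of_commute
    (hCIT : ∀ t : G, orderOf t = 2 → IsPGroup 2 (Subgroup.centralizer ({t} : Set G)))
    {t c : G} (ht : orderOf t = 2) (hc : c * t = t * c) : IsPGroup 2 (Subgroup.zpowers c) := by
  apply (hCIT t ht).to_le
  rw [Subgroup.zpowers_le, Subgroup.mem_centralizer_singleton_iff]
  exact hc

theorem swaps_quot {P Q : Sylow 2 G} {w w' : G} (hw : orderOf w = 2) (hwP : w • P = Q)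
    (hw' : orderOf w' = 2) (hwP' : w' • P = Q) :
    (w'⁻¹ * w) • P = P ∧ (w'⁻¹ * w) • Q = Q := by
  constructor
  · rw [mul_smul, hwP, inv_smul_eq_iff, hwP']
  · rw [mul_smul, swap_back hw hwP, inv_eq_self_of_orderOf_two hw', hwP']

/-- L7 -/
theorem card_swap [Finite G]
    (hCIT : ∀ t : G, orderOf t = 2 → IsPGroup 2 (Subgroup.centralizer ({t} : Set G)))
    (hTI : ∀ P Q : Sylow 2 G, P ≠ Q → (P : Subgroup G) ⊓ (Q : Subgroup G) = ⊥)
    {P Q : Sylow 2 G} (hPQ : P ≠ Q) :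
    Nat.card {w : G // orderOf w = 2 ∧ w • P = Q} = Nat.card {t : G // t ∈ Q ∧ orderOf t = 2} := by
  obtain ⟨t, htP, ht⟩ := exists_invol_of_ne hPQ
  have ht1 := ne_one_of_orderOf_two ht
  let f : {w : G // orderOf w = 2 ∧ w • P = Q} → {t : G // t ∈ Q ∧ orderOf t = 2} :=
    fun w => ⟨w.1 * t * w.1⁻¹, by
      have := conj_mem_smul (g := w.1) htP
      rw [w.2.2] at this
      exact this, by rw [orderOf_conj_eq]; exact ht⟩
  apply Nat.card_eq_of_bijective f
  constructor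
  · rintro ⟨w, hw, hwP⟩ ⟨w', hw', hwP'⟩ h
    have h' : w * t * w⁻¹ = w' * t * w'⁻¹ := congrArg Subtype.val h
    obtain ⟨c, hc⟩ : ∃ c, c = w'⁻¹ * w := ⟨_, rfl⟩
    have hct : c * t = t * c := by
      have e1 : c * t = w'⁻¹ * (w * t * w⁻¹) * w := by rw [hc]; group
      rw [e1, h', hc]; group
    have hc2 := isPGroup_zpowers_of_commute hCIT ht hct
    obtain ⟨h1, h2⟩ := swaps_quot hw hwP hw' hwP'
    rw [← hc] at h1 h2
    have hc1 := eq_one_of_fix_two hTI hPQ hc2 h1 h2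
    rw [hc1] at hc
    have : w = w' := by
      have : w = w' * (w'⁻¹ * w) := by group
      rw [this, ← hc, mul_one]
    exact Subtype.ext this
  · rintro ⟨u, huQ, hu⟩
    obtain ⟨w, hw, hwt⟩ := exists_swap hTI hPQ ht htP hu huQ
    have hwP : w • P = Q := smul_eq_of_conj_mem_mem hTI ht1 htP (by rw [hwt]; exact huQ)
    exact ⟨⟨w, hw, hwP⟩, Subtype.ext hwt⟩

/-- L8, first half: every involution swapping `P` and `Q` inverts the two-point stabilizer -/
theorem swap_inverts [Finite G]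
    (hCIT : ∀ t : G, orderOf t = 2 → IsPGroup 2 (Subgroup.centralizer ({t} : Set G)))
    (hTI : ∀ P Q : Sylow 2 G, P ≠ Q → (P : Subgroup G) ⊓ (Q : Subgroup G) = ⊥)
    {P Q : Sylow 2 G} (hPQ : P ≠ Q) {w : G} (hw : orderOf w = 2) (hwP : w • P = Q) :
    ∀ d ∈ stabilizer G P ⊓ stabilizer G Q, w * d * w⁻¹ = d⁻¹ := by
  have hwQ := swap_back hw hwP
  have hwi := inv_eq_self_of_orderOf_two hw
  have hww := sq_eq_one_of_orderOf_two hw
  have hnorm : ∀ d ∈ stabilizer G P ⊓ stabilizer G Q, w * d * w⁻¹ ∈ stabilizer G P ⊓ stabilizer G Q := by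
    intro d hd
    obtain ⟨h1, h2⟩ := Subgroup.mem_inf.mp hd
    rw [mem_stabilizer_iff] at h1 h2
    apply Subgroup.mem_inf.mpr
    constructor
    · rw [mem_stabilizer_iff, mul_smul, mul_smul, hwi, hwP, h2, hwQ]
    · rw [mem_stabilizer_iff, mul_smul, mul_smul, hwi, hwQ, h1, hwP]
  let φ : ↥(stabilizer G P ⊓ stabilizer G Q) → ↥(stabilizer G P ⊓ stabilizer G Q) :=
    fun d => ⟨d.1⁻¹ * (w * d.1 * w⁻¹), mul_mem (inv_mem d.2) (hnorm d.1 d.2)⟩
  have hinj : Function.Injective φ := by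
    rintro ⟨d, hd⟩ ⟨e, he⟩ h
    have h' : d⁻¹ * (w * d * w⁻¹) = e⁻¹ * (w * e * w⁻¹) := congrArg Subtype.val h
    obtain ⟨c, hc⟩ : ∃ c, c = d * e⁻¹ := ⟨_, rfl⟩
    have hcw : c * w = w * c := by
      have e1 : w * c = d * (d⁻¹ * (w * d * w⁻¹)) * w * e⁻¹ := by rw [hc]; group
      rw [e1, h', hc]; group
    have hc2 := isPGroup_zpowers_of_commute hCIT hw hcw
    have hcD : c ∈ stabilizer G P ⊓ stabilizer G Q := by rw [hc]; exact mul_mem hd (inv_mem he)
    have hc1 := eq_one_of_fix_two hTI hPQ hc2 (mem_stabilizer_iff.mp (Subgroup.mem_inf.mp hcD).1)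
      (mem_stabilizer_iff.mp (Subgroup.mem_inf.mp hcD).2)
    rw [hc1] at hc
    apply Subtype.ext
    have : d = (d * e⁻¹) * e := by group
    change d = e
    rw [this, ← hc, one_mul]
  have hsurj : Function.Surjective φ := Finite.injective_iff_surjective.mp hinj
  intro d hd
  obtain ⟨⟨e, he⟩, hed⟩ := hsurj ⟨d, hd⟩
  have hed' : e⁻¹ * (w * e * w⁻¹) = d := congrArg Subtype.val hed
  rw [← hed', hwi]
  have e1 : w * (e⁻¹ * (w * e * w)) * w = (w * e⁻¹ * w) * e * (w * w) := by group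
  have e2 : (e⁻¹ * (w * e * w))⁻¹ = (w * w)⁻¹ * (w * e⁻¹ * w) * e * (w * w)⁻¹ := by
    rw [hww]; simp only [inv_one, one_mul, mul_one, mul_inv_rev, inv_inv, hwi]; group
  rw [e1, e2, hww]; simp

/-- L8, second half: the two-point stabilizer has as many elements as there are swapping
involutions -/
theorem card_D [Finite G]
    (hCIT : ∀ t : G, orderOf t = 2 → IsPGroup 2 (Subgroup.centralizer ({t} : Set G)))
    (hTI : ∀ P Q : Sylow 2 G, P ≠ Q → (P : Subgroup G) ⊓ (Q : Subgroup G) = ⊥)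
    {P Q : Sylow 2 G} (hPQ : P ≠ Q) :
    Nat.card ↥(stabilizer G P ⊓ stabilizer G Q) = Nat.card {w : G // orderOf w = 2 ∧ w • P = Q} := by
  obtain ⟨t, htP, ht⟩ := exists_invol_of_ne hPQ
  obtain ⟨u, huQ, hu⟩ := exists_invol_of_ne (Ne.symm hPQ)
  have ht1 := ne_one_of_orderOf_two ht
  obtain ⟨w, hw, hwt⟩ := exists_swap hTI hPQ ht htP hu huQ
  have hwP : w • P = Q := smul_eq_of_conj_mem_mem hTI ht1 htP (by rw [hwt]; exact huQ)
  have hwi := inv_eq_self_of_orderOf_two hw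
  have hinv := swap_inverts hCIT hTI hPQ hw hwP
  let f : ↥(stabilizer G P ⊓ stabilizer G Q) → {w : G // orderOf w = 2 ∧ w • P = Q} :=
    fun d => ⟨w * d.1, by
      have hdP : d.1 • P = P := mem_stabilizer_iff.mp (Subgroup.mem_inf.mp d.2).1
      have hP : (w * d.1) • P = Q := by rw [mul_smul, hdP, hwP]
      refine ⟨?_, hP⟩
      apply orderOf_two_of_sq
      · intro h
        rw [h, one_smul] at hP
        exact hPQ hP
      · have e1 : w * d.1 * (w * d.1) = (w * d.1 * w⁻¹) * d.1 := by rw [hwi]; group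
        rw [e1, hinv d.1 d.2, inv_mul_cancel]⟩
  apply Nat.card_eq_of_bijective f
  constructor
  · rintro ⟨d, hd⟩ ⟨e, he⟩ h
    have h' : w * d = w * e := congrArg Subtype.val h
    exact Subtype.ext (mul_left_cancel h')
  · rintro ⟨w', hw', hwP'⟩
    obtain ⟨h1, h2⟩ := swaps_quot hw' hwP' hw hwP
    refine ⟨⟨w⁻¹ * w', Subgroup.mem_inf.mpr ⟨mem_stabilizer_iff.mpr h1, mem_stabilizer_iff.mpr h2⟩⟩, ?_⟩
    apply Subtype.ext
    change w * (w⁻¹ * w') = w'
    group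

end Cfsg.Agent.Lib.Helper2.TIZ
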