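import Mathlib
import Cfsg.Agent.Lib.Helper2.TIZA

set_option linter.style.haveILetI false

/-! (T) Part A for S3396, L9-L12: structure of the normalizer of a Sylow 2-subgroup. -/

namespace Cfsg.Agent.Lib.Helper2.TIZ

open MulAction

variable {G : Type*} [Group G]

/-- L9a: the normalizer of `P` is transitive on the involutions of `P`. -/
theorem exists_fix_conj [Finite G]
    (hTI : ∀ P Q : Sylow 2 G, P ≠ Q → (P : Subgroup G) ⊓ (Q : Subgroup G) = ⊥)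
    {P Q : Sylow 2 G} (hPQ : P ≠ Q) {t t' : G} (ht : orderOf t = 2) (htP : t ∈ P)
    (ht' : orderOf t' = 2) (htP' : t' ∈ P) : ∃ g : G, g • P = P ∧ g * t * g⁻¹ = t' := by
  obtain ⟨u, huQ, hu⟩ := exists_invol_of_ne (Ne.symm hPQ)
  obtain ⟨w, _, hwt⟩ := exists_swap hTI hPQ ht htP hu huQ
  obtain ⟨w', _, hwt'⟩ := exists_swap hTI (Ne.symm hPQ) hu huQ ht' htP'
  have hg : (w' * w) * t * (w' * w)⁻¹ = t' := by
    have e1 : (w' * w) * t * (w' * w)⁻¹ = w' * (w * t * w⁻¹) * w'⁻¹ := by group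
    rw [e1, hwt, hwt']
  exact ⟨w' * w, smul_eq_of_conj_mem hTI (ne_one_of_orderOf_two ht) htP (by rw [hg]; exact htP'), hg⟩

/-- L9b: every involution of `P` is central in `P`. -/
theorem invol_central [Finite G]
    (hTI : ∀ P Q : Sylow 2 G, P ≠ Q → (P : Subgroup G) ⊓ (Q : Subgroup G) = ⊥)
    {P Q : Sylow 2 G} (hPQ : P ≠ Q) {t : G} (ht : orderOf t = 2) (htP : t ∈ P) :
    ∀ s ∈ P, s * t = t * s := by
  haveI : Fact (Nat.Prime 2) := ⟨Nat.prime_two⟩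
  -- a central involution
  obtain ⟨t0, ht0P, ht0⟩ := exists_invol_of_ne hPQ
  haveI : Nontrivial ↥(P : Subgroup G) :=
    ⟨⟨⟨t0, ht0P⟩, 1, fun h => ne_one_of_orderOf_two ht0 (congrArg Subtype.val h)⟩⟩
  haveI := P.isPGroup'.center_nontrivial
  obtain ⟨⟨z, hzc⟩, hz1⟩ := exists_ne (1 : Subgroup.center ↥(P : Subgroup G))
  have hzc' : ∀ s : ↥(P : Subgroup G), s * z = z * s := fun s => Subgroup.mem_center_iff.mp hzc s
  have hzG1 : (z : G) ≠ 1 := by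
    intro h
    apply hz1
    apply Subtype.ext
    apply Subtype.ext
    exact h
  have hzcG : ∀ s ∈ P, s * (z : G) = (z : G) * s := by
    intro s hs
    exact congrArg Subtype.val (hzc' ⟨s, hs⟩)
  have hz2 : IsPGroup 2 (Subgroup.zpowers (z : G)) :=
    P.isPGroup'.to_le (by rw [Subgroup.zpowers_le]; exact z.2)
  obtain ⟨n, hn⟩ := exists_pow_orderOf_two hz2 hzG1
  have hznP : (z : G) ^ n ∈ P := pow_mem z.2 n
  have hznc : ∀ s ∈ P, s * (z : G) ^ n = (z : G) ^ n * s := by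
    intro s hs
    exact ((Commute.pow_right (hzcG s hs) n) : _)
  obtain ⟨g, hgP, hgz⟩ := exists_fix_conj hTI hPQ hn hznP ht htP
  intro s hs
  have hs' : g⁻¹ * s * g ∈ P := by
    have : s ∈ g • P := by rw [hgP]; exact hs
    exact mem_smul_iff.mp this
  have h1 := hznc _ hs'
  rw [← hgz]
  have e1 : s * (g * (z : G) ^ n * g⁻¹) = g * ((g⁻¹ * s * g) * (z : G) ^ n) * g⁻¹ := by group
  rw [e1, h1]; group

/-- L9c: the centralizer of an involution of `P` is `P`. -/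
theorem mem_of_commute_invol [Finite G]
    (hCIT : ∀ t : G, orderOf t = 2 → IsPGroup 2 (Subgroup.centralizer ({t} : Set G)))
    (hTI : ∀ P Q : Sylow 2 G, P ≠ Q → (P : Subgroup G) ⊓ (Q : Subgroup G) = ⊥)
    {P Q : Sylow 2 G} (hPQ : P ≠ Q) {t : G} (ht : orderOf t = 2) (htP : t ∈ P)
    {c : G} (hc : c * t = t * c) : c ∈ P := by
  have hle : (P : Subgroup G) ≤ Subgroup.centralizer ({t} : Set G) := by
    intro s hs
    rw [Subgroup.mem_centralizer_singleton_iff]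
    exact invol_central hTI hPQ ht htP s hs
  have heq := P.is_maximal' (hCIT t ht) hle
  have : c ∈ Subgroup.centralizer ({t} : Set G) := by
    rw [Subgroup.mem_centralizer_singleton_iff]; exact hc
  rw [heq] at this
  exact this

/-- L9d: `|N(P)| = |P| * i`. -/
theorem card_stabilizer [Finite G]
    (hCIT : ∀ t : G, orderOf t = 2 → IsPGroup 2 (Subgroup.centralizer ({t} : Set G)))
    (hTI : ∀ P Q : Sylow 2 G, P ≠ Q → (P : Subgroup G) ⊓ (Q : Subgroup G) = ⊥)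
    {P Q : Sylow 2 G} (hPQ : P ≠ Q) :
    Nat.card ↥(stabilizer G P) =
      Nat.card {t : G // t ∈ P ∧ orderOf t = 2} * Nat.card ↥(P : Subgroup G) := by
  obtain ⟨t, htP, ht⟩ := exists_invol_of_ne hPQ
  have hsec : ∀ u : {t : G // t ∈ P ∧ orderOf t = 2}, ∃ g : G, g • P = P ∧ g * t * g⁻¹ = u.1 :=
    fun u => exists_fix_conj hTI hPQ ht htP u.2.2 u.2.1
  choose σ hσP hσt using hsec
  rw [← Nat.card_prod]
  symm
  let f : {t : G // t ∈ P ∧ orderOf t = 2} × ↥(P : Subgroup G) → ↥(stabilizer G P) :=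
    fun x => ⟨σ x.1 * x.2.1, by
      rw [mem_stabilizer_iff, mul_smul, smul_eq_of_mem x.2.2, hσP]⟩
  apply Nat.card_eq_of_bijective f
  have hkey : ∀ (u : {t : G // t ∈ P ∧ orderOf t = 2}) (s : G), s ∈ P →
      (σ u * s) * t * (σ u * s)⁻¹ = u.1 := by
    intro u s hs
    have h1 := invol_central hTI hPQ ht htP s hs
    have e1 : (σ u * s) * t * (σ u * s)⁻¹ = σ u * (s * t) * s⁻¹ * (σ u)⁻¹ := by group
    rw [e1, h1]
    have e2 : σ u * (t * s) * s⁻¹ * (σ u)⁻¹ = σ u * t * (σ u)⁻¹ := by group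
    rw [e2, hσt]
  constructor
  · rintro ⟨u, ⟨s, hs⟩⟩ ⟨u', ⟨s', hs'⟩⟩ h
    have h' : σ u * s = σ u' * s' := congrArg Subtype.val h
    have hu : u = u' := by
      apply Subtype.ext
      rw [← hkey u s hs, ← hkey u' s' hs', h']
    subst hu
    have : s = s' := mul_left_cancel h'
    subst this
    rfl
  · rintro ⟨g, hg⟩
    rw [mem_stabilizer_iff] at hg
    have hu : g * t * g⁻¹ ∈ P ∧ orderOf (g * t * g⁻¹) = 2 := by
      refine ⟨?_, by rw [orderOf_conj_eq]; exact ht⟩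
      have := conj_mem_smul (g := g) htP
      rw [hg] at this
      exact this
    obtain ⟨a, ha⟩ : ∃ a, a = σ ⟨g * t * g⁻¹, hu⟩ := ⟨_, rfl⟩
    have h1 : a * t * a⁻¹ = g * t * g⁻¹ := by rw [ha]; exact hσt ⟨g * t * g⁻¹, hu⟩
    obtain ⟨s, hs⟩ : ∃ s, s = a⁻¹ * g := ⟨_, rfl⟩
    have hst : s * t = t * s := by
      rw [hs]
      have e1 : a⁻¹ * g * t = a⁻¹ * (g * t * g⁻¹) * g := by group
      rw [e1, ← h1]; group
    have hsP : s ∈ P := mem_of_commute_invol hCIT hTI hPQ ht htP hst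
    refine ⟨⟨⟨g * t * g⁻¹, hu⟩, ⟨s, hsP⟩⟩, ?_⟩
    apply Subtype.ext
    change σ ⟨g * t * g⁻¹, hu⟩ * s = g
    rw [← ha, hs]; group

theorem mem_D_iff {P Q : Sylow 2 G} {d : G} :
    d ∈ stabilizer G P ⊓ stabilizer G Q ↔ d • P = P ∧ d • Q = Q := by
  rw [Subgroup.mem_inf, mem_stabilizer_iff, mem_stabilizer_iff]

theorem isPGroup_zpowers_of_mem {P : Sylow 2 G} {s : G} (hs : s ∈ P) :
    IsPGroup 2 (Subgroup.zpowers s) :=
  P.isPGroup'.to_le (by rw [Subgroup.zpowers_le]; exact hs)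

/-- L10: `N(P) = P * D(P,Q)`. -/
theorem exists_mul_of_fix [Finite G]
    (hCIT : ∀ t : G, orderOf t = 2 → IsPGroup 2 (Subgroup.centralizer ({t} : Set G)))
    (hTI : ∀ P Q : Sylow 2 G, P ≠ Q → (P : Subgroup G) ⊓ (Q : Subgroup G) = ⊥)
    {P Q : Sylow 2 G} (hPQ : P ≠ Q) {x : G} (hx : x • P = P) :
    ∃ s k : G, s ∈ P ∧ k • P = P ∧ k • Q = Q ∧ x = s * k := by
  let f : ↥(P : Subgroup G) × ↥(stabilizer G P ⊓ stabilizer G Q) → ↥(stabilizer G P) :=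
    fun y => ⟨y.1.1 * y.2.1, by
      rw [mem_stabilizer_iff, mul_smul, (mem_D_iff.mp y.2.2).1, smul_eq_of_mem y.1.2]⟩
  have hinj : Function.Injective f := by
    rintro ⟨⟨s, hs⟩, ⟨k, hk⟩⟩ ⟨⟨s', hs'⟩, ⟨k', hk'⟩⟩ h
    have h' : s * k = s' * k' := congrArg Subtype.val h
    obtain ⟨c, hc⟩ : ∃ c, c = s'⁻¹ * s := ⟨_, rfl⟩
    have hc' : c = k' * k⁻¹ := by
      rw [hc]
      have : s'⁻¹ * s = s'⁻¹ * (s * k) * k⁻¹ := by group
      rw [this, h']; group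
    have hcP : c ∈ P := by rw [hc]; exact mul_mem (inv_mem hs') hs
    have hcD : c ∈ stabilizer G P ⊓ stabilizer G Q := by rw [hc']; exact mul_mem hk' (inv_mem hk)
    have hc1 := eq_one_of_fix_two hTI hPQ (isPGroup_zpowers_of_mem hcP) (mem_D_iff.mp hcD).1
      (mem_D_iff.mp hcD).2
    have e1 : s = s' := by
      have : s = s' * (s'⁻¹ * s) := by group
      rw [this, ← hc, hc1, mul_one]
    have e2 : k = k' := by
      have : k' = (k' * k⁻¹) * k := by group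
      rw [this, ← hc', hc1, one_mul]
    subst e1; subst e2; rfl
  have hcard : Nat.card ↥(stabilizer G P) ≤
      Nat.card (↥(P : Subgroup G) × ↥(stabilizer G P ⊓ stabilizer G Q)) := by
    rw [Nat.card_prod, card_stabilizer hCIT hTI hPQ, card_D hCIT hTI hPQ, card_swap hCIT hTI hPQ,
      card_inv_eq Q P, mul_comm]
  have hbij := hinj.bijective_of_nat_card_le hcard
  obtain ⟨⟨⟨s, hs⟩, ⟨k, hk⟩⟩, hsk⟩ := hbij.2 ⟨x, mem_stabilizer_iff.mpr hx⟩
  exact ⟨s, k, hs, (mem_D_iff.mp hk).1, (mem_D_iff.mp hk).2, (congrArg Subtype.val hsk).symm⟩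

/-- L10b: a nontrivial element of `D(P,Q)` commutes with no nontrivial element of `P`. -/
theorem eq_one_of_commute_of_mem [Finite G]
    (hCIT : ∀ t : G, orderOf t = 2 → IsPGroup 2 (Subgroup.centralizer ({t} : Set G)))
    (hTI : ∀ P Q : Sylow 2 G, P ≠ Q → (P : Subgroup G) ⊓ (Q : Subgroup G) = ⊥)
    {P Q : Sylow 2 G} (hPQ : P ≠ Q) {k s : G} (hkP : k • P = P) (hkQ : k • Q = Q)
    (hs : s ∈ P) (hs1 : s ≠ 1) (hks : k * s = s * k) : k = 1 := by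
  obtain ⟨n, hn⟩ := exists_pow_orderOf_two (isPGroup_zpowers_of_mem hs) hs1
  have hkt : k * s ^ n = s ^ n * k := Commute.pow_right hks n
  have hkP' : k ∈ P := mem_of_commute_invol hCIT hTI hPQ hn (pow_mem hs n) hkt
  exact eq_one_of_fix_two hTI hPQ (isPGroup_zpowers_of_mem hkP') hkP hkQ

/-- L8c: `D(P,Q)` is abelian. -/
theorem D_comm [Finite G]
    (hCIT : ∀ t : G, orderOf t = 2 → IsPGroup 2 (Subgroup.centralizer ({t} : Set G)))
    (hTI : ∀ P Q : Sylow 2 G, P ≠ Q → (P : Subgroup G) ⊓ (Q : Subgroup G) = ⊥)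
    {P Q : Sylow 2 G} (hPQ : P ≠ Q) {a b : G} (ha : a ∈ stabilizer G P ⊓ stabilizer G Q)
    (hb : b ∈ stabilizer G P ⊓ stabilizer G Q) : a * b = b * a := by
  obtain ⟨t, htP, ht⟩ := exists_invol_of_ne hPQ
  obtain ⟨u, huQ, hu⟩ := exists_invol_of_ne (Ne.symm hPQ)
  obtain ⟨w, hw, hwt⟩ := exists_swap hTI hPQ ht htP hu huQ
  have hwP : w • P = Q :=
    smul_eq_of_conj_mem_mem hTI (ne_one_of_orderOf_two ht) htP (by rw [hwt]; exact huQ)
  have hinv := swap_inverts hCIT hTI hPQ hw hwP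
  have h1 := hinv a ha
  have h2 := hinv b hb
  have h3 := hinv (a * b) (mul_mem ha hb)
  have e1 : w * (a * b) * w⁻¹ = (w * a * w⁻¹) * (w * b * w⁻¹) := by group
  rw [e1, h1, h2, mul_inv_rev] at h3
  have : (a * b)⁻¹ = (b * a)⁻¹ := by rw [mul_inv_rev, mul_inv_rev]; exact h3.symm
  exact inv_injective this

/-- L11a: the centralizer in `N(P)` of a nontrivial element of `D(P,Q)` is `D(P,Q)`. -/
theorem fix_of_commute [Finite G]
    (hCIT : ∀ t : G, orderOf t = 2 → IsPGroup 2 (Subgroup.centralizer ({t} : Set G)))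
    (hTI : ∀ P Q : Sylow 2 G, P ≠ Q → (P : Subgroup G) ⊓ (Q : Subgroup G) = ⊥)
    {P Q : Sylow 2 G} (hPQ : P ≠ Q) {k x : G} (hk1 : k ≠ 1) (hkP : k • P = P) (hkQ : k • Q = Q)
    (hx : x • P = P) (hxk : x * k = k * x) : x • Q = Q := by
  obtain ⟨s, k', hs, hk'P, hk'Q, hxs⟩ := exists_mul_of_fix hCIT hTI hPQ hx
  have hkD : k ∈ stabilizer G P ⊓ stabilizer G Q := mem_D_iff.mpr ⟨hkP, hkQ⟩
  have hk'D : k' ∈ stabilizer G P ⊓ stabilizer G Q := mem_D_iff.mpr ⟨hk'P, hk'Q⟩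
  have hkk' : Commute k k' := D_comm hCIT hTI hPQ hkD hk'D
  have hkx : Commute k x := hxk.symm
  have hs' : s = x * k'⁻¹ := by rw [hxs]; group
  have hsk : k * s = s * k := by
    rw [hs']; exact hkx.mul_right hkk'.inv_right
  by_cases hs1 : s = 1
  · rw [hxs, hs1, one_mul]; exact hk'Q
  · exact absurd (eq_one_of_commute_of_mem hCIT hTI hPQ hkP hkQ hs hs1 hsk) hk1

/-- L11b: `D(P,Q)` is self-normalizing in `N(P)` (when nontrivial). -/
theorem fix_of_normalizes [Finite G]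
    (hCIT : ∀ t : G, orderOf t = 2 → IsPGroup 2 (Subgroup.centralizer ({t} : Set G)))
    (hTI : ∀ P Q : Sylow 2 G, P ≠ Q → (P : Subgroup G) ⊓ (Q : Subgroup G) = ⊥)
    {P Q : Sylow 2 G} (hPQ : P ≠ Q) (hD : ∃ d : G, d ≠ 1 ∧ d • P = P ∧ d • Q = Q)
    {x : G} (hx : x • P = P)
    (hxn : ∀ d ∈ stabilizer G P ⊓ stabilizer G Q,
      x * d * x⁻¹ ∈ stabilizer G P ⊓ stabilizer G Q) : x • Q = Q := by
  obtain ⟨s, k', hs, hk'P, hk'Q, hxs⟩ := exists_mul_of_fix hCIT hTI hPQ hx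
  obtain ⟨d, hd1, hdP, hdQ⟩ := hD
  have hdD : d ∈ stabilizer G P ⊓ stabilizer G Q := mem_D_iff.mpr ⟨hdP, hdQ⟩
  have hk'D : k' ∈ stabilizer G P ⊓ stabilizer G Q := mem_D_iff.mpr ⟨hk'P, hk'Q⟩
  have hs' : s = x * k'⁻¹ := by rw [hxs]; group
  have h1 : s * d * s⁻¹ ∈ stabilizer G P ⊓ stabilizer G Q := by
    have e1 : s * d * s⁻¹ = x * (k'⁻¹ * d * k') * x⁻¹ := by rw [hs']; group
    rw [e1]; exact hxn _ (mul_mem (mul_mem (inv_mem hk'D) hdD) hk'D)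
  obtain ⟨c, hc⟩ : ∃ c, c = s * d * s⁻¹ * d⁻¹ := ⟨_, rfl⟩
  have hcD : c ∈ stabilizer G P ⊓ stabilizer G Q := by rw [hc]; exact mul_mem h1 (inv_mem hdD)
  have hcP : c ∈ P := by
    have e2 : c = s * (d * s⁻¹ * d⁻¹) := by rw [hc]; group
    rw [e2]
    apply mul_mem hs
    have := conj_mem_smul (g := d) (inv_mem hs)
    rw [hdP] at this; exact this
  have hc1 := eq_one_of_fix_two hTI hPQ (isPGroup_zpowers_of_mem hcP) (mem_D_iff.mp hcD).1
    (mem_D_iff.mp hcD).2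
  have hsd : d * s = s * d := by
    have e3 : d * s = (s * d * s⁻¹ * d⁻¹)⁻¹ * (s * d) := by group
    rw [e3, ← hc, hc1, inv_one, one_mul]
  by_cases hs1 : s = 1
  · rw [hxs, hs1, one_mul]; exact hk'Q
  · exact absurd (eq_one_of_commute_of_mem hCIT hTI hPQ hdP hdQ hs hs1 hsd) hd1

/-- L12 -/
theorem fix_third [Finite G]
    (hCIT : ∀ t : G, orderOf t = 2 → IsPGroup 2 (Subgroup.centralizer ({t} : Set G)))
    (hTI : ∀ P Q : Sylow 2 G, P ≠ Q → (P : Subgroup G) ⊓ (Q : Subgroup G) = ⊥)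
    {P Q R : Sylow 2 G} (hPQ : P ≠ Q) (hPR : P ≠ R) {g : G} (hg1 : g ≠ 1) (hgP : g • P = P)
    (hgQ : g • Q = Q) (hgR : g • R = R) {d : G} (hdP : d • P = P) (hdQ : d • Q = Q) :
    d • R = R := by
  have hdg : d * g = g * d :=
    D_comm hCIT hTI hPQ (mem_D_iff.mpr ⟨hdP, hdQ⟩) (mem_D_iff.mpr ⟨hgP, hgQ⟩)
  exact fix_of_commute hCIT hTI hPR hg1 hgP hgR hdP hdg

end Cfsg.Agent.Lib.Helper2.TIZ
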