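import Mathlib
import Cfsg.Prelude.Def_LieExceptional
import Cfsg.Agent.Lib.Helper2.TIZL
import Cfsg.Agent.Lib.Helper9.TIZB
import Cfsg.Agent.Lib.Helper9.TIZF

set_option linter.style.haveILetI false

/-! (T) for S3396: a finite simple group with TI Sylow 2-subgroups (at least two of them) in which
centralizers of involutions are 2-groups is a Zassenhaus group on its Sylow 2-subgroups.
Auxiliary form with the hypothesis `2 ≤ i`. -/

namespace Cfsg.Agent.Lib.Helper2.TIZ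

open MulAction

theorem zassenhaus_of_cit_ti_aux {G : Type*} [Group G] [Finite G] [IsSimpleGroup G]
    (hCIT : ∀ t : G, orderOf t = 2 → IsPGroup 2 (Subgroup.centralizer ({t} : Set G)))
    (hTI : ∀ P Q : Sylow 2 G, P ≠ Q → (P : Subgroup G) ⊓ (Q : Subgroup G) = ⊥)
    (h2 : ∃ P Q : Sylow 2 G, P ≠ Q)
    (hi : ∀ P Q : Sylow 2 G, P ≠ Q → 2 ≤ Nat.card {t : G // t ∈ P ∧ orderOf t = 2}) :
    Cfsg.IsZassenhausGroup G (Sylow 2 G) := by
  haveI : Fact (Nat.Prime 2) := ⟨Nat.prime_two⟩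
  obtain ⟨P₀, Q₀, hPQ₀⟩ := h2
  obtain ⟨i, hi_def⟩ : ∃ i, i = Nat.card {t : G // t ∈ P₀ ∧ orderOf t = 2} := ⟨_, rfl⟩
  have hi2 : 2 ≤ i := by rw [hi_def]; exact hi P₀ Q₀ hPQ₀
  have hswap : ∀ P Q : Sylow 2 G, P ≠ Q →
      Nat.card {w : G // orderOf w = 2 ∧ w • P = Q} = i := by
    intro P Q hPQ
    rw [card_swap hCIT hTI hPQ, card_inv_eq Q P₀, hi_def]
  have hDcard : ∀ P Q : Sylow 2 G, P ≠ Q →
      Nat.card ↥(stabilizer G P ⊓ stabilizer G Q) = i := by
    intro P Q hPQ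
    rw [card_D hCIT hTI hPQ, hswap P Q hPQ]
  have hiodd : Odd i := by
    rw [← hDcard P₀ Q₀ hPQ₀]
    by_contra hodd
    rw [Nat.not_odd_iff_even] at hodd
    obtain ⟨x, hx⟩ := exists_prime_orderOf_dvd_card' 2 hodd.two_dvd
    have hx' : orderOf (x : G) = 2 := by rw [Subgroup.orderOf_coe]; exact hx
    have := eq_one_of_fix_two hTI hPQ₀ (isPGroup_zpowers_of_orderOf_two hx')
      (mem_D_iff.mp x.2).1 (mem_D_iff.mp x.2).2
    exact ne_one_of_orderOf_two hx' this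
  have hDne : ∀ P Q : Sylow 2 G, P ≠ Q → ∃ d : G, d ≠ 1 ∧ d • P = P ∧ d • Q = Q := by
    intro P Q hPQ
    have h1 : 1 < Nat.card ↥(stabilizer G P ⊓ stabilizer G Q) := by
      rw [hDcard P Q hPQ]; omega
    haveI := Finite.one_lt_card_iff_nontrivial.mp h1
    obtain ⟨d, hd⟩ := exists_ne (1 : ↥(stabilizer G P ⊓ stabilizer G Q))
    refine ⟨d.1, ?_, (mem_D_iff.mp d.2).1, (mem_D_iff.mp d.2).2⟩
    intro h
    exact hd (Subtype.ext h)
  have hinv : ∀ P Q : Sylow 2 G, P ≠ Q → ∀ w : G, orderOf w = 2 → w • P = Q →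
      ∀ d ∈ stabilizer G P ⊓ stabilizer G Q, w * d * w⁻¹ = d⁻¹ :=
    fun P Q hPQ w hw hwP => swap_inverts hCIT hTI hPQ hw hwP
  have hnorm : ∀ P Q : Sylow 2 G, P ≠ Q → ∀ x : G, x • P = P →
      (∀ d ∈ stabilizer G P ⊓ stabilizer G Q,
        x * d * x⁻¹ ∈ stabilizer G P ⊓ stabilizer G Q) → x • Q = Q :=
    fun P Q hPQ x hx hxn => fix_of_normalizes hCIT hTI hPQ (hDne P Q hPQ) hx hxn
  have h12 : ∀ P Q R : Sylow 2 G, P ≠ Q → P ≠ R → ∀ g : G, g ≠ 1 → g • P = P → g • Q = Q →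
      g • R = R → ∀ d : G, d • P = P → d • Q = Q → d • R = R :=
    fun P Q R hPQ hPR g hg1 hgP hgQ hgR d hdP hdQ =>
      fix_third hCIT hTI hPQ hPR hg1 hgP hgQ hgR hdP hdQ
  have hprop : ∀ P Q : Sylow 2 G, P ≠ Q → ∃ s : G, s • P = P ∧ s • Q ≠ Q := by
    intro P Q hPQ
    obtain ⟨t, htP, ht⟩ := exists_invol_of_ne hPQ
    refine ⟨t, smul_eq_of_mem htP, ?_⟩
    intro h
    exact ne_one_of_orderOf_two ht
      (eq_one_of_fix_two hTI hPQ (isPGroup_zpowers_of_orderOf_two ht) (smul_eq_of_mem htP) h)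
  have h13 : ∀ P Q R : Sylow 2 G, P ≠ Q → P ≠ R → ∃ m : G, m • P = P ∧
      ∀ d : G, d • P = P → d • Q = Q → d • (m • R) = m • R := by
    intro P
    exact Cfsg.Agent.Lib.Helper9.TIZ.exists_conj_of_frobenius P (hDne P) (hprop P) (hnorm P)
      (h12 P)
  obtain ⟨hB1, hB2⟩ :=
    Cfsg.Agent.Lib.Helper9.TIZB.partB' i hi2 hiodd hDcard hswap hinv hnorm h12 h13
  refine ⟨?_, ?_, hB2, ?_, ?_⟩
  · -- faithful
    constructor
    intro g₁ g₂ h
    have hK : (MulAction.toPermHom G (Sylow 2 G)).ker = ⊥ := by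
      rcases (MonoidHom.normal_ker (MulAction.toPermHom G (Sylow 2 G))).eq_bot_or_eq_top with h | h
      · exact h
      · exfalso
        obtain ⟨g, hg⟩ := MulAction.exists_smul_eq G P₀ Q₀
        have hgK : g ∈ (MulAction.toPermHom G (Sylow 2 G)).ker := by rw [h]; trivial
        rw [MonoidHom.mem_ker] at hgK
        have h' : (MulAction.toPermHom G (Sylow 2 G)) g P₀ = P₀ := by rw [hgK]; rfl
        rw [MulAction.toPermHom_apply, MulAction.toPerm_apply] at h'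
        exact hPQ₀ (h'.symm.trans hg)
    have hmem : g₂⁻¹ * g₁ ∈ (MulAction.toPermHom G (Sylow 2 G)).ker := by
      rw [MonoidHom.mem_ker]
      ext R : 1
      rw [MulAction.toPermHom_apply, MulAction.toPerm_apply, mul_smul, h R, inv_smul_smul]
      rfl
    rw [hK, Subgroup.mem_bot] at hmem
    exact (inv_mul_eq_one.mp hmem).symm
  · -- 2-transitive
    rw [MulAction.is_two_pretransitive_iff]
    intro a b c d hab hcd
    obtain ⟨g₁, hg₁⟩ := MulAction.exists_smul_eq G a c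
    have hne : c ≠ g₁ • b := by
      intro h
      rw [← hg₁] at h
      exact hab (smul_left_cancel g₁ h)
    obtain ⟨m, hm1, hm2⟩ := hB1 c d (g₁ • b) hcd hne
    exact ⟨m * g₁, by rw [mul_smul, hg₁, hm1], by rw [mul_smul, hm2]⟩
  · -- a nontrivial element fixing two points
    obtain ⟨d, hd1, hdP, hdQ⟩ := hDne P₀ Q₀ hPQ₀
    exact ⟨d, hd1, P₀, Q₀, hPQ₀, hdP, hdQ⟩
  · -- no regular normal subgroup
    intro N hN hNt
    rcases hN.eq_bot_or_eq_top with rfl | rfl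
    · exfalso
      obtain ⟨n, hn⟩ := hNt.exists_smul_eq P₀ Q₀
      have hn1 : (n : G) = 1 := Subgroup.mem_bot.mp n.2
      rw [Subgroup.smul_def, hn1, one_smul] at hn
      exact hPQ₀ hn
    · obtain ⟨t, htP, ht⟩ := exists_invol_of_ne hPQ₀
      refine ⟨P₀, ?_⟩
      intro hbot
      have hmem : (⟨t, Subgroup.mem_top t⟩ : ↥(⊤ : Subgroup G)) ∈
          stabilizer ↥(⊤ : Subgroup G) P₀ := by
        rw [mem_stabilizer_iff, Subgroup.smul_def]
        exact smul_eq_of_mem htP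
      rw [hbot, Subgroup.mem_bot] at hmem
      exact ne_one_of_orderOf_two ht (congrArg Subtype.val hmem)

end Cfsg.Agent.Lib.Helper2.TIZ
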