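import Mathlib
import Cfsg.Prelude.Def_LieExceptional
import Cfsg.Agent.Lib.Helper2.TIZD
import Cfsg.Agent.Lib.Helper8.TIZI

/-! (T) for S3396: a finite simple group with TI Sylow 2-subgroups (at least two of them) in which
centralizers of involutions are 2-groups is a Zassenhaus group on its Sylow 2-subgroups. -/

namespace Cfsg.Agent.Lib.Helper2.TIZ

theorem zassenhaus_of_cit_ti {G : Type*} [Group G] [Finite G] [IsSimpleGroup G]
    (hCIT : ∀ t : G, orderOf t = 2 → IsPGroup 2 (Subgroup.centralizer ({t} : Set G)))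
    (hTI : ∀ P Q : Sylow 2 G, P ≠ Q → (P : Subgroup G) ⊓ (Q : Subgroup G) = ⊥)
    (h2 : ∃ P Q : Sylow 2 G, P ≠ Q) : Cfsg.IsZassenhausGroup G (Sylow 2 G) :=
  zassenhaus_of_cit_ti_aux hCIT hTI h2
    (fun _ _ hPQ => Cfsg.Agent.Lib.Helper8.TIZ.two_le_card_inv hCIT hTI hPQ)

end Cfsg.Agent.Lib.Helper2.TIZ
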