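import Mathlib
set_option autoImplicit false
set_option maxHeartbeats 1000000
set_option linter.unusedVariables false
set_option linter.unusedSectionVars false
set_option linter.style.longLine false
set_option linter.unusedSimpArgs false
set_option linter.deprecated false
set_option linter.style.haveILetI false

/-! 3-transposition sets in which the commuting set of every member generates `S₃`, part A:
the combinatorial axioms `TL`, closed sets, the key lemma on an element outside a closed set,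
blocks of type `K₃,₃`. -/

namespace Cfsg.Agent.Lib.Helper2.TTLoc

variable {G : Type*} [Group G]

/-- the members of `D` other than `d` commuting with `d` -/
def Nb (D : Set G) (d : G) : Set G := {y | y ∈ D ∧ y ≠ d ∧ Commute d y}

/-- the combinatorial axioms -/
structure TL (D : Set G) : Prop where
  sq : ∀ d ∈ D, d * d = 1
  ne_one : ∀ d ∈ D, d ≠ 1
  conj : ∀ g : G, ∀ d ∈ D, g * d * g⁻¹ ∈ D
  rel : ∀ a ∈ D, ∀ b ∈ D, ¬ Commute a b → a * b * a = b * a * b
  two : ∀ d ∈ D, ∃ y y', y ∈ Nb D d ∧ y' ∈ Nb D d ∧ y ≠ y'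
  ncomm : ∀ d ∈ D, ∀ y ∈ Nb D d, ∀ y' ∈ Nb D d, y ≠ y' → ¬ Commute y y'
  three : ∀ d ∈ D, ∀ g1 ∈ Nb D d, ∀ g2 ∈ Nb D d, ∀ g3 ∈ Nb D d, g1 ≠ g2 → g1 ≠ g3 → g2 ≠ g3 →
    ∀ g ∈ Nb D d, g = g1 ∨ g = g2 ∨ g = g3

section Words

/-- word identity (i): `f` commutes with `a f y f a` -/
theorem word_i {a y f : G} (ha : a * a = 1) (hay : a * y = y * a)
    (hfa : f * a * f = a * f * a) :
    f * (a * f * y * f * a) * f = a * f * y * f * a := by
  calc f * (a * f * y * f * a) * f = (f * a * f) * y * (f * a * f) := by group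
    _ = (a * f * a) * y * (a * f * a) := by rw [hfa]
    _ = a * f * (a * y) * a * f * a := by group
    _ = a * f * (y * a) * a * f * a := by rw [hay]
    _ = a * f * y * (a * a) * f * a := by group
    _ = a * f * y * f * a := by rw [ha, mul_one]

/-- word identity: `a f y f a = f` forces `y = a` -/
theorem word_ne {a y f : G} (ha : a * a = 1) (hf : f * f = 1)
    (hfa : f * a * f = a * f * a) (h : a * f * y * f * a = f) : y = a := by
  have h1 : f * y * f = a * f * a := by
    calc f * y * f = (a * a) * f * y * f * (a * a) := by rw [ha, one_mul, mul_one]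
      _ = a * (a * f * y * f * a) * a := by group
      _ = a * f * a := by rw [h]
  calc y = (f * f) * y * (f * f) := by rw [hf, one_mul, mul_one]
    _ = f * (f * y * f) * f := by group
    _ = f * (a * f * a) * f := by rw [h1]
    _ = (f * a * f) * a * f := by group
    _ = (a * f * a) * a * f := by rw [hfa]
    _ = a * f * (a * a) * f := by group
    _ = a * (f * f) := by rw [ha, mul_one, mul_assoc]
    _ = a := by rw [hf, mul_one]

/-- word identity (ii) -/
theorem word_ii {a b c : G} (ha : a * a = 1) (hb : b * b = 1) (hc : c * c = 1)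
    (hca : a * c * a = c * a * c) (hcb : b * c * b = c * b * c) (h : b * a * c * a * b = c) :
    a = b := by
  have h1 : a * c * a = b * c * b := by
    calc a * c * a = (b * b) * a * c * a * (b * b) := by rw [hb, one_mul, mul_one]
      _ = b * (b * a * c * a * b) * b := by group
      _ = b * c * b := by rw [h]
  have h2 : c * a * c = c * b * c := by rw [← hca, ← hcb, h1]
  calc a = (c * c) * a * (c * c) := by rw [hc, one_mul, mul_one]
    _ = c * (c * a * c) * c := by group
    _ = c * (c * b * c) * c := by rw [h2]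
    _ = (c * c) * b * (c * c) := by group
    _ = b := by rw [hc, one_mul, mul_one]

/-- word identity (iii) -/
theorem word_iii {d e f : G} (hd : d * d = 1) (he : e * e = 1) (hf : f * f = 1) (hde : d * e = e * d)
    (hdf : d * f * d = f * d * f) (hef : e * f * e = f * e * f) :
    (d * e) * (f * (d * f * e * f * d)) = (f * d * f) * (f * e * f) := by
  have hded : d * e * d = e := by rw [hde, mul_assoc, hd, mul_one]
  calc (d * e) * (f * (d * f * e * f * d)) = d * e * (f * d * f) * e * f * d := by group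
    _ = d * e * (d * f * d) * e * f * d := by rw [hdf]
    _ = (d * e * d) * f * (d * e) * f * d := by group
    _ = e * f * (e * d) * f * d := by rw [hded, hde]
    _ = (e * f * e) * (d * f * d) := by group
    _ = (f * e * f) * (f * d * f) := by rw [hef, hdf]
    _ = f * e * (f * f) * d * f := by group
    _ = f * (e * d) * f := by rw [hf, mul_one]; group
    _ = f * (d * e) * f := by rw [hde]
    _ = f * d * (f * f) * e * f := by rw [hf, mul_one]; group
    _ = (f * d * f) * (f * e * f) := by group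

theorem cancel_conj {a b x : G} (ha : a * a = 1) (hb : b * b = 1) :
    a * b * (b * a * x * a * b) * b * a = x := by
  calc a * b * (b * a * x * a * b) * b * a = a * (b * b) * a * x * a * (b * b) * a := by group
    _ = (a * a) * x * (a * a) := by rw [hb, mul_one, mul_one]; group
    _ = x := by rw [ha, one_mul, mul_one]

end Words

variable {D : Set G}

theorem TL.inv (h : TL D) {d : G} (hd : d ∈ D) : d⁻¹ = d :=
  inv_eq_of_mul_eq_one_left (h.sq d hd)

theorem TL.cj (h : TL D) {a y : G} (ha : a ∈ D) (hy : y ∈ D) : a * y * a ∈ D := by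
  have := h.conj a y hy
  rwa [h.inv ha] at this

theorem TL.nb_symm (h : TL D) {d y : G} (hd : d ∈ D) (hy : y ∈ Nb D d) : d ∈ Nb D y :=
  ⟨hd, fun e => hy.2.1 e.symm, hy.2.2.symm⟩

theorem TL.nb_conj (h : TL D) {d y : G} (u : G) (hy : y ∈ Nb D d) :
    u * y * u⁻¹ ∈ Nb D (u * d * u⁻¹) := by
  refine ⟨h.conj u y hy.1, ?_, ?_⟩
  · intro e
    apply hy.2.1
    have e' : MulAut.conj u y = MulAut.conj u d := by
      rw [MulAut.conj_apply, MulAut.conj_apply]; exact e
    exact (MulAut.conj u).injective e'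
  · exact (Commute.conj_iff u).mpr hy.2.2

theorem TL.nb_conj_iff (h : TL D) {d y : G} (u : G) :
    u * y * u⁻¹ ∈ Nb D (u * d * u⁻¹) ↔ y ∈ Nb D d := by
  constructor
  · intro hy
    have := h.nb_conj u⁻¹ hy
    have e1 : u⁻¹ * (u * y * u⁻¹) * u⁻¹⁻¹ = y := by group
    have e2 : u⁻¹ * (u * d * u⁻¹) * u⁻¹⁻¹ = d := by group
    rwa [e1, e2] at this
  · exact h.nb_conj u

/-- the third element of `Nb D d` -/
theorem TL.third (h : TL D) {d a b : G} (hd : d ∈ D) (ha : a ∈ Nb D d) (hb : b ∈ Nb D d)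
    (hab : a ≠ b) : a * b * a ∈ Nb D d ∧ a * b * a ≠ a ∧ a * b * a ≠ b := by
  have hnc := h.ncomm d hd a ha b hb hab
  have haa := h.sq a ha.1
  refine ⟨⟨h.cj ha.1 hb.1, ?_, ?_⟩, ?_, ?_⟩
  · intro e
    apply hb.2.1
    calc b = (a * a) * b * (a * a) := by rw [haa, one_mul, mul_one]
      _ = a * (a * b * a) * a := by group
      _ = a * d * a := by rw [e]
      _ = d * (a * a) := by rw [← ha.2.2.eq, mul_assoc]
      _ = d := by rw [haa, mul_one]
  · exact (ha.2.2.mul_right hb.2.2).mul_right ha.2.2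
  · intro e
    apply hab
    have e1 : a * b = 1 := by
      have := congrArg (fun z => z * a) e
      simp only [mul_assoc, haa, mul_one] at this
      exact this
    have := eq_inv_of_mul_eq_one_left e1
    rw [h.inv hb.1] at this
    exact this
  · intro e
    apply hnc
    show a * b = b * a
    calc a * b = (a * b * a) * a := by rw [mul_assoc (a * b), haa, mul_one]
      _ = b * a := by rw [e]

theorem TL.nb_eq (h : TL D) {d a b : G} (hd : d ∈ D) (ha : a ∈ Nb D d) (hb : b ∈ Nb D d)
    (hab : a ≠ b) : ∀ g ∈ Nb D d, g = a ∨ g = b ∨ g = a * b * a := by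
  obtain ⟨hc, hca, hcb⟩ := h.third hd ha hb hab
  exact h.three d hd a ha b hb _ hc hab (Ne.symm hca) (Ne.symm hcb)

/-- two members whose commuting sets share two elements have the same commuting set -/
theorem TL.nb_eq_of_two (h : TL D) {u v e1 e2 : G} (hu : u ∈ D) (hv : v ∈ D)
    (h1u : e1 ∈ Nb D u) (h2u : e2 ∈ Nb D u) (h1v : e1 ∈ Nb D v) (h2v : e2 ∈ Nb D v)
    (hne : e1 ≠ e2) : Nb D u = Nb D v := by
  ext g
  constructor
  · intro hg
    rcases h.nb_eq hu h1u h2u hne g hg with rfl | rfl | rfl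
    · exact h1v
    · exact h2v
    · exact (h.third hv h1v h2v hne).1
  · intro hg
    rcases h.nb_eq hv h1v h2v hne g hg with rfl | rfl | rfl
    · exact h1u
    · exact h2u
    · exact (h.third hu h1u h2u hne).1

/-- the braid relation for two distinct members of a commuting set -/
theorem TL.braid (h : TL D) {d a b : G} (hd : d ∈ D) (ha : a ∈ Nb D d) (hb : b ∈ Nb D d)
    (hab : a ≠ b) : a * b * a = b * a * b :=
  h.rel a ha.1 b hb.1 (h.ncomm d hd a ha b hb hab)

/-- closed subsets of `D` -/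
def Closed (D B : Set G) : Prop := B ⊆ D ∧ ∀ b ∈ B, Nb D b ⊆ B

theorem Closed.not_commute {B : Set G} (hB : Closed D B) {f b : G} (hf : f ∈ D) (hfB : f ∉ B)
    (hb : b ∈ B) : ¬ Commute f b := by
  intro hc
  apply hfB
  exact hB.2 b hb ⟨hf, fun e => hfB (e ▸ hb), hc.symm⟩

theorem Closed.nb_not_mem (h : TL D) {B : Set G} (hB : Closed D B) {f g : G} (hf : f ∈ D)
    (hfB : f ∉ B) (hg : g ∈ Nb D f) : g ∉ B := by
  intro hgB
  exact hfB (hB.2 g hgB (h.nb_symm hf hg))

/-- (i): the element `a f y f a` commutes with `f` -/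
theorem TL.gmem (h : TL D) {a y f : G} (hf : f ∈ D) (hy : y ∈ D) (hay : a ∈ Nb D y)
    (hfa : ¬ Commute f a) : a * f * y * f * a ∈ Nb D f := by
  have ha := hay.1
  have haa := h.sq a ha
  have hff := h.sq f hf
  have hbr : f * a * f = a * f * a := h.rel f hf a ha hfa
  refine ⟨?_, ?_, ?_⟩
  · have := h.cj ha (h.cj hf hy)
    have e : a * f * y * f * a = a * (f * y * f) * a := by group
    rw [e]; exact this
  · intro e
    exact hay.2.1 (word_ne haa hff hbr e).symm
  · have hw := word_i (y := y) haa hay.2.2.eq.symm hbr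
    show f * (a * f * y * f * a) = (a * f * y * f * a) * f
    calc f * (a * f * y * f * a) = f * (a * f * y * f * a) * (f * f) := by rw [hff, mul_one]
      _ = (f * (a * f * y * f * a) * f) * f := by group
      _ = (a * f * y * f * a) * f := by rw [hw]

section LemmaX

variable {B : Set G} {a b y f : G}

/-- the data of Lemma X -/
structure XD (D B : Set G) (a b y f : G) : Prop where
  closed : Closed D B
  hy : y ∈ B
  ha : a ∈ Nb D y
  hb : b ∈ Nb D y
  hab : a ≠ b
  hf : f ∈ D
  hfB : f ∉ B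

theorem XD.yD (x : XD D B a b y f) : y ∈ D := x.closed.1 x.hy
theorem XD.aB (x : XD D B a b y f) : a ∈ B := x.closed.2 y x.hy x.ha
theorem XD.bB (x : XD D B a b y f) : b ∈ B := x.closed.2 y x.hy x.hb

theorem XD.cNb (h : TL D) (x : XD D B a b y f) : a * b * a ∈ Nb D y :=
  (h.third x.yD x.ha x.hb x.hab).1

theorem XD.cB (h : TL D) (x : XD D B a b y f) : a * b * a ∈ B :=
  x.closed.2 y x.hy (x.cNb h)

theorem XD.ga (h : TL D) (x : XD D B a b y f) : a * f * y * f * a ∈ Nb D f :=
  h.gmem x.hf x.yD x.ha (x.closed.not_commute x.hf x.hfB x.aB)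

theorem XD.gb (h : TL D) (x : XD D B a b y f) : b * f * y * f * b ∈ Nb D f :=
  h.gmem x.hf x.yD x.hb (x.closed.not_commute x.hf x.hfB x.bB)

theorem XD.gc (h : TL D) (x : XD D B a b y f) :
    (a * b * a) * f * y * f * (a * b * a) ∈ Nb D f :=
  h.gmem x.hf x.yD (x.cNb h) (x.closed.not_commute x.hf x.hfB (x.cB h))

theorem XD.braid (h : TL D) (x : XD D B a b y f) : a * b * a = b * a * b :=
  h.braid x.yD x.ha x.hb x.hab

/-- conjugation by `(a b)⁻¹` maps `g_a` to `g_b` -/
theorem XD.cyc1 (h : TL D) (x : XD D B a b y f) :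
    b * a * (a * f * y * f * a) * a * b = b * f * y * f * b := by
  have haa := h.sq a x.ha.1
  calc b * a * (a * f * y * f * a) * a * b = b * (a * a) * f * y * f * (a * a) * b := by group
    _ = b * f * y * f * b := by rw [haa, mul_one, mul_one]

theorem XD.cyc2 (h : TL D) (x : XD D B a b y f) :
    b * a * (b * f * y * f * b) * a * b = (a * b * a) * f * y * f * (a * b * a) := by
  rw [x.braid h]; group

theorem XD.cyc3 (h : TL D) (x : XD D B a b y f) :
    b * a * ((a * b * a) * f * y * f * (a * b * a)) * a * b = a * f * y * f * a := by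
  have haa := h.sq a x.ha.1
  have hbb := h.sq b x.hb.1
  have e1 : b * a * (a * b * a) = a := by
    calc b * a * (a * b * a) = b * (a * a) * b * a := by group
      _ = (b * b) * a := by rw [haa, mul_one]
      _ = a := by rw [hbb, one_mul]
  have e2 : (a * b * a) * a * b = a := by
    calc (a * b * a) * a * b = a * b * (a * a) * b := by group
      _ = a * (b * b) := by rw [haa, mul_one, mul_assoc]
      _ = a := by rw [hbb, mul_one]
  calc b * a * ((a * b * a) * f * y * f * (a * b * a)) * a * b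
      = (b * a * (a * b * a)) * f * y * f * ((a * b * a) * a * b) := by group
    _ = a * f * y * f * a := by rw [e1, e2]

/-- for `c ∈ D` outside `B`, `c` is moved by conjugation with `a b` -/
theorem XD.moved (h : TL D) (x : XD D B a b y f) {c : G} (hc : c ∈ D) (hcB : c ∉ B) :
    b * a * c * a * b ≠ c := by
  intro e
  apply x.hab
  have hca : a * c * a = c * a * c :=
    h.rel a x.ha.1 c hc (fun hcm => x.closed.not_commute hc hcB x.aB hcm.symm)
  have hcb : b * c * b = c * b * c :=
    h.rel b x.hb.1 c hc (fun hcm => x.closed.not_commute hc hcB x.bB hcm.symm)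
  exact word_ii (h.sq a x.ha.1) (h.sq b x.hb.1) (h.sq c hc) hca hcb e

theorem XD.ga_ne_gb (h : TL D) (x : XD D B a b y f) :
    a * f * y * f * a ≠ b * f * y * f * b := by
  intro e
  have := x.moved h (x.ga h).1 (x.closed.nb_not_mem h x.hf x.hfB (x.ga h))
  apply this
  have e1 : b * a * (a * f * y * f * a) * a * b = b * f * y * f * b := x.cyc1 h
  rw [e1, e]

theorem XD.gb_ne_gc (h : TL D) (x : XD D B a b y f) :
    b * f * y * f * b ≠ (a * b * a) * f * y * f * (a * b * a) := by
  intro e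
  have := x.moved h (x.gb h).1 (x.closed.nb_not_mem h x.hf x.hfB (x.gb h))
  apply this
  rw [x.cyc2 h, e]

theorem XD.gc_ne_ga (h : TL D) (x : XD D B a b y f) :
    (a * b * a) * f * y * f * (a * b * a) ≠ a * f * y * f * a := by
  intro e
  have := x.moved h (x.gc h).1 (x.closed.nb_not_mem h x.hf x.hfB (x.gc h))
  apply this
  rw [x.cyc3 h, e]

/-- the commuting set of `f` -/
theorem XD.nb_f (h : TL D) (x : XD D B a b y f) : ∀ g ∈ Nb D f,
    g = a * f * y * f * a ∨ g = b * f * y * f * b ∨
      g = (a * b * a) * f * y * f * (a * b * a) :=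
  h.three f x.hf _ (x.ga h) _ (x.gb h) _ (x.gc h) (x.ga_ne_gb h) (Ne.symm (x.gc_ne_ga h))
    (x.gb_ne_gc h)

theorem XD.gc_eq (h : TL D) (x : XD D B a b y f) :
    (a * b * a) * f * y * f * (a * b * a)
      = (a * f * y * f * a) * (b * f * y * f * b) * (a * f * y * f * a) := by
  rcases h.nb_eq x.hf (x.ga h) (x.gb h) (x.ga_ne_gb h) _ (x.gc h) with e | e | e
  · exact absurd e (x.gc_ne_ga h)
  · exact absurd e.symm (x.gb_ne_gc h)
  · exact e

theorem XD.f'D (h : TL D) (x : XD D B a b y f) : b * a * f * a * b ∈ D := by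
  have := h.cj x.hb.1 (h.cj x.ha.1 x.hf)
  have e : b * a * f * a * b = b * (a * f * a) * b := by group
  rw [e]; exact this

theorem conj_comm {a b u v : G} (ha : a * a = 1) (hb : b * b = 1) (huv : Commute u v) :
    Commute (b * a * u * a * b) (b * a * v * a * b) := by
  show b * a * u * a * b * (b * a * v * a * b) = b * a * v * a * b * (b * a * u * a * b)
  calc b * a * u * a * b * (b * a * v * a * b) = b * a * u * a * (b * b) * a * v * a * b := by group
    _ = b * a * u * (a * a) * v * a * b := by rw [hb, mul_one]; group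
    _ = b * a * (u * v) * a * b := by rw [ha, mul_one]; group
    _ = b * a * (v * u) * a * b := by rw [huv.eq]
    _ = b * a * v * (a * a) * u * a * b := by rw [ha, mul_one]; group
    _ = b * a * v * a * (b * b) * a * u * a * b := by rw [hb, mul_one]; group
    _ = b * a * v * a * b * (b * a * u * a * b) := by group

/-- **Lemma X**: an element outside a closed set satisfies `K` -/
theorem XD.kp (h : TL D) (x : XD D B a b y f) :
    ∃ e1 e2 d1, e1 ∈ Nb D f ∧ e2 ∈ Nb D f ∧ e1 ≠ e2 ∧ d1 ∈ Nb D e1 ∧ d1 ≠ f ∧ Commute d1 e2 := by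
  have haa := h.sq a x.ha.1
  have hbb := h.sq b x.hb.1
  refine ⟨a * f * y * f * a, b * f * y * f * b, b * a * f * a * b, x.ga h, x.gb h, x.ga_ne_gb h,
    ⟨x.f'D h, ?_, ?_⟩, x.moved h x.hf x.hfB, ?_⟩
  · intro e
    -- f' = g_a = conj of g_c, so f = g_c
    apply (x.gc h).2.1
    have e3 := x.cyc3 h
    rw [← e] at e3
    have := congrArg (fun z => a * b * z * b * a) e3
    rw [cancel_conj haa hbb, cancel_conj haa hbb] at this
    exact this
  · have := conj_comm haa hbb (x.gc h).2.2
    rw [x.cyc3 h] at this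
    exact this.symm
  · have := conj_comm haa hbb (x.ga h).2.2
    rw [x.cyc1 h] at this
    exact this

/-- the element `a b` commutes with `g_a g_b` -/
theorem XD.comm (h : TL D) (x : XD D B a b y f) :
    Commute (a * b) ((a * f * y * f * a) * (b * f * y * f * b)) := by
  have haa := h.sq a x.ha.1
  have hbb := h.sq b x.hb.1
  set ga := a * f * y * f * a with hga
  set gb := b * f * y * f * b with hgb
  have hgaa := h.sq ga (x.ga h).1
  have hbr : ga * gb * ga = gb * ga * gb := h.braid x.hf (x.ga h) (x.gb h) (x.ga_ne_gb h)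
  have e1 : b * a * ga * a * b = gb := x.cyc1 h
  have e2 : b * a * gb * a * b = ga * gb * ga := by rw [x.cyc2 h, x.gc_eq h]
  -- (b a) (ga gb) (a b) = gb (ga gb ga) = ga gb
  have e3 : b * a * (ga * gb) * a * b = ga * gb := by
    calc b * a * (ga * gb) * a * b = b * a * ga * (a * (b * b) * a) * gb * a * b := by
          rw [hbb, mul_one, haa, mul_one]; group
      _ = (b * a * ga * a * b) * (b * a * gb * a * b) := by group
      _ = gb * (ga * gb * ga) := by rw [e1, e2]
      _ = (gb * ga * gb) * ga := by group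
      _ = (ga * gb * ga) * ga := by rw [hbr]
      _ = ga * gb * (ga * ga) := by group
      _ = ga * gb := by rw [hgaa, mul_one]
  show a * b * (ga * gb) = ga * gb * (a * b)
  calc a * b * (ga * gb) = a * b * (b * a * (ga * gb) * a * b) := by rw [e3]
    _ = a * (b * b) * a * (ga * gb) * a * b := by group
    _ = (a * a) * (ga * gb) * a * b := by rw [hbb, mul_one]
    _ = ga * gb * (a * b) := by rw [haa, one_mul]; group

end LemmaX

/-- the property `K` -/
def KP (D : Set G) (d : G) : Prop :=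
  ∃ e1 e2 d1, e1 ∈ Nb D d ∧ e2 ∈ Nb D d ∧ e1 ≠ e2 ∧ d1 ∈ Nb D e1 ∧ d1 ≠ d ∧ Commute d1 e2

/-- blocks of type `K₃,₃` -/
structure Blk (D X Y : Set G) : Prop where
  subX : X ⊆ D
  subY : Y ⊆ D
  nbX : ∀ x ∈ X, Nb D x = Y
  nbY : ∀ y ∈ Y, Nb D y = X

theorem Blk.symm {X Y : Set G} (k : Blk D X Y) : Blk D Y X := ⟨k.subY, k.subX, k.nbY, k.nbX⟩

theorem Blk.closed {X Y : Set G} (k : Blk D X Y) : Closed D (X ∪ Y) := by
  refine ⟨Set.union_subset k.subX k.subY, ?_⟩
  rintro b (hb | hb)
  · rw [k.nbX b hb]; exact Set.subset_union_right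
  · rw [k.nbY b hb]; exact Set.subset_union_left

theorem Blk.commute {X Y : Set G} (k : Blk D X Y) {x y : G} (hx : x ∈ X) (hy : y ∈ Y) :
    Commute x y := by
  have : y ∈ Nb D x := by rw [k.nbX x hx]; exact hy
  exact this.2.2

theorem TL.blk_of_KP (h : TL D) {d : G} (hd : d ∈ D) (hK : KP D d) :
    ∃ X Y, Blk D X Y ∧ d ∈ X := by
  obtain ⟨e1, e2, d1, he1, he2, hne, hd1, hd1d, hc⟩ := hK
  have he1D := he1.1
  have he2D := he2.1
  have hd1D := hd1.1
  have hdX : d ∈ Nb D e1 := h.nb_symm hd he1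
  have hncd : ¬ Commute d d1 := h.ncomm e1 he1D d hdX d1 hd1 (Ne.symm hd1d)
  have he2d1 : e2 ≠ d1 := by
    rintro rfl
    exact hncd he2.2.2
  have h1 : e1 ∈ Nb D d1 := h.nb_symm he1D hd1
  have h2 : e2 ∈ Nb D d1 := ⟨he2D, he2d1, hc⟩
  have hY : Nb D d1 = Nb D d := h.nb_eq_of_two hd1D hd h1 h2 he1 he2 hne
  have hd_e2 : d ∈ Nb D e2 := h.nb_symm hd he2
  have hd1_e2 : d1 ∈ Nb D e2 := h.nb_symm hd1D h2
  have hX2 : Nb D e2 = Nb D e1 :=
    h.nb_eq_of_two he2D he1D hd_e2 hd1_e2 hdX hd1 (Ne.symm hd1d)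
  obtain ⟨he3, -, -⟩ := h.third hd he1 he2 hne
  have he3D := he3.1
  have hd_e3 : d ∈ Nb D (e1 * e2 * e1) := h.nb_symm hd he3
  have hd1_e3 : d1 ∈ Nb D (e1 * e2 * e1) := by
    have : e1 * e2 * e1 ∈ Nb D d1 := by rw [hY]; exact he3
    exact h.nb_symm hd1D this
  have hX3 : Nb D (e1 * e2 * e1) = Nb D e1 :=
    h.nb_eq_of_two he3D he1D hd_e3 hd1_e3 hdX hd1 (Ne.symm hd1d)
  obtain ⟨hx3, -, -⟩ := h.third he1D hdX hd1 (Ne.symm hd1d)
  have hx3D := hx3.1
  have h1' : e1 ∈ Nb D (d * d1 * d) := h.nb_symm he1D hx3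
  have h2' : e2 ∈ Nb D (d * d1 * d) := by
    have : d * d1 * d ∈ Nb D e2 := by rw [hX2]; exact hx3
    exact h.nb_symm he2D this
  have hY3 : Nb D (d * d1 * d) = Nb D d := h.nb_eq_of_two hx3D hd h1' h2' he1 he2 hne
  refine ⟨Nb D e1, Nb D d, ⟨fun x hx => hx.1, fun y hy => hy.1, ?_, ?_⟩, hdX⟩
  · intro x hx
    rcases h.nb_eq he1D hdX hd1 (Ne.symm hd1d) x hx with rfl | rfl | rfl
    · rfl
    · exact hY
    · exact hY3
  · intro y hy
    rcases h.nb_eq hd he1 he2 hne y hy with rfl | rfl | rfl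
    · rfl
    · exact hX2
    · exact hX3

/-- a block containing an element outside a closed set is disjoint from it -/
theorem Blk.disjoint_of_not_mem (h : TL D) {X Y B : Set G} (k : Blk D X Y) (hB : Closed D B)
    {f : G} (hfX : f ∈ X) (hfB : f ∉ B) : ∀ z ∈ X ∪ Y, z ∉ B := by
  have hfD := k.subX hfX
  have hYB : ∀ g ∈ Y, g ∉ B := by
    intro g hg
    have : g ∈ Nb D f := by rw [k.nbX f hfX]; exact hg
    exact hB.nb_not_mem h hfD hfB this
  obtain ⟨g, g', hg, -, -⟩ := h.two f hfD
  rw [k.nbX f hfX] at hg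
  rintro z (hz | hz)
  · have : z ∈ Nb D g := by rw [k.nbY g hg]; exact hz
    exact hB.nb_not_mem h (k.subY hg) (hYB g hg) this
  · exact hYB z hz

/-- **closure argument**: a closed set containing an element without property `K` is all of `D` -/
theorem TL.eq_of_closed_of_not_KP (h : TL D) {B : Set G} (hB : Closed D B) {d : G} (hdB : d ∈ B)
    (hnK : ¬ KP D d) : D ⊆ B := by
  intro f hf
  by_contra hfB
  have hd := hB.1 hdB
  obtain ⟨a, b, ha, hb, hab⟩ := h.two d hd
  have x : XD D B a b d f := ⟨hB, hdB, ha, hb, hab, hf, hfB⟩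
  obtain ⟨X, Y, k, hfX⟩ := h.blk_of_KP hf (x.kp h)
  have hdis := k.disjoint_of_not_mem h hB hfX hfB
  obtain ⟨a', b', ha', hb', hab'⟩ := h.two f hf
  have hfXY : f ∈ X ∪ Y := Or.inl hfX
  have hdXY : d ∉ X ∪ Y := fun hd' => hdis d hd' hdB
  have x' : XD D (X ∪ Y) a' b' f d := ⟨k.closed, hfXY, ha', hb', hab', hd, hdXY⟩
  exact hnK (x'.kp h)

end Cfsg.Agent.Lib.Helper2.TTLoc
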