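import Mathlib
import Cfsg.Prelude.Def_SporadicB
import Cfsg.Agent.Lib.Helper2.TTLocA
import Cfsg.Agent.Lib.Helper4.CoxA3
set_option autoImplicit false
set_option maxHeartbeats 1000000
set_option linter.unusedVariables false
set_option linter.unusedSectionVars false
set_option linter.style.longLine false
set_option linter.unusedSimpArgs false
set_option linter.deprecated false
set_option linter.style.haveILetI false

/-! 3-transposition sets with local `S₃`, part B: the axioms `TL` from the hypotheses, recognition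
of `S₃ × S₃` (a block which is all of `D`) and of `S₅` (an element without property `K`). -/

namespace Cfsg.Agent.Lib.Helper2.TTLoc

open Equiv

set_option maxRecDepth 100000 in
theorem s3_ncomm : ∀ a b : Equiv.Perm (Fin 3), a * a = 1 → b * b = 1 → a ≠ 1 → b ≠ 1 → a ≠ b →
    a * b ≠ b * a := by decide

set_option maxRecDepth 100000 in
set_option synthInstance.maxSize 2000 in
set_option synthInstance.maxHeartbeats 200000 in
theorem s3_three : ∀ a b c x : Equiv.Perm (Fin 3), a * a = 1 → b * b = 1 → c * c = 1 → x * x = 1 →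
    a ≠ 1 → b ≠ 1 → c ≠ 1 → x ≠ 1 → a ≠ b → a ≠ c → b ≠ c → x = a ∨ x = b ∨ x = c := by decide

set_option maxRecDepth 100000 in
theorem s3_center : ∀ z : Equiv.Perm (Fin 3), (∀ w : Equiv.Perm (Fin 3), z * w = w * z) → z = 1 := by
  decide

variable {G : Type*} [Group G] {D : Set G}

theorem img_props {H : Subgroup G} (e : ↥H ≃* Equiv.Perm (Fin 3)) {y : G} (hy : y ∈ H)
    (hsq : y * y = 1) (hne : y ≠ 1) : e ⟨y, hy⟩ * e ⟨y, hy⟩ = 1 ∧ e ⟨y, hy⟩ ≠ 1 := by
  constructor
  · rw [← map_mul]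
    have : (⟨y, hy⟩ : ↥H) * ⟨y, hy⟩ = 1 := Subtype.ext hsq
    rw [this, map_one]
  · intro h
    apply hne
    have := e.injective (h.trans (map_one e).symm)
    exact congrArg Subtype.val this

theorem braid_of_hyp (hD : Cfsg.IsThreeTranspositionSet D) {a b : G} (ha : a ∈ D) (hb : b ∈ D)
    (hai : a⁻¹ = a) (hbi : b⁻¹ = b) (hnc : ¬ Commute a b) : a * b * a = b * a * b := by
  rcases hD.2 a ha b hb with h2 | h3
  · exfalso
    apply hnc
    have h2' : a * b * (a * b) = 1 := by rw [← pow_two]; exact h2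
    have := eq_inv_of_mul_eq_one_left h2'
    rw [mul_inv_rev, hai, hbi] at this
    exact this
  · have h3' : a * b * a * (b * a * b) = 1 := by
      have : (a * b) ^ 3 = a * b * a * (b * a * b) := by
        rw [pow_succ, pow_two]; group
      rw [← this]; exact h3
    have := eq_inv_of_mul_eq_one_left h3'
    rw [mul_inv_rev, mul_inv_rev, hai, hbi, ← mul_assoc] at this
    exact this

/-- the combinatorial axioms hold under the hypotheses of the statement -/
theorem tl_of_hyp [Finite G] (hD : Cfsg.IsThreeTranspositionSet D)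
    (hconj : ∀ g : G, ∀ d ∈ D, g * d * g⁻¹ ∈ D)
    (hloc : ∀ d ∈ D, Nonempty (↥(Subgroup.closure (Nb D d)) ≃* Equiv.Perm (Fin 3))) : TL D := by
  have hsq : ∀ d ∈ D, d * d = 1 := by
    intro d hd
    have := pow_orderOf_eq_one d
    rwa [hD.1 d hd, pow_two] at this
  have hne1 : ∀ d ∈ D, d ≠ 1 := by
    rintro d hd rfl
    have := hD.1 1 hd
    rw [orderOf_one] at this
    omega
  have hinv : ∀ d ∈ D, d⁻¹ = d := fun d hd => inv_eq_of_mul_eq_one_left (hsq d hd)
  refine ⟨hsq, hne1, hconj, ?_, ?_, ?_, ?_⟩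
  · intro a ha b hb hnc
    exact braid_of_hyp hD ha hb (hinv a ha) (hinv b hb) hnc
  · intro d hd
    obtain ⟨e⟩ := hloc d hd
    have h6 : Nat.card ↥(Subgroup.closure (Nb D d)) = 6 := by
      rw [Nat.card_congr e.toEquiv, Nat.card_eq_fintype_card, Fintype.card_perm, Fintype.card_fin]
      rfl
    by_contra hno
    push_neg at hno
    by_cases hemp : ∃ y₀, y₀ ∈ Nb D d
    · obtain ⟨y₀, hy₀⟩ := hemp
      have hle : Subgroup.closure (Nb D d) ≤ Subgroup.zpowers y₀ := by
        rw [Subgroup.closure_le]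
        intro y hy
        rw [hno y y₀ hy hy₀]
        exact Subgroup.mem_zpowers y₀
      have h1 := Subgroup.card_le_of_le hle
      rw [h6, Nat.card_zpowers, hD.1 y₀ hy₀.1] at h1
      omega
    · have : Nb D d = ∅ := by
        rw [Set.eq_empty_iff_forall_notMem]
        intro y hy
        exact hemp ⟨y, hy⟩
      rw [this, Subgroup.closure_empty, Subgroup.card_bot] at h6
      omega
  · intro d hd y hy y' hy' hne hc
    obtain ⟨e⟩ := hloc d hd
    have hyc := Subgroup.subset_closure hy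
    have hyc' := Subgroup.subset_closure hy'
    obtain ⟨p1, p2⟩ := img_props e hyc (hsq y hy.1) (hne1 y hy.1)
    obtain ⟨p1', p2'⟩ := img_props e hyc' (hsq y' hy'.1) (hne1 y' hy'.1)
    have hne' : e ⟨y, hyc⟩ ≠ e ⟨y', hyc'⟩ := by
      intro h
      exact hne (congrArg Subtype.val (e.injective h))
    apply s3_ncomm _ _ p1 p1' p2 p2' hne'
    rw [← map_mul, ← map_mul]
    congr 1
    exact Subtype.ext hc.eq
  · intro d hd g1 hg1 g2 hg2 g3 hg3 h12 h13 h23 g hg
    obtain ⟨e⟩ := hloc d hd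
    have c1 := Subgroup.subset_closure hg1
    have c2 := Subgroup.subset_closure hg2
    have c3 := Subgroup.subset_closure hg3
    have c := Subgroup.subset_closure hg
    obtain ⟨p1, q1⟩ := img_props e c1 (hsq g1 hg1.1) (hne1 g1 hg1.1)
    obtain ⟨p2, q2⟩ := img_props e c2 (hsq g2 hg2.1) (hne1 g2 hg2.1)
    obtain ⟨p3, q3⟩ := img_props e c3 (hsq g3 hg3.1) (hne1 g3 hg3.1)
    obtain ⟨p, q⟩ := img_props e c (hsq g hg.1) (hne1 g hg.1)
    have inj : ∀ {u v : G} (hu : u ∈ Subgroup.closure (Nb D d)) (hv : v ∈ Subgroup.closure (Nb D d)),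
        e ⟨u, hu⟩ = e ⟨v, hv⟩ → u = v := fun hu hv h => congrArg Subtype.val (e.injective h)
    rcases s3_three _ _ _ _ p1 p2 p3 p q1 q2 q3 q (fun h => h12 (inj c1 c2 h))
      (fun h => h13 (inj c1 c3 h)) (fun h => h23 (inj c2 c3 h)) with h | h | h
    · left; exact inj c c1 h
    · right; left; exact inj c c2 h
    · right; right; exact inj c c3 h

/-- **recognition of `S₃ × S₃`** -/
theorem iso_of_blk (h : TL D) {X Y : Set G} (k : Blk D X Y) (hXY : D = X ∪ Y)
    (eY : ↥(Subgroup.closure Y) ≃* Equiv.Perm (Fin 3))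
    (eX : ↥(Subgroup.closure X) ≃* Equiv.Perm (Fin 3)) :
    Nonempty (↥(Subgroup.closure D) ≃* Equiv.Perm (Fin 3) × Equiv.Perm (Fin 3)) := by
  set ψX : Equiv.Perm (Fin 3) →* G := (Subgroup.closure X).subtype.comp eX.symm.toMonoidHom with hψX
  set ψY : Equiv.Perm (Fin 3) →* G := (Subgroup.closure Y).subtype.comp eY.symm.toMonoidHom with hψY
  have hXmem : ∀ m, ψX m ∈ Subgroup.closure X := fun m => (eX.symm m).2
  have hYmem : ∀ m, ψY m ∈ Subgroup.closure Y := fun m => (eY.symm m).2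
  have hXr : ψX.range = Subgroup.closure X := by
    ext z
    constructor
    · rintro ⟨m, rfl⟩; exact hXmem m
    · intro hz
      refine ⟨eX ⟨z, hz⟩, ?_⟩
      show ((eX.symm (eX ⟨z, hz⟩) : ↥(Subgroup.closure X)) : G) = z
      rw [MulEquiv.symm_apply_apply]
  have hYr : ψY.range = Subgroup.closure Y := by
    ext z
    constructor
    · rintro ⟨m, rfl⟩; exact hYmem m
    · intro hz
      refine ⟨eY ⟨z, hz⟩, ?_⟩
      show ((eY.symm (eY ⟨z, hz⟩) : ↥(Subgroup.closure Y)) : G) = z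
      rw [MulEquiv.symm_apply_apply]
  have hcent : Subgroup.closure Y ≤ Subgroup.centralizer ((Subgroup.closure X : Subgroup G) : Set G) := by
    rw [Subgroup.centralizer_closure, Subgroup.closure_le]
    intro y hy
    rw [SetLike.mem_coe, Subgroup.mem_centralizer_iff]
    intro x hx
    exact (k.commute hx hy).eq
  have hcomm : ∀ m n, Commute (ψX m) (ψY n) := by
    intro m n
    exact Subgroup.mem_centralizer_iff.mp (hcent (hYmem n)) _ (hXmem m)
  have hinjX : Function.Injective ψX := by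
    intro m n hmn
    have : eX.symm m = eX.symm n := Subtype.ext hmn
    exact eX.symm.injective this
  have hinjY : Function.Injective ψY := by
    intro m n hmn
    have : eY.symm m = eY.symm n := Subtype.ext hmn
    exact eY.symm.injective this
  have hdisj : Disjoint ψX.range ψY.range := by
    rw [Subgroup.disjoint_def]
    rintro z ⟨m, rfl⟩ ⟨n, hn⟩
    have hm : m = 1 := by
      apply s3_center
      intro w
      apply hinjX
      rw [map_mul, map_mul, ← hn]
      exact ((hcomm w n).eq).symm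
    rw [hm, map_one]
  have hinj : Function.Injective (ψX.noncommCoprod ψY hcomm) :=
    (MonoidHom.noncommCoprod_injective ψX ψY hcomm).mpr ⟨hinjX, hinjY, hdisj⟩
  have hrange : (ψX.noncommCoprod ψY hcomm).range = Subgroup.closure D := by
    rw [MonoidHom.noncommCoprod_range, hXr, hYr, hXY, Subgroup.closure_union]
  exact ⟨((MonoidHom.ofInjective hinj).trans (MulEquiv.subgroupCongr hrange)).symm⟩

theorem pow_three_of_braid {a b : G} (ha : a * a = 1) (hb : b * b = 1)
    (hbr : a * b * a = b * a * b) : (a * b) ^ 3 = 1 := by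
  have : (a * b) ^ 3 = (a * b * a) * (b * a * b) := by rw [pow_succ, pow_two]; group
  rw [this, ← hbr]
  calc a * b * a * (a * b * a) = a * b * (a * a) * b * a := by group
    _ = a * (b * b) * a := by rw [ha, mul_one]; group
    _ = 1 := by rw [hb, mul_one, ha]

theorem pow_two_of_comm {a b : G} (ha : a * a = 1) (hb : b * b = 1) (hc : Commute a b) :
    (a * b) ^ 2 = 1 := by
  rw [pow_two]
  calc a * b * (a * b) = a * (b * a) * b := by group
    _ = a * (a * b) * b := by rw [hc.eq]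
    _ = (a * a) * (b * b) := by group
    _ = 1 := by rw [ha, hb, one_mul]

/-- **recognition of `S₅`** -/
theorem s5_of_not_KP (h : TL D) {d : G} (hd : d ∈ D) (hnK : ¬ KP D d) :
    ∃ B : Set G, Closed D B ∧ d ∈ B ∧
      Nonempty (↥(Subgroup.closure B) ≃* Equiv.Perm (Fin 5)) := by
  obtain ⟨e1, e2, he1, he2, hne⟩ := h.two d hd
  obtain ⟨u, u', hu, hu', huu'⟩ := h.two e1 he1.1
  obtain ⟨d1, hd1, hd1d⟩ : ∃ d1, d1 ∈ Nb D e1 ∧ d1 ≠ d := by
    by_cases hud : u = d
    · exact ⟨u', hu', fun h' => huu' (hud.trans h'.symm)⟩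
    · exact ⟨u, hu, hud⟩
  have hc : ¬ Commute d1 e2 := fun hc => hnK ⟨e1, e2, d1, he1, he2, hne, hd1, hd1d, hc⟩
  have hdX : d ∈ Nb D e1 := h.nb_symm hd he1
  have hncd : ¬ Commute d d1 := h.ncomm e1 he1.1 d hdX d1 hd1 (Ne.symm hd1d)
  have hnce : ¬ Commute e2 e1 := h.ncomm d hd e2 he2 e1 he1 (Ne.symm hne)
  have sd := h.sq d hd
  have sd1 := h.sq d1 hd1.1
  have se1 := h.sq e1 he1.1
  have se2 := h.sq e2 he2.1
  have b01 : d * d1 * d = d1 * d * d1 := h.rel d hd d1 hd1.1 hncd
  have b12 : d1 * e2 * d1 = e2 * d1 * e2 := h.rel d1 hd1.1 e2 he2.1 hc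
  have b23 : e2 * e1 * e2 = e1 * e2 * e1 := h.rel e2 he2.1 e1 he1.1 hnce
  have c02 : Commute d e2 := he2.2.2
  have c03 : Commute d e1 := he1.2.2
  have c13 : Commute d1 e1 := hd1.2.2.symm
  have hf : (CoxeterMatrix.A 4).IsLiftable (![d, d1, e2, e1] : Fin 4 → G) := by
    intro i i'
    fin_cases i <;> fin_cases i'
    · show (d * d) ^ 1 = 1
      rw [pow_one, sd]
    · show (d * d1) ^ 3 = 1
      exact pow_three_of_braid sd sd1 b01
    · show (d * e2) ^ 2 = 1
      exact pow_two_of_comm sd se2 c02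
    · show (d * e1) ^ 2 = 1
      exact pow_two_of_comm sd se1 c03
    · show (d1 * d) ^ 3 = 1
      exact pow_three_of_braid sd1 sd b01.symm
    · show (d1 * d1) ^ 1 = 1
      rw [pow_one, sd1]
    · show (d1 * e2) ^ 3 = 1
      exact pow_three_of_braid sd1 se2 b12
    · show (d1 * e1) ^ 2 = 1
      exact pow_two_of_comm sd1 se1 c13
    · show (e2 * d) ^ 2 = 1
      exact pow_two_of_comm se2 sd c02.symm
    · show (e2 * d1) ^ 3 = 1
      exact pow_three_of_braid se2 sd1 b12.symm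
    · show (e2 * e2) ^ 1 = 1
      rw [pow_one, se2]
    · show (e2 * e1) ^ 3 = 1
      exact pow_three_of_braid se2 se1 b23
    · show (e1 * d) ^ 2 = 1
      exact pow_two_of_comm se1 sd c03.symm
    · show (e1 * d1) ^ 2 = 1
      exact pow_two_of_comm se1 sd1 c13.symm
    · show (e1 * e2) ^ 3 = 1
      exact pow_three_of_braid se1 se2 b23.symm
    · show (e1 * e1) ^ 1 = 1
      rw [pow_one, se1]
  obtain ⟨c, hcs⟩ := Cfsg.Agent.Lib.Helper4.CoxA.main 4
  set φ : Equiv.Perm (Fin 5) →* G := c.lift ⟨_, hf⟩ with hφ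
  have hφs : ∀ i : Fin 4, φ (swap i.castSucc i.succ) = (![d, d1, e2, e1] : Fin 4 → G) i := by
    intro i
    rw [← hcs i]
    exact c.lift_apply_simple hf i
  have hs0 : φ (swap 0 1) = d := hφs 0
  have hs1 : φ (swap 1 2) = d1 := hφs 1
  have hs2 : φ (swap 2 3) = e2 := hφs 2
  have hs3 : φ (swap 3 4) = e1 := hφs 3
  have hker : φ.ker = ⊥ := by
    by_contra hne'
    haveI : Nontrivial ↥φ.ker := (Subgroup.nontrivial_iff_ne_bot _).mpr hne'
    have hA := Equiv.Perm.alternatingGroup_le_of_normal (α := Fin 5) (by simp) (N := φ.ker)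
      inferInstance
    have hmem : (swap 0 1 * swap 1 2 : Equiv.Perm (Fin 5)) ∈ alternatingGroup (Fin 5) := by
      rw [Equiv.Perm.mem_alternatingGroup]; decide
    have h1 := hA hmem
    rw [MonoidHom.mem_ker, map_mul, hs0, hs1] at h1
    apply hd1d
    have := eq_inv_of_mul_eq_one_right h1
    rw [h.inv hd] at this
    exact this
  have hinj : Function.Injective φ := (MonoidHom.ker_eq_bot_iff φ).mp hker
  set B : Set G := {x | ∃ σ : Equiv.Perm (Fin 5), x = φ σ * d * (φ σ)⁻¹} with hB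
  have hBD : B ⊆ D := by
    rintro x ⟨σ, rfl⟩
    exact h.conj _ d hd
  have hdB : d ∈ B := ⟨1, by rw [map_one, one_mul, inv_one, mul_one]⟩
  have hBconj : ∀ τ : Equiv.Perm (Fin 5), ∀ x ∈ B, φ τ * x * (φ τ)⁻¹ ∈ B := by
    rintro τ x ⟨σ, rfl⟩
    refine ⟨τ * σ, ?_⟩
    rw [map_mul]; group
  have hswapB : ∀ σ : Equiv.Perm (Fin 5), σ.IsSwap → φ σ ∈ B := by
    rintro σ ⟨x, y, hxy, rfl⟩
    have hconj : IsConj (swap (0 : Fin 5) 1) (swap x y) :=
      Equiv.Perm.isConj_swap (by decide) hxy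
    obtain ⟨τ, hτ⟩ := isConj_iff.mp hconj
    refine ⟨τ, ?_⟩
    rw [← hτ, map_mul, map_mul, map_inv, hs0]
  have he1B : e1 ∈ B := by
    rw [← hs3]; exact hswapB _ ⟨3, 4, by decide, rfl⟩
  have he2B : e2 ∈ B := by
    rw [← hs2]; exact hswapB _ ⟨2, 3, by decide, rfl⟩
  have he3B : e1 * e2 * e1 ∈ B := by
    have := hBconj (swap 3 4) e2 he2B
    rw [hs3, h.inv he1.1] at this
    exact this
  have hNd : Nb D d ⊆ B := by
    intro g hg
    rcases h.nb_eq hd he1 he2 hne g hg with rfl | rfl | rfl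
    · exact he1B
    · exact he2B
    · exact he3B
  have hclosed : Closed D B := by
    refine ⟨hBD, ?_⟩
    rintro x ⟨σ, rfl⟩ g hg
    have h1 : (φ σ)⁻¹ * g * (φ σ)⁻¹⁻¹ ∈ Nb D ((φ σ)⁻¹ * (φ σ * d * (φ σ)⁻¹) * (φ σ)⁻¹⁻¹) :=
      h.nb_conj _ hg
    have e1' : (φ σ)⁻¹ * (φ σ * d * (φ σ)⁻¹) * (φ σ)⁻¹⁻¹ = d := by group
    rw [e1'] at h1
    have h2 := hBconj σ _ (hNd h1)
    have e2' : φ σ * ((φ σ)⁻¹ * g * (φ σ)⁻¹⁻¹) * (φ σ)⁻¹ = g := by group
    rw [e2'] at h2
    exact h2
  have hrange : φ.range = Subgroup.closure B := by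
    apply le_antisymm
    · rw [MonoidHom.range_eq_map, ← Equiv.Perm.closure_isSwap, MonoidHom.map_closure,
        Subgroup.closure_le]
      rintro _ ⟨σ, hσ, rfl⟩
      exact Subgroup.subset_closure (hswapB σ hσ)
    · rw [Subgroup.closure_le]
      rintro x ⟨σ, rfl⟩
      refine ⟨σ * swap 0 1 * σ⁻¹, ?_⟩
      rw [map_mul, map_mul, map_inv, hs0]
  exact ⟨B, hclosed, hdB, ⟨((MonoidHom.ofInjective hinj).trans (MulEquiv.subgroupCongr hrange)).symm⟩⟩

end Cfsg.Agent.Lib.Helper2.TTLoc
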