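import Mathlib
import Cfsg.Prelude.Def_CaseTheorems
import Cfsg.Agent.Lib.Helper1.PCore
import Cfsg.Agent.Lib.Helper2.TTLocA
import Cfsg.Agent.Lib.Helper2.TTLocB
set_option autoImplicit false
set_option maxHeartbeats 1000000
set_option linter.unusedVariables false
set_option linter.unusedSectionVars false
set_option linter.style.longLine false
set_option linter.unusedSimpArgs false
set_option linter.deprecated false
set_option linter.style.haveILetI false

/-! 3-transposition sets with local `S₃`, part C: if every member has property `K` then `D` is a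
single block; the argument with the normal elementary abelian `3`-subgroup `Θ` generated by the
subgroups `O₃⟨N(x)⟩`. -/

namespace Cfsg.Agent.Lib.Helper2.TTLoc

variable {G : Type*} [Group G] {D : Set G}

/-- the products of two members of a commuting set -/
def RS (D : Set G) : Set G := {u | ∃ x ∈ D, ∃ a ∈ Nb D x, ∃ b ∈ Nb D x, u = a * b}

/-- the subgroup `Θ` -/
def Th (D : Set G) : Subgroup G := Subgroup.closure (RS D)

theorem TL.prod_cases (h : TL D) {x a b a' b' : G} (hx : x ∈ D) (ha : a ∈ Nb D x)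
    (hb : b ∈ Nb D x) (hab : a ≠ b) (ha' : a' ∈ Nb D x) (hb' : b' ∈ Nb D x) (hab' : a' ≠ b') :
    a' * b' = a * b ∨ a' * b' = b * a := by
  have haa := h.sq a ha.1
  have hbb := h.sq b hb.1
  have hbr := h.braid hx ha hb hab
  have e1 : a * (a * b * a) = b * a := by
    calc a * (a * b * a) = (a * a) * b * a := by group
      _ = b * a := by rw [haa, one_mul]
  have e2 : (a * b * a) * a = a * b := by
    calc (a * b * a) * a = a * b * (a * a) := by group
      _ = a * b := by rw [haa, mul_one]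
  have e3 : b * (a * b * a) = a * b := by
    calc b * (a * b * a) = (b * a * b) * a := by group
      _ = (a * b * a) * a := by rw [hbr]
      _ = a * b := e2
  have e4 : (a * b * a) * b = b * a := by
    calc (a * b * a) * b = a * (b * a * b) := by group
      _ = a * (a * b * a) := by rw [hbr]
      _ = b * a := e1
  rcases h.nb_eq hx ha hb hab a' ha' with rfl | rfl | rfl <;>
    rcases h.nb_eq hx ha hb hab b' hb' with rfl | rfl | rfl
  · exact absurd rfl hab'
  · left; rfl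
  · right; exact e1
  · right; rfl
  · exact absurd rfl hab'
  · left; exact e3
  · left; exact e2
  · right; exact e4
  · exact absurd rfl hab'

theorem TL.ab_ne_one (h : TL D) {x a b : G} (hb : b ∈ Nb D x) (hab : a ≠ b) : a * b ≠ 1 := by
  intro e
  apply hab
  have := eq_inv_of_mul_eq_one_left e
  rwa [h.inv hb.1] at this

theorem TL.ab_pow_three (h : TL D) {x a b : G} (hx : x ∈ D) (ha : a ∈ Nb D x) (hb : b ∈ Nb D x)
    (hab : a ≠ b) : (a * b) ^ 3 = 1 :=
  pow_three_of_braid (h.sq a ha.1) (h.sq b hb.1) (h.braid hx ha hb hab)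

theorem TL.ba_eq_inv (h : TL D) {x a b : G} (ha : a ∈ Nb D x) (hb : b ∈ Nb D x) :
    b * a = (a * b)⁻¹ := by
  rw [mul_inv_rev, h.inv ha.1, h.inv hb.1]

theorem RS_conj (h : TL D) {u : G} (hu : u ∈ RS D) (g : G) : g * u * g⁻¹ ∈ RS D := by
  obtain ⟨x, hx, a, ha, b, hb, rfl⟩ := hu
  refine ⟨g * x * g⁻¹, h.conj g x hx, g * a * g⁻¹, h.nb_conj g ha, g * b * g⁻¹, h.nb_conj g hb, ?_⟩
  group

theorem Th_normal (h : TL D) : (Th D).Normal := by
  constructor
  intro n hn g
  unfold Th at hn ⊢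
  induction hn using Subgroup.closure_induction with
  | mem x hx => exact Subgroup.subset_closure (RS_conj h hx g)
  | one => rw [mul_one, mul_inv_cancel]; exact Subgroup.one_mem _
  | mul x y _ _ hx hy =>
    have : g * (x * y) * g⁻¹ = (g * x * g⁻¹) * (g * y * g⁻¹) := by group
    rw [this]; exact Subgroup.mul_mem _ hx hy
  | inv x _ hx =>
    have : g * x⁻¹ * g⁻¹ = (g * x * g⁻¹)⁻¹ := by group
    rw [this]; exact Subgroup.inv_mem _ hx

/-- the generators of `Θ` commute pairwise -/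
theorem RS_comm (h : TL D) (hK : ∀ x ∈ D, KP D x) : ∀ u ∈ RS D, ∀ v ∈ RS D, u * v = v * u := by
  rintro u ⟨x, hx, a, ha, b, hb, rfl⟩ v ⟨f, hf, a', ha', b', hb', rfl⟩
  by_cases hab : a = b
  · rw [hab, h.sq b hb.1, one_mul, mul_one]
  by_cases hab' : a' = b'
  · rw [hab', h.sq b' hb'.1, one_mul, mul_one]
  obtain ⟨X, Y, k, hxX⟩ := h.blk_of_KP hx (hK x hx)
  have hY : Nb D x = Y := k.nbX x hxX
  by_cases hfX : f ∈ X
  · have hYf : Nb D f = Nb D x := by rw [k.nbX f hfX, hY]
    rw [hYf] at ha' hb'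
    rcases h.prod_cases hx ha hb hab ha' hb' hab' with e | e
    · rw [e]
    · rw [e]
      calc a * b * (b * a) = a * (b * b) * a := by group
        _ = 1 := by rw [h.sq b hb.1, mul_one, h.sq a ha.1]
        _ = b * (a * a) * b := by rw [h.sq a ha.1, mul_one, h.sq b hb.1]
        _ = b * a * (a * b) := by group
  by_cases hfY : f ∈ Y
  · have hXf : Nb D f = X := k.nbY f hfY
    rw [hXf] at ha' hb'
    rw [hY] at ha hb
    have c1 : Commute a a' := (k.commute ha' ha).symm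
    have c2 : Commute a b' := (k.commute hb' ha).symm
    have c3 : Commute b a' := (k.commute ha' hb).symm
    have c4 : Commute b b' := (k.commute hb' hb).symm
    exact ((c1.mul_right c2).mul_left (c3.mul_right c4)).eq
  · have hfB : f ∉ X ∪ Y := fun hc => hc.elim hfX hfY
    have xd : XD D (X ∪ Y) a b x f := ⟨k.closed, Or.inl hxX, ha, hb, hab, hf, hfB⟩
    have hcm := xd.comm h
    rcases h.prod_cases hf (xd.ga h) (xd.gb h) (xd.ga_ne_gb h) ha' hb' hab' with e | e
    · rw [e]; exact hcm.eq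
    · rw [e, h.ba_eq_inv (xd.ga h) (xd.gb h)]
      exact hcm.inv_right.eq

theorem Th_comm (h : TL D) (hK : ∀ x ∈ D, KP D x) : ∀ s ∈ Th D, ∀ t ∈ Th D, s * t = t * s := by
  haveI : IsMulCommutative ↥(Th D) := Subgroup.isMulCommutative_closure (RS_comm h hK)
  intro s hs t ht
  have := IsMulCommutative.is_comm.comm (⟨s, hs⟩ : ↥(Th D)) ⟨t, ht⟩
  exact congrArg Subtype.val this

theorem Th_pow3 (h : TL D) (hK : ∀ x ∈ D, KP D x) : ∀ s ∈ Th D, s ^ 3 = 1 := by
  intro s hs
  have hs' := hs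
  unfold Th at hs
  induction hs using Subgroup.closure_induction with
  | mem u hu =>
    obtain ⟨x, hx, a, ha, b, hb, rfl⟩ := hu
    by_cases hab : a = b
    · rw [hab, h.sq b hb.1, one_pow]
    · exact h.ab_pow_three hx ha hb hab
  | one => exact one_pow 3
  | mul x y hx hy ihx ihy =>
    have hc : Commute x y := Th_comm h hK x hx y hy
    rw [hc.mul_pow, ihx hx, ihy hy, one_mul]
  | inv x hx ihx => rw [inv_pow, ihx hx, inv_one]

theorem isPGroup_subgroupOf_of_pow (M C : Subgroup G) (hM : ∀ m ∈ M, m ^ 3 = 1) :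
    IsPGroup 3 ↥(M.subgroupOf C) := by
  rintro ⟨⟨n, hnC⟩, hn⟩
  refine ⟨1, ?_⟩
  rw [pow_one]
  apply Subtype.ext
  apply Subtype.ext
  show n ^ 3 = 1
  exact hM n (Subgroup.mem_subgroupOf.mp hn)

theorem zpowers_pow3 {r : G} (hr : r ^ 3 = 1) : ∀ m ∈ Subgroup.zpowers r, m ^ 3 = 1 := by
  intro m hm
  obtain ⟨k, rfl⟩ := Subgroup.mem_zpowers_iff.mp hm
  rw [← zpow_natCast, ← zpow_mul, mul_comm, zpow_mul, zpow_natCast, hr, one_zpow]

variable [Finite G]

/-- `C_Θ(d) = O₃⟨N(d)⟩` -/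
theorem mem_rho_of_commute (h : TL D) (hK : ∀ x ∈ D, KP D x) {d a b θ : G}
    (hO : Nat.card (Cfsg.pCore 3 ↥(Subgroup.centralizer ({d} : Set G))) = 3)
    (hd : d ∈ D) (ha : a ∈ Nb D d) (hb : b ∈ Nb D d) (hab : a ≠ b) (hθ : θ ∈ Th D)
    (hc : Commute d θ) : θ ∈ Subgroup.zpowers (a * b) := by
  haveI : Fact (Nat.Prime 3) := ⟨Nat.prime_three⟩
  have hr3 : (a * b) ^ 3 = 1 := h.ab_pow_three hd ha hb hab
  have hr1 : a * b ≠ 1 := h.ab_ne_one hb hab
  have hρC : Subgroup.zpowers (a * b) ≤ Subgroup.centralizer ({d} : Set G) := by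
    rw [Subgroup.zpowers_le, Subgroup.mem_centralizer_singleton_iff]
    exact ((ha.2.2.mul_right hb.2.2).eq).symm
  have hρn : ((Subgroup.zpowers (a * b)).subgroupOf (Subgroup.centralizer ({d} : Set G))).Normal := by
    constructor
    rintro ⟨n, hnC⟩ hn ⟨g, hgC⟩
    rw [Subgroup.mem_subgroupOf] at hn ⊢
    show g * n * g⁻¹ ∈ Subgroup.zpowers (a * b)
    have hn' : n ∈ Subgroup.zpowers (a * b) := hn
    obtain ⟨k, rfl⟩ := Subgroup.mem_zpowers_iff.mp hn'
    have hgd : g * d * g⁻¹ = d := by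
      have := Subgroup.mem_centralizer_singleton_iff.mp hgC
      rw [this]; group
    have ha' : g * a * g⁻¹ ∈ Nb D d := by
      have := h.nb_conj g ha
      rwa [hgd] at this
    have hb' : g * b * g⁻¹ ∈ Nb D d := by
      have := h.nb_conj g hb
      rwa [hgd] at this
    have hne' : g * a * g⁻¹ ≠ g * b * g⁻¹ := by
      intro e
      apply hab
      have e' : MulAut.conj g a = MulAut.conj g b := by
        rw [MulAut.conj_apply, MulAut.conj_apply]; exact e
      exact (MulAut.conj g).injective e'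
    rw [← conj_zpow]
    apply Subgroup.zpow_mem
    have e : g * (a * b) * g⁻¹ = (g * a * g⁻¹) * (g * b * g⁻¹) := by group
    rw [e]
    rcases h.prod_cases hd ha hb hab ha' hb' hne' with e' | e'
    · rw [e']; exact Subgroup.mem_zpowers _
    · rw [e', h.ba_eq_inv ha hb]; exact Subgroup.inv_mem _ (Subgroup.mem_zpowers _)
  have hρp := isPGroup_subgroupOf_of_pow (Subgroup.zpowers (a * b))
    (Subgroup.centralizer ({d} : Set G)) (zpowers_pow3 hr3)
  have hcard : Nat.card ↥((Subgroup.zpowers (a * b)).subgroupOf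
      (Subgroup.centralizer ({d} : Set G))) = 3 := by
    rw [Nat.card_congr (Subgroup.subgroupOfEquivOfLe hρC).toEquiv, Nat.card_zpowers]
    exact orderOf_eq_prime hr3 hr1
  have h1 := Cfsg.Agent.Lib.Helper1.le_pCore hρn hρp
  have heq := Subgroup.eq_of_le_of_card_ge h1 (by rw [hO, hcard])
  haveI := Th_normal h
  have hΘn : ((Th D).subgroupOf (Subgroup.centralizer ({d} : Set G))).Normal :=
    Subgroup.Normal.subgroupOf inferInstance _
  have hΘp := isPGroup_subgroupOf_of_pow (Th D) (Subgroup.centralizer ({d} : Set G))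
    (Th_pow3 h hK)
  have h2 := Cfsg.Agent.Lib.Helper1.le_pCore hΘn hΘp
  have hθC : θ ∈ Subgroup.centralizer ({d} : Set G) := by
    rw [Subgroup.mem_centralizer_singleton_iff]; exact hc.eq.symm
  have hmem : (⟨θ, hθC⟩ : ↥(Subgroup.centralizer ({d} : Set G))) ∈
      (Th D).subgroupOf (Subgroup.centralizer ({d} : Set G)) := Subgroup.mem_subgroupOf.mpr hθ
  have := h2 hmem
  rw [← heq] at this
  exact Subgroup.mem_subgroupOf.mp this

theorem rho_commute {d a b w : G} (ha : a ∈ Nb D d) (hb : b ∈ Nb D d)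
    (hw : w ∈ Subgroup.zpowers (a * b)) : Commute d w := by
  obtain ⟨k, rfl⟩ := Subgroup.mem_zpowers_iff.mp hw
  exact (ha.2.2.mul_right hb.2.2).zpow_right k

theorem rho_inv {e b w : G} (he : e * e = 1) (hb : b * b = 1)
    (hw : w ∈ Subgroup.zpowers (e * b)) : e * w * e = w⁻¹ := by
  obtain ⟨k, rfl⟩ := Subgroup.mem_zpowers_iff.mp hw
  have hei : e⁻¹ = e := inv_eq_of_mul_eq_one_left he
  have hbi : b⁻¹ = b := inv_eq_of_mul_eq_one_left hb
  have e1 : e * (e * b) * e⁻¹ = (e * b)⁻¹ := by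
    rw [mul_inv_rev, hei, hbi]
    calc e * (e * b) * e = (e * e) * b * e := by group
      _ = b * e := by rw [he, one_mul]
  calc e * (e * b) ^ k * e = e * (e * b) ^ k * e⁻¹ := by rw [hei]
    _ = (e * (e * b) * e⁻¹) ^ k := conj_zpow.symm
    _ = ((e * b) ^ k)⁻¹ := by rw [e1, inv_zpow]

/-- the order 6 trick -/
theorem trick (h : TL D) (hK : ∀ x ∈ D, KP D x) {d e a b θ : G}
    (hO : Nat.card (Cfsg.pCore 3 ↥(Subgroup.centralizer ({d} : Set G))) = 3)
    (hd : d ∈ D) (he : e ∈ Nb D d) (ha : a ∈ Nb D d) (hb : b ∈ Nb D d) (hab : a ≠ b)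
    (hθ : θ ∈ Th D) : e * θ⁻¹ * e * θ ∈ Subgroup.zpowers (a * b) := by
  haveI := Th_normal h
  have hee := h.sq e he.1
  have hdd := h.sq d hd
  have hei := h.inv he.1
  have hdi := h.inv hd
  set t := e * θ⁻¹ * e * θ with ht_def
  have ht : t ∈ Th D := by
    have h1 : e * θ⁻¹ * e⁻¹ ∈ Th D :=
      (inferInstance : (Th D).Normal).conj_mem θ⁻¹ (Subgroup.inv_mem _ hθ) e
    rw [hei] at h1
    exact Subgroup.mul_mem _ h1 hθ
  apply mem_rho_of_commute h hK hO hd ha hb hab ht
  have het : e * t = θ⁻¹ * e * θ := by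
    calc e * t = (e * e) * θ⁻¹ * e * θ := by rw [ht_def]; group
      _ = θ⁻¹ * e * θ := by rw [hee, one_mul]
  have he'D : e * t ∈ D := by
    rw [het]
    have := h.conj θ⁻¹ e he.1
    rwa [inv_inv] at this
  have hete : e * t * e = t⁻¹ := by
    calc e * t * e = θ⁻¹ * e * θ * e := by rw [het]
      _ = t⁻¹ := by rw [ht_def, mul_inv_rev, mul_inv_rev, mul_inv_rev, inv_inv, hei]; group
  have het' : e * t = t⁻¹ * e := by
    calc e * t = (e * t * e) * e := by rw [mul_assoc (e * t), hee, mul_one]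
      _ = t⁻¹ * e := by rw [hete]
  have hede : e * d * e = d := by
    rw [← he.2.2.eq, mul_assoc, hee, mul_one]
  have hsq2 : (d * (e * t)) * (d * (e * t)) = (d * t⁻¹ * d) * t := by
    calc (d * (e * t)) * (d * (e * t)) = d * (e * t) * d * (e * t) := by group
      _ = d * (t⁻¹ * e) * d * (e * t) := by rw [het']
      _ = d * t⁻¹ * (e * d * e) * t := by group
      _ = (d * t⁻¹ * d) * t := by rw [hede]
  by_cases hcm : Commute d (e * t)
  · have h1 : (d * (e * t)) * (d * (e * t)) = 1 := by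
      calc (d * (e * t)) * (d * (e * t)) = d * ((e * t) * d) * (e * t) := by group
        _ = d * (d * (e * t)) * (e * t) := by rw [hcm.eq]
        _ = (d * d) * ((e * t) * (e * t)) := by group
        _ = 1 := by rw [hdd, h.sq _ he'D, one_mul]
    rw [hsq2] at h1
    have h2 : d * t⁻¹ * d = t⁻¹ := eq_inv_of_mul_eq_one_left h1
    have h3 : Commute d t⁻¹ := by
      show d * t⁻¹ = t⁻¹ * d
      calc d * t⁻¹ = (d * t⁻¹ * d) * d := by rw [mul_assoc (d * t⁻¹), hdd, mul_one]
        _ = t⁻¹ * d := by rw [h2]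
    exact Commute.inv_right_iff.mp h3
  · exfalso
    have hbr := h.rel d hd (e * t) he'D hcm
    have h3 : (d * (e * t)) ^ 3 = 1 := pow_three_of_braid hdd (h.sq _ he'D) hbr
    have h4 : d * (e * t) = ((d * (e * t)) * (d * (e * t)))⁻¹ := by
      apply eq_inv_of_mul_eq_one_left
      rw [← h3, pow_succ, pow_two]; group
    have h5 : (d * t⁻¹ * d) * t ∈ Th D := by
      have h1 : d * t⁻¹ * d⁻¹ ∈ Th D :=
        (inferInstance : (Th D).Normal).conj_mem t⁻¹ (Subgroup.inv_mem _ ht) d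
      rw [hdi] at h1
      exact Subgroup.mul_mem _ h1 ht
    have h6 : d * (e * t) ∈ Th D := by
      rw [h4, hsq2]; exact Subgroup.inv_mem _ h5
    have h7 : d * e ∈ Th D := by
      have : d * e = (d * (e * t)) * t⁻¹ := by group
      rw [this]; exact Subgroup.mul_mem _ h6 (Subgroup.inv_mem _ ht)
    have h8 : (d * e) ^ 3 = 1 := Th_pow3 h hK _ h7
    have h9 : (d * e) ^ 2 = 1 := pow_two_of_comm hdd hee he.2.2
    have h10 : d * e = 1 := by
      calc d * e = (d * e) ^ 3 * ((d * e) ^ 2)⁻¹ := by group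
        _ = 1 := by rw [h8, h9, inv_one, mul_one]
    apply he.2.1
    have := eq_inv_of_mul_eq_one_right h10
    rwa [hdi] at this

/-- the product of two commuting members of `D` inverts `Θ` -/
theorem inverts (h : TL D) (hK : ∀ x ∈ D, KP D x)
    (hO : ∀ d ∈ D, Nat.card (Cfsg.pCore 3 ↥(Subgroup.centralizer ({d} : Set G))) = 3)
    {d e θ : G} (hd : d ∈ D) (he : e ∈ Nb D d) (hθ : θ ∈ Th D) :
    (d * e) * θ * (d * e)⁻¹ = θ⁻¹ := by
  haveI := Th_normal h
  have heD := he.1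
  have hee := h.sq e heD
  have hdd := h.sq d hd
  have hei := h.inv heD
  have hdi := h.inv hd
  have hde : d ∈ Nb D e := h.nb_symm hd he
  -- other elements
  obtain ⟨b, hb, hbe⟩ : ∃ b, b ∈ Nb D d ∧ e ≠ b := by
    obtain ⟨u, u', hu, hu', huu'⟩ := h.two d hd
    by_cases hue : e = u
    · exact ⟨u', hu', fun h' => huu' (hue.symm.trans h')⟩
    · exact ⟨u, hu, hue⟩
  obtain ⟨b', hb', hbd⟩ : ∃ b', b' ∈ Nb D e ∧ d ≠ b' := by
    obtain ⟨u, u', hu, hu', huu'⟩ := h.two e heD
    by_cases hue : d = u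
    · exact ⟨u', hu', fun h' => huu' (hue.symm.trans h')⟩
    · exact ⟨u, hu, hue⟩
  have htρ0 : e * θ⁻¹ * e * θ ∈ Subgroup.zpowers (e * b) :=
    trick h hK (hO d hd) hd he he hb hbe hθ
  obtain ⟨t, ht_def⟩ : ∃ t, t = e * θ⁻¹ * e * θ := ⟨_, rfl⟩
  have htρ : t ∈ Subgroup.zpowers (e * b) := by rw [ht_def]; exact htρ0
  have ht : t ∈ Th D := by
    have h1 : e * θ⁻¹ * e⁻¹ ∈ Th D :=
      (inferInstance : (Th D).Normal).conj_mem θ⁻¹ (Subgroup.inv_mem _ hθ) e
    rw [hei] at h1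
    rw [ht_def]
    exact Subgroup.mul_mem _ h1 hθ
  have hete : e * t * e = t⁻¹ := rho_inv hee (h.sq b hb.1) htρ
  -- e θ e = θ t⁻¹
  have heθe : e * θ * e = θ * t⁻¹ := by
    rw [ht_def, mul_inv_rev, mul_inv_rev, mul_inv_rev, inv_inv, hei]; group
  have hetie : e * t⁻¹ * e = t := by
    have h1 : (e * t * e)⁻¹ = e⁻¹ * t⁻¹ * e⁻¹ := by group
    rw [hete, inv_inv, hei] at h1
    exact h1.symm
  have hti : t⁻¹ ∈ Th D := Subgroup.inv_mem _ ht
  -- c₂ := θ θ t⁻¹ commutes with e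
  have hc2 : θ * θ * t⁻¹ ∈ Th D := Subgroup.mul_mem _ (Subgroup.mul_mem _ hθ hθ) hti
  have hc2e : Commute e (θ * θ * t⁻¹) := by
    have h1 : e * (θ * θ * t⁻¹) * e = θ * θ * t⁻¹ := by
      calc e * (θ * θ * t⁻¹) * e = (e * θ * e) * (e * θ * e) * (e * t⁻¹ * e) := by
            have : (e * θ * e) * (e * θ * e) * (e * t⁻¹ * e)
                = e * θ * (e * e) * θ * (e * e) * t⁻¹ * e := by group
            rw [this, hee, mul_one, mul_one]; group
        _ = (θ * t⁻¹) * (θ * t⁻¹) * t := by rw [heθe, hetie]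
        _ = θ * (t⁻¹ * θ) * t⁻¹ * t := by group
        _ = θ * (θ * t⁻¹) * t⁻¹ * t := by rw [Th_comm h hK t⁻¹ hti θ hθ]
        _ = θ * θ * t⁻¹ := by group
    show e * (θ * θ * t⁻¹) = (θ * θ * t⁻¹) * e
    calc e * (θ * θ * t⁻¹) = (e * (θ * θ * t⁻¹) * e) * e := by
          rw [mul_assoc (e * (θ * θ * t⁻¹)), hee, mul_one]
      _ = (θ * θ * t⁻¹) * e := by rw [h1]
  have hc2ρ : θ * θ * t⁻¹ ∈ Subgroup.zpowers (d * b') :=
    mem_rho_of_commute h hK (hO e heD) heD hde hb' hbd hc2 hc2e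
  obtain ⟨c, hc_def⟩ : ∃ c, c = (θ * θ * t⁻¹) * (θ * θ * t⁻¹) := ⟨_, rfl⟩
  obtain ⟨w, hw_def⟩ : ∃ w, w = t * t := ⟨_, rfl⟩
  have hcρ : c ∈ Subgroup.zpowers (d * b') := by rw [hc_def]; exact Subgroup.mul_mem _ hc2ρ hc2ρ
  have hwρ : w ∈ Subgroup.zpowers (e * b) := by rw [hw_def]; exact Subgroup.mul_mem _ htρ htρ
  have hcT : c ∈ Th D := by rw [hc_def]; exact Subgroup.mul_mem _ hc2 hc2
  have hwT : w ∈ Th D := by rw [hw_def]; exact Subgroup.mul_mem _ ht ht
  have hθ3 : θ ^ 3 = 1 := Th_pow3 h hK θ hθ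
  have hθcw : θ = c * w := by
    have e1 : c * w = θ * θ * θ * θ := by
      have hcm1 : θ * t⁻¹ = t⁻¹ * θ := Th_comm h hK θ hθ t⁻¹ hti
      have hcm2 : θ * t = t * θ := Th_comm h hK θ hθ t ht
      rw [hc_def, hw_def]
      calc θ * θ * t⁻¹ * (θ * θ * t⁻¹) * (t * t)
          = θ * θ * (t⁻¹ * θ) * θ * (t⁻¹ * t) * t := by group
        _ = θ * θ * (θ * t⁻¹) * θ * t := by rw [← hcm1, inv_mul_cancel, mul_one]
        _ = θ * θ * θ * (t⁻¹ * θ) * t := by group
        _ = θ * θ * θ * (θ * t⁻¹) * t := by rw [← hcm1]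
        _ = θ * θ * θ * θ := by group
    rw [e1]
    have : θ * θ * θ * θ = θ ^ 3 * θ := by rw [pow_succ, pow_two]
    rw [this, hθ3, one_mul]
  -- actions
  have a1 : e * c * e = c := by
    have hcm : Commute e c := rho_commute hde hb' hcρ
    rw [hcm.eq, mul_assoc, hee, mul_one]
  have a2 : e * w * e = w⁻¹ := rho_inv hee (h.sq b hb.1) hwρ
  have a3 : d * c * d = c⁻¹ := rho_inv hdd (h.sq b' hb'.1) hcρ
  have a4 : d * w⁻¹ * d = w⁻¹ := by
    have hcm : Commute d w⁻¹ := (rho_commute he hb hwρ).inv_right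
    rw [hcm.eq, mul_assoc, hdd, mul_one]
  have hinv : (d * e)⁻¹ = e * d := by rw [mul_inv_rev, hei, hdi]
  rw [hinv, hθcw]
  calc d * e * (c * w) * (e * d) = d * ((e * c * e) * (e * w * e)) * d := by
        have : d * ((e * c * e) * (e * w * e)) * d = d * e * c * (e * e) * w * e * d := by group
        rw [this, hee, mul_one]; group
    _ = d * (c * w⁻¹) * d := by rw [a1, a2]
    _ = (d * c * d) * (d * w⁻¹ * d) := by
        have : (d * c * d) * (d * w⁻¹ * d) = d * c * (d * d) * w⁻¹ * d := by group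
        rw [this, hdd, mul_one]; group
    _ = c⁻¹ * w⁻¹ := by rw [a3, a4]
    _ = (w * c)⁻¹ := (mul_inv_rev w c).symm
    _ = (c * w)⁻¹ := by rw [Th_comm h hK w hwT c hcT]

/-- if every member of `D` has property `K` then a block is all of `D` -/
theorem main2 (h : TL D) (hK : ∀ x ∈ D, KP D x)
    (hO : ∀ d ∈ D, Nat.card (Cfsg.pCore 3 ↥(Subgroup.centralizer ({d} : Set G))) = 3)
    {X Y : Set G} (k : Blk D X Y) {d : G} (hdX : d ∈ X) : D ⊆ X ∪ Y := by
  intro f hf
  by_contra hfB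
  have hd := k.subX hdX
  obtain ⟨e, b, he, hb, heb⟩ := h.two d hd
  have heY : e ∈ Y := by rw [← k.nbX d hdX]; exact he
  have hcl := k.closed
  have hfd : ¬ Commute f d := hcl.not_commute hf hfB (Or.inl hdX)
  have hfe : ¬ Commute f e := hcl.not_commute hf hfB (Or.inr heY)
  have hde : d ∈ Nb D e := h.nb_symm hd he
  have hg : d * f * e * f * d ∈ Nb D f := h.gmem hf he.1 hde hfd
  have hfi := h.inv hf
  have hpair : f * e * f ∈ Nb D (f * d * f) := by
    have := h.nb_conj f he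
    rwa [hfi] at this
  have hw := word_iii (h.sq d hd) (h.sq e he.1) (h.sq f hf) he.2.2.eq
    (h.rel d hd f hf (fun c => hfd c.symm)) (h.rel e he.1 f hf (fun c => hfe c.symm))
  have hθ : e * b ∈ Th D := Subgroup.subset_closure ⟨d, hd, e, he, b, hb, rfl⟩
  have hθi : (e * b)⁻¹ ∈ Th D := Subgroup.inv_mem _ hθ
  have i1 := inverts h hK hO hd he hθi
  have i2 := inverts h hK hO hf hg hθ
  have i3 := inverts h hK hO (h.cj hf hd) hpair hθ
  have e1 : ((d * e) * (f * (d * f * e * f * d))) * (e * b)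
      * ((d * e) * (f * (d * f * e * f * d)))⁻¹ = e * b := by
    have : ((d * e) * (f * (d * f * e * f * d))) * (e * b)
        * ((d * e) * (f * (d * f * e * f * d)))⁻¹
        = (d * e) * ((f * (d * f * e * f * d)) * (e * b) * (f * (d * f * e * f * d))⁻¹)
          * (d * e)⁻¹ := by group
    rw [this, i2, i1, inv_inv]
  rw [hw, i3] at e1
  -- (e b)⁻¹ = e b
  have h2 : (e * b) * (e * b) = 1 := by
    nth_rewrite 1 [← e1]
    exact inv_mul_cancel _
  have h3 : (e * b) ^ 3 = 1 := h.ab_pow_three hd he hb heb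
  have h4 : e * b = 1 := by
    have : (e * b) ^ 3 = (e * b) * (e * b) * (e * b) := by rw [pow_succ, pow_two]
    rw [this, h2, one_mul] at h3
    exact h3
  exact h.ab_ne_one hb heb h4

end Cfsg.Agent.Lib.Helper2.TTLoc
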