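import Cfsg.Agent.Lib.Helper2.Yo1

set_option autoImplicit false

/-!
# A twisted transfer for bisets with a degree datum

Given a right-free biset `X` of a group `T`, a normal subgroup `K`, a function `mu` that is
multiplicative on `K` and invariant under conjugation, and a "degree datum" `t` on the
representatives of a section, the product of `mu` over the defects of `t` is a homomorphism.
-/

namespace Cfsg.Agent.Lib.Helper2.Tr

open MulAction

/-- an equivariant map exists when every point stabilizer fixes a point of the target -/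
theorem exists_equivariant {G : Type*} [Group G] {X : Type*} [MulAction G X] {Y : Type*}
    [MulAction G Y] (hh : ∀ x : X, ∃ y : Y, ∀ g : G, g • x = x → g • y = y) :
    ∃ d : X → Y, ∀ (g : G) (x : X), d (g • x) = g • d x := by
  classical
  let base : X → X := fun x => Quotient.out (Quotient.mk (orbitRel G X) x)
  have hbase : ∀ x, ∃ g : G, g • base x = x := by
    intro x
    have h1 : (orbitRel G X).r (base x) x := Quotient.exact (Quotient.out_eq _)
    obtain ⟨g, hg⟩ := h1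
    refine ⟨g⁻¹, ?_⟩
    rw [← hg, inv_smul_smul]
  have hbase2 : ∀ (g : G) (x : X), base (g • x) = base x := by
    intro g x
    have h1 : Quotient.mk (orbitRel G X) (g • x) = Quotient.mk (orbitRel G X) x :=
      Quotient.sound ⟨g, rfl⟩
    show Quotient.out (Quotient.mk (orbitRel G X) (g • x)) = _
    rw [h1]
  choose gx hgx using hbase
  choose y0 hy0 using hh
  refine ⟨fun x => gx x • y0 (base x), ?_⟩
  intro g x
  show gx (g • x) • y0 (base (g • x)) = g • gx x • y0 (base x)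
  rw [hbase2]
  have h1 := hgx (g • x)
  rw [hbase2] at h1
  have h2 : ((g * gx x)⁻¹ * gx (g • x)) • base x = base x := by
    rw [mul_smul, h1, mul_inv_rev, mul_smul, inv_smul_smul, inv_smul_eq_iff, hgx x]
  have h3 := hy0 (base x) _ h2
  rw [mul_smul, inv_smul_eq_iff] at h3
  rw [h3, mul_smul]

section mult

variable {T : Type*} [Group T] {C : Type*} [CommGroup C]

theorem mu_one (K : Subgroup T) (mu : T → C)
    (hmul : ∀ a b, a ∈ K → b ∈ K → mu (a * b) = mu a * mu b) : mu 1 = 1 := by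
  have h := hmul 1 1 K.one_mem K.one_mem
  rw [mul_one] at h
  exact left_eq_mul.mp h

theorem mu_inv (K : Subgroup T) (mu : T → C)
    (hmul : ∀ a b, a ∈ K → b ∈ K → mu (a * b) = mu a * mu b) {a : T} (ha : a ∈ K) :
    mu a⁻¹ = (mu a)⁻¹ := by
  have h := hmul a⁻¹ a (K.inv_mem ha) ha
  rw [inv_mul_cancel, mu_one K mu hmul] at h
  exact eq_inv_of_mul_eq_one_left h.symm

theorem mu_pow (K : Subgroup T) (mu : T → C)
    (hmul : ∀ a b, a ∈ K → b ∈ K → mu (a * b) = mu a * mu b) {a : T} (ha : a ∈ K) (n : ℕ) :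
    mu (a ^ n) = mu a ^ n := by
  induction n with
  | zero => rw [pow_zero, pow_zero, mu_one K mu hmul]
  | succ n ih => rw [pow_succ, pow_succ, hmul _ _ (K.pow_mem ha n) ha, ih]

/-- telescoping along a permutation, modulo the subgroup `K` -/
theorem prod_telescope (K : Subgroup T) (mu : T → C)
    (hmul : ∀ a b, a ∈ K → b ∈ K → mu (a * b) = mu a * mu b)
    {R : Type*} [Fintype R] (e : R ≃ R) (g : R → T) (hg : ∀ r, (g (e r))⁻¹ * g r ∈ K) :
    ∏ r, mu ((g (e r))⁻¹ * g r) = 1 := by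
  let b : R → T := fun r => Quotient.out (QuotientGroup.mk (g r) : T ⧸ K)
  have hb : ∀ r, b (e r) = b r := by
    intro r
    show Quotient.out (QuotientGroup.mk (g (e r)) : T ⧸ K)
      = Quotient.out (QuotientGroup.mk (g r) : T ⧸ K)
    congr 1
    exact QuotientGroup.eq.mpr (hg r)
  have hk : ∀ r, (b r)⁻¹ * g r ∈ K := by
    intro r
    have h1 : (QuotientGroup.mk (b r) : T ⧸ K) = QuotientGroup.mk (g r) :=
      QuotientGroup.out_eq' _
    exact QuotientGroup.eq.mp h1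
  have key : ∀ r, mu ((g (e r))⁻¹ * g r)
      = (mu ((b (e r))⁻¹ * g (e r)))⁻¹ * mu ((b r)⁻¹ * g r) := by
    intro r
    have h1 : (g (e r))⁻¹ * g r = ((b (e r))⁻¹ * g (e r))⁻¹ * ((b r)⁻¹ * g r) := by
      rw [hb r]; group
    rw [h1, hmul _ _ (K.inv_mem (hk (e r))) (hk r), mu_inv K mu hmul (hk (e r))]
  simp only [key]
  rw [Finset.prod_mul_distrib, Finset.prod_inv_distrib,
    e.prod_comp (fun r => mu ((b r)⁻¹ * g r)), inv_mul_cancel]

end mult

section twisted

variable {T : Type*} [Group T] {X : Type*} [MulAction (T × T) X]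

/-- the defect of a degree datum `t` at the representative `r` under `s` -/
noncomputable def ee (σ : Sec T X) (t : Rep σ → T) (s : T) (r : Rep σ) : T :=
  (t (ract σ s r))⁻¹ * s * t r * (kap σ s r.1)⁻¹

theorem ee_mul (hf : RFree T X) (σ : Sec T X) (t : Rep σ → T) (a b : T) (r : Rep σ) :
    ee σ t (a * b) r = ee σ t a (ract σ b r) *
      (kap σ a (ract σ b r).1 * ee σ t b r * (kap σ a (ract σ b r).1)⁻¹) := by
  unfold ee
  rw [ract_mul, kap_mul_rep hf σ a b r]
  group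

variable [Finite X] {C : Type*} [CommGroup C]

/-- the twisted transfer -/
noncomputable def Wf (σ : Sec T X) (mu : T → C) (t : Rep σ → T) (s : T) : C :=
  ∏ r : Rep σ, mu (ee σ t s r)

theorem Wf_mul (hf : RFree T X) (σ : Sec T X) (K : Subgroup T) [hN : K.Normal] (mu : T → C)
    (hmul : ∀ a b, a ∈ K → b ∈ K → mu (a * b) = mu a * mu b)
    (hconj : ∀ s c, c ∈ K → mu (s * c * s⁻¹) = mu c)
    (t : Rep σ → T) (ht : ∀ s r, ee σ t s r ∈ K) (a b : T) :
    Wf σ mu t (a * b) = Wf σ mu t a * Wf σ mu t b := by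
  unfold Wf
  have h1 : ∀ r, mu (ee σ t (a * b) r) = mu (ee σ t a (ract σ b r)) * mu (ee σ t b r) := by
    intro r
    rw [ee_mul hf, hmul _ _ (ht a _) (hN.conj_mem _ (ht b r) _), hconj _ _ (ht b r)]
  simp only [h1]
  rw [Finset.prod_mul_distrib]
  congr 1
  exact (ractEquiv σ b).prod_comp (fun r => mu (ee σ t a r))

/-- the twisted transfer under a twist of the biset -/
theorem Wf_twist (hf : RFree T X) (σ : Sec T X) (K : Subgroup T) [hN : K.Normal] (mu : T → C)
    (hmul : ∀ a b, a ∈ K → b ∈ K → mu (a * b) = mu a * mu b)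
    (hconj : ∀ s c, c ∈ K → mu (s * c * s⁻¹) = mu c)
    (t : Rep σ → T) (ht : ∀ s r, ee σ t s r ∈ K)
    (θ : X ≃ X) (c c' : T) (hc : c ∈ K) (hc' : c' ∈ K)
    (h1 : ∀ x, θ (((c, (1 : T)) : T × T) • x) = ((c', (1 : T)) : T × T) • θ x)
    (h2 : ∀ (s : T) (x : X), θ ((((1 : T), s) : T × T) • x) = (((1 : T), s) : T × T) • θ x) :
    Wf σ mu t c' * ((mu c')⁻¹) ^ Nat.card (Rep σ)
      = Wf σ mu t c * ((mu c)⁻¹) ^ Nat.card (Rep σ) := by
  have hconj' : ∀ s d, d ∈ K → mu (s⁻¹ * d * s) = mu d := by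
    intro s d hd
    have := hconj s⁻¹ d hd
    rwa [inv_inv] at this
  have h2' : ∀ (s : T) (y : X), θ.symm ((((1 : T), s) : T × T) • y)
      = (((1 : T), s) : T × T) • θ.symm y := by
    intro s y
    rw [Equiv.symm_apply_eq, h2, Equiv.apply_symm_apply]
  -- the permutation of the representatives induced by `θ`
  let ρ : Rep σ ≃ Rep σ :=
    { toFun := fun r => ⟨σ.σ (θ r.1), σ.idem _⟩
      invFun := fun r => ⟨σ.σ (θ.symm r.1), σ.idem _⟩
      left_inv := by
        intro r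
        apply Subtype.ext
        show σ.σ (θ.symm (σ.σ (θ r.1))) = r.1
        obtain ⟨s, hs⟩ := σ.mem (θ r.1)
        rw [← hs, h2', Equiv.symm_apply_apply, σ.const, r.2]
      right_inv := by
        intro r
        apply Subtype.ext
        show σ.σ (θ (σ.σ (θ.symm r.1))) = r.1
        obtain ⟨s, hs⟩ := σ.mem (θ.symm r.1)
        rw [← hs, h2, Equiv.apply_symm_apply, σ.const, r.2] }
  have hρ : ∀ r, (ρ r).1 = σ.σ (θ r.1) := fun r => rfl
  have hw0 : ∀ r : Rep σ, ∃ s : T, (((1 : T), s) : T × T) • θ r.1 = (ρ r).1 :=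
    fun r => σ.mem (θ r.1)
  choose w hw using hw0
  have hρc : ∀ r, ρ (ract σ c r) = ract σ c' (ρ r) := by
    intro r
    apply Subtype.ext
    show σ.σ (θ (σ.σ (((c, (1 : T)) : T × T) • r.1)))
      = σ.σ (((c', (1 : T)) : T × T) • σ.σ (θ r.1))
    obtain ⟨s, hs⟩ := σ.mem (((c, (1 : T)) : T × T) • r.1)
    rw [← hs, h2, σ.const, h1, σ.sigma_smul_left]
  have hκ : ∀ r, kap σ c' (ρ r).1 = w (ract σ c r) * kap σ c r.1 * (w r)⁻¹ := by
    intro r
    symm
    apply kap_unique hf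
    have e1 : θ r.1 = (((1 : T), (w r)⁻¹) : T × T) • (ρ r).1 := by
      rw [← hw r, smul_smul]
      have : ((((1 : T), (w r)⁻¹) : T × T) * ((1 : T), w r)) = 1 := by
        rw [Prod.mk_mul_mk, inv_mul_cancel, one_mul]; rfl
      rw [this, one_smul]
    have e2 : θ (((c, kap σ c r.1) : T × T) • r.1) = ((c', kap σ c r.1) : T × T) • θ r.1 := by
      have e : ((c, kap σ c r.1) : T × T) = ((1 : T), kap σ c r.1) * (c, (1 : T)) := by simp
      have e' : ((c', kap σ c r.1) : T × T) = ((1 : T), kap σ c r.1) * (c', (1 : T)) := by simp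
      rw [e, e', mul_smul, mul_smul, h2, h1]
    have e3 : σ.σ (((c', (1 : T)) : T × T) • (ρ r).1) = (ρ (ract σ c r)).1 := by
      rw [hρc]; rfl
    rw [e3, ← hw (ract σ c r)]
    have e4 : (ract σ c r).1 = ((c, kap σ c r.1) : T × T) • r.1 := (kap_smul_rep σ c r).symm
    rw [e4, e2, e1, smul_smul, smul_smul]
    congr 1
    simp [mul_assoc]
  -- the comparison elements
  let g : Rep σ → T := fun r => t (ρ r) * w r * (t r)⁻¹
  have hg : ∀ r, g r = t (ρ r) * w r * (t r)⁻¹ := fun r => rfl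
  have hdec : ∀ r, ee σ t c' (ρ r)
      = (w (ract σ c r) * (t (ract σ c r))⁻¹) * ((g (ract σ c r))⁻¹ * c' * g r * c⁻¹)
          * (w (ract σ c r) * (t (ract σ c r))⁻¹)⁻¹
        * (w (ract σ c r) * ee σ t c r * (w (ract σ c r))⁻¹) := by
    intro r
    unfold ee
    rw [← hρc, hκ, hg, hg]
    group
  have hY : ∀ r, (g (ract σ c r))⁻¹ * c' * g r * c⁻¹ ∈ K := by
    intro r
    have hB : w (ract σ c r) * ee σ t c r * (w (ract σ c r))⁻¹ ∈ K := hN.conj_mem _ (ht c r) _
    have hA : ee σ t c' (ρ r) * (w (ract σ c r) * ee σ t c r * (w (ract σ c r))⁻¹)⁻¹ ∈ K :=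
      K.mul_mem (ht c' (ρ r)) (K.inv_mem hB)
    have h3 := hN.conj_mem _ hA (w (ract σ c r) * (t (ract σ c r))⁻¹)⁻¹
    have e : (w (ract σ c r) * (t (ract σ c r))⁻¹)⁻¹
        * (ee σ t c' (ρ r) * (w (ract σ c r) * ee σ t c r * (w (ract σ c r))⁻¹)⁻¹)
        * ((w (ract σ c r) * (t (ract σ c r))⁻¹)⁻¹)⁻¹
        = (g (ract σ c r))⁻¹ * c' * g r * c⁻¹ := by
      rw [hdec r]; group
    rw [e] at h3
    exact h3
  have hgK : ∀ r, (g (ract σ c r))⁻¹ * g r ∈ K := by
    intro r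
    have h3 : (g r)⁻¹ * c'⁻¹ * g r ∈ K := by
      have := hN.conj_mem _ (K.inv_mem hc') (g r)⁻¹
      rwa [inv_inv] at this
    have h4 := K.mul_mem (K.mul_mem (hY r) hc) h3
    have e : (g (ract σ c r))⁻¹ * c' * g r * c⁻¹ * c * ((g r)⁻¹ * c'⁻¹ * g r)
        = (g (ract σ c r))⁻¹ * g r := by group
    rw [e] at h4
    exact h4
  have hmuY : ∀ r, mu ((g (ract σ c r))⁻¹ * c' * g r * c⁻¹)
      = mu ((g (ract σ c r))⁻¹ * g r) * (mu c' * (mu c)⁻¹) := by
    intro r
    have h3 : (g r)⁻¹ * c' * g r ∈ K := by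
      have := hN.conj_mem _ hc' (g r)⁻¹
      rwa [inv_inv] at this
    have e : (g (ract σ c r))⁻¹ * c' * g r * c⁻¹
        = (g (ract σ c r))⁻¹ * g r * ((g r)⁻¹ * c' * g r) * c⁻¹ := by group
    rw [e, hmul _ _ (K.mul_mem (hgK r) h3) (K.inv_mem hc), hmul _ _ (hgK r) h3,
      hconj' _ _ hc', mu_inv K mu hmul hc, mul_assoc]
  have hmuee : ∀ r, mu (ee σ t c' (ρ r))
      = mu ((g (ract σ c r))⁻¹ * g r) * (mu c' * (mu c)⁻¹) * mu (ee σ t c r) := by
    intro r
    have hB : w (ract σ c r) * ee σ t c r * (w (ract σ c r))⁻¹ ∈ K := hN.conj_mem _ (ht c r) _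
    have hA : (w (ract σ c r) * (t (ract σ c r))⁻¹) * ((g (ract σ c r))⁻¹ * c' * g r * c⁻¹)
          * (w (ract σ c r) * (t (ract σ c r))⁻¹)⁻¹ ∈ K := hN.conj_mem _ (hY r) _
    rw [hdec r, hmul _ _ hA hB, hconj _ _ (hY r), hconj _ _ (ht c r), hmuY r]
  have htel : ∏ r : Rep σ, mu ((g (ract σ c r))⁻¹ * g r) = 1 :=
    prod_telescope K mu hmul (ractEquiv σ c) g hgK
  have hW : Wf σ mu t c' = (mu c' * (mu c)⁻¹) ^ Nat.card (Rep σ) * Wf σ mu t c := by
    unfold Wf
    rw [← ρ.prod_comp (fun r => mu (ee σ t c' r))]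
    simp only [hmuee]
    rw [Finset.prod_mul_distrib, Finset.prod_mul_distrib, htel, one_mul, Finset.prod_const,
      Finset.card_univ, Nat.card_eq_fintype_card]
  rw [hW, mul_pow, inv_pow, inv_pow]
  have comm : ∀ A B V : C, A * B⁻¹ * V * A⁻¹ = V * B⁻¹ := by
    intro A B V
    calc A * B⁻¹ * V * A⁻¹ = V * B⁻¹ * (A * A⁻¹) := by ac_rfl
      _ = V * B⁻¹ := by rw [mul_inv_cancel, mul_one]
  exact comm _ _ _

end twisted

end Cfsg.Agent.Lib.Helper2.Tr
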