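import Cfsg.Agent.Lib.Helper2.Yo3
import Cfsg.Agent.Lib.Helper2.Tr7

set_option autoImplicit false

/-!
# Yoshida's theorem for fusion systems
-/

namespace Cfsg.Agent.Lib.Helper2.Tr

open Cfsg Cfsg.FusionSystem Cfsg.Agent.Lib.Helper9 MulAction

open scoped commutatorElement

universe u

variable {Ω : Type u} [Group Ω] {S : Subgroup Ω}

/-- stability of a function on `S` under all maps of the system -/
def FStable (F : FusionSystem S) {C : Type*} (lam : ↥S → C) : Prop :=
  ∀ (P : Subgroup Ω) (φ : P →* Ω) (hφ : φ ∈ F.Hom P) (x : P),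
    lam ⟨φ x, hom_mem F hφ x⟩ = lam ⟨x, hom_le F hφ x.2⟩

/-- stability of a function on `S` under the maps of the system defined on all of `S` -/
def NStable (F : FusionSystem S) {C : Type*} (lam : ↥S → C) : Prop :=
  ∀ (φ : ↥S →* Ω) (hφ : φ ∈ F.Hom S) (x : ↥S), lam ⟨φ x, hom_mem F hφ x⟩ = lam x

theorem FStable.nstable {F : FusionSystem S} {C : Type*} {lam : ↥S → C} (h : FStable F lam) :
    NStable F lam :=
  fun φ hφ x => h S φ hφ x

theorem eq_of_pow_eq {C : Type*} [CommGroup C] {u v : C} {m n : ℕ} (hmn : Nat.Coprime m n)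
    (hm : u ^ m = v ^ m) (hu : u ^ n = 1) (hv : v ^ n = 1) : u = v := by
  have h1 : (u * v⁻¹) ^ m = 1 := by rw [mul_pow, inv_pow, hm, mul_inv_cancel]
  have h2 : (u * v⁻¹) ^ n = 1 := by rw [mul_pow, inv_pow, hu, hv, inv_one, mul_one]
  have h3 := pow_gcd_eq_one.mpr ⟨h1, h2⟩
  rw [hmn.gcd_eq_one, pow_one] at h3
  exact mul_inv_eq_one.mp h3

section assembly

variable [Finite S] {p : ℕ} [Fact p.Prime] {F : FusionSystem S} {X : Type u}
  [MulAction (↥S × ↥S) X]

/-- elements related by a point stabilizer have the same order -/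
theorem orderOf_eq_of_good (hX : Good p F 0 X) (y : X) (s u : ↥S)
    (h : ((s, u) : ↥S × ↥S) • y = y) : orderOf u = orderOf s := by
  obtain ⟨P, f, ⟨φ, hφ, hφf⟩, hD⟩ := hX.fg y
  have h1 : (s, u) ∈ stabilizer (↥S × ↥S) y := h
  obtain ⟨hsP, hfs⟩ := (hD s u).mp h1
  have h2 : (u : Ω) = φ ⟨s, hsP⟩ := by rw [hφf]; exact hfs.symm
  rw [← Subgroup.orderOf_coe u, h2, orderOf_injective φ (F.injective_of_mem hφ),
    ← Subgroup.orderOf_coe (⟨s, hsP⟩ : P), ← Subgroup.orderOf_coe s]

/-- stable functions are constant along point stabilizers -/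
theorem FStable.eq_of_stab {C : Type*} {lam : ↥S → C} (hl : FStable F lam) (hX : Good p F 0 X)
    (y : X) (s u : ↥S) (h : ((s, u) : ↥S × ↥S) • y = y) : lam s = lam u := by
  obtain ⟨P, f, ⟨φ, hφ, hφf⟩, hD⟩ := hX.fg y
  have h1 : (s, u) ∈ stabilizer (↥S × ↥S) y := h
  obtain ⟨hsP, hfs⟩ := (hD s u).mp h1
  have h2 : u = ⟨φ ⟨s, hsP⟩, hom_mem F hφ _⟩ := by
    apply Subtype.ext
    show (u : Ω) = φ ⟨s, hsP⟩
    rw [hφf]
    exact hfs.symm
  rw [h2]
  exact (hl P φ hφ ⟨s, hsP⟩).symm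

/-- the fixed representatives -/
theorem NStable.fixed {C : Type*} {lam : ↥S → C} (hl : NStable F lam) (hX : Good p F 0 X)
    (σ : Sec ↥S X) (r : Rep σ) (hr : ∀ s, ract σ s r = r) (s : ↥S) :
    lam (kap σ s r.1) = lam s := by
  obtain ⟨P, f, ⟨φ, hφ, hφf⟩, hD⟩ := hX.fg r.1
  have hall : ∀ t : ↥S, (t : Ω) ∈ P ∧ f t = kap σ t r.1 := by
    intro t
    have h1 : (t, kap σ t r.1) ∈ stabilizer (↥S × ↥S) r.1 := by
      show ((t, kap σ t r.1) : ↥S × ↥S) • r.1 = r.1
      rw [kap_smul_rep, hr t]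
    exact (hD _ _).mp h1
  have hSP : S = P := le_antisymm (fun t ht => (hall ⟨t, ht⟩).1) (hom_le F hφ)
  subst hSP
  have h2 : kap σ s r.1 = ⟨φ s, hom_mem F hφ s⟩ := by
    apply Subtype.ext
    show ((kap σ s r.1 : ↥S) : Ω) = φ s
    rw [← (hall s).2]
    exact (hφf s).symm
  rw [h2]
  exact hl φ hφ s

variable [Finite X]

theorem fstable_TT (hX : Good p F 0 X) (hf : RFree ↥S X) (σ : Sec ↥S X) {C : Type*}
    [CommGroup C] (lam : ↥S →* C) : FStable F (TT hf σ lam) := by
  intro P φ hφ x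
  exact congrArg (Abelianization.lift lam) (tr_invariant hX hf σ hφ x)

theorem TT_of_fstable (hX : Good p F 0 X) (hf : RFree ↥S X) (σ : Sec ↥S X) {C : Type*}
    [CommGroup C] (chi : ↥S →* C) (hchi : FStable F chi) (s : ↥S) :
    TT hf σ chi s = chi s ^ Nat.card (Rep σ) := by
  rw [TT_apply]
  exact prod_kap_eq_pow hf σ chi chi (fun y s' u' h => hchi.eq_of_stab hX y s' u' h) s

theorem not_dvd_card_rep (hX : Good p F 0 X) (hf : RFree ↥S X) (σ : Sec ↥S X) :
    ¬ p ∣ Nat.card (Rep σ) := by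
  obtain ⟨k, hk1, hk2⟩ := hX.cd
  have h4 := card_rep_mul hf σ
  rw [hk1] at h4
  have hpos : 0 < Nat.card S := Nat.card_pos
  rw [Nat.eq_of_mul_eq_mul_right hpos h4]
  exact hk2

/-- the order `p` case -/
theorem fstable_of_pow_p (hS : IsPGroup p S) (hX : Good p F 0 X) (hf : RFree ↥S X)
    (σ : Sec ↥S X) (hNW : NWg ↥S p (Multiplicative (ZMod p))) {C : Type*} [CommGroup C]
    (lam : ↥S →* C) (hN : NStable F lam) (hlp : ∀ s, lam s ^ p = 1) : FStable F lam := by
  have hk := not_dvd_card_rep hX hf σ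
  have hcop : Nat.Coprime (Nat.card (Rep σ)) p :=
    ((Nat.Prime.coprime_iff_not_dvd (Fact.out : p.Prime)).mpr hk).symm
  have hchiF := fstable_TT hX hf σ lam
  have hchip : ∀ s, TT hf σ lam s ^ p = 1 := by
    intro s
    rw [TT_apply, ← Finset.prod_pow]
    exact Finset.prod_eq_one (fun r _ => hlp _)
  let lam' : ↥S →* C := TT hf σ lam * ((powMonoidHom (Nat.card (Rep σ))).comp lam)⁻¹
  have hlam' : ∀ s, lam' s = TT hf σ lam s * (lam s ^ Nat.card (Rep σ))⁻¹ := fun s => rfl
  have hN' : NStable F lam' := by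
    intro φ hφ x
    rw [hlam', hlam', hchiF.nstable φ hφ x, hN φ hφ x]
  have hlp' : ∀ s, lam' s ^ p = 1 := by
    intro s
    rw [hlam', mul_pow, inv_pow, hchip, one_mul, inv_eq_one, ← pow_mul, mul_comm, pow_mul, hlp,
      one_pow]
  have htr : ∀ a : ↥S, ∏ r : Rep σ, lam' (kap σ a r.1) = 1 := by
    intro a
    simp only [hlam']
    rw [Finset.prod_mul_distrib, Finset.prod_inv_distrib, Finset.prod_pow, ← TT_apply hf σ lam a,
      ← TT_apply hf σ (TT hf σ lam) a, TT_of_fstable hX hf σ _ hchiF, mul_inv_cancel]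
  have hone := lam_eq_one_of_transfer hS hf σ (NWg_of_NW p hNW C)
    (orderOf_eq_of_good hX) lam' hlp' (fun r hr s => hN'.fixed hX σ r hr s) hk htr
  have heq : ∀ s, lam s ^ Nat.card (Rep σ) = TT hf σ lam s := by
    intro s
    have := hone s
    rw [hlam', mul_inv_eq_one] at this
    exact this.symm
  intro P φ hφ x
  apply eq_of_pow_eq hcop _ (hlp _) (hlp _)
  rw [heq, heq]
  exact hchiF P φ hφ x

/-- reduction to the order `p` case -/
theorem fstable_of_nstable (hS : IsPGroup p S) (hX : Good p F 0 X) (hf : RFree ↥S X)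
    (σ : Sec ↥S X) (hNW : NWg ↥S p (Multiplicative (ZMod p))) {C : Type*} [CommGroup C]
    (a : ℕ) : ∀ (lam : ↥S →* C), NStable F lam → (∀ s, lam s ^ (p ^ a) = 1) → FStable F lam := by
  have hk := not_dvd_card_rep hX hf σ
  have hcop : Nat.Coprime (Nat.card (Rep σ)) p :=
    ((Nat.Prime.coprime_iff_not_dvd (Fact.out : p.Prime)).mpr hk).symm
  induction a with
  | zero =>
    intro lam _ hla P φ hφ x
    have h1 : ∀ s, lam s = 1 := fun s => by
      have := hla s
      rw [pow_zero, pow_one] at this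
      exact this
    rw [h1, h1]
  | succ a ih =>
    intro lam hN hla
    let lamp : ↥S →* C := (powMonoidHom p).comp lam
    have hlamp : ∀ s, lamp s = lam s ^ p := fun s => rfl
    have hNp : NStable F lamp := by
      intro φ hφ x
      rw [hlamp, hlamp, hN φ hφ x]
    have hlampF : FStable F lamp := by
      apply ih lamp hNp
      intro s
      rw [hlamp, ← pow_mul, ← pow_succ']
      exact hla s
    have hTF := fstable_TT hX hf σ lam
    let D : ↥S →* C := TT hf σ lam * ((powMonoidHom (Nat.card (Rep σ))).comp lam)⁻¹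
    have hD : ∀ s, D s = TT hf σ lam s * (lam s ^ Nat.card (Rep σ))⁻¹ := fun s => rfl
    have hND : NStable F D := by
      intro φ hφ x
      rw [hD, hD, hTF.nstable φ hφ x, hN φ hφ x]
    have hDp : ∀ s, D s ^ p = 1 := by
      intro s
      have h1 : TT hf σ lam s ^ p = (lam s ^ p) ^ Nat.card (Rep σ) := by
        rw [← hlamp, ← TT_of_fstable hX hf σ lamp hlampF s, TT_apply, TT_apply,
          ← Finset.prod_pow]
        rfl
      rw [hD, mul_pow, inv_pow, h1, ← pow_mul, ← pow_mul, mul_comm (Nat.card (Rep σ)) p,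
        mul_inv_cancel]
    have hDF := fstable_of_pow_p hS hX hf σ hNW D hND hDp
    intro P φ hφ x
    apply eq_of_pow_eq (Nat.Coprime.pow_right (a + 1) hcop) _ (hla _) (hla _)
    have h1 := hDF P φ hφ x
    rw [hD, hD, hTF P φ hφ x] at h1
    exact inv_injective (mul_left_cancel h1)

end assembly

/-- a subgroup containing the focal elements of the maps defined on all of `S` contains the
focal subgroup, when `S` has no wreath quotient -/
theorem focal_le_of_NW [Finite S] {p : ℕ} [Fact p.Prime] (hS : IsPGroup p S)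
    (F : FusionSystem S) (hF : F.IsSaturated p)
    (hNW : NWg ↥S p (Multiplicative (ZMod p))) (K : Subgroup Ω)
    (hK : ∀ (φ : ↥S →* Ω), φ ∈ F.Hom S → ∀ x : ↥S, (x : Ω)⁻¹ * φ x ∈ K) :
    F.focalSubgroup ≤ K := by
  obtain ⟨X, inst, hX⟩ := exists_good hS hF
  have := hX.fin
  have hf := rfree_of_good hX
  obtain ⟨σ⟩ := exists_sec hf
  -- the commutator subgroup lies in `K`
  have hcomm : commutator ↥S ≤ K.subgroupOf S := by
    rw [commutator_def, Subgroup.commutator_le]
    intro a _ b _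
    rw [Subgroup.mem_subgroupOf]
    have h1 := hK (conjHom S (b : Ω)) (F.conj_mem (le_refl S) b.2) a⁻¹
    have e : ((a⁻¹ : ↥S) : Ω)⁻¹ * conjHom S (b : Ω) a⁻¹ = ((⁅a, b⁆ : ↥S) : Ω) := by
      show ((a⁻¹ : ↥S) : Ω)⁻¹ * ((b : Ω) * ((a⁻¹ : ↥S) : Ω) * (b : Ω)⁻¹) = _
      rw [commutatorElement_def]
      simp only [Subgroup.coe_mul, Subgroup.coe_inv, inv_inv, mul_assoc]
    rw [e] at h1
    exact h1
  let lamU : ↥S →* (Abelianization ↥S ⧸ (K.subgroupOf S).map Abelianization.of) :=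
    (QuotientGroup.mk' _).comp Abelianization.of
  have hker : ∀ s : ↥S, lamU s = 1 ↔ s ∈ K.subgroupOf S := by
    intro s
    show (QuotientGroup.mk (Abelianization.of s) :
      Abelianization ↥S ⧸ (K.subgroupOf S).map Abelianization.of) = 1 ↔ _
    rw [QuotientGroup.eq_one_iff]
    constructor
    · rintro ⟨k, hk, hks⟩
      have h1 : k⁻¹ * s ∈ commutator ↥S := by
        rw [← QuotientGroup.eq]
        exact hks
      have h2 := (K.subgroupOf S).mul_mem hk (hcomm h1)
      rw [mul_inv_cancel_left] at h2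
      exact h2
    · intro hs
      exact ⟨s, hs, rfl⟩
  have hNU : NStable F lamU := by
    intro φ hφ x
    have h1 : lamU (x⁻¹ * ⟨φ x, hom_mem F hφ x⟩) = 1 := by
      rw [hker, Subgroup.mem_subgroupOf]
      exact hK φ hφ x
    rw [map_mul, map_inv, inv_mul_eq_one] at h1
    exact h1.symm
  obtain ⟨a, ha⟩ := IsPGroup.iff_card.mp hS
  have hexp : ∀ s, lamU s ^ (p ^ a) = 1 := by
    intro s
    rw [← map_pow, ← ha, pow_card_eq_one', map_one]
  have hFU := fstable_of_nstable hS hX hf σ hNW a lamU hNU hexp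
  unfold focalSubgroup
  rw [Subgroup.closure_le]
  rintro y ⟨P, φ, x, hφ, rfl⟩
  have h1 := hFU P φ hφ x
  have h2 : lamU ((⟨x, hom_le F hφ x.2⟩ : ↥S)⁻¹ * ⟨φ x, hom_mem F hφ x⟩) = 1 := by
    rw [map_mul, map_inv, h1, inv_mul_cancel]
  rw [hker, Subgroup.mem_subgroupOf] at h2
  exact h2

/-- every map of the system defined on `S` is a map of the normalizer system of `S` -/
theorem mem_normalizerHom_self [Finite S] (F : FusionSystem S) {φ : ↥S →* Ω}
    (hφ : φ ∈ F.Hom S) : φ ∈ F.normalizerHom S S := by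
  have hle : S ⊔ S ≤ S := sup_le (le_refl S) (le_refl S)
  refine ⟨hφ, le_inf (le_refl S) Subgroup.le_normalizer,
    fun x => ⟨hom_mem F hφ x, Subgroup.le_normalizer (hom_mem F hφ x)⟩,
    φ.comp (Subgroup.inclusion hle), restrict_mem F hφ hle, fun x => rfl, ?_⟩
  ext y
  constructor
  · rintro ⟨z, -, rfl⟩
    exact hom_mem F hφ _
  · intro hy
    have hinj : Function.Injective (φ.codRestrict S (hom_mem F hφ)) := by
      intro a b hab
      apply F.injective_of_mem hφ
      exact congrArg Subtype.val hab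
    obtain ⟨x, hx⟩ := Finite.surjective_of_injective hinj ⟨y, hy⟩
    refine ⟨⟨x.1, le_sup_left (a := S) (b := S) x.2⟩, ?_, ?_⟩
    · show (x : Ω) ∈ S
      exact x.2
    · show φ ⟨x.1, _⟩ = y
      exact congrArg Subtype.val hx

/-- Yoshida's theorem -/
theorem yoshida [Finite S] (p : ℕ) [Fact p.Prime] (hS : IsPGroup p S) (F : FusionSystem S)
    (hF : F.IsSaturated p) (N : FusionSystem (normalizerIn S S))
    (hN : F.IsNormalizerSystem S N) (hne : N.focalSubgroup ≠ F.focalSubgroup) :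
    ∃ (W : Sylow p (Equiv.Perm (Fin (p ^ 2))))
      (f : ↥S →* ↥(W : Subgroup (Equiv.Perm (Fin (p ^ 2))))), Function.Surjective f := by
  by_contra hno
  have hNW : NWg ↥S p (Multiplicative (ZMod p)) := by
    by_contra h
    exact hno (exists_surj_sylow p hS h)
  apply hne
  apply le_antisymm
  · unfold focalSubgroup
    apply Subgroup.closure_mono
    rintro y ⟨P, φ, x, hφ, rfl⟩
    rw [hN P] at hφ
    exact ⟨P, φ, x, hφ.1, rfl⟩
  · apply focal_le_of_NW hS F hF hNW
    intro φ hφ x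
    apply Subgroup.subset_closure
    refine ⟨S, φ, x, ?_, rfl⟩
    rw [hN S]
    exact mem_normalizerHom_self F hφ

end Cfsg.Agent.Lib.Helper2.Tr
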