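import Cfsg.Agent.Lib.Helper2.Ta1
import Cfsg.Agent.Lib.Helper2.Yo4
import Cfsg.Agent.Lib.Helper9.Hyperfocal2

set_option autoImplicit false

/-!
# Extension of invariant characters of the hyperfocal subgroup

For a saturated fusion system `F` over `S`, every function on the hyperfocal subgroup that is
multiplicative and invariant under conjugation by `S` agrees, up to a power prime to `p`, with a
homomorphism defined on all of `S`.
-/

namespace Cfsg.Agent.Lib.Helper2.Tr

open Cfsg Cfsg.FusionSystem Cfsg.Agent.Lib.Helper9 MulAction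

universe u

variable {Ω : Type u} [Group Ω] {S : Subgroup Ω}

/-- every map of a saturated system is, modulo the hyperfocal subgroup, conjugation by an
element of `S` -/
theorem hom_mod_hyperfocal [Finite S] (p : ℕ) [Fact p.Prime] (hS : IsPGroup p S)
    (F : FusionSystem S) (hF : F.IsSaturated p) {P : Subgroup Ω} {φ : P →* Ω}
    (hφ : φ ∈ F.Hom P) :
    ∃ s ∈ S, ∀ y : P, (s * (y : Ω) * s⁻¹)⁻¹ * φ y ∈ F.hyperfocalSubgroup p := by
  have hH : ∀ s ∈ S, ∀ h ∈ F.hyperfocalSubgroup p, s * h * s⁻¹ ∈ F.hyperfocalSubgroup p :=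
    fun s hs h hh => hyperfocal_conj_mem F p hs hh
  have hle : F ≤ cosetSystem F _ hH := by
    apply alperin p hS F hF
    intro P hP
    have hPn : F.IsFullyNormalized P := by
      rcases hP with rfl | hP
      · exact fullyNormalized_top F
      · exact hP.2.1
    have hPS := hPn.1
    obtain ⟨-, R, hR⟩ := fullyAutomized_of_fullyNormalized hS F hF hPn
    have hfinP : Finite P := finite_of_le hPS
    intro α hα
    rw [mem_autGroup_iff _ hPS]
    obtain ⟨t, ht, r, hr, hα'⟩ := exists_sylow_mul_pResidual R (⟨α, hα⟩ : F.autGroup P)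
    rw [hR] at ht
    obtain ⟨g, hg, hgt⟩ := (mem_autInducedBy_iff S P _).mp (Subgroup.mem_subgroupOf.mp ht)
    refine ⟨hom_of_mem_autGroup F hPS hα, g, hg, fun y => ?_⟩
    have hαy : ((α y : P) : Ω) = (((t : MulAut P) ((r : MulAut P) y) : P) : Ω) := by
      have := congrArg (fun a : F.autGroup P => (((a : MulAut P) y : P) : Ω)) hα'
      exact this
    show (g * (y : Ω) * g⁻¹)⁻¹ * ((α y : P) : Ω) ∈ _
    rw [hαy, hgt]
    have h1 : (y : Ω)⁻¹ * (((r : MulAut P) y : P) : Ω) ∈ F.hyperfocalSubgroup p :=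
      Subgroup.subset_closure ⟨P, r, y, hPS, hr, rfl⟩
    have h2 := hH g hg _ h1
    have h3 : (g * (y : Ω) * g⁻¹)⁻¹ * (g * (((r : MulAut P) y : P) : Ω) * g⁻¹) =
        g * ((y : Ω)⁻¹ * (((r : MulAut P) y : P) : Ω)) * g⁻¹ := by group
    rw [h3]
    exact h2
  exact (hle P hφ).2

/-- the twist of a characteristic biset along a map of the system -/
theorem exists_twist [Finite S] {p : ℕ} [Fact p.Prime] {F : FusionSystem S} {X : Type u}
    [MulAction (↥S × ↥S) X] [Finite X] (hX : Good p F 0 X) {P : Subgroup Ω} {φ : P →* Ω}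
    (hφ : φ ∈ F.Hom P) :
    ∃ θ : X ≃ X,
      (∀ (u : P) (y : X), θ (((⟨u, hom_le F hφ u.2⟩, (1 : ↥S)) : ↥S × ↥S) • y)
        = ((⟨φ u, hom_mem F hφ u⟩, (1 : ↥S)) : ↥S × ↥S) • θ y) ∧
      (∀ (s : ↥S) (y : X), θ ((((1 : ↥S), s) : ↥S × ↥S) • y)
        = (((1 : ↥S), s) : ↥S × ↥S) • θ y) := by
  have hP := hom_le F hφ
  haveI : Finite ↥P := finite_of_le hP
  have hm : ∀ K : Subgroup (↥P × ↥S),
      @mark _ _ X (MulAction.compHom X
          ((Subgroup.inclusion hP).prodMap (MonoidHom.id ↥S))) K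
        = @mark _ _ X (MulAction.compHom X
          ((φ.codRestrict S (hom_mem F hφ)).prodMap (MonoidHom.id ↥S))) K := by
    intro K
    rw [mark_compHom, mark_compHom]
    obtain ⟨g1, hg1, hg1e⟩ := FRel.ofHom hφ
    apply mark_map_prod hX.fg hg1 (FRel.id F (le_refl S))
    · rintro a b ⟨⟨u, v⟩, -, he⟩
      have h1 : (u : Ω) = a := congrArg (fun z : ↥S × ↥S => (z.1 : Ω)) he
      exact ⟨h1 ▸ u.2, b.2⟩
    · intro a' b'
      constructor
      · rintro ⟨⟨u, v⟩, huv, he⟩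
        refine ⟨⟨u, hP u.2⟩, v, ⟨(u, v), huv, rfl⟩, ?_, ?_⟩
        · rw [hg1e]
          exact congrArg (fun z : ↥S × ↥S => (z.1 : Ω)) he
        · exact congrArg (fun z : ↥S × ↥S => (z.2 : Ω)) he
      · rintro ⟨a, b, ⟨⟨u, v⟩, huv, he⟩, ha, hb⟩
        refine ⟨(u, v), huv, ?_⟩
        have h1 : (u : Ω) = a := congrArg (fun z : ↥S × ↥S => (z.1 : Ω)) he
        have h2 : v = b := congrArg Prod.snd he
        apply Prod.ext
        · apply Subtype.ext
          show φ u = a'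
          rw [← ha, ← h1, hg1e]
        · apply Subtype.ext
          show (v : Ω) = b'
          rw [← hb, h2]
    · intro D E hD hE _ hc
      exact hX.st D E hD hE Nat.card_pos hc
  obtain ⟨θ, hθ⟩ := @exists_equiv_of_mark_eq (↥P × ↥S) _ _ X X
    (MulAction.compHom X ((Subgroup.inclusion hP).prodMap (MonoidHom.id ↥S)))
    (MulAction.compHom X ((φ.codRestrict S (hom_mem F hφ)).prodMap (MonoidHom.id ↥S))) _ _ hm
  refine ⟨θ, ?_, ?_⟩
  · intro u y
    exact hθ (u, 1) y
  · intro s y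
    have h := hθ (1, s) y
    have e1 : ((Subgroup.inclusion hP).prodMap (MonoidHom.id ↥S)) ((1 : ↥P), s)
        = ((1 : ↥S), s) := by
      apply Prod.ext
      · show Subgroup.inclusion hP (1 : ↥P) = 1
        exact map_one _
      · rfl
    have e2 : ((φ.codRestrict S (hom_mem F hφ)).prodMap (MonoidHom.id ↥S)) ((1 : ↥P), s)
        = ((1 : ↥S), s) := by
      apply Prod.ext
      · show (φ.codRestrict S (hom_mem F hφ)) (1 : ↥P) = 1
        exact map_one _
      · rfl
    have h' : θ (((Subgroup.inclusion hP).prodMap (MonoidHom.id ↥S)) ((1 : ↥P), s) • y)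
        = ((φ.codRestrict S (hom_mem F hφ)).prodMap (MonoidHom.id ↥S)) ((1 : ↥P), s) • θ y := h
    rw [e1, e2] at h'
    exact h'

/-- a function on the hyperfocal subgroup that is multiplicative and invariant under the maps
of the system is trivial -/
theorem eq_one_on_hyp [Finite S] (p : ℕ) [Fact p.Prime] (hS : IsPGroup p S) (F : FusionSystem S)
    {C : Type*} [CommGroup C] (D : Ω → C)
    (hmul : ∀ a b, a ∈ F.hyperfocalSubgroup p → b ∈ F.hyperfocalSubgroup p →
      D (a * b) = D a * D b)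
    (hst : ∀ (P : Subgroup Ω) (φ : P →* Ω), φ ∈ F.Hom P → ∀ u : P,
      (u : Ω) ∈ F.hyperfocalSubgroup p → D (φ u) = D u) :
    ∀ c ∈ F.hyperfocalSubgroup p, D c = 1 := by
  have hD1 : D 1 = 1 := mu_one (F.hyperfocalSubgroup p) D hmul
  have hgen : ∀ (P : Subgroup Ω) (_ : P ≤ S) (α : F.autGroup P),
      α ∈ pResidual p (F.autGroup P) →
      ∀ x : P, D ((x : Ω)⁻¹ * (((α : MulAut P) x : P) : Ω)) = 1 := by
    intro P hPS α hα
    have hmemK : ∀ (β : F.autGroup P), β ∈ pResidual p (F.autGroup P) → ∀ x : P,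
        (x : Ω)⁻¹ * (((β : MulAut P) x : P) : Ω) ∈ F.hyperfocalSubgroup p := by
      intro β hβ x
      exact Subgroup.subset_closure ⟨P, β, x, hPS, hβ, rfl⟩
    have hα' : α ∈ Subgroup.closure {g : F.autGroup P | Nat.Coprime (orderOf g) p} := hα
    induction hα' using Subgroup.closure_induction with
    | mem β hβ =>
      intro x
      have hβR : β ∈ pResidual p (F.autGroup P) := Subgroup.subset_closure hβ
      have hcop : Nat.Coprime (orderOf β) p := hβ
      have hψ : P.subtype.comp (β : MulAut P).toMonoidHom ∈ F.Hom P :=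
        (mem_autGroup_iff F hPS _).mp β.2
      let aP : ℕ → P := fun j => x⁻¹ * ((β : MulAut P) ^ j) x
      have haP : ∀ j, aP j = x⁻¹ * ((β : MulAut P) ^ j) x := fun j => rfl
      have haK : ∀ j, ((aP j : P) : Ω) ∈ F.hyperfocalSubgroup p := by
        intro j
        have h1 := hmemK (β ^ j) (Subgroup.pow_mem _ hβR j) x
        have e : (((β ^ j : F.autGroup P) : MulAut P)) = (β : MulAut P) ^ j :=
          Subgroup.coe_pow _ _ _
        rw [e] at h1
        exact h1
      have hrec : ∀ j, aP (j + 1) = aP 1 * (β : MulAut P) (aP j) := by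
        intro j
        rw [haP, haP, haP, pow_one, map_mul, map_inv, pow_succ', MulAut.mul_apply]
        group
      have hDrec : ∀ j, D ((aP (j + 1) : P) : Ω) = D ((aP 1 : P) : Ω) * D ((aP j : P) : Ω) := by
        intro j
        have hβa : (((β : MulAut P) (aP j) : P) : Ω) ∈ F.hyperfocalSubgroup p := by
          have e : (β : MulAut P) (aP j) = (aP 1)⁻¹ * aP (j + 1) := by
            rw [hrec j, inv_mul_cancel_left]
          rw [e]
          exact Subgroup.mul_mem _ (Subgroup.inv_mem _ (haK 1)) (haK (j + 1))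
        have h1 : ((aP (j + 1) : P) : Ω)
            = ((aP 1 : P) : Ω) * (((β : MulAut P) (aP j) : P) : Ω) := by
          rw [hrec j]; rfl
        rw [h1, hmul _ _ (haK 1) hβa]
        congr 1
        exact hst P _ hψ (aP j) (haK j)
      have hpow : ∀ j, D ((aP j : P) : Ω) = D ((aP 1 : P) : Ω) ^ j := by
        intro j
        induction j with
        | zero =>
          have e : aP 0 = 1 := by rw [haP, pow_zero, MulAut.one_apply, inv_mul_cancel]
          rw [e, pow_zero]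
          exact hD1
        | succ j ih => rw [hDrec j, ih, pow_succ']
      have h1 : D ((aP 1 : P) : Ω) ^ orderOf β = 1 := by
        rw [← hpow]
        have e : aP (orderOf β) = 1 := by
          have e2 : (β : MulAut P) ^ orderOf β = 1 := by
            rw [← Subgroup.coe_pow, pow_orderOf_eq_one]; rfl
          rw [haP, e2, MulAut.one_apply, inv_mul_cancel]
        rw [e]
        exact hD1
      have h2 : D ((aP 1 : P) : Ω) ^ Nat.card S = 1 := by
        rw [← mu_pow (F.hyperfocalSubgroup p) D hmul (haK 1)]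
        have e : (((aP 1 : P) : Ω)) ^ Nat.card S = 1 := by
          have h3 : (⟨((aP 1 : P) : Ω), hPS (aP 1).2⟩ : ↥S) ^ Nat.card S = 1 := pow_card_eq_one'
          exact congrArg Subtype.val h3
        rw [e]
        exact hD1
      obtain ⟨N, hN⟩ := IsPGroup.iff_card.mp hS
      have hcop2 : Nat.Coprime (orderOf β) (Nat.card S) := by
        rw [hN]
        exact Nat.Coprime.pow_right N hcop
      have h3 := pow_gcd_eq_one.mpr ⟨h1, h2⟩
      rw [hcop2.gcd_eq_one, pow_one] at h3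
      have e : aP 1 = x⁻¹ * (β : MulAut P) x := by rw [haP, pow_one]
      rw [e] at h3
      exact h3
    | one =>
      intro x
      have e : (x : Ω)⁻¹ * ((((1 : F.autGroup P) : MulAut P) x : P) : Ω) = 1 := by
        show (x : Ω)⁻¹ * (x : Ω) = 1
        exact inv_mul_cancel _
      rw [e]
      exact hD1
    | mul β γ hβ hγ ihβ ihγ =>
      intro x
      have e : (x : Ω)⁻¹ * ((((β * γ : F.autGroup P) : MulAut P) x : P) : Ω)
          = ((x : Ω)⁻¹ * (((γ : MulAut P) x : P) : Ω)) *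
            ((((γ : MulAut P) x : P) : Ω)⁻¹ *
              (((β : MulAut P) ((γ : MulAut P) x) : P) : Ω)) := by
        show (x : Ω)⁻¹ * (((β : MulAut P) ((γ : MulAut P) x) : P) : Ω) = _
        group
      rw [e, hmul _ _ (hmemK γ hγ x) (hmemK β hβ _), ihγ hγ x, ihβ hβ _, one_mul]
    | inv β hβ ih =>
      intro x
      have e : (x : Ω)⁻¹ * ((((β⁻¹ : F.autGroup P) : MulAut P) x : P) : Ω)
          = ((((((β : MulAut P)⁻¹ x : P)) : Ω))⁻¹ *
              (((β : MulAut P) ((β : MulAut P)⁻¹ x) : P) : Ω))⁻¹ := by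
        have e1 : (β : MulAut P) ((β : MulAut P)⁻¹ x) = x := by
          rw [← MulAut.mul_apply, mul_inv_cancel, MulAut.one_apply]
        rw [e1]
        show (x : Ω)⁻¹ * ((((β : MulAut P)⁻¹ x : P)) : Ω) = _
        group
      rw [e, mu_inv (F.hyperfocalSubgroup p) D hmul (hmemK β hβ _), ih hβ _, inv_one]
  intro c hc
  have hc' : c ∈ Subgroup.closure {y : Ω | ∃ (P : Subgroup Ω) (α : F.autGroup P) (x : P), P ≤ S ∧
    α ∈ pResidual p (F.autGroup P) ∧ y = (x : Ω)⁻¹ * ((α : MulAut P) x : P)} := hc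
  induction hc' using Subgroup.closure_induction with
  | mem y hy =>
    obtain ⟨P, α, x, hPS, hα, rfl⟩ := hy
    exact hgen P hPS α hα x
  | one => exact hD1
  | mul a b ha hb iha ihb => rw [hmul a b ha hb, iha ha, ihb hb, one_mul]
  | inv a ha iha => rw [mu_inv (F.hyperfocalSubgroup p) D hmul ha, iha ha, inv_one]

/-- invariant characters of the hyperfocal subgroup extend, up to a power prime to `p` -/
theorem exists_hyp_ext [Finite S] (p : ℕ) [Fact p.Prime] (hS : IsPGroup p S) (F : FusionSystem S)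
    (hF : F.IsSaturated p) {C : Type*} [CommGroup C] (mu : Ω → C)
    (hmul : ∀ a b, a ∈ F.hyperfocalSubgroup p → b ∈ F.hyperfocalSubgroup p →
      mu (a * b) = mu a * mu b)
    (hconj : ∀ s c, s ∈ S → c ∈ F.hyperfocalSubgroup p → mu (s * c * s⁻¹) = mu c) :
    ∃ (W : ↥S →* C) (k : ℕ), ¬ p ∣ k ∧
      ∀ c : ↥S, (c : Ω) ∈ F.hyperfocalSubgroup p → W c = mu c ^ k := by
  classical
  obtain ⟨X, inst, hX⟩ := exists_good hS hF
  have := hX.fin
  have hf := rfree_of_good hX
  obtain ⟨σ⟩ := exists_sec hf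
  have hKS := hyperfocal_le F p
  let K' : Subgroup ↥S := (F.hyperfocalSubgroup p).subgroupOf S
  have hK' : ∀ s : ↥S, s ∈ K' ↔ (s : Ω) ∈ F.hyperfocalSubgroup p :=
    fun s => Subgroup.mem_subgroupOf
  haveI hN : K'.Normal := ⟨fun n hn g => by
    rw [hK'] at hn ⊢
    exact hyperfocal_conj_mem F p g.2 hn⟩
  let mu' : ↥S → C := fun s => mu (s : Ω)
  have hmul' : ∀ a b : ↥S, a ∈ K' → b ∈ K' → mu' (a * b) = mu' a * mu' b :=
    fun a b ha hb => hmul _ _ ((hK' a).mp ha) ((hK' b).mp hb)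
  have hconj' : ∀ (s c : ↥S), c ∈ K' → mu' (s * c * s⁻¹) = mu' c :=
    fun s c hc => hconj _ _ s.2 ((hK' c).mp hc)
  -- the degree map
  letI actQ : MulAction (↥S × ↥S) (↥S ⧸ K') :=
    { smul := fun g q => (QuotientGroup.mk g.1 : ↥S ⧸ K') * q * (QuotientGroup.mk g.2 : ↥S ⧸ K')⁻¹
      one_smul := by
        intro q
        show (QuotientGroup.mk (1 : ↥S × ↥S).1 : ↥S ⧸ K') * q
          * (QuotientGroup.mk (1 : ↥S × ↥S).2 : ↥S ⧸ K')⁻¹ = q
        simp
      mul_smul := by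
        intro g h q
        show (QuotientGroup.mk (g * h).1 : ↥S ⧸ K') * q
            * (QuotientGroup.mk (g * h).2 : ↥S ⧸ K')⁻¹
          = (QuotientGroup.mk g.1 : ↥S ⧸ K') * ((QuotientGroup.mk h.1 : ↥S ⧸ K') * q
            * (QuotientGroup.mk h.2 : ↥S ⧸ K')⁻¹) * (QuotientGroup.mk g.2 : ↥S ⧸ K')⁻¹
        simp only [Prod.fst_mul, Prod.snd_mul, QuotientGroup.mk_mul, mul_inv_rev, mul_assoc] }
  have hact : ∀ (a b : ↥S) (q : ↥S ⧸ K'), ((a, b) : ↥S × ↥S) • q
      = (QuotientGroup.mk a : ↥S ⧸ K') * q * (QuotientGroup.mk b : ↥S ⧸ K')⁻¹ := fun a b q => rfl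
  have hfix : ∀ x : X, ∃ q : ↥S ⧸ K', ∀ g : ↥S × ↥S, g • x = x → g • q = q := by
    intro x
    obtain ⟨P, f, ⟨φ, hφ, hφf⟩, hD⟩ := hX.fg x
    obtain ⟨s, hs, hsφ⟩ := hom_mod_hyperfocal p hS F hF hφ
    refine ⟨(QuotientGroup.mk (⟨s, hs⟩ : ↥S) : ↥S ⧸ K')⁻¹, ?_⟩
    rintro ⟨a, b⟩ hg
    have h1 : (a, b) ∈ stabilizer (↥S × ↥S) x := hg
    obtain ⟨haP, hfa⟩ := (hD a b).mp h1
    have hb : (b : Ω) = φ ⟨a, haP⟩ := by rw [hφf]; exact hfa.symm
    have h2 := hsφ ⟨a, haP⟩
    have h3 : (QuotientGroup.mk ((⟨s, hs⟩ : ↥S) * a * (⟨s, hs⟩ : ↥S)⁻¹) : ↥S ⧸ K')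
        = QuotientGroup.mk b := by
      rw [QuotientGroup.eq, hK']
      show (s * (a : Ω) * s⁻¹)⁻¹ * (b : Ω) ∈ _
      rw [hb]
      exact h2
    rw [hact, ← h3]
    simp only [QuotientGroup.mk_mul, QuotientGroup.mk_inv]
    group
  obtain ⟨d, hd⟩ := exists_equivariant hfix
  let t : Rep σ → ↥S := fun r => Quotient.out (d r.1)
  have ho : ∀ r : Rep σ, (QuotientGroup.mk (t r) : ↥S ⧸ K') = d r.1 :=
    fun r => QuotientGroup.out_eq' _
  have ht : ∀ s r, ee σ t s r ∈ K' := by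
    intro s r
    rw [← QuotientGroup.eq_one_iff]
    have h1 := hd (s, kap σ s r.1) r.1
    rw [kap_smul_rep, hact] at h1
    unfold ee
    simp only [QuotientGroup.mk_mul, QuotientGroup.mk_inv]
    rw [ho, ho, h1]
    group
  let k := Nat.card (Rep σ)
  have hk : ¬ p ∣ k := not_dvd_card_rep hX hf σ
  have hWmul := Wf_mul hf σ K' mu' hmul' hconj' t ht
  let W : ↥S →* C := MonoidHom.mk' (Wf σ mu' t) hWmul
  refine ⟨W, k, hk, ?_⟩
  let D : Ω → C := fun w => if h : w ∈ S then Wf σ mu' t ⟨w, h⟩ * ((mu w)⁻¹) ^ k else 1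
  have hDS : ∀ (w : Ω) (h : w ∈ S), D w = Wf σ mu' t ⟨w, h⟩ * ((mu w)⁻¹) ^ k :=
    fun w h => dif_pos h
  have hDmul : ∀ a b, a ∈ F.hyperfocalSubgroup p → b ∈ F.hyperfocalSubgroup p →
      D (a * b) = D a * D b := by
    intro a b ha hb
    have haS := hKS ha
    have hbS := hKS hb
    rw [hDS _ (S.mul_mem haS hbS), hDS _ haS, hDS _ hbS, hmul a b ha hb]
    have e : (⟨a * b, S.mul_mem haS hbS⟩ : ↥S) = ⟨a, haS⟩ * ⟨b, hbS⟩ := rfl
    rw [e, hWmul, mul_inv, mul_pow]
    exact mul_mul_mul_comm _ _ _ _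
  have hDst : ∀ (P : Subgroup Ω) (φ : P →* Ω), φ ∈ F.Hom P → ∀ u : P,
      (u : Ω) ∈ F.hyperfocalSubgroup p → D (φ u) = D u := by
    intro P φ hφ u hu
    have hPS := hom_le F hφ
    have hφuS := hom_mem F hφ u
    have hsc := hyperfocal_stronglyClosed p hS F hF
    have hφuK : φ u ∈ F.hyperfocalSubgroup p := by
      have h1 := restrict_mem F hφ (inf_le_left : P ⊓ F.hyperfocalSubgroup p ≤ P)
      exact hsc.2 _ inf_le_right _ h1 ⟨u, ⟨u.2, hu⟩⟩
    obtain ⟨θ, hθ1, hθ2⟩ := exists_twist hX hφ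
    rw [hDS _ hφuS, hDS _ (hPS u.2)]
    exact Wf_twist hf σ K' mu' hmul' hconj' t ht θ ⟨u, hPS u.2⟩ ⟨φ u, hφuS⟩
      ((hK' _).mpr hu) ((hK' _).mpr hφuK) (fun x => hθ1 u x) hθ2
  have hall := eq_one_on_hyp p hS F D hDmul hDst
  intro c hc
  have h1 := hall c hc
  rw [hDS _ c.2] at h1
  show Wf σ mu' t c = mu c ^ k
  have e : (⟨(c : Ω), c.2⟩ : ↥S) = c := rfl
  rw [e, inv_pow, mul_inv_eq_one] at h1
  exact h1

end Cfsg.Agent.Lib.Helper2.Tr
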