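import Cfsg.Agent.Lib.Helper2.Ta2
import Cfsg.Agent.Lib.Helper1.FrattiniP
import Cfsg.Agent.Lib.Helper9.HyperfocalGroup2

set_option autoImplicit false

/-!
# Tate's theorem for fusion systems
-/

namespace Cfsg.Agent.Lib.Helper2.Tr

open Cfsg Cfsg.FusionSystem Cfsg.Agent.Lib.Helper9 MulAction

open scoped commutatorElement Pointwise

universe u

/-- in a nilpotent group, a normal subgroup `A` with `A ≤ B [A, G]` lies in the normal
subgroup `B` -/
theorem le_of_le_sup_commutator {G : Type*} [Group G] [hG : Group.IsNilpotent G]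
    (A B : Subgroup G) [hA : A.Normal] [hB : B.Normal]
    (h : A ≤ B ⊔ ⁅A, (⊤ : Subgroup G)⁆) : A ≤ B := by
  let As : ℕ → Subgroup G := fun n => (fun H : Subgroup G => ⁅H, (⊤ : Subgroup G)⁆)^[n] A
  have hAs0 : As 0 = A := rfl
  have hAsS : ∀ n, As (n + 1) = ⁅As n, (⊤ : Subgroup G)⁆ := by
    intro n
    show (fun H : Subgroup G => ⁅H, (⊤ : Subgroup G)⁆)^[n + 1] A = _
    rw [Function.iterate_succ_apply']
  have hnorm : ∀ n, (As n).Normal := by
    intro n
    induction n with
    | zero => rw [hAs0]; exact hA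
    | succ n ih =>
      rw [hAsS]
      haveI := ih
      infer_instance
  have hlcs : ∀ n, As n ≤ (⊤ : Subgroup G).lowerCentralSeries n := by
    intro n
    induction n with
    | zero => rw [Subgroup.lowerCentralSeries_zero]; exact le_top
    | succ n ih =>
      rw [hAsS, Subgroup.lowerCentralSeries_succ]
      exact Subgroup.commutator_mono ih le_rfl
  have hstep : ∀ n, A ≤ B ⊔ As n := by
    intro n
    induction n with
    | zero => rw [hAs0]; exact le_sup_right
    | succ n ih =>
      refine h.trans (sup_le le_sup_left ?_)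
      haveI := hnorm n
      haveI := hnorm (n + 1)
      have h1 : ⁅A, (⊤ : Subgroup G)⁆ ≤ ⁅B ⊔ As n, (⊤ : Subgroup G)⁆ :=
        Subgroup.commutator_mono ih le_rfl
      refine h1.trans ?_
      rw [Subgroup.commutator_le]
      intro g₁ hg₁ g₂ _
      rw [← SetLike.mem_coe, Subgroup.normal_mul] at hg₁
      obtain ⟨b, hb, a, ha, rfl⟩ := Set.mem_mul.mp hg₁
      have e : ⁅b * a, g₂⁆ = b * ⁅a, g₂⁆ * b⁻¹ * ⁅b, g₂⁆ := by
        simp only [commutatorElement_def]; group
      rw [e]
      apply Subgroup.mul_mem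
      · apply Subgroup.mem_sup_right
        rw [hAsS]
        have h2 : ⁅a, g₂⁆ ∈ ⁅As n, (⊤ : Subgroup G)⁆ :=
          Subgroup.commutator_mem_commutator ha (Subgroup.mem_top g₂)
        rw [← hAsS] at h2 ⊢
        exact (hnorm (n + 1)).conj_mem _ h2 b
      · apply Subgroup.mem_sup_left
        have e2 : ⁅b, g₂⁆ = b * (g₂ * b⁻¹ * g₂⁻¹) := by
          simp only [commutatorElement_def]; group
        rw [e2]
        exact B.mul_mem hb (hB.conj_mem _ (B.inv_mem hb) g₂)
  obtain ⟨n, hn⟩ := Subgroup.nilpotent_iff_lowerCentralSeries.mp hG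
  have h2 := hstep n
  have h3 : As n = ⊥ := le_bot_iff.mp ((hlcs n).trans hn.le)
  rw [h3, sup_bot_eq] at h2
  exact h2

variable {Ω : Type u} [Group Ω] {S : Subgroup Ω}

/-- Tate: equal focal subgroups force equal hyperfocal subgroups -/
theorem hyperfocal_le_of_focal_eq [Finite S] (p : ℕ) [Fact p.Prime] (hS : IsPGroup p S)
    (F : FusionSystem S) (hF : F.IsSaturated p) (H : FusionSystem S) (hH : H.IsSaturated p)
    (hHF : H.IsSubsystemOf F) (hfoc : F.focalSubgroup = H.focalSubgroup) :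
    F.hyperfocalSubgroup p ≤ H.hyperfocalSubgroup p := by
  classical
  have hKHF : H.hyperfocalSubgroup p ≤ F.hyperfocalSubgroup p :=
    hyperfocal_le_of_subsystem H F (le_refl S) hHF p
  have hKS : F.hyperfocalSubgroup p ≤ S := hyperfocal_le F p
  have hKHS : H.hyperfocalSubgroup p ≤ S := hyperfocal_le H p
  -- the subgroup `M`
  have hcomK : ⁅F.hyperfocalSubgroup p, S⁆ ≤ F.hyperfocalSubgroup p := by
    rw [Subgroup.commutator_le]
    intro a ha s hs
    have e : ⁅a, s⁆ = a * (s * a⁻¹ * s⁻¹) := by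
      simp only [commutatorElement_def]; group
    rw [e]
    exact Subgroup.mul_mem _ ha (hyperfocal_conj_mem F p hs (Subgroup.inv_mem _ ha))
  have hMK : H.hyperfocalSubgroup p ⊔ ⁅F.hyperfocalSubgroup p, S⁆ ≤ F.hyperfocalSubgroup p :=
    sup_le hKHF hcomK
  -- step A
  have stepA : F.hyperfocalSubgroup p ≤ H.hyperfocalSubgroup p ⊔ ⁅F.hyperfocalSubgroup p, S⁆ := by
    let M' : Subgroup ↥(F.hyperfocalSubgroup p) :=
      (H.hyperfocalSubgroup p ⊔ ⁅F.hyperfocalSubgroup p, S⁆).subgroupOf (F.hyperfocalSubgroup p)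
    have hcomm : commutator ↥(F.hyperfocalSubgroup p) ≤ M' := by
      rw [commutator_def, Subgroup.commutator_le]
      intro a _ b _
      rw [Subgroup.mem_subgroupOf]
      apply Subgroup.mem_sup_right
      show ⁅(a : Ω), (b : Ω)⁆ ∈ _
      exact Subgroup.commutator_mem_commutator a.2 (hKS b.2)
    let mkC : ↥(F.hyperfocalSubgroup p) →*
        (Abelianization ↥(F.hyperfocalSubgroup p) ⧸ M'.map Abelianization.of) :=
      (QuotientGroup.mk' _).comp Abelianization.of
    have hker : ∀ c : ↥(F.hyperfocalSubgroup p), mkC c = 1 ↔ c ∈ M' := by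
      intro c
      show (QuotientGroup.mk (Abelianization.of c) :
        Abelianization ↥(F.hyperfocalSubgroup p) ⧸ M'.map Abelianization.of) = 1 ↔ _
      rw [QuotientGroup.eq_one_iff]
      constructor
      · rintro ⟨m, hm, hmc⟩
        have h1 : m⁻¹ * c ∈ commutator ↥(F.hyperfocalSubgroup p) := by
          rw [← QuotientGroup.eq]
          exact hmc
        have h2 := M'.mul_mem hm (hcomm h1)
        rw [mul_inv_cancel_left] at h2
        exact h2
      · intro hc
        exact ⟨c, hc, rfl⟩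
    let mu : Ω → (Abelianization ↥(F.hyperfocalSubgroup p) ⧸ M'.map Abelianization.of) :=
      fun w => if h : w ∈ F.hyperfocalSubgroup p then mkC ⟨w, h⟩ else 1
    have hmu : ∀ (w : Ω) (h : w ∈ F.hyperfocalSubgroup p), mu w = mkC ⟨w, h⟩ :=
      fun w h => dif_pos h
    have hmul : ∀ a b, a ∈ F.hyperfocalSubgroup p → b ∈ F.hyperfocalSubgroup p →
        mu (a * b) = mu a * mu b := by
      intro a b ha hb
      rw [hmu _ (Subgroup.mul_mem _ ha hb), hmu _ ha, hmu _ hb, ← map_mul]
      rfl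
    have hconj : ∀ s c, s ∈ S → c ∈ F.hyperfocalSubgroup p → mu (s * c * s⁻¹) = mu c := by
      intro s c hs hc
      have hc' := hyperfocal_conj_mem F p hs hc
      rw [hmu _ hc', hmu _ hc]
      have h1 : mkC ((⟨c, hc⟩ : ↥(F.hyperfocalSubgroup p))⁻¹ * ⟨s * c * s⁻¹, hc'⟩) = 1 := by
        rw [hker, Subgroup.mem_subgroupOf]
        apply Subgroup.mem_sup_right
        show c⁻¹ * (s * c * s⁻¹) ∈ _
        have e : c⁻¹ * (s * c * s⁻¹) = ⁅c⁻¹, s⁆ := by
          simp only [commutatorElement_def]; group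
        rw [e]
        exact Subgroup.commutator_mem_commutator (Subgroup.inv_mem _ hc) hs
      rw [map_mul, map_inv, inv_mul_eq_one] at h1
      exact h1.symm
    obtain ⟨W, k, hk, hW⟩ := exists_hyp_ext p hS F hF mu hmul hconj
    -- `W` kills the focal subgroup of `H`
    have hWfoc : H.focalSubgroup ≤ W.ker.map S.subtype := by
      rw [focal_eq_hyperfocal_sup_commutator p hS H hH]
      apply sup_le
      · intro c hc
        refine ⟨⟨c, hKHS hc⟩, ?_, rfl⟩
        rw [SetLike.mem_coe, MonoidHom.mem_ker, hW _ (hKHF hc), hmu _ (hKHF hc)]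
        have h1 : mkC ⟨c, hKHF hc⟩ = 1 := by
          rw [hker, Subgroup.mem_subgroupOf]
          exact Subgroup.mem_sup_left hc
        rw [h1, one_pow]
      · rw [Subgroup.commutator_le]
        intro a ha b hb
        refine ⟨⁅(⟨a, ha⟩ : ↥S), ⟨b, hb⟩⁆, ?_, rfl⟩
        rw [SetLike.mem_coe, MonoidHom.mem_ker, map_commutatorElement,
          commutatorElement_eq_one_iff_mul_comm]
        exact mul_comm _ _
    have hKfoc : F.hyperfocalSubgroup p ≤ F.focalSubgroup := by
      rw [focal_eq_hyperfocal_sup_commutator p hS F hF]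
      exact le_sup_left
    obtain ⟨N, hN⟩ := IsPGroup.iff_card.mp hS
    have hcop : Nat.Coprime k (Nat.card S) := by
      rw [hN]
      exact Nat.Coprime.pow_right N
        ((Nat.Prime.coprime_iff_not_dvd (Fact.out : p.Prime)).mpr hk).symm
    intro c hc
    have h1 : c ∈ W.ker.map S.subtype := hWfoc (hfoc ▸ hKfoc hc)
    obtain ⟨c', hc', hcc'⟩ := h1
    have h2 : W c' = 1 := hc'
    have h3 : (c' : Ω) ∈ F.hyperfocalSubgroup p := by
      have : (c' : Ω) = c := hcc'
      rw [this]; exact hc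
    rw [hW c' h3] at h2
    have h4 : mu (c' : Ω) ^ Nat.card S = 1 := by
      rw [← mu_pow (F.hyperfocalSubgroup p) mu hmul h3]
      have e : ((c' : Ω)) ^ Nat.card S = 1 := by
        have h5 : c' ^ Nat.card S = 1 := pow_card_eq_one'
        exact congrArg Subtype.val h5
      rw [e]
      exact mu_one (F.hyperfocalSubgroup p) mu hmul
    have h5 := pow_gcd_eq_one.mpr ⟨h2, h4⟩
    rw [hcop.gcd_eq_one, pow_one] at h5
    have h6 : (c' : Ω) = c := hcc'
    rw [h6, hmu _ hc, hker, Subgroup.mem_subgroupOf] at h5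
    exact h5
  -- step B: nilpotency
  haveI : Group.IsNilpotent ↥S := hS.isNilpotent
  let A' : Subgroup ↥S := (F.hyperfocalSubgroup p).subgroupOf S
  let B' : Subgroup ↥S := (H.hyperfocalSubgroup p).subgroupOf S
  haveI hA' : A'.Normal := ⟨fun n hn g => by
    rw [Subgroup.mem_subgroupOf] at hn ⊢
    exact hyperfocal_conj_mem F p g.2 hn⟩
  haveI hB' : B'.Normal := ⟨fun n hn g => by
    rw [Subgroup.mem_subgroupOf] at hn ⊢
    exact hyperfocal_conj_mem H p g.2 hn⟩
  have hmap : (B' ⊔ ⁅A', (⊤ : Subgroup ↥S)⁆).map S.subtype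
      = H.hyperfocalSubgroup p ⊔ ⁅F.hyperfocalSubgroup p, S⁆ := by
    rw [Subgroup.map_sup, Subgroup.map_commutator, Subgroup.map_subgroupOf_eq_of_le hKHS,
      Subgroup.map_subgroupOf_eq_of_le hKS, ← MonoidHom.range_eq_map, Subgroup.range_subtype]
  have hle' : A' ≤ B' ⊔ ⁅A', (⊤ : Subgroup ↥S)⁆ := by
    intro a ha
    have h1 : (a : Ω) ∈ H.hyperfocalSubgroup p ⊔ ⁅F.hyperfocalSubgroup p, S⁆ :=
      stepA (Subgroup.mem_subgroupOf.mp ha)
    rw [← hmap] at h1
    obtain ⟨a', ha', e⟩ := h1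
    have : a' = a := Subtype.ext e
    rw [this] at ha'
    exact ha'
  have hfin := le_of_le_sup_commutator A' B' hle'
  intro c hc
  have h1 : (⟨c, hKS hc⟩ : ↥S) ∈ A' := Subgroup.mem_subgroupOf.mpr hc
  exact Subgroup.mem_subgroupOf.mp (hfin h1)

/-- Tate: equal elementary focal subgroups force equal focal subgroups -/
theorem focal_le_of_frattini [Finite S] (p : ℕ) [Fact p.Prime] (hS : IsPGroup p S)
    (F : FusionSystem S) (hF : F.IsSaturated p) (H : FusionSystem S)
    (hHF : H.IsSubsystemOf F)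
    (h : (frattini ↥S).map S.subtype ⊔ F.focalSubgroup
      = (frattini ↥S).map S.subtype ⊔ H.focalSubgroup) :
    F.focalSubgroup ≤ H.focalSubgroup := by
  obtain ⟨X, inst, hX⟩ := exists_good hS hF
  have := hX.fin
  have hf := rfree_of_good hX
  obtain ⟨σ⟩ := exists_sec hf
  have hk := not_dvd_card_rep hX hf σ
  have hcop : Nat.Coprime (Nat.card (Rep σ)) p :=
    ((Nat.Prime.coprime_iff_not_dvd (Fact.out : p.Prime)).mpr hk).symm
  -- stability under `F` implies stability under `H`
  have hFH : ∀ {C : Type u} (lam : ↥S → C), FStable F lam → FStable H lam :=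
    fun lam hl P φ hφ x => hl P φ (hHF P hφ) x
  -- a homomorphism killing the focal subgroup of a system is stable
  have hstab : ∀ (E : FusionSystem S) {C : Type u} [CommGroup C] (lam : ↥S →* C),
      E.focalSubgroup ≤ lam.ker.map S.subtype → FStable E lam := by
    intro E C _ lam hle P φ hφ x
    have h1 : (x : Ω)⁻¹ * φ x ∈ E.focalSubgroup :=
      Subgroup.subset_closure ⟨P, φ, x, hφ, rfl⟩
    obtain ⟨y, hy, hyx⟩ := hle h1
    have h2 : y = (⟨x, hom_le E hφ x.2⟩ : ↥S)⁻¹ * ⟨φ x, hom_mem E hφ x⟩ := Subtype.ext hyx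
    have h3 : lam y = 1 := hy
    rw [h2, map_mul, map_inv, inv_mul_eq_one] at h3
    exact h3.symm
  -- and conversely
  have hkill : ∀ (E : FusionSystem S) {C : Type u} [CommGroup C] (lam : ↥S →* C),
      FStable E lam → E.focalSubgroup ≤ lam.ker.map S.subtype := by
    intro E C _ lam hl
    unfold focalSubgroup
    rw [Subgroup.closure_le]
    rintro y ⟨P, φ, x, hφ, rfl⟩
    refine ⟨(⟨x, hom_le E hφ x.2⟩ : ↥S)⁻¹ * ⟨φ x, hom_mem E hφ x⟩, ?_, rfl⟩
    rw [SetLike.mem_coe, MonoidHom.mem_ker, map_mul, map_inv, hl P φ hφ x, inv_mul_cancel]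
  -- the order `p` case
  have hp1 : ∀ {C : Type u} [CommGroup C] (lam : ↥S →* C), FStable H lam →
      (∀ s, lam s ^ p = 1) → FStable F lam := by
    intro C _ lam hl hlp
    apply hstab F
    have h1 : frattini ↥S ≤ lam.ker :=
      Cfsg.Agent.Lib.Helper1.frattini_le_of_elementary_quotient p lam.ker
        (Abelianization.commutator_subset_ker lam)
        (fun x => by rw [MonoidHom.mem_ker, map_pow, hlp])
    have h2 : (frattini ↥S).map S.subtype ⊔ H.focalSubgroup ≤ lam.ker.map S.subtype :=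
      sup_le (Subgroup.map_mono h1) (hkill H lam hl)
    rw [← h] at h2
    exact le_sup_right.trans h2
  -- the general case
  have hgen : ∀ (a : ℕ) {C : Type u} [CommGroup C] (lam : ↥S →* C), FStable H lam →
      (∀ s, lam s ^ (p ^ a) = 1) → FStable F lam := by
    intro a
    induction a with
    | zero =>
      intro C _ lam _ hla P φ hφ x
      have h1 : ∀ s, lam s = 1 := fun s => by
        have := hla s
        rw [pow_zero, pow_one] at this
        exact this
      rw [h1, h1]
    | succ a ih =>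
      intro C _ lam hN hla
      let lamp : ↥S →* C := (powMonoidHom p).comp lam
      have hlamp : ∀ s, lamp s = lam s ^ p := fun s => rfl
      have hNp : FStable H lamp := by
        intro P φ hφ x
        rw [hlamp, hlamp, hN P φ hφ x]
      have hlampF : FStable F lamp := by
        apply ih lamp hNp
        intro s
        rw [hlamp, ← pow_mul, ← pow_succ']
        exact hla s
      have hTF := fstable_TT hX hf σ lam
      let D : ↥S →* C := TT hf σ lam * ((powMonoidHom (Nat.card (Rep σ))).comp lam)⁻¹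
      have hD : ∀ s, D s = TT hf σ lam s * (lam s ^ Nat.card (Rep σ))⁻¹ := fun s => rfl
      have hND : FStable H D := by
        intro P φ hφ x
        rw [hD, hD, hFH _ hTF P φ hφ x, hN P φ hφ x]
      have hDp : ∀ s, D s ^ p = 1 := by
        intro s
        have h1 : TT hf σ lam s ^ p = (lam s ^ p) ^ Nat.card (Rep σ) := by
          rw [← hlamp, ← TT_of_fstable hX hf σ lamp hlampF s, TT_apply, TT_apply,
            ← Finset.prod_pow]
          rfl
        rw [hD, mul_pow, inv_pow, h1, ← pow_mul, ← pow_mul, mul_comm (Nat.card (Rep σ)) p,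
          mul_inv_cancel]
      have hDF := hp1 D hND hDp
      intro P φ hφ x
      apply eq_of_pow_eq (Nat.Coprime.pow_right (a + 1) hcop) _ (hla _) (hla _)
      have h1 := hDF P φ hφ x
      rw [hD, hD, hTF P φ hφ x] at h1
      exact inv_injective (mul_left_cancel h1)
  -- the universal quotient
  have hcomm : commutator ↥S ≤ (H.focalSubgroup).subgroupOf S := by
    rw [commutator_def, Subgroup.commutator_le]
    intro a _ b _
    rw [Subgroup.mem_subgroupOf]
    have h1 : ((a⁻¹ : ↥S) : Ω)⁻¹ * conjHom S (b : Ω) a⁻¹ ∈ H.focalSubgroup :=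
      Subgroup.subset_closure ⟨S, conjHom S (b : Ω), a⁻¹, H.conj_mem (le_refl S) b.2, rfl⟩
    have e : ((a⁻¹ : ↥S) : Ω)⁻¹ * conjHom S (b : Ω) a⁻¹ = ((⁅a, b⁆ : ↥S) : Ω) := by
      show ((a⁻¹ : ↥S) : Ω)⁻¹ * ((b : Ω) * ((a⁻¹ : ↥S) : Ω) * (b : Ω)⁻¹) = _
      rw [commutatorElement_def]
      simp only [Subgroup.coe_mul, Subgroup.coe_inv, inv_inv, mul_assoc]
    rw [e] at h1
    exact h1
  let lamU : ↥S →* (Abelianization ↥S ⧸ ((H.focalSubgroup).subgroupOf S).map Abelianization.of) :=
    (QuotientGroup.mk' _).comp Abelianization.of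
  have hker : ∀ s : ↥S, lamU s = 1 ↔ s ∈ (H.focalSubgroup).subgroupOf S := by
    intro s
    show (QuotientGroup.mk (Abelianization.of s) :
      Abelianization ↥S ⧸ ((H.focalSubgroup).subgroupOf S).map Abelianization.of) = 1 ↔ _
    rw [QuotientGroup.eq_one_iff]
    constructor
    · rintro ⟨k, hk, hks⟩
      have h1 : k⁻¹ * s ∈ commutator ↥S := by
        rw [← QuotientGroup.eq]
        exact hks
      have h2 := ((H.focalSubgroup).subgroupOf S).mul_mem hk (hcomm h1)
      rw [mul_inv_cancel_left] at h2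
      exact h2
    · intro hs
      exact ⟨s, hs, rfl⟩
  have hHU : FStable H lamU := by
    intro P φ hφ x
    have h1 : lamU ((⟨x, hom_le H hφ x.2⟩ : ↥S)⁻¹ * ⟨φ x, hom_mem H hφ x⟩) = 1 := by
      rw [hker, Subgroup.mem_subgroupOf]
      exact Subgroup.subset_closure ⟨P, φ, x, hφ, rfl⟩
    rw [map_mul, map_inv, inv_mul_eq_one] at h1
    exact h1.symm
  obtain ⟨a, ha⟩ := IsPGroup.iff_card.mp hS
  have hexp : ∀ s, lamU s ^ (p ^ a) = 1 := by
    intro s
    rw [← map_pow, ← ha, pow_card_eq_one', map_one]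
  have hFU := hgen a lamU hHU hexp
  unfold focalSubgroup
  rw [Subgroup.closure_le]
  rintro y ⟨P, φ, x, hφ, rfl⟩
  have h1 := hFU P φ hφ x
  have h2 : lamU ((⟨x, hom_le F hφ x.2⟩ : ↥S)⁻¹ * ⟨φ x, hom_mem F hφ x⟩) = 1 := by
    rw [map_mul, map_inv, h1, inv_mul_cancel]
  rw [hker, Subgroup.mem_subgroupOf] at h2
  exact h2

/-- Tate's theorem for fusion systems -/
theorem tate [Finite S] (p : ℕ) [Fact p.Prime] (hS : IsPGroup p S)
    (F : FusionSystem S) (hF : F.IsSaturated p) (H : FusionSystem S) (hH : H.IsSaturated p)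
    (hHF : H.IsSubsystemOf F) :
    (((frattini ↥S).map S.subtype ⊔ F.focalSubgroup)
        = ((frattini ↥S).map S.subtype ⊔ H.focalSubgroup)
      ↔ F.focalSubgroup = H.focalSubgroup) ∧
    (F.focalSubgroup = H.focalSubgroup ↔ F.hyperfocalSubgroup p = H.hyperfocalSubgroup p) := by
  have hle : H.focalSubgroup ≤ F.focalSubgroup := by
    unfold focalSubgroup
    apply Subgroup.closure_mono
    rintro y ⟨P, φ, x, hφ, rfl⟩
    exact ⟨P, φ, x, hHF P hφ, rfl⟩
  refine ⟨⟨fun h => le_antisymm (focal_le_of_frattini p hS F hF H hHF h) hle, fun h => by rw [h]⟩,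
    ⟨fun h => le_antisymm (hyperfocal_le_of_focal_eq p hS F hF H hH hHF h)
      (hyperfocal_le_of_subsystem H F (le_refl S) hHF p), fun h => ?_⟩⟩
  rw [focal_eq_hyperfocal_sup_commutator p hS F hF, focal_eq_hyperfocal_sup_commutator p hS H hH, h]

end Cfsg.Agent.Lib.Helper2.Tr
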