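import Cfsg.Agent.Lib.Helper2.Ta3
import Cfsg.Agent.Lib.Helper9.Quasisimple1
import Cfsg.Agent.Lib.Helper9.InnerSat
import Cfsg.Agent.Lib.Helper9.FusionNormalizer

set_option autoImplicit false

/-!
# A criterion for a saturated fusion system to be inner
-/

namespace Cfsg.Agent.Lib.Helper2.Tr

open Cfsg Cfsg.FusionSystem Cfsg.Agent.Lib.Helper9 MulAction

open scoped commutatorElement

universe u

/-- a saturated system over an abelian group all of whose maps on the whole group are trivial
has only inclusions as maps -/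
theorem hom_eq_id_of_abelian {Ω' : Type*} [Group Ω'] {S' : Subgroup Ω'} [Finite S'] (p : ℕ)
    [Fact p.Prime] (hS' : IsPGroup p S') (E : FusionSystem S') (hE : E.IsSaturated p)
    (hab : ∀ a ∈ S', ∀ b ∈ S', a * b = b * a)
    (htop : ∀ (D : Subgroup Ω'), D = S' → ∀ α ∈ E.Hom D, ∀ y : D, α y = y) :
    ∀ (P' : Subgroup Ω') (φ' : P' →* Ω'), φ' ∈ E.Hom P' → ∀ y : P', φ' y = y := by
  intro P' φ' hφ' y
  have hP'S : P' ≤ S' := hom_le E hφ'
  have hcent : ∀ R : Subgroup Ω', R ≤ S' → centralizerIn S' R = S' := by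
    intro R hR
    apply le_antisymm inf_le_left
    apply le_inf le_rfl
    intro x hx
    rw [Subgroup.mem_centralizer_iff]
    intro r hr
    exact hab r (hR hr) x hx
  have hfc : E.IsFullyCentralized φ'.range := by
    refine ⟨range_le E hφ', ?_⟩
    rintro R ⟨ψ, hψ, rfl⟩
    rw [hcent _ (range_le E hψ), hcent _ (range_le E hφ')]
  have hrec := receptive_of_fullyCentralized hS' E hE hfc
  obtain ⟨ψ, hψ, hψφ⟩ := hrec.2 P' φ' hφ' rfl
  have hext : extender S' P' φ' = S' := by
    apply le_antisymm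
    · unfold extender
      rw [Subgroup.closure_le]
      intro g hg
      exact hg.1
    · intro g hg
      apply Subgroup.subset_closure
      refine ⟨hg, ?_, 1, S'.one_mem, ?_⟩
      · rw [Subgroup.mem_normalizer_iff]
        intro h
        constructor
        · intro hh
          have e : g * h * g⁻¹ = h := by
            rw [hab g hg h (hP'S hh), mul_inv_cancel_right]
          rw [e]
          exact hh
        · intro hh
          have hk : g * h * g⁻¹ ∈ S' := hP'S hh
          have e : h = g * h * g⁻¹ := by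
            have e2 : g⁻¹ * (g * h * g⁻¹) = (g * h * g⁻¹) * g⁻¹ :=
              hab g⁻¹ (S'.inv_mem hg) _ hk
            calc h = g⁻¹ * (g * h * g⁻¹) * g := by group
              _ = (g * h * g⁻¹) * g⁻¹ * g := by rw [e2]
              _ = g * h * g⁻¹ := by group
          rw [e]
          exact hh
      · intro x hx
        have e : (⟨g * x * g⁻¹, hx⟩ : P') = x :=
          Subtype.ext (by
            show g * (x : Ω') * g⁻¹ = x
            rw [hab g hg x (hP'S x.2), mul_inv_cancel_right])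
        rw [e, one_mul, inv_one, mul_one]
  have hN : (y : Ω') ∈ extender S' P' φ' := by
    rw [hext]
    exact hP'S y.2
  have h1 := hψφ y y.2 hN
  have h2 := htop _ hext ψ hψ ⟨y, hN⟩
  rw [h1] at h2
  exact h2

variable {Ω : Type u} [Group Ω] {S : Subgroup Ω}

/-- if `T` is strongly closed with abelian quotient and all maps of the system defined on `S`
are inner, then the focal subgroup lies in `T` -/
theorem focal_le_of_stronglyClosed [Finite S] (p : ℕ) [Fact p.Prime] (hS : IsPGroup p S)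
    (F : FusionSystem S) (hF : F.IsSaturated p)
    (hAut : ∀ (D : Subgroup Ω), S = D → ∀ φ ∈ F.Hom D, ∃ g ∈ S, ∀ x : D, φ x = g * x * g⁻¹)
    (T : Subgroup Ω) (hT : F.StronglyClosed T) (hcomm : ⁅S, S⁆ ≤ T) :
    F.focalSubgroup ≤ T := by
  haveI hTn : (T.subgroupOf S).Normal := ⟨fun n hn g => by
    rw [Subgroup.mem_subgroupOf] at hn ⊢
    have h1 := hT.2 T le_rfl (conjHom T (g : Ω)) (F.conj_mem hT.1 g.2) ⟨n, hn⟩
    exact h1⟩
  obtain ⟨E, hE⟩ := exists_factorSystem_quotient F T hT
  have hEsat := factorSystem_saturated p hS F hF hT _ E hE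
  have hmor := (factor_isSurjectiveMorphism p hS F hF T hT _ E hE).1
  obtain ⟨hTS, hker, hrange, hHom⟩ := hE
  haveI hfin : Finite ↥(⊤ : Subgroup (↥S ⧸ T.subgroupOf S)) := finite_of_range_eq _ hrange
  have hS'p : IsPGroup p ↥(⊤ : Subgroup (↥S ⧸ T.subgroupOf S)) := isPGroup_of_range_eq hS _ hrange
  have hab : ∀ a b : ↥S ⧸ T.subgroupOf S, a * b = b * a := by
    intro a b
    induction a using QuotientGroup.induction_on with
    | H a' =>
      induction b using QuotientGroup.induction_on with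
      | H b' =>
        show (QuotientGroup.mk (a' * b') : ↥S ⧸ T.subgroupOf S) = QuotientGroup.mk (b' * a')
        rw [QuotientGroup.eq, Subgroup.mem_subgroupOf]
        apply hcomm
        have e : (((a' * b')⁻¹ * (b' * a') : ↥S) : Ω) = ⁅((b' : Ω))⁻¹, ((a' : Ω))⁻¹⁆ := by
          simp only [commutatorElement_def, Subgroup.coe_mul, Subgroup.coe_inv]
          group
        rw [e]
        exact Subgroup.commutator_mem_commutator (S.inv_mem b'.2) (S.inv_mem a'.2)
  have hDS : preimageAlong (QuotientGroup.mk' (T.subgroupOf S))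
      (⊤ : Subgroup (↥S ⧸ T.subgroupOf S)) = S := by
    unfold preimageAlong
    rw [Subgroup.comap_top, ← MonoidHom.range_eq_map, Subgroup.range_subtype]
  have htop : ∀ (D : Subgroup (↥S ⧸ T.subgroupOf S)), D = ⊤ → ∀ α ∈ E.Hom D, ∀ y : D,
      α y = y := by
    rintro D rfl α hα y
    obtain ⟨-, φ, hφ, hP, hφS, hP', hind⟩ := (hHom _ α).mp hα
    obtain ⟨g, hg, hφg⟩ := hAut _ hDS.symm φ hφ
    obtain ⟨x, hx⟩ := QuotientGroup.mk'_surjective (T.subgroupOf S) (y : ↥S ⧸ T.subgroupOf S)
    have hxD : (x : Ω) ∈ preimageAlong (QuotientGroup.mk' (T.subgroupOf S))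
        (⊤ : Subgroup (↥S ⧸ T.subgroupOf S)) := by
      rw [hDS]
      exact x.2
    have h1 := hind ⟨x, hxD⟩
    have e1 : (⟨(QuotientGroup.mk' (T.subgroupOf S)) ⟨(x : Ω), hP hxD⟩, hP' ⟨x, hxD⟩⟩ :
        (⊤ : Subgroup (↥S ⧸ T.subgroupOf S))) = y := Subtype.ext hx
    have e2 : (⟨φ ⟨x, hxD⟩, hφS ⟨x, hxD⟩⟩ : ↥S) = ⟨g, hg⟩ * x * (⟨g, hg⟩ : ↥S)⁻¹ :=
      Subtype.ext (hφg ⟨x, hxD⟩)
    rw [e1, e2, map_mul, map_mul, map_inv, hab _ ((QuotientGroup.mk' (T.subgroupOf S)) x),
      mul_inv_cancel_right, hx] at h1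
    exact h1
  have hall := hom_eq_id_of_abelian p hS'p E hEsat (fun a _ b _ => hab a b) htop
  unfold focalSubgroup
  rw [Subgroup.closure_le]
  rintro y ⟨P, φ, x, hφ, rfl⟩
  obtain ⟨φ', hφ', hP, hφS, hP', hind⟩ := hmor.2 P φ hφ
  have h1 := hind x
  rw [hall _ φ' hφ'] at h1
  have h2 : (QuotientGroup.mk' (T.subgroupOf S))
      ((⟨x, hP x.2⟩ : ↥S)⁻¹ * ⟨φ x, hφS x⟩) = 1 := by
    rw [map_mul, map_inv, inv_mul_eq_one]
    exact h1
  exact (hker _).mp h2

/-- a saturated fusion system is inner iff the maps defined on `S` are inner and the Frattini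
subgroup is strongly closed -/
theorem inner_of_frattini [Finite S] (p : ℕ) [Fact p.Prime] (hS : IsPGroup p S)
    (F : FusionSystem S) (hF : F.IsSaturated p)
    (hAut : ∀ (D : Subgroup Ω), S = D → ∀ φ ∈ F.Hom D, ∃ g ∈ S, ∀ x : D, φ x = g * x * g⁻¹)
    (hΦ : F.StronglyClosed ((frattini ↥S).map S.subtype)) :
    ∀ P : Subgroup Ω, F.Hom P = (innerFusionSystem S).Hom P := by
  have hcomm : ⁅S, S⁆ ≤ (frattini ↥S).map S.subtype := by
    have h1 := Cfsg.Agent.Lib.Helper1.commutator_le_frattini_of_isPGroup p hS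
    have h2 := Subgroup.map_mono (f := S.subtype) h1
    rw [commutator_def, Subgroup.map_commutator, ← MonoidHom.range_eq_map,
      Subgroup.range_subtype] at h2
    exact h2
  have hfoc := focal_le_of_stronglyClosed p hS F hF hAut _ hΦ hcomm
  have hH := inner_saturated (p := p) hS
  have hHF : (innerFusionSystem S).IsSubsystemOf F := fun P φ hφ => innerFusionSystem_le F P hφ
  have hfocH : (innerFusionSystem S).focalSubgroup ≤ F.focalSubgroup := by
    unfold focalSubgroup
    apply Subgroup.closure_mono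
    rintro y ⟨P, φ, x, hφ, rfl⟩
    exact ⟨P, φ, x, hHF P hφ, rfl⟩
  have hT := tate p hS F hF (innerFusionSystem S) hH hHF
  have heq : (frattini ↥S).map S.subtype ⊔ F.focalSubgroup
      = (frattini ↥S).map S.subtype ⊔ (innerFusionSystem S).focalSubgroup := by
    rw [sup_eq_left.mpr hfoc, sup_eq_left.mpr (hfocH.trans hfoc)]
  have hhyp : F.hyperfocalSubgroup p = ⊥ := by
    rw [hT.2.mp (hT.1.mp heq)]
    apply hyperfocal_eq_bot_of_autGroups_pGroups
    intro P hP
    rw [inner_autGroup_eq hP]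
    exact isPGroup_autInducedBy hS P
  intro P
  ext φ
  constructor
  · intro hφ
    obtain ⟨s, hs, hsφ⟩ := hom_mod_hyperfocal p hS F hF hφ
    refine ⟨hom_le F hφ, s, hs, fun y => ?_⟩
    have h1 := hsφ y
    rw [hhyp, Subgroup.mem_bot, inv_mul_eq_one] at h1
    exact h1.symm
  · intro hφ
    exact innerFusionSystem_le F P hφ

/-- the criterion, with the hypothesis on the normalizer system of `S` -/
theorem inner_iff [Finite S] (p : ℕ) [Fact p.Prime] (hS : IsPGroup p S)
    (F : FusionSystem S) (hF : F.IsSaturated p) :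
    (∀ P : Subgroup Ω, F.Hom P = (innerFusionSystem S).Hom P) ↔
      (∀ N : FusionSystem (normalizerIn S S), F.IsNormalizerSystem S N →
        ∀ P : Subgroup Ω, N.Hom P = (innerFusionSystem (normalizerIn S S)).Hom P) ∧
      F.StronglyClosed ((frattini ↥S).map S.subtype) := by
  constructor
  · intro hin
    constructor
    · intro N hN P
      rw [hN P]
      ext φ
      constructor
      · rintro ⟨hφ, hPN, -, -⟩
        rw [hin P] at hφ
        obtain ⟨-, g, hg, hφg⟩ := hφ
        exact ⟨hPN, g, ⟨hg, Subgroup.le_normalizer hg⟩, hφg⟩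
      · rintro ⟨hPN, g, hgN, hφg⟩
        have hPS : P ≤ S := hPN.trans inf_le_left
        have hsup : P ⊔ S ≤ S := sup_le hPS le_rfl
        refine ⟨?_, hPN, ?_, conjHom (P ⊔ S) g, F.conj_mem hsup hgN.1, ?_, ?_⟩
        · rw [hin P]
          exact ⟨hPS, g, hgN.1, hφg⟩
        · intro x
          have h1 : φ x ∈ S := by
            rw [hφg]
            exact S.mul_mem (S.mul_mem hgN.1 (hPS x.2)) (S.inv_mem hgN.1)
          exact ⟨h1, Subgroup.le_normalizer h1⟩
        · intro x
          rw [hφg]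
          rfl
        · exact conj_map_eq_of_mem_normalizer le_sup_right hgN.2
    · refine ⟨Subgroup.map_subtype_le _, ?_⟩
      intro R hR φ hφ x
      rw [hin R] at hφ
      obtain ⟨-, g, hg, hφg⟩ := hφ
      obtain ⟨x', hx', hxx'⟩ := hR x.2
      rw [hφg]
      refine ⟨⟨g, hg⟩ * x' * (⟨g, hg⟩ : ↥S)⁻¹, ?_, ?_⟩
      · haveI : (frattini ↥S).Normal := Subgroup.normal_of_characteristic _
        exact Subgroup.Normal.conj_mem inferInstance x' hx' _
      · show g * (x' : Ω) * g⁻¹ = g * (x : Ω) * g⁻¹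
        have : (x' : Ω) = x := hxx'
        rw [this]
  · rintro ⟨h1, h2⟩
    apply inner_of_frattini p hS F hF _ h2
    rintro D rfl φ hφ
    have hN := isNormalizerSystem_normalizerSystem F S le_rfl
    have h3 := h1 _ hN S
    rw [hN S] at h3
    have h4 : φ ∈ F.normalizerHom S S := mem_normalizerHom_self F hφ
    rw [h3] at h4
    obtain ⟨-, g, hg, hφg⟩ := h4
    exact ⟨g, hg.1, hφg⟩

end Cfsg.Agent.Lib.Helper2.Tr
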