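import Cfsg.Agent.Lib.Helper2.Tr1

set_option autoImplicit false

/-!
# A parity count for the biset transfer of an involution (Thompson transfer)
-/

namespace Cfsg.Agent.Lib.Helper2.Tr

open MulAction

section eps

variable {G : Type*} [Group G]

open Classical in
/-- the sign character of a subgroup of index two -/
noncomputable def eps (H : Subgroup G) (hH : H.index = 2) : G →* ℤˣ where
  toFun g := if g ∈ H then 1 else -1
  map_one' := by rw [if_pos H.one_mem]
  map_mul' a b := by
    have h := Subgroup.mul_mem_iff_of_index_two hH (a := a) (b := b)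
    by_cases ha : a ∈ H <;> by_cases hb : b ∈ H
    · rw [if_pos ha, if_pos hb, if_pos (h.mpr ⟨fun _ => hb, fun _ => ha⟩)]
      rfl
    · rw [if_pos ha, if_neg hb, if_neg (fun hab => hb (h.mp hab |>.mp ha))]
      rfl
    · rw [if_neg ha, if_pos hb, if_neg (fun hab => ha (h.mp hab |>.mpr hb))]
      rfl
    · rw [if_neg ha, if_neg hb, if_pos (h.mpr ⟨fun h' => absurd h' ha, fun h' => absurd h' hb⟩)]
      rfl

theorem eps_of_mem (H : Subgroup G) (hH : H.index = 2) {g : G} (hg : g ∈ H) : eps H hH g = 1 := by
  classical
  exact if_pos hg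

theorem eps_of_not_mem (H : Subgroup G) (hH : H.index = 2) {g : G} (hg : g ∉ H) :
    eps H hH g = -1 := by
  classical
  exact if_neg hg

end eps

section parity

variable {T : Type*} [Group T] {X : Type*} [MulAction (T × T) X]

/-- the action of `T` on the representatives -/
def ractAction (σ : Sec T X) : MulAction T (Rep σ) where
  smul a r := ract σ a r
  one_smul r := ract_one σ r
  mul_smul a b r := ract_mul σ a b r

theorem kap_one_rep (hf : RFree T X) (σ : Sec T X) (r : Rep σ) : kap σ 1 r.1 = 1 := by
  symm
  apply kap_unique hf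
  have h : (((1 : T), (1 : T)) : T × T) = 1 := rfl
  rw [h, one_smul]
  exact r.2.symm

theorem kap_mul_rep (hf : RFree T X) (σ : Sec T X) (a b : T) (r : Rep σ) :
    kap σ (a * b) r.1 = kap σ a (ract σ b r).1 * kap σ b r.1 :=
  kap_mul hf σ a b r.1

/-- the parity count -/
theorem prod_eps_kap [Finite X] (hf : RFree T X) (σ : Sec T X) (ε : T →* ℤˣ) (j : T)
    (hj : j * j = 1) (C : Subgroup T) (hC : IsPGroup 2 C)
    (hcomm : ∀ c ∈ C, c * j = j * c) (hodd : Odd (Nat.card (Rep σ)))
    (hfix : ∀ r : Rep σ, (∀ c ∈ C, ract σ c r = r) → ε (kap σ j r.1) = -1) :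
    ∏ r : Rep σ, ε (kap σ j r.1) = -1 := by
  classical
  have hjj : ∀ r : Rep σ, ract σ j (ract σ j r) = r := by
    intro r
    rw [← ract_mul, hj, ract_one]
  have hk2 : ∀ r : Rep σ, ε (kap σ j r.1) * ε (kap σ j (ract σ j r).1) = 1 := by
    intro r
    have h1 := kap_mul_rep hf σ j j r
    rw [hj, kap_one_rep hf σ r] at h1
    rw [mul_comm, ← map_mul, ← h1, map_one]
  -- split off the moved representatives
  rw [← Finset.prod_filter_mul_prod_filter_not Finset.univ (fun r : Rep σ => ract σ j r = r)]
  have hmoved : ∏ r ∈ Finset.univ.filter (fun r : Rep σ => ¬ ract σ j r = r),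
      ε (kap σ j r.1) = 1 := by
    apply Finset.prod_involution (fun r _ => ract σ j r)
    · intro r _
      exact hk2 r
    · intro r hr _
      exact (Finset.mem_filter.mp hr).2
    · intro r hr
      rw [Finset.mem_filter] at hr ⊢
      refine ⟨Finset.mem_univ _, ?_⟩
      rw [hjj r]
      exact fun h => hr.2 h.symm
    · intro r _
      exact hjj r
  rw [hmoved, mul_one]
  -- the fixed representatives
  have hval : ∀ r ∈ Finset.univ.filter (fun r : Rep σ => ract σ j r = r),
      ε (kap σ j r.1) = if ε (kap σ j r.1) = 1 then (1 : ℤˣ) else -1 := by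
    intro r _
    rcases Int.units_eq_one_or (ε (kap σ j r.1)) with h | h
    · rw [if_pos h, h]
    · rw [if_neg (by rw [h]; decide), h]
  rw [Finset.prod_congr rfl hval, Finset.prod_ite, Finset.prod_const_one, one_mul,
    Finset.prod_const]
  apply Odd.neg_one_pow
  -- counting
  have hcount := Finset.card_filter_add_card_filter_not
    (s := Finset.univ.filter (fun r : Rep σ => ract σ j r = r))
    (fun r : Rep σ => ε (kap σ j r.1) = 1)
  -- the number of fixed representatives is odd
  have hfixodd : Odd (Finset.univ.filter (fun r : Rep σ => ract σ j r = r)).card := by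
    letI := ractAction σ
    have hZ : IsPGroup 2 (Subgroup.zpowers j) := by
      rintro ⟨g, n, rfl⟩
      refine ⟨1, ?_⟩
      apply Subtype.ext
      show (j ^ n) ^ 2 ^ 1 = 1
      rw [pow_one, ← zpow_natCast, ← zpow_mul, mul_comm, zpow_mul, zpow_natCast, pow_two, hj,
        one_zpow]
    have h1 := hZ.card_modEq_card_fixedPoints (Rep σ)
    have h2 : Nat.card (fixedPoints (Subgroup.zpowers j) (Rep σ))
        = (Finset.univ.filter (fun r : Rep σ => ract σ j r = r)).card := by
      rw [← Fintype.card_subtype, ← Nat.card_eq_fintype_card]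
      apply Nat.card_congr
      apply Equiv.subtypeEquivRight
      intro r
      constructor
      · intro h
        exact h ⟨j, Subgroup.mem_zpowers j⟩
      · intro h g
        have hle : Subgroup.zpowers j ≤ stabilizer T r := by
          rw [Subgroup.zpowers_le]
          exact h
        exact hle g.2
    rw [h2] at h1
    rw [Nat.odd_iff] at hodd ⊢
    rw [← h1]
    exact hodd
  -- the number of fixed representatives with trivial sign is even
  have heven : Even (Finset.filter (fun r : Rep σ => ε (kap σ j r.1) = 1)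
      (Finset.univ.filter (fun r : Rep σ => ract σ j r = r))).card := by
    rw [Finset.filter_filter]
    -- the invariance of the conditions
    have hinv : ∀ c ∈ C, ∀ r : Rep σ, (ract σ j r = r ∧ ε (kap σ j r.1) = 1) →
        (ract σ j (ract σ c r) = ract σ c r ∧ ε (kap σ j (ract σ c r).1) = 1) := by
      rintro c hc r ⟨h1, h2⟩
      have e1 : ract σ j (ract σ c r) = ract σ c r := by
        rw [← ract_mul, ← hcomm c hc, ract_mul, h1]
      refine ⟨e1, ?_⟩
      have k1 := kap_mul_rep hf σ j c r
      have k2 := kap_mul_rep hf σ c j r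
      rw [h1] at k2
      rw [hcomm c hc] at k2
      have k3 : ε (kap σ j (ract σ c r).1) * ε (kap σ c r.1)
          = ε (kap σ c r.1) * ε (kap σ j r.1) := by
        rw [← map_mul, ← map_mul, ← k1, ← k2]
      rw [h2, mul_one] at k3
      calc ε (kap σ j (ract σ c r).1)
          = ε (kap σ j (ract σ c r).1) * ε (kap σ c r.1) * (ε (kap σ c r.1))⁻¹ := by
            rw [mul_inv_cancel_right]
        _ = 1 := by rw [k3, mul_inv_cancel]
    letI : MulAction ↥C {r : Rep σ // ract σ j r = r ∧ ε (kap σ j r.1) = 1} :=
      { smul := fun c r => ⟨ract σ c.1 r.1, hinv c.1 c.2 r.1 r.2⟩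
        one_smul := fun r => Subtype.ext (ract_one σ r.1)
        mul_smul := fun a b r => Subtype.ext (ract_mul σ a.1 b.1 r.1) }
    have h1 := hC.card_modEq_card_fixedPoints
      {r : Rep σ // ract σ j r = r ∧ ε (kap σ j r.1) = 1}
    have h2 : Nat.card (fixedPoints ↥C {r : Rep σ // ract σ j r = r ∧ ε (kap σ j r.1) = 1})
        = 0 := by
      rw [Nat.card_eq_zero]
      left
      constructor
      rintro ⟨⟨r, hr1, hr2⟩, hr⟩
      have h3 : ∀ c ∈ C, ract σ c r = r := by
        intro c hc
        have := hr ⟨c, hc⟩
        exact congrArg Subtype.val this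
      have h4 := hfix r h3
      rw [hr2] at h4
      exact absurd h4 (by decide)
    rw [h2] at h1
    rw [Nat.card_eq_fintype_card, Fintype.card_subtype] at h1
    exact Nat.even_iff.mpr h1
  -- conclusion
  rcases heven with ⟨a, ha⟩
  rcases hfixodd with ⟨b, hb⟩
  rw [ha, hb] at hcount
  exact ⟨b - a, by omega⟩

end parity

end Cfsg.Agent.Lib.Helper2.Tr
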