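import Cfsg.Agent.Lib.Helper2.Th1
import Cfsg.Agent.Lib.Helper2.Tr7

set_option autoImplicit false

/-!
# Thompson transfer for saturated fusion systems
-/

namespace Cfsg.Agent.Lib.Helper2.Tr

open Cfsg Cfsg.FusionSystem Cfsg.Agent.Lib.Helper9 MulAction

universe u

variable {Ω : Type u} [Group Ω] {S : Subgroup Ω}

theorem FRel.map_zpow {F : FusionSystem S} {P : Subgroup Ω} {f : Ω → Ω} (h : FRel F P f) {x : Ω}
    (hx : x ∈ P) (n : ℤ) : f (x ^ n) = f x ^ n := by
  obtain ⟨φ, hφ, hf⟩ := h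
  have e := hf (⟨x, hx⟩ ^ n)
  rw [_root_.map_zpow, hf] at e
  exact e.symm

theorem mem_zpowers_of_sq {j x : Ω} (hj : j * j = 1) (hx : x ∈ Subgroup.zpowers j) :
    x = 1 ∨ x = j := by
  obtain ⟨n, rfl⟩ := Subgroup.mem_zpowers_iff.mp hx
  have h2 : j ^ (2 : ℤ) = 1 := by
    rw [zpow_two]
    exact hj
  obtain ⟨k, rfl | rfl⟩ := Int.even_or_odd' n
  · left
    rw [zpow_mul, h2, one_zpow]
  · right
    rw [zpow_add, zpow_mul, h2, one_zpow, one_mul, zpow_one]

theorem conj_eq_of_mem_normalizerIn {j c : Ω} (hj : j * j = 1) (hj1 : j ≠ 1)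
    (hc : c ∈ normalizerIn S (Subgroup.zpowers j)) : c * j = j * c := by
  have h1 := (Subgroup.mem_normalizer_iff.mp (mem_normalizerIn.mp hc).2 j).mp
    (Subgroup.mem_zpowers j)
  rcases mem_zpowers_of_sq hj h1 with h | h
  · exfalso
    apply hj1
    have e : j = c⁻¹ * (c * j * c⁻¹) * c := by group
    rw [e, h]
    group
  · calc c * j = (c * j * c⁻¹) * c := by group
      _ = j * c := by rw [h]

/-- the image of a fully normalized involution under a map defined on its centralizer is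
again fully normalized -/
theorem isFullyNormalized_zpowers_map [Finite S] {F : FusionSystem S} {j : Ω} (hj : j * j = 1)
    (hj1 : j ≠ 1) (hFN : F.IsFullyNormalized (Subgroup.zpowers j)) {P : Subgroup Ω} {f : Ω → Ω}
    (hf : FRel F P f) (hNP : normalizerIn S (Subgroup.zpowers j) ≤ P) :
    F.IsConj (Subgroup.zpowers j) (Subgroup.zpowers (f j)) ∧
      F.IsFullyNormalized (Subgroup.zpowers (f j)) := by
  have hjS : Subgroup.zpowers j ≤ S := hFN.1
  have hjN : Subgroup.zpowers j ≤ normalizerIn S (Subgroup.zpowers j) :=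
    self_le_normalizerIn' hjS
  have hjP : j ∈ P := hNP (hjN (Subgroup.mem_zpowers j))
  have hconj : F.IsConj (Subgroup.zpowers j) (Subgroup.zpowers (f j)) := by
    obtain ⟨φ, hφ, hφf⟩ := hf.restrict (hjN.trans hNP)
    refine ⟨φ, hφ, ?_⟩
    ext y
    constructor
    · rintro ⟨⟨x, hx⟩, rfl⟩
      obtain ⟨n, rfl⟩ := Subgroup.mem_zpowers_iff.mp hx
      rw [hφf]
      show f (j ^ n) ∈ _
      rw [hf.map_zpow hjP]
      exact Subgroup.zpow_mem_zpowers _ n
    · intro hy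
      obtain ⟨n, rfl⟩ := Subgroup.mem_zpowers_iff.mp hy
      refine ⟨⟨j ^ n, Subgroup.zpow_mem_zpowers j n⟩, ?_⟩
      rw [hφf]
      exact hf.map_zpow hjP n
  refine ⟨hconj, isConj_le_right F hconj, fun Q'' hQ'' => ?_⟩
  have h1 := hFN.2 Q'' (isConj_trans F hconj hQ'')
  refine h1.trans ?_
  have hmap : ∀ c : normalizerIn S (Subgroup.zpowers j),
      f c ∈ normalizerIn S (Subgroup.zpowers (f j)) := by
    intro c
    have hcP : (c : Ω) ∈ P := hNP c.2
    refine mem_normalizerIn.mpr ⟨hf.mem hcP, Subgroup.centralizer_le_normalizer _ ?_⟩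
    rw [Subgroup.mem_centralizer_iff]
    intro y hy
    obtain ⟨n, rfl⟩ := Subgroup.mem_zpowers_iff.mp hy
    have hc := conj_eq_of_mem_normalizerIn hj hj1 c.2
    have h2 : Commute (f j) (f c) := by
      show f j * f c = f c * f j
      rw [← hf.map_mul hjP hcP, ← hf.map_mul hcP hjP, hc]
    exact h2.zpow_left n
  have := finite_normalizerIn (S := S) (Subgroup.zpowers (f j))
  exact Nat.card_le_card_of_injective
    (fun c : normalizerIn S (Subgroup.zpowers j) =>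
      (⟨f c, hmap c⟩ : normalizerIn S (Subgroup.zpowers (f j))))
    (fun a b hab => Subtype.ext (hf.inj (hNP a.2) (hNP b.2) (congrArg Subtype.val hab)))

theorem isConjElt_map {F : FusionSystem S} {i j : Ω} (hij : F.IsConjElt i j) {P : Subgroup Ω}
    {f : Ω → Ω} (hf : FRel F P f) (hjP : j ∈ P) : F.IsConjElt i (f j) := by
  obtain ⟨φ, hφ, hφi⟩ := hij
  obtain ⟨ψ, hψ, hψf⟩ := hf.restrict
    (show Subgroup.zpowers j ≤ P by rw [Subgroup.zpowers_le]; exact hjP)
  have hm : ∀ x : Subgroup.zpowers i, φ x ∈ Subgroup.zpowers j := by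
    rintro ⟨x, hx⟩
    obtain ⟨n, rfl⟩ := Subgroup.mem_zpowers_iff.mp hx
    have e : (⟨i ^ n, hx⟩ : Subgroup.zpowers i) = ⟨i, Subgroup.mem_zpowers i⟩ ^ n :=
      Subtype.ext rfl
    rw [e, map_zpow, hφi]
    exact Subgroup.zpow_mem_zpowers j n
  obtain ⟨χ, hχ, hχe⟩ := comp_hom F hφ hψ hm
  refine ⟨χ, hχ, ?_⟩
  rw [hχe, hψf]
  show f (φ ⟨i, _⟩) = f j
  rw [hφi]

/-- Thompson transfer -/
theorem thompson_transfer [Finite S] (hS : IsPGroup 2 S) (F : FusionSystem S)
    (hF : F.IsSaturated 2) (T : Subgroup Ω) (hT : T.relIndex S = 2) (i : Ω) (hi : i ∈ S)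
    (hi2 : orderOf i = 2)
    (h : ∀ j : Ω, F.IsConjElt i j → F.IsFullyNormalized (Subgroup.zpowers j) → j ∉ T) :
    i ∉ F.hyperfocalSubgroup 2 := by
  intro hyp
  obtain ⟨X, inst, hX⟩ := exists_good hS hF
  have := hX.fin
  have hfree := rfree_of_good hX
  obtain ⟨σ⟩ := exists_sec hfree
  have hfoc : i ∈ F.focalSubgroup := by
    rw [focal_eq_hyperfocal_sup_commutator 2 hS F hF]
    exact (le_sup_left : F.hyperfocalSubgroup 2 ≤ _) hyp
  have hti : tr hfree σ ⟨i, hi⟩ = 1 := by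
    obtain ⟨w, hw, hwi⟩ := focal_le_ker hX hfree σ hfoc
    have e : w = ⟨i, hi⟩ := Subtype.ext hwi
    rw [← e]
    exact hw
  have hzi : Subgroup.zpowers i ≤ S := by
    rw [Subgroup.zpowers_le]
    exact hi
  obtain ⟨Q, hQ, hQn⟩ := exists_isConj_fullyNormalized F hzi
  obtain ⟨φ, hφ, hφQ⟩ := hQ
  obtain ⟨j, hjdef⟩ : ∃ j, j = φ ⟨i, Subgroup.mem_zpowers i⟩ := ⟨_, rfl⟩
  have hij : F.IsConjElt i j := ⟨φ, hφ, hjdef.symm⟩
  have hjS : j ∈ S := by
    rw [hjdef]
    exact hom_mem F hφ _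
  have hQj : Q = Subgroup.zpowers j := by
    rw [← hφQ]
    ext y
    constructor
    · rintro ⟨⟨x, hx⟩, rfl⟩
      obtain ⟨n, rfl⟩ := Subgroup.mem_zpowers_iff.mp hx
      have e : (⟨i ^ n, hx⟩ : Subgroup.zpowers i) = ⟨i, Subgroup.mem_zpowers i⟩ ^ n :=
        Subtype.ext rfl
      rw [e, map_zpow, ← hjdef]
      exact Subgroup.zpow_mem_zpowers _ n
    · intro hy
      obtain ⟨n, rfl⟩ := Subgroup.mem_zpowers_iff.mp hy
      refine ⟨⟨i, Subgroup.mem_zpowers i⟩ ^ n, ?_⟩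
      rw [map_zpow, ← hjdef]
  rw [hQj] at hQn
  have hii : i * i = 1 := by
    rw [← pow_two, ← hi2, pow_orderOf_eq_one]
  have hi1 : i ≠ 1 := by
    rintro rfl
    rw [orderOf_one] at hi2
    omega
  have hjj : j * j = 1 := by
    have e : (⟨i, Subgroup.mem_zpowers i⟩ : Subgroup.zpowers i) * ⟨i, Subgroup.mem_zpowers i⟩
        = 1 := Subtype.ext hii
    rw [hjdef, ← map_mul, e, map_one]
  have hj1 : j ≠ 1 := by
    intro hj
    apply hi1
    have e : (⟨i, Subgroup.mem_zpowers i⟩ : Subgroup.zpowers i) = 1 :=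
      F.injective_of_mem hφ (by rw [map_one, ← hjdef]; exact hj)
    exact congrArg Subtype.val e
  have htj : tr hfree σ ⟨j, hjS⟩ = 1 := by
    rw [← hti]
    have h3 := tr_invariant hX hfree σ hφ ⟨i, Subgroup.mem_zpowers i⟩
    have e : (⟨j, hjS⟩ : ↥S) = ⟨φ ⟨i, Subgroup.mem_zpowers i⟩, hom_mem F hφ _⟩ :=
      Subtype.ext hjdef
    rw [e]
    exact h3
  have hprod : ∏ r : Rep σ, eps (T.subgroupOf S) hT (kap σ (⟨j, hjS⟩ : ↥S) r.1) = -1 := by
    apply prod_eps_kap hfree σ (eps (T.subgroupOf S) hT) ⟨j, hjS⟩ (Subtype.ext hjj)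
      ((normalizerIn S (Subgroup.zpowers j)).subgroupOf S) (hS.to_subgroup _)
    · rintro c hc
      apply Subtype.ext
      exact conj_eq_of_mem_normalizerIn hjj hj1 (Subgroup.mem_subgroupOf.mp hc)
    · obtain ⟨k, hk1, hk2⟩ := hX.cd
      have h4 := card_rep_mul hfree σ
      rw [hk1] at h4
      have hpos : 0 < Nat.card S := Nat.card_pos
      rw [Nat.eq_of_mul_eq_mul_right hpos h4, Nat.odd_iff]
      omega
    · intro r hr
      obtain ⟨P, f, hf, hD⟩ := hX.fg r.1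
      have hmem : ∀ c : ↥S, (c : Ω) ∈ normalizerIn S (Subgroup.zpowers j) →
          (c : Ω) ∈ P ∧ f c = kap σ c r.1 := by
        intro c hc
        have h1 := kap_spec σ c r.1
        have h2 : σ.σ (((c, (1 : ↥S)) : ↥S × ↥S) • r.1) = r.1 :=
          congrArg Subtype.val (hr c (Subgroup.mem_subgroupOf.mpr hc))
        rw [h2] at h1
        exact (hD _ _).mp h1
      have hNP : normalizerIn S (Subgroup.zpowers j) ≤ P :=
        fun c hc => (hmem ⟨c, (mem_normalizerIn.mp hc).1⟩ hc).1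
      have hjN : j ∈ normalizerIn S (Subgroup.zpowers j) :=
        self_le_normalizerIn' hQn.1 (Subgroup.mem_zpowers j)
      obtain ⟨-, hc2⟩ := isFullyNormalized_zpowers_map hjj hj1 hQn hf hNP
      have hnotT := h (f j) (isConjElt_map hij hf (hNP hjN)) hc2
      have hfj : f j = kap σ (⟨j, hjS⟩ : ↥S) r.1 := (hmem ⟨j, hjS⟩ hjN).2
      apply eps_of_not_mem
      rw [Subgroup.mem_subgroupOf, ← hfj]
      exact hnotT
  have h5 : (Abelianization.lift (eps (T.subgroupOf S) hT)) (tr hfree σ ⟨j, hjS⟩)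
      = ∏ r : Rep σ, eps (T.subgroupOf S) hT (kap σ (⟨j, hjS⟩ : ↥S) r.1) := by
    rw [tr_apply, map_prod]
    apply Finset.prod_congr rfl
    intro r _
    exact Abelianization.lift_apply_of _ _
  rw [htj, map_one, hprod] at h5
  exact absurd h5 (by decide)

end Cfsg.Agent.Lib.Helper2.Tr
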