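import Mathlib
import Cfsg.Agent.Lib.Helper2.SymProd

/-!
# Fixed points of `p`-groups on groups of class two, `p` odd
-/

set_option autoImplicit false

namespace Cfsg.Agent.Lib.Helper2

open scoped commutatorElement

variable {G : Type*} [Group G]

/-- An enumeration of the elements of a finite subgroup. -/
noncomputable def enumList [Finite G] (Q : Subgroup G) : List G :=
  (Set.toFinite (Q : Set G)).toFinset.toList

theorem mem_enumList [Finite G] {Q : Subgroup G} {x : G} : x ∈ enumList Q ↔ x ∈ Q := by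
  unfold enumList
  rw [Finset.mem_toList, Set.Finite.mem_toFinset]
  rfl

theorem nodup_enumList [Finite G] (Q : Subgroup G) : (enumList Q).Nodup :=
  Finset.nodup_toList _

theorem length_enumList [Finite G] (Q : Subgroup G) : (enumList Q).length = Nat.card Q := by
  unfold enumList
  rw [Finset.length_toList, ← Set.ncard_eq_toFinset_card _ _, ← Nat.card_coe_set_eq]
  rfl

/-- If `f` maps `Q` bijectively to itself then the image of the enumeration is a permutation. -/
theorem enumList_map_perm [Finite G] (Q : Subgroup G) (f : G → G) (hf : Function.Injective f)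
    (hfQ : ∀ x, f x ∈ Q ↔ x ∈ Q) (hsurj : ∀ y ∈ Q, ∃ x, f x = y) :
    ((enumList Q).map f).Perm (enumList Q) := by
  rw [List.perm_ext_iff_of_nodup ((nodup_enumList Q).map hf) (nodup_enumList Q)]
  intro a
  rw [List.mem_map, mem_enumList]
  constructor
  · rintro ⟨x, hx, rfl⟩
    exact (hfQ x).2 (mem_enumList.1 hx)
  · intro ha
    obtain ⟨x, rfl⟩ := hsurj a ha
    exact ⟨x, mem_enumList.2 ((hfQ x).1 ha), rfl⟩

/-- The symmetrized norm `N(y) = ∏ y^q · ∏' y^q` over `Q`. -/
noncomputable def symN [Finite G] (Q : Subgroup G) (y : G) : G :=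
  symProd ((enumList Q).map (fun q => q * y * q⁻¹))

theorem symN_mem [Finite G] {Q H : Subgroup G} (hQH : Q ≤ Subgroup.normalizer (H : Set G))
    {y : G} (hy : y ∈ H) : symN Q y ∈ H := by
  unfold symN
  apply symProd_mem
  intro x hx
  obtain ⟨q, hq, rfl⟩ := List.mem_map.1 hx
  exact (Subgroup.mem_normalizer_iff.1 (hQH (mem_enumList.1 hq)) y).1 hy

theorem symN_one [Finite G] (Q : Subgroup G) : symN Q (1 : G) = 1 := by
  unfold symN
  have : (enumList Q).map (fun q => q * (1 : G) * q⁻¹) = (enumList Q).map (fun _ => (1 : G)) := by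
    apply List.map_congr_left
    intro q _
    simp
  rw [this]
  unfold symProd
  simp

/-- `N(g y g⁻¹) = g N(y) g⁻¹` for `g` normalizing `Q` (and `H`). -/
theorem symN_conj [Finite G] {Q H : Subgroup G}
    (hcl : ∀ a ∈ H, ∀ b ∈ H, ∀ c ∈ H, Commute ⁅a, b⁆ c)
    (hQH : Q ≤ Subgroup.normalizer (H : Set G)) {g : G}
    (hgQ : g ∈ Subgroup.normalizer (Q : Set G))
    {y : G} (hy : y ∈ H) : symN Q (g * y * g⁻¹) = g * symN Q y * g⁻¹ := by
  unfold symN
  have h1 : (enumList Q).map (fun q => q * (g * y * g⁻¹) * q⁻¹) =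
      (((enumList Q).map (fun q => g⁻¹ * q * g)).map (fun q => q * y * q⁻¹)).map
        (MulAut.conj g).toMonoidHom := by
    rw [List.map_map, List.map_map]
    apply List.map_congr_left
    intro q _
    simp only [Function.comp_apply, MulEquiv.coe_toMonoidHom, MulAut.conj_apply]
    group
  have hperm : ((enumList Q).map (fun q => g⁻¹ * q * g)).Perm (enumList Q) := by
    apply enumList_map_perm
    · intro a b hab
      simpa using hab
    · intro x
      have := Subgroup.mem_normalizer_iff.1 (Subgroup.inv_mem _ hgQ) x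
      rw [inv_inv] at this
      exact this.symm
    · intro y' hy'
      exact ⟨g * y' * g⁻¹, by group⟩
  rw [h1, symProd_map_hom]
  have h2 : symProd (((enumList Q).map (fun q => g⁻¹ * q * g)).map (fun q => q * y * q⁻¹)) =
      symProd ((enumList Q).map (fun q => q * y * q⁻¹)) := by
    apply symProd_perm hcl (hperm.map _)
    intro x hx
    obtain ⟨q, hq, rfl⟩ := List.mem_map.1 hx
    obtain ⟨q', hq', rfl⟩ := List.mem_map.1 hq
    have hqQ : g⁻¹ * q' * g ∈ Q := by
      have := Subgroup.mem_normalizer_iff.1 (Subgroup.inv_mem _ hgQ) q'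
      rw [inv_inv] at this
      exact this.1 (mem_enumList.1 hq')
    exact (Subgroup.mem_normalizer_iff.1 (hQH hqQ) y).1 hy
  rw [h2]
  simp

/-- `N(y)` is centralized by `Q`. -/
theorem symN_mem_centralizer [Finite G] {Q H : Subgroup G}
    (hcl : ∀ a ∈ H, ∀ b ∈ H, ∀ c ∈ H, Commute ⁅a, b⁆ c)
    (hQH : Q ≤ Subgroup.normalizer (H : Set G)) {y : G} (hy : y ∈ H) :
    symN Q y ∈ Subgroup.centralizer (Q : Set G) := by
  rw [Subgroup.mem_centralizer_iff]
  intro q₀ hq₀
  have h1 := symN_conj hcl hQH (Subgroup.le_normalizer hq₀) hy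
  have h2 : symN Q (q₀ * y * q₀⁻¹) = symN Q y := by
    unfold symN
    have e : (enumList Q).map (fun q => q * (q₀ * y * q₀⁻¹) * q⁻¹) =
        ((enumList Q).map (fun q => q * q₀)).map (fun q => q * y * q⁻¹) := by
      rw [List.map_map]
      apply List.map_congr_left
      intro q _
      simp only [Function.comp_apply]
      group
    rw [e]
    have hperm : ((enumList Q).map (fun q => q * q₀)).Perm (enumList Q) := by
      apply enumList_map_perm
      · intro a b hab
        simpa using hab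
      · intro x
        exact Subgroup.mul_mem_cancel_right Q hq₀
      · intro y' _
        exact ⟨y' * q₀⁻¹, by group⟩
    apply symProd_perm hcl (hperm.map _)
    intro x hx
    obtain ⟨q, hq, rfl⟩ := List.mem_map.1 hx
    obtain ⟨q', hq', rfl⟩ := List.mem_map.1 hq
    exact (Subgroup.mem_normalizer_iff.1 (hQH (Q.mul_mem (mem_enumList.1 hq') hq₀)) y).1 hy
  rw [h2] at h1
  calc q₀ * symN Q y = (q₀ * symN Q y * q₀⁻¹) * q₀ := by group
    _ = symN Q y * q₀ := by rw [← h1]

/-- `N(y z) = N(y) z^{2|Q|}` for `z` central in `H` and centralized by `Q`. -/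
theorem symN_mul_central [Finite G] {Q H : Subgroup G}
    (hQH : Q ≤ Subgroup.normalizer (H : Set G)) {y z : G} (hy : y ∈ H)
    (hzH : ∀ x ∈ H, Commute z x) (hzQ : ∀ q ∈ Q, Commute z q) :
    symN Q (y * z) = symN Q y * z ^ (2 * Nat.card Q) := by
  unfold symN
  have e : (enumList Q).map (fun q => q * (y * z) * q⁻¹) =
      ((enumList Q).map (fun q => q * y * q⁻¹)).map (· * z) := by
    rw [List.map_map]
    apply List.map_congr_left
    intro q hq
    simp only [Function.comp_apply]
    have := (hzQ q (mem_enumList.1 hq)).eq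
    calc q * (y * z) * q⁻¹ = q * y * (z * q⁻¹) := by group
      _ = q * y * (q⁻¹ * z) := by rw [((hzQ q (mem_enumList.1 hq)).inv_right).eq]
      _ = q * y * q⁻¹ * z := by group
  rw [e, symProd_map_mul_right, List.length_map, length_enumList]
  intro x hx
  obtain ⟨q, hq, rfl⟩ := List.mem_map.1 hx
  exact hzH _ ((Subgroup.mem_normalizer_iff.1 (hQH (mem_enumList.1 hq)) y).1 hy)

/-- A `p`-group acting by conjugation on an invariant finite set containing `1` whose cardinality
is divisible by `p` centralizes a non-identity element of the set. -/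
theorem exists_mem_centralizer_of_invariant_set [Finite G] (p : ℕ) [Fact p.Prime]
    {S : Subgroup G} (hS : IsPGroup p S) (T : Set G)
    (hinv : ∀ s ∈ S, ∀ t ∈ T, s * t * s⁻¹ ∈ T) (h1 : (1 : G) ∈ T) (hdvd : p ∣ Nat.card T) :
    ∃ t ∈ T, t ≠ 1 ∧ t ∈ Subgroup.centralizer (S : Set G) := by
  classical
  letI : MulAction ↥S ↥T :=
    { smul := fun s x => ⟨(s : G) * x * (s : G)⁻¹, hinv s s.2 x x.2⟩
      one_smul := fun x => Subtype.ext (by
        change ((1 : S) : G) * x * ((1 : S) : G)⁻¹ = x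
        simp)
      mul_smul := fun s t x => Subtype.ext (by
        change ((s * t : S) : G) * x * ((s * t : S) : G)⁻¹ =
          (s : G) * ((t : G) * x * (t : G)⁻¹) * (s : G)⁻¹
        simp [mul_assoc]) }
  have hsmul : ∀ (s : S) (x : T), ((s • x : T) : G) = (s : G) * x * (s : G)⁻¹ := fun _ _ => rfl
  have hfix1 : (⟨1, h1⟩ : ↥T) ∈ MulAction.fixedPoints ↥S ↥T := by
    intro s
    apply Subtype.ext
    rw [hsmul]
    simp
  obtain ⟨b, hb, hb1⟩ := hS.exists_fixed_point_of_prime_dvd_card_of_fixed_point ↥T hdvd hfix1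
  refine ⟨b, b.2, ?_, ?_⟩
  · intro h
    apply hb1
    exact Subtype.ext h.symm
  · rw [Subgroup.mem_centralizer_iff]
    intro s hs
    have h1 := hb ⟨s, hs⟩
    have h2 : s * (b : G) * s⁻¹ = b := by
      have := congrArg Subtype.val h1
      rwa [hsmul] at this
    calc s * (b : G) = (s * (b : G) * s⁻¹) * s := by group
      _ = (b : G) * s := by rw [h2]

/-- Let `p` be odd, `G` a `p`-group of class at most two acted on by `P` (a `p`-group) and `Q`
(a `p'`-group normalized by `P`) with `C_G(Q) = Z ≤ Z(G)`, `G' ≤ Z` and `Z ≠ G`.  Then `P` fixes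
an element of `G` outside `Z`. -/
theorem exists_fixed_not_mem_of_class_two [Finite G] {p : ℕ} [Fact p.Prime] (hp2 : p ≠ 2)
    (P Q H Z : Subgroup G) (hP : IsPGroup p P) (hQ : (Nat.card Q).Coprime p) (hH : IsPGroup p H)
    (hPQ : P ≤ Subgroup.normalizer (Q : Set G)) (hPH : P ≤ Subgroup.normalizer (H : Set G))
    (hQH : Q ≤ Subgroup.normalizer (H : Set G))
    (hZH : Z ≤ H) (hZc : Z ≤ Subgroup.centralizer (H : Set G)) (hcl : ⁅H, H⁆ ≤ Z)
    (hZQ : H ⊓ Subgroup.centralizer (Q : Set G) = Z) (hne : Z ≠ H) :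
    ∃ t ∈ H, t ∈ Subgroup.centralizer (P : Set G) ∧ t ∉ Z := by
  have hp : p.Prime := Fact.out
  -- commutators are central
  have hcl' : ∀ a ∈ H, ∀ b ∈ H, ∀ c ∈ H, Commute ⁅a, b⁆ c := by
    intro a ha b hb c hc
    have := hZc (hcl (Subgroup.commutator_mem_commutator ha hb))
    exact (Subgroup.mem_centralizer_iff.1 this c hc).symm
  have hzH : ∀ z ∈ Z, ∀ x ∈ H, Commute z x := fun z hz x hx =>
    (Subgroup.mem_centralizer_iff.1 (hZc hz) x hx).symm
  have hzQ : ∀ z ∈ Z, ∀ q ∈ Q, Commute z q := by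
    intro z hz q hq
    have : z ∈ H ⊓ Subgroup.centralizer (Q : Set G) := hZQ ▸ hz
    exact (Subgroup.mem_centralizer_iff.1 this.2 q hq).symm
  have hNZ : ∀ y ∈ H, symN Q y ∈ Z := by
    intro y hy
    rw [← hZQ]
    exact ⟨symN_mem hQH hy, symN_mem_centralizer hcl' hQH hy⟩
  set n := Nat.card Q with hn
  -- Z is a p-group, so 2n-th powers are bijective on Z
  have hZp : IsPGroup p Z := hH.to_le hZH
  have hcopZ : (Nat.card Z).Coprime (2 * n) := by
    obtain ⟨k, hk⟩ := IsPGroup.iff_card.1 hZp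
    rw [hk]
    apply Nat.Coprime.pow_left
    apply Nat.Coprime.mul_right
    · rw [Nat.coprime_primes hp Nat.prime_two]; exact hp2
    · exact hQ.symm
  have hpow_inj : ∀ z ∈ Z, z ^ (2 * n) = 1 → z = 1 := by
    intro z hz h
    have h1 : orderOf z ∣ 2 * n := orderOf_dvd_of_pow_eq_one h
    have h2 : orderOf z ∣ Nat.card Z := by
      have := orderOf_dvd_natCard (⟨z, hz⟩ : Z)
      rwa [Subgroup.orderOf_mk] at this
    have := Nat.eq_one_of_dvd_coprimes hcopZ h2 h1
    exact orderOf_eq_one_iff.1 this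
  set T : Set G := {y | y ∈ H ∧ symN Q y = 1} with hT
  have hT1 : (1 : G) ∈ T := ⟨H.one_mem, symN_one Q⟩
  have hTinv : ∀ s ∈ P, ∀ t ∈ T, s * t * s⁻¹ ∈ T := by
    rintro s hs t ⟨ht, ht1⟩
    refine ⟨(Subgroup.mem_normalizer_iff.1 (hPH hs) t).1 ht, ?_⟩
    rw [symN_conj hcl' hQH (hPQ hs) ht, ht1, mul_one, mul_inv_cancel]
  have hTZ : ∀ t ∈ T, t ∈ Z → t = 1 := by
    rintro t ⟨ht, ht1⟩ htZ
    apply hpow_inj t htZ
    have := symN_mul_central hQH H.one_mem (hzH t htZ) (hzQ t htZ)
    rw [one_mul, symN_one, one_mul] at this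
    rw [← this, ht1]
  -- |T| * |Z| = |H|
  have hcard : Nat.card T * Nat.card Z = Nat.card H := by
    rw [← Nat.card_prod]
    apply Nat.card_congr
    refine Equiv.ofBijective (fun tz => ⟨(tz.1 : G) * (tz.2 : G), H.mul_mem tz.1.2.1 (hZH tz.2.2)⟩)
      ⟨?_, ?_⟩
    · rintro ⟨⟨t, ht⟩, ⟨z, hz⟩⟩ ⟨⟨t', ht'⟩, ⟨z', hz'⟩⟩ h
      have h' : t * z = t' * z' := congrArg Subtype.val h
      have hu : t' = t * (z * z'⁻¹) := by
        rw [← mul_assoc, h']; group
      have huZ : z * z'⁻¹ ∈ Z := Z.mul_mem hz (Z.inv_mem hz')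
      have h3 := symN_mul_central hQH ht.1 (hzH _ huZ) (hzQ _ huZ)
      rw [← hu, ht'.2, ht.2, one_mul] at h3
      have h4 := hpow_inj _ huZ h3.symm
      have hzz : z = z' := by rw [← mul_inv_eq_one]; exact h4
      have htt : t = t' := by rw [hu, h4, mul_one]
      subst hzz; subst htt
      rfl
    · rintro ⟨x, hx⟩
      have hNx : (symN Q x)⁻¹ ∈ Z := Z.inv_mem (hNZ x hx)
      set u : Z := (powCoprime hcopZ).symm ⟨(symN Q x)⁻¹, hNx⟩ with hu
      have hu2 : (u : G) ^ (2 * n) = (symN Q x)⁻¹ := by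
        have h1 : u ^ (2 * n) = ⟨(symN Q x)⁻¹, hNx⟩ :=
          (powCoprime hcopZ).apply_symm_apply ⟨(symN Q x)⁻¹, hNx⟩
        have h2 := congrArg Subtype.val h1
        rwa [Subgroup.coe_pow] at h2
      have hxu : x * (u : G) ∈ T := by
        refine ⟨H.mul_mem hx (hZH u.2), ?_⟩
        rw [symN_mul_central hQH hx (hzH _ u.2) (hzQ _ u.2), hu2, mul_inv_cancel]
      refine ⟨⟨⟨x * (u : G), hxu⟩, u⁻¹⟩, ?_⟩
      apply Subtype.ext
      simp
  have hdvd : p ∣ Nat.card T := by
    obtain ⟨a, ha⟩ := IsPGroup.iff_card.1 hH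
    obtain ⟨b, hb⟩ := IsPGroup.iff_card.1 hZp
    have hba : b < a := by
      by_contra hcon
      push Not at hcon
      apply hne
      apply Subgroup.eq_of_le_of_card_ge hZH
      rw [ha, hb]
      exact Nat.pow_le_pow_right hp.pos hcon
    rw [ha, hb] at hcard
    have h5 : Nat.card T = p ^ (a - b) := by
      have h6 : p ^ a = p ^ (a - b) * p ^ b := by rw [← pow_add]; congr 1; omega
      rw [h6] at hcard
      exact Nat.eq_of_mul_eq_mul_right (pow_pos hp.pos b) hcard
    rw [h5]
    exact dvd_pow_self p (by omega)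
  obtain ⟨t, htT, ht1, htP⟩ := exists_mem_centralizer_of_invariant_set p hP T hTinv hT1 hdvd
  exact ⟨t, htT.1, htP, fun htZ => ht1 (hTZ t htT htZ)⟩

theorem le_normalizer_centralizer_of_le_normalizer {B Q : Subgroup G}
    (h : B ≤ Subgroup.normalizer (Q : Set G)) :
    B ≤ Subgroup.normalizer ((Subgroup.centralizer (Q : Set G) : Subgroup G) : Set G) := by
  have key : ∀ b ∈ B, ∀ x ∈ Subgroup.centralizer (Q : Set G),
      b * x * b⁻¹ ∈ Subgroup.centralizer (Q : Set G) := by
    intro b hb x hx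
    rw [Subgroup.mem_centralizer_iff]
    intro q hq
    have hq' : b⁻¹ * q * b ∈ Q := by
      have := Subgroup.mem_normalizer_iff.1 (Subgroup.inv_mem _ (h hb)) q
      rw [inv_inv] at this
      exact this.1 hq
    have hc := Subgroup.mem_centralizer_iff.1 hx _ hq'
    calc q * (b * x * b⁻¹) = b * ((b⁻¹ * q * b) * x) * b⁻¹ := by group
      _ = b * (x * (b⁻¹ * q * b)) * b⁻¹ := by rw [hc]
      _ = b * x * b⁻¹ * q := by group
  intro b hb
  rw [Subgroup.mem_normalizer_iff]
  intro x
  constructor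
  · exact key b hb x
  · intro hx
    have := key b⁻¹ (B.inv_mem hb) _ hx
    have e : b⁻¹ * (b * x * b⁻¹) * b⁻¹⁻¹ = x := by group
    rwa [e] at this

end Cfsg.Agent.Lib.Helper2
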