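import Cfsg.Agent.Lib.Helper2.AltOver1
import Cfsg.Agent.Lib.Helper4.AutAlt3

set_option autoImplicit false
set_option maxHeartbeats 1000000
set_option linter.unusedVariables false
set_option linter.unusedSectionVars false
set_option linter.style.longLine false
set_option linter.unusedSimpArgs false
set_option linter.deprecated false

/-!
# Overgroups of 3-subgroups of alternating groups (for S2930), part 1

`P ≤ Alt(Ω)` and `M` is a subgroup containing every proper subgroup of `Alt(Ω)` that contains `P`.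
We study the relation `Conn M` = "same orbit under the subgroup generated by the 3-cycles of `M`".
If it is the total relation, then `Alt(Ω) ≤ M`. (helper2)
-/

namespace Cfsg.Agent.Lib.Helper2.ThreeMin

open Equiv Equiv.Perm
open Cfsg.Agent.Lib.Helper4.WreathAlt Cfsg.Agent.Lib.Helper4.AutAlt
open Cfsg.Agent.Lib.Helper2.AltOver

variable {Ω : Type*} [Fintype Ω] [DecidableEq Ω]

/-- the three-cycles of `M` -/
def cyc3 (M : Subgroup (Perm Ω)) : Set (Perm Ω) := {c | c ∈ M ∧ c.IsThreeCycle}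

/-- the subgroup generated by the three-cycles of `M` -/
def T3 (M : Subgroup (Perm Ω)) : Subgroup (Perm Ω) := Subgroup.closure (cyc3 M)

/-- same orbit under `T3 M` -/
def Conn (M : Subgroup (Perm Ω)) (x y : Ω) : Prop := ∃ g ∈ T3 M, g x = y

theorem conn_refl (M : Subgroup (Perm Ω)) (x : Ω) : Conn M x x := ⟨1, (T3 M).one_mem, rfl⟩

theorem conn_symm {M : Subgroup (Perm Ω)} {x y : Ω} (h : Conn M x y) : Conn M y x := by
  obtain ⟨g, hg, rfl⟩ := h
  exact ⟨g⁻¹, (T3 M).inv_mem hg, by simp⟩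

theorem conn_trans {M : Subgroup (Perm Ω)} {x y z : Ω} (h1 : Conn M x y) (h2 : Conn M y z) :
    Conn M x z := by
  obtain ⟨g, hg, rfl⟩ := h1
  obtain ⟨h, hh, rfl⟩ := h2
  exact ⟨h * g, (T3 M).mul_mem hh hg, rfl⟩

theorem T3_le (M : Subgroup (Perm Ω)) : T3 M ≤ M := by
  unfold T3
  rw [Subgroup.closure_le]
  intro c hc
  exact hc.1

theorem conj_mem_T3 {M : Subgroup (Perm Ω)} {g : Perm Ω} (hg : g ∈ M) {t : Perm Ω}
    (ht : t ∈ T3 M) : g * t * g⁻¹ ∈ T3 M := by
  unfold T3 at ht ⊢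
  induction ht using Subgroup.closure_induction with
  | mem c hc =>
    apply Subgroup.subset_closure
    refine ⟨M.mul_mem (M.mul_mem hg hc.1) (M.inv_mem hg), ?_⟩
    have h2 := hc.2
    unfold IsThreeCycle at h2 ⊢
    rw [cycleType_conj]; exact h2
  | one => simpa using (Subgroup.closure (cyc3 M)).one_mem
  | mul x y _ _ hx hy =>
    have : g * (x * y) * g⁻¹ = (g * x * g⁻¹) * (g * y * g⁻¹) := by group
    rw [this]; exact (Subgroup.closure (cyc3 M)).mul_mem hx hy
  | inv x _ hx =>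
    have : g * x⁻¹ * g⁻¹ = (g * x * g⁻¹)⁻¹ := by group
    rw [this]; exact (Subgroup.closure (cyc3 M)).inv_mem hx

theorem conn_smul {M : Subgroup (Perm Ω)} {g : Perm Ω} (hg : g ∈ M) {x y : Ω} (h : Conn M x y) :
    Conn M (g x) (g y) := by
  obtain ⟨t, ht, rfl⟩ := h
  exact ⟨g * t * g⁻¹, conj_mem_T3 hg ht, by simp [Perm.mul_apply]⟩

theorem conn_of_c3 {M : Subgroup (Perm Ω)} {x y w : Ω} (hxy : x ≠ y) (hxw : x ≠ w) (hyw : y ≠ w)
    (h : c3 x y w ∈ M) : Conn M x y :=
  ⟨c3 x y w, Subgroup.subset_closure ⟨h, isThreeCycle_c3 hxy hxw hyw⟩, c3_apply_left hxy hxw⟩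

theorem alt_le_of_conn {M : Subgroup (Perm Ω)} (h2 : ∃ x y : Ω, x ≠ y)
    (h : ∀ x y : Ω, Conn M x y) : alternatingGroup Ω ≤ M := by
  have hne : (cyc3 M).Nonempty := by
    by_contra hcon
    rw [Set.not_nonempty_iff_eq_empty] at hcon
    obtain ⟨x, y, hxy⟩ := h2
    obtain ⟨g, hg, hgx⟩ := h x y
    unfold T3 at hg
    rw [hcon, Subgroup.closure_empty, Subgroup.mem_bot] at hg
    rw [hg, Perm.one_apply] at hgx
    exact hxy hgx
  have := closure_three_cycles_eq_alt (cyc3 M) (fun c hc => hc.2) hne h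
  rw [← this]
  exact T3_le M

/-- Stabiliser of a relation in the alternating group. -/
def relStab (r : Ω → Ω → Prop) : Subgroup (Perm Ω) where
  carrier := {g | g ∈ alternatingGroup Ω ∧ ∀ p q, r (g p) (g q) ↔ r p q}
  mul_mem' := by
    rintro a b ⟨ha, ha'⟩ ⟨hb, hb'⟩
    refine ⟨(alternatingGroup Ω).mul_mem ha hb, fun p q => ?_⟩
    rw [Perm.mul_apply, Perm.mul_apply, ha', hb']
  one_mem' := ⟨(alternatingGroup Ω).one_mem, fun p q => by simp⟩
  inv_mem' := by
    rintro a ⟨ha, ha'⟩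
    refine ⟨(alternatingGroup Ω).inv_mem ha, fun p q => ?_⟩
    rw [← ha' (a⁻¹ p) (a⁻¹ q)]
    simp

theorem mem_relStab (r : Ω → Ω → Prop) (g : Perm Ω) :
    g ∈ relStab r ↔ g ∈ alternatingGroup Ω ∧ ∀ p q, r (g p) (g q) ↔ r p q := Iff.rfl

/-- A three-cycle inside a class of a `P`-invariant non-total equivalence relation lies in `M`. -/
theorem c3_mem_of_rel {P M : Subgroup (Perm Ω)} (hPA : P ≤ alternatingGroup Ω)
    (hmax : ∀ H : Subgroup (Perm Ω), P ≤ H → H ≤ alternatingGroup Ω →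
      H ≠ alternatingGroup Ω → H ≤ M)
    (r : Ω → Ω → Prop) (hr : Equivalence r) (hinv : ∀ g ∈ P, ∀ p q, r p q → r (g p) (g q))
    {x y w t : Ω} (hxy : x ≠ y) (hxw : x ≠ w) (hyw : y ≠ w) (rxy : r x y) (rxw : r x w)
    (rxt : ¬ r x t) : c3 x y w ∈ M := by
  have hK : relStab r ≤ M := by
    apply hmax
    · intro g hg
      rw [mem_relStab]
      refine ⟨hPA hg, fun p q => ⟨fun h => ?_, hinv g hg p q⟩⟩
      have := hinv g⁻¹ (P.inv_mem hg) _ _ h
      simpa using this
    · intro g hg; exact hg.1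
    · intro heq
      have hxt : x ≠ t := fun h => rxt (h ▸ hr.refl x)
      have hyt : y ≠ t := fun h => rxt (h ▸ rxy)
      have hc : c3 x y t ∈ relStab r := by
        rw [heq]; exact (isThreeCycle_c3 hxy hxt hyt).mem_alternatingGroup
      have := (hc.2 x y).mpr rxy
      rw [c3_apply_left hxy hxt, c3_apply_mid hxt hyt] at this
      exact rxt (hr.trans rxy this)
  apply hK
  rw [mem_relStab]
  refine ⟨(isThreeCycle_c3 hxy hxw hyw).mem_alternatingGroup, ?_⟩
  have hfix : ∀ p, r (c3 x y w p) p := by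
    intro p
    by_cases hpx : p = x
    · rw [hpx, c3_apply_left hxy hxw]; exact hr.symm rxy
    by_cases hpy : p = y
    · rw [hpy, c3_apply_mid hxw hyw]; exact hr.trans (hr.symm rxw) rxy
    by_cases hpw : p = w
    · rw [hpw, c3_apply_right]; exact rxw
    · rw [c3_apply_of_ne hpx hpy hpw]; exact hr.refl p
  intro p q
  constructor
  · intro h; exact hr.trans (hr.symm (hfix p)) (hr.trans h (hfix q))
  · intro h; exact hr.trans (hfix p) (hr.trans h (hr.symm (hfix q)))

/-- Version for an invariant predicate. -/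
theorem conn_of_pred {P M : Subgroup (Perm Ω)} (hPA : P ≤ alternatingGroup Ω)
    (hmax : ∀ H : Subgroup (Perm Ω), P ≤ H → H ≤ alternatingGroup Ω →
      H ≠ alternatingGroup Ω → H ≤ M)
    (A : Ω → Prop) (hA : ∀ g ∈ P, ∀ p, A p → A (g p))
    {x y w t : Ω} (hx : A x) (hy : A y) (hw : A w) (ht : ¬ A t)
    (hxy : x ≠ y) (hxw : x ≠ w) (hyw : y ≠ w) : Conn M x y := by
  have hA' : ∀ g ∈ P, ∀ p, A (g p) ↔ A p := by
    intro g hg p
    constructor
    · intro h
      have := hA g⁻¹ (P.inv_mem hg) _ h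
      simpa using this
    · exact hA g hg p
  have hr : Equivalence (fun p q => A p ↔ A q) :=
    ⟨fun _ => Iff.rfl, fun h => h.symm, fun h1 h2 => h1.trans h2⟩
  have hc := c3_mem_of_rel hPA hmax (fun p q => A p ↔ A q) hr
    (fun g hg p q h => by
      show A (g p) ↔ A (g q)
      rw [hA' g hg p, hA' g hg q]; exact h)
    hxy hxw hyw (iff_of_true hx hy) (iff_of_true hx hw) (fun h => ht (h.mp hx)) (t := t)
  exact conn_of_c3 hxy hxw hyw hc

/-- A class (with at least three known points) of an invariant non-total equivalence relation is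
connected. -/
theorem conn_of_class {P M : Subgroup (Perm Ω)} (hPA : P ≤ alternatingGroup Ω)
    (hmax : ∀ H : Subgroup (Perm Ω), P ≤ H → H ≤ alternatingGroup Ω →
      H ≠ alternatingGroup Ω → H ≤ M)
    (r : Ω → Ω → Prop) (hr : Equivalence r) (hinv : ∀ g ∈ P, ∀ p q, r p q → r (g p) (g q))
    {x₀ t : Ω} (ht : ¬ r x₀ t) (B : Finset Ω) (hB : ∀ p ∈ B, r x₀ p) (hB3 : 3 ≤ B.card)
    {p : Ω} (hp : r x₀ p) : Conn M x₀ p := by
  by_cases hxp : x₀ = p
  · rw [← hxp]; exact conn_refl M x₀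
  have h2 : ({x₀, p} : Finset Ω).card < B.card :=
    lt_of_le_of_lt Finset.card_le_two (by omega)
  obtain ⟨w, hwB, hw⟩ := Finset.exists_mem_notMem_of_card_lt_card h2
  simp only [Finset.mem_insert, Finset.mem_singleton, not_or] at hw
  have hc := c3_mem_of_rel hPA hmax r hr hinv hxp (Ne.symm hw.1) (Ne.symm hw.2) hp (hB w hwB) ht
  exact conn_of_c3 hxp (Ne.symm hw.1) (Ne.symm hw.2) hc

/-! ### Orbits of `P` -/

/-- same `P`-orbit -/
def orb (P : Subgroup (Perm Ω)) (x y : Ω) : Prop := ∃ g ∈ P, g x = y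

theorem orb_refl (P : Subgroup (Perm Ω)) (x : Ω) : orb P x x := ⟨1, P.one_mem, rfl⟩

theorem orb_symm {P : Subgroup (Perm Ω)} {x y : Ω} (h : orb P x y) : orb P y x := by
  obtain ⟨g, hg, rfl⟩ := h
  exact ⟨g⁻¹, P.inv_mem hg, by simp⟩

theorem orb_trans {P : Subgroup (Perm Ω)} {x y z : Ω} (h1 : orb P x y) (h2 : orb P y z) :
    orb P x z := by
  obtain ⟨g, hg, rfl⟩ := h1
  obtain ⟨h, hh, rfl⟩ := h2
  exact ⟨h * g, P.mul_mem hh hg, rfl⟩

theorem orb_equiv (P : Subgroup (Perm Ω)) : Equivalence (orb P) :=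
  ⟨orb_refl P, orb_symm, orb_trans⟩

theorem orb_apply {P : Subgroup (Perm Ω)} {g : Perm Ω} (hg : g ∈ P) (p : Ω) : orb P p (g p) :=
  ⟨g, hg, rfl⟩

theorem orb_smul {P : Subgroup (Perm Ω)} {g : Perm Ω} (hg : g ∈ P) {p q : Ω} (h : orb P p q) :
    orb P (g p) (g q) :=
  orb_trans (orb_symm (orb_apply hg p)) (orb_trans h (orb_apply hg q))

/-- With at least three `P`-orbits everything is connected. -/
theorem conn_all_of_three_orbits {P M : Subgroup (Perm Ω)} (hPA : P ≤ alternatingGroup Ω)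
    (hmax : ∀ H : Subgroup (Perm Ω), P ≤ H → H ≤ alternatingGroup Ω →
      H ≠ alternatingGroup Ω → H ≤ M)
    (hcard : 5 ≤ Fintype.card Ω)
    {x₁ x₂ x₃ : Ω} (h12 : ¬ orb P x₁ x₂) (h13 : ¬ orb P x₁ x₃) (h23 : ¬ orb P x₂ x₃) :
    ∀ x y : Ω, Conn M x y := by
  have key : ∀ x : Ω, ∃ t w, ¬ orb P x t ∧ ¬ orb P x w ∧ ¬ orb P t w := by
    intro x
    by_cases c1 : orb P x x₁
    · refine ⟨x₂, x₃, ?_, ?_, h23⟩
      · intro h; exact h12 (orb_trans (orb_symm c1) h)
      · intro h; exact h13 (orb_trans (orb_symm c1) h)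
    · by_cases c2 : orb P x x₂
      · refine ⟨x₁, x₃, c1, ?_, h13⟩
        intro h; exact h23 (orb_trans (orb_symm c2) h)
      · exact ⟨x₁, x₂, c1, c2, h12⟩
  have key2 : ∀ x y : Ω, ∃ t, ¬ orb P x t ∧ ¬ orb P y t := by
    intro x y
    obtain ⟨t, w, hxt, hxw, htw⟩ := key x
    by_cases c : orb P y t
    · refine ⟨w, hxw, ?_⟩
      intro h; exact htw (orb_trans (orb_symm c) h)
    · exact ⟨t, hxt, c⟩
  have hAinv : ∀ t : Ω, ∀ g ∈ P, ∀ p, ¬ orb P t p → ¬ orb P t (g p) := by
    intro t g hg p hp h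
    exact hp (orb_trans h (orb_symm (orb_apply hg p)))
  intro x y
  by_cases hxy : x = y
  · rw [hxy]; exact conn_refl M y
  by_cases hO : orb P x y
  · obtain ⟨t, w, hxt, hxw, htw⟩ := key x
    refine conn_of_pred hPA hmax (A := fun p => ¬ orb P t p) (x := x) (y := y) (w := w) (t := t)
      (hAinv t) ?_ ?_ htw ?_ hxy ?_ ?_
    · intro h; exact hxt (orb_symm h)
    · intro h; exact hxt (orb_trans hO (orb_symm h))
    · intro h; exact h (orb_refl P t)
    · intro h; exact hxw (h ▸ orb_refl P x)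
    · intro h; exact hxw (h ▸ hO)
  · obtain ⟨t, hxt, hyt⟩ := key2 x y
    by_cases hw : ∃ w, ¬ orb P t w ∧ w ≠ x ∧ w ≠ y
    · obtain ⟨w, hw1, hw2, hw3⟩ := hw
      refine conn_of_pred hPA hmax (A := fun p => ¬ orb P t p) (x := x) (y := y) (w := w) (t := t)
        (hAinv t) ?_ ?_ hw1 ?_ hxy (Ne.symm hw2) (Ne.symm hw3)
      · intro h; exact hxt (orb_symm h)
      · intro h; exact hyt (orb_symm h)
      · intro h; exact h (orb_refl P t)
    · have hall : ∀ w, w ≠ x → w ≠ y → orb P t w := by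
        intro w h1 h2
        by_contra h3
        exact hw ⟨w, h3, h1, h2⟩
      have hfx : ∀ g ∈ P, g x = x := by
        intro g hg
        by_contra hne
        have h1 : g x ≠ y := fun h => hO ⟨g, hg, h⟩
        have h2 := hall (g x) hne h1
        exact hxt (orb_symm (orb_trans h2 (orb_symm (orb_apply hg x))))
      have hfy : ∀ g ∈ P, g y = y := by
        intro g hg
        by_contra hne
        have h1 : g y ≠ x := fun h => hO (orb_symm ⟨g, hg, h⟩)
        have h2 := hall (g y) h1 hne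
        exact hyt (orb_symm (orb_trans h2 (orb_symm (orb_apply hg y))))
      obtain ⟨w, w', hwx, hwy, hw'x, hw'y, hww'⟩ :
          ∃ w w' : Ω, w ≠ x ∧ w ≠ y ∧ w' ≠ x ∧ w' ≠ y ∧ w ≠ w' := by
        have hcard' : 1 < (Finset.univ \ {x, y} : Finset Ω).card := by
          have h1 : ({x, y} : Finset Ω).card ≤ 2 := Finset.card_le_two
          have h2 := Finset.card_sdiff_add_card_eq_card (Finset.subset_univ ({x, y} : Finset Ω))
          rw [Finset.card_univ] at h2
          omega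
        obtain ⟨c, hc, d, hd, hcd⟩ := Finset.one_lt_card.mp hcard'
        simp only [Finset.mem_sdiff, Finset.mem_univ, true_and, Finset.mem_insert,
          Finset.mem_singleton, not_or] at hc hd
        exact ⟨c, d, hc.1, hc.2, hd.1, hd.2, hcd⟩
      have h1 : Conn M x w := by
        refine conn_of_pred hPA hmax (A := fun p => p ≠ y) (x := x) (y := w) (w := w') (t := y)
          ?_ hxy hwy hw'y (fun h => h rfl) (Ne.symm hwx) (Ne.symm hw'x) hww'
        intro g hg p hp h
        apply hp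
        apply g.injective
        rw [h, hfy g hg]
      have h2 : Conn M y w := by
        refine conn_of_pred hPA hmax (A := fun p => p ≠ x) (x := y) (y := w) (w := w') (t := x)
          ?_ (Ne.symm hxy) hwx hw'x (fun h => h rfl) (Ne.symm hwy) (Ne.symm hw'y) hww'
        intro g hg p hp h
        apply hp
        apply g.injective
        rw [h, hfx g hg]
      exact conn_trans h1 (conn_symm h2)

end Cfsg.Agent.Lib.Helper2.ThreeMin
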