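import Cfsg.Agent.Lib.Helper2.ThreeMin1

set_option autoImplicit false
set_option maxHeartbeats 1000000
set_option linter.unusedVariables false
set_option linter.unusedSectionVars false
set_option linter.style.longLine false
set_option linter.unusedSimpArgs false
set_option linter.deprecated false

/-!
# Overgroups of 3-subgroups of alternating groups (for S2930), part 2

A fixed-point-free permutation `z` of order 3 commuting with the 3-group `P`, and the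
"block 3-cycles" in the centraliser of `z`. (helper2)
-/

namespace Cfsg.Agent.Lib.Helper2.ThreeMin

open Equiv Equiv.Perm
open Cfsg.Agent.Lib.Helper4.WreathAlt Cfsg.Agent.Lib.Helper4.AutAlt
open Cfsg.Agent.Lib.Helper2.AltOver

variable {Ω : Type*} [Fintype Ω] [DecidableEq Ω]

/-- On a nontrivial orbit of a 3-group there is an element acting centrally, of order 3, without
fixed points. -/
theorem exists_local_z (P : Subgroup (Perm Ω)) (hP : IsPGroup 3 P) (x : Ω)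
    (hx : ∃ g ∈ P, g x ≠ x) :
    ∃ z₁ ∈ P, (∀ g ∈ P, ∀ q, orb P x q → g (z₁ q) = z₁ (g q)) ∧
      (∀ q, orb P x q → z₁ (z₁ (z₁ q)) = q) ∧ (∀ q, orb P x q → z₁ q ≠ q) := by
  classical
  haveI : Fact (Nat.Prime 3) := ⟨Nat.prime_three⟩
  obtain ⟨φ, hφdef⟩ : ∃ φ : ↥P →* Perm ↥(MulAction.orbit ↥P x),
      φ = MulAction.toPermHom ↥P ↥(MulAction.orbit ↥P x) := ⟨_, rfl⟩
  have hφ : ∀ (g : ↥P) (q : ↥(MulAction.orbit ↥P x)),
      ((φ g q : ↥(MulAction.orbit ↥P x)) : Ω) = (g : Perm Ω) (q : Ω) := by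
    intro g q
    rw [hφdef]
    rfl
  have hmemO : ∀ q, orb P x q ↔ q ∈ MulAction.orbit ↥P x := by
    intro q
    rw [MulAction.mem_orbit_iff]
    constructor
    · rintro ⟨g, hg, h⟩; exact ⟨⟨g, hg⟩, h⟩
    · rintro ⟨g, h⟩; exact ⟨g.1, g.2, h⟩
  have hQ : IsPGroup 3 φ.range :=
    IsPGroup.of_surjective hP φ.rangeRestrict φ.rangeRestrict_surjective
  haveI : Nontrivial ↥φ.range := by
    obtain ⟨g, hg, hgx⟩ := hx
    refine ⟨⟨⟨φ ⟨g, hg⟩, ⟨⟨g, hg⟩, rfl⟩⟩, 1, ?_⟩⟩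
    intro h
    have h1 : φ ⟨g, hg⟩ = 1 := congrArg Subtype.val h
    have h2 := congrArg (fun f : Perm ↥(MulAction.orbit ↥P x) =>
      ((f ⟨x, MulAction.mem_orbit_self x⟩ : ↥(MulAction.orbit ↥P x)) : Ω)) h1
    simp only [hφ, Perm.one_apply] at h2
    exact hgx h2
  haveI : Finite ↥φ.range := inferInstance
  haveI := IsPGroup.center_nontrivial hQ
  have hZ : IsPGroup 3 ↥(Subgroup.center ↥φ.range) := hQ.to_subgroup _
  have hdvd : 3 ∣ Nat.card ↥(Subgroup.center ↥φ.range) := by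
    rcases hZ.card_eq_or_dvd with h | h
    · have := Finite.one_lt_card (α := ↥(Subgroup.center ↥φ.range))
      omega
    · exact h
  obtain ⟨c, hc⟩ := exists_prime_orderOf_dvd_card' 3 hdvd
  obtain ⟨z₁', hz₁'⟩ : ∃ g : ↥P, φ g = ((c : ↥φ.range) : Perm ↥(MulAction.orbit ↥P x)) :=
    (c : ↥φ.range).2
  have hcomm : ∀ g : ↥P, φ g * φ z₁' = φ z₁' * φ g := by
    intro g
    have h1 := Subgroup.mem_center_iff.mp c.2 ⟨φ g, ⟨g, rfl⟩⟩
    have h2 := congrArg Subtype.val h1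
    rw [hz₁']
    exact h2
  have hpow : φ z₁' * (φ z₁' * φ z₁') = 1 := by
    have h1 : c ^ 3 = 1 := by rw [← hc]; exact pow_orderOf_eq_one c
    have h2 := congrArg (fun t : ↥(Subgroup.center ↥φ.range) =>
      (((t : ↥φ.range) : Perm ↥(MulAction.orbit ↥P x)))) h1
    simp only [Subgroup.coe_pow, Subgroup.coe_one] at h2
    rw [hz₁', ← pow_three]
    exact h2
  have hne1 : φ z₁' ≠ 1 := by
    intro h
    have h1 : c = 1 := by
      apply Subtype.ext
      apply Subtype.ext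
      rw [← hz₁', h]
      rfl
    rw [← orderOf_eq_one_iff, hc] at h1
    omega
  have hcommΩ : ∀ g ∈ P, ∀ q, orb P x q → g ((z₁' : Perm Ω) q) = (z₁' : Perm Ω) (g q) := by
    intro g hg q hq
    have hq' := (hmemO q).mp hq
    have h1 := congrArg (fun f : Perm ↥(MulAction.orbit ↥P x) =>
      ((f ⟨q, hq'⟩ : ↥(MulAction.orbit ↥P x)) : Ω)) (hcomm ⟨g, hg⟩)
    simp only [Perm.mul_apply, hφ] at h1
    exact h1
  refine ⟨(z₁' : Perm Ω), z₁'.2, hcommΩ, ?_, ?_⟩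
  · intro q hq
    have hq' := (hmemO q).mp hq
    have h1 := congrArg (fun f : Perm ↥(MulAction.orbit ↥P x) =>
      ((f ⟨q, hq'⟩ : ↥(MulAction.orbit ↥P x)) : Ω)) hpow
    simp only [Perm.mul_apply, hφ, Perm.one_apply] at h1
    exact h1
  · obtain ⟨q₀, hq₀⟩ : ∃ q₀ : ↥(MulAction.orbit ↥P x), φ z₁' q₀ ≠ q₀ := by
      by_contra hall
      apply hne1
      ext q₀
      by_contra hne
      apply hall
      refine ⟨q₀, ?_⟩
      intro h
      apply hne
      rw [h]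
      rfl
    have hq₀' : (z₁' : Perm Ω) (q₀ : Ω) ≠ (q₀ : Ω) := by
      intro h
      apply hq₀
      apply Subtype.ext
      rw [hφ]; exact h
    intro q hq hfix
    have hq₀orb : orb P x (q₀ : Ω) := (hmemO _).mpr q₀.2
    obtain ⟨g, hg, hgq⟩ := orb_trans (orb_symm hq₀orb) hq
    have h1 := hcommΩ g hg (q₀ : Ω) hq₀orb
    rw [hgq, hfix, ← hgq] at h1
    exact hq₀' (g.injective h1)

/-- A fixed-point-free permutation of order 3 commuting with the 3-group `P` (which has no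
fixed point) and preserving each `P`-orbit. -/
theorem exists_global_z (P : Subgroup (Perm Ω)) (hP : IsPGroup 3 P)
    (hmove : ∀ x, ∃ g ∈ P, g x ≠ x) :
    ∃ z : Perm Ω, (∀ g ∈ P, ∀ q, g (z q) = z (g q)) ∧ (∀ q, z (z (z q)) = q) ∧
      (∀ q, z q ≠ q) ∧ (∀ q, orb P q (z q)) := by
  classical
  obtain ⟨Good, hGood⟩ : ∃ Good : Set Ω → Perm Ω → Prop, Good = fun O z₁ =>
      z₁ ∈ P ∧ (∀ g ∈ P, ∀ q ∈ O, g (z₁ q) = z₁ (g q)) ∧ (∀ q ∈ O, z₁ (z₁ (z₁ q)) = q) ∧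
        (∀ q ∈ O, z₁ q ≠ q) := ⟨_, rfl⟩
  obtain ⟨os, hosdef⟩ : ∃ os : Ω → Set Ω, os = fun x => {q | orb P x q} := ⟨_, rfl⟩
  have hmemos : ∀ x q, q ∈ os x ↔ orb P x q := by
    intro x q; rw [hosdef]; rfl
  have hos : ∀ x q, orb P x q → os q = os x := by
    intro x q h
    ext t
    rw [hmemos, hmemos]
    exact ⟨fun ht => orb_trans h ht, fun ht => orb_trans (orb_symm h) ht⟩
  have hex : ∀ x, ∃ z₁, Good (os x) z₁ := by
    intro x
    obtain ⟨z₁, h1, h2, h3, h4⟩ := exists_local_z P hP x (hmove x)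
    refine ⟨z₁, ?_⟩
    rw [hGood]
    exact ⟨h1, fun g hg q hq => h2 g hg q ((hmemos x q).mp hq),
      fun q hq => h3 q ((hmemos x q).mp hq), fun q hq => h4 q ((hmemos x q).mp hq)⟩
  obtain ⟨sel, hseldef⟩ : ∃ sel : Set Ω → Perm Ω, sel = fun O =>
      if h : ∃ z₁, Good O z₁ then Classical.choose h else 1 := ⟨_, rfl⟩
  have hsel : ∀ x, Good (os x) (sel (os x)) := by
    intro x
    rw [hseldef]
    show Good (os x) (if h : ∃ z₁, Good (os x) z₁ then Classical.choose h else 1)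
    rw [dif_pos (hex x)]
    exact Classical.choose_spec (hex x)
  have hselP : ∀ x, sel (os x) ∈ P := by
    intro x
    have := hsel x
    rw [hGood] at this
    exact this.1
  have hsel2 : ∀ x, ∀ g ∈ P, ∀ q, orb P x q → g (sel (os x) q) = sel (os x) (g q) := by
    intro x g hg q hq
    have := hsel x
    rw [hGood] at this
    exact this.2.1 g hg q ((hmemos x q).mpr hq)
  have hsel3 : ∀ x, ∀ q, orb P x q → sel (os x) (sel (os x) (sel (os x) q)) = q := by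
    intro x q hq
    have := hsel x
    rw [hGood] at this
    exact this.2.2.1 q ((hmemos x q).mpr hq)
  have hsel4 : ∀ x, ∀ q, orb P x q → sel (os x) q ≠ q := by
    intro x q hq
    have := hsel x
    rw [hGood] at this
    exact this.2.2.2 q ((hmemos x q).mpr hq)
  have hkey : ∀ q, os (sel (os q) q) = os q := fun q => hos q _ (orb_apply (hselP q) q)
  have hkey' : ∀ q, os ((sel (os q))⁻¹ q) = os q :=
    fun q => hos q _ (orb_apply (P.inv_mem (hselP q)) q)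
  obtain ⟨z, hz⟩ : ∃ z : Perm Ω, ∀ q, z q = sel (os q) q := by
    refine ⟨⟨fun q => sel (os q) q, fun q => (sel (os q))⁻¹ q, ?_, ?_⟩, fun q => rfl⟩
    · intro q
      show (sel (os (sel (os q) q)))⁻¹ (sel (os q) q) = q
      rw [hkey q]; simp
    · intro q
      show sel (os ((sel (os q))⁻¹ q)) ((sel (os q))⁻¹ q) = q
      rw [hkey' q]; simp
  refine ⟨z, ?_, ?_, ?_, ?_⟩
  · intro g hg q
    rw [hz, hz, hos q (g q) (orb_apply hg q)]
    exact hsel2 q g hg q (orb_refl P q)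
  · intro q
    have h2 : z (z q) = sel (os q) (sel (os q) q) := by
      rw [hz q, hz (sel (os q) q), hkey q]
    have h3 : z (z (z q)) = sel (os q) (sel (os q) (sel (os q) q)) := by
      rw [h2, hz (sel (os q) (sel (os q) q)),
        hos q _ (orb_trans (orb_apply (hselP q) q) (orb_apply (hselP q) _))]
    rw [h3]
    exact hsel3 q q (orb_refl P q)
  · intro q
    rw [hz]
    exact hsel4 q q (orb_refl P q)
  · intro q
    rw [hz]
    exact orb_apply (hselP q) q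

/-- same `⟨z⟩`-orbit, for `z` of order 3 -/
def zrel (z : Perm Ω) (p q : Ω) : Prop := q = p ∨ q = z p ∨ q = z (z p)

theorem zrel_symm {z : Perm Ω} (hz3 : ∀ q, z (z (z q)) = q) {p q : Ω} (h : zrel z p q) :
    zrel z q p := by
  rcases h with h | h | h
  · exact Or.inl h.symm
  · right; right; rw [h, hz3]
  · right; left; rw [h, hz3]

theorem c3_comm {a b c a' b' c' : Ω}
    (ha : a ≠ a' ∧ a ≠ b' ∧ a ≠ c') (hb : b ≠ a' ∧ b ≠ b' ∧ b ≠ c')
    (hc : c ≠ a' ∧ c ≠ b' ∧ c ≠ c') :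
    c3 a b c * c3 a' b' c' = c3 a' b' c' * c3 a b c := by
  have hd : Perm.Disjoint (c3 a b c) (c3 a' b' c') := by
    intro p
    by_cases hpa : p = a
    · right; rw [hpa]; exact c3_apply_of_ne ha.1 ha.2.1 ha.2.2
    by_cases hpb : p = b
    · right; rw [hpb]; exact c3_apply_of_ne hb.1 hb.2.1 hb.2.2
    by_cases hpc : p = c
    · right; rw [hpc]; exact c3_apply_of_ne hc.1 hc.2.1 hc.2.2
    · left; exact c3_apply_of_ne hpa hpb hpc
  exact hd.commute.eq

/-- The block 3-cycle on three `z`-orbits. -/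
theorem exists_tau (z : Perm Ω) (hz3 : ∀ q, z (z (z q)) = q) (hzf : ∀ q, z q ≠ q) {x y u : Ω}
    (hxy : ¬ zrel z x y) (hxu : ¬ zrel z x u) (hyu : ¬ zrel z y u) :
    ∃ τ : Perm Ω, τ ∈ alternatingGroup Ω ∧ τ * z = z * τ ∧ τ x = y ∧ τ u = x ∧
      (∀ w, ¬ zrel z x w → ¬ zrel z y w → ¬ zrel z u w → τ w = w) := by
  have hyx : ¬ zrel z y x := fun h => hxy (zrel_symm hz3 h)
  have hux : ¬ zrel z u x := fun h => hxu (zrel_symm hz3 h)
  have huy : ¬ zrel z u y := fun h => hyu (zrel_symm hz3 h)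
  have hzf1 : ∀ p, p ≠ z p := fun p h => hzf p h.symm
  have hzf2 : ∀ p, p ≠ z (z p) := by
    intro p h
    have := congrArg z h
    rw [hz3] at this
    exact hzf p this
  have n0 : ∀ {a b : Ω}, ¬ zrel z a b → b ≠ a := fun h e => h (Or.inl e)
  have n1 : ∀ {a b : Ω}, ¬ zrel z a b → b ≠ z a := fun h e => h (Or.inr (Or.inl e))
  have n2 : ∀ {a b : Ω}, ¬ zrel z a b → b ≠ z (z a) := fun h e => h (Or.inr (Or.inr e))
  have dxy : x ≠ y := n0 hyx
  have dxu : x ≠ u := n0 hux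
  have dyu : y ≠ u := n0 huy
  obtain ⟨c₀, hc₀⟩ : ∃ c, c = c3 x y u := ⟨_, rfl⟩
  obtain ⟨c₁, hc₁⟩ : ∃ c, c = c3 (z x) (z y) (z u) := ⟨_, rfl⟩
  obtain ⟨c₂, hc₂⟩ : ∃ c, c = c3 (z (z x)) (z (z y)) (z (z u)) := ⟨_, rfl⟩
  have e0 : z * c₀ * z⁻¹ = c₁ := by rw [hc₀, hc₁]; exact conj_c3 z x y u
  have e1 : z * c₁ * z⁻¹ = c₂ := by rw [hc₁, hc₂]; exact conj_c3 z (z x) (z y) (z u)
  have e2 : z * c₂ * z⁻¹ = c₀ := by
    rw [hc₂, hc₀, conj_c3, hz3, hz3, hz3]
  have h01 : c₀ * c₁ = c₁ * c₀ := by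
    rw [hc₀, hc₁]
    exact c3_comm ⟨hzf1 x, n1 hyx, n1 hux⟩ ⟨n1 hxy, hzf1 y, n1 huy⟩ ⟨n1 hxu, n1 hyu, hzf1 u⟩
  have h02 : c₀ * c₂ = c₂ * c₀ := by
    rw [hc₀, hc₂]
    exact c3_comm ⟨hzf2 x, n2 hyx, n2 hux⟩ ⟨n2 hxy, hzf2 y, n2 huy⟩ ⟨n2 hxu, n2 hyu, hzf2 u⟩
  have m0 : c₀ ∈ alternatingGroup Ω := by
    rw [hc₀]; exact c3_mem_alternatingGroup dxy dxu dyu
  have m1 : c₁ ∈ alternatingGroup Ω := by
    rw [hc₁]
    exact c3_mem_alternatingGroup (z.injective.ne dxy) (z.injective.ne dxu) (z.injective.ne dyu)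
  have m2 : c₂ ∈ alternatingGroup Ω := by
    rw [hc₂]
    exact c3_mem_alternatingGroup (z.injective.ne (z.injective.ne dxy))
      (z.injective.ne (z.injective.ne dxu)) (z.injective.ne (z.injective.ne dyu))
  refine ⟨c₀ * c₁ * c₂, (alternatingGroup Ω).mul_mem ((alternatingGroup Ω).mul_mem m0 m1) m2,
    ?_, ?_, ?_, ?_⟩
  · have h1 : z * (c₀ * c₁ * c₂) * z⁻¹ = c₀ * c₁ * c₂ := by
      have : z * (c₀ * c₁ * c₂) * z⁻¹ = (z * c₀ * z⁻¹) * (z * c₁ * z⁻¹) * (z * c₂ * z⁻¹) := by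
        group
      rw [this, e0, e1, e2, mul_assoc, ← h02, ← mul_assoc, ← h01]
    calc c₀ * c₁ * c₂ * z = (z * (c₀ * c₁ * c₂) * z⁻¹) * z := by rw [h1]
      _ = z * (c₀ * c₁ * c₂) := by group
  · rw [Perm.mul_apply, Perm.mul_apply, hc₂, c3_apply_of_ne (hzf2 x) (n2 hyx) (n2 hux), hc₁,
      c3_apply_of_ne (hzf1 x) (n1 hyx) (n1 hux), hc₀, c3_apply_left dxy dxu]
  · rw [Perm.mul_apply, Perm.mul_apply, hc₂, c3_apply_of_ne (n2 hxu) (n2 hyu) (hzf2 u), hc₁,
      c3_apply_of_ne (n1 hxu) (n1 hyu) (hzf1 u), hc₀, c3_apply_right]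
  · intro w hxw hyw huw
    rw [Perm.mul_apply, Perm.mul_apply, hc₂, c3_apply_of_ne (n2 hxw) (n2 hyw) (n2 huw), hc₁,
      c3_apply_of_ne (n1 hxw) (n1 hyw) (n1 huw), hc₀, c3_apply_of_ne (n0 hxw) (n0 hyw) (n0 huw)]

/-- The centraliser of `z` in the alternating group lies in `M`. -/
theorem centAlt_le {P M : Subgroup (Perm Ω)} (hPA : P ≤ alternatingGroup Ω)
    (hmax : ∀ H : Subgroup (Perm Ω), P ≤ H → H ≤ alternatingGroup Ω →
      H ≠ alternatingGroup Ω → H ≤ M)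
    (hcard : 4 ≤ Fintype.card Ω) (z : Perm Ω) (hz1 : z ≠ 1)
    (hzP : ∀ g ∈ P, ∀ q, g (z q) = z (g q)) :
    ∀ τ ∈ alternatingGroup Ω, τ * z = z * τ → τ ∈ M := by
  have hK : Subgroup.centralizer {z} ⊓ alternatingGroup Ω ≤ M := by
    apply hmax
    · intro g hg
      refine Subgroup.mem_inf.mpr ⟨?_, hPA hg⟩
      rw [Subgroup.mem_centralizer_singleton_iff]
      ext q
      exact hzP g hg q
    · exact inf_le_right
    · intro heq
      apply hz1
      apply eq_one_of_conj hcard z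
      intro g hg
      have hg' : g ∈ Subgroup.centralizer {z} ⊓ alternatingGroup Ω := by rw [heq]; exact hg
      have h1 := Subgroup.mem_centralizer_singleton_iff.mp (Subgroup.mem_inf.mp hg').1
      rw [← h1, mul_inv_cancel_right]
  intro τ hτ hc
  apply hK
  exact Subgroup.mem_inf.mpr ⟨Subgroup.mem_centralizer_singleton_iff.mpr hc, hτ⟩

end Cfsg.Agent.Lib.Helper2.ThreeMin
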