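import Cfsg.Agent.Lib.Helper2.ThreeMin2

set_option autoImplicit false
set_option maxHeartbeats 1000000
set_option linter.unusedVariables false
set_option linter.unusedSectionVars false
set_option linter.style.longLine false
set_option linter.unusedSimpArgs false
set_option linter.deprecated false
set_option linter.style.haveILetI false

/-!
# Overgroups of 3-subgroups of alternating groups (for S2930), part 3

If a 3-subgroup `P` of `Alt(Ω)`, `|Ω| ≥ 5`, has the property that all its proper overgroups in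
`Alt(Ω)` lie in one proper subgroup, then `|Ω| ∈ {6, 9} ∪ {3^a + 1 : a ≥ 2}`. (helper2)
-/

namespace Cfsg.Agent.Lib.Helper2.ThreeMin

open Equiv Equiv.Perm
open Cfsg.Agent.Lib.Helper4.WreathAlt Cfsg.Agent.Lib.Helper4.AutAlt
open Cfsg.Agent.Lib.Helper2.AltOver

variable {Ω : Type*} [Fintype Ω] [DecidableEq Ω]

theorem exists_notMem_of_card_lt (s : Finset Ω) (h : s.card < Fintype.card Ω) : ∃ w, w ∉ s := by
  by_contra hcon
  simp only [not_exists, not_not] at hcon
  have : s = Finset.univ := Finset.eq_univ_iff_forall.mpr hcon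
  rw [this, Finset.card_univ] at h
  exact lt_irrefl _ h

/-- the orbit as a finset -/
noncomputable def orbF (P : Subgroup (Perm Ω)) (x : Ω) : Finset Ω :=
  @Finset.filter Ω (fun q => orb P x q) (Classical.decPred _) Finset.univ

theorem mem_orbF (P : Subgroup (Perm Ω)) (x q : Ω) : q ∈ orbF P x ↔ orb P x q := by
  unfold orbF
  rw [@Finset.mem_filter Ω (fun q => orb P x q) (Classical.decPred _) Finset.univ q]
  exact ⟨fun h => h.2, fun h => ⟨Finset.mem_univ _, h⟩⟩

theorem orbF_eq {P : Subgroup (Perm Ω)} {x p : Ω} (h : orb P x p) : orbF P p = orbF P x := by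
  ext q
  rw [mem_orbF, mem_orbF]
  exact ⟨fun hq => orb_trans h hq, fun hq => orb_trans (orb_symm h) hq⟩

theorem card_orbF_pow (P : Subgroup (Perm Ω)) (hP : IsPGroup 3 P) (x : Ω) :
    ∃ k, (orbF P x).card = 3 ^ k := by
  classical
  haveI : Fact (Nat.Prime 3) := ⟨Nat.prime_three⟩
  obtain ⟨k, hk⟩ := hP.card_orbit (α := Ω) x
  refine ⟨k, ?_⟩
  rw [← hk, ← Nat.card_eq_finsetCard]
  apply Nat.card_congr
  refine Equiv.subtypeEquivRight ?_
  intro q
  rw [mem_orbF, MulAction.mem_orbit_iff]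
  constructor
  · rintro ⟨g, hg, h⟩; exact ⟨⟨g, hg⟩, h⟩
  · rintro ⟨g, h⟩; exact ⟨g.1, g.2, h⟩

theorem pow3_facts (a : ℕ) : (a = 0 → 3 ^ a = 1) ∧ (a = 1 → 3 ^ a = 3) ∧ (2 ≤ a → 9 ≤ 3 ^ a) ∧
    (a = 2 → 3 ^ a = 9) ∧ (3 ≤ a → 27 ≤ 3 ^ a) ∧ (1 ≤ a → 3 ≤ 3 ^ a) := by
  refine ⟨fun h => by rw [h]; norm_num, fun h => by rw [h]; norm_num, fun h => ?_,
    fun h => by rw [h]; norm_num, fun h => ?_, fun h => ?_⟩
  · calc 9 = 3 ^ 2 := by norm_num
      _ ≤ 3 ^ a := Nat.pow_le_pow_right (by norm_num) h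
  · calc 27 = 3 ^ 3 := by norm_num
      _ ≤ 3 ^ a := Nat.pow_le_pow_right (by norm_num) h
  · calc 3 = 3 ^ 1 := by norm_num
      _ ≤ 3 ^ a := Nat.pow_le_pow_right (by norm_num) h

/-- A transitive finite 3-group has a normal subgroup whose orbits have one third of the points. -/
theorem exists_normal_index_three {G : Type*} [Group G] [Finite G] [MulAction G Ω]
    (hG : IsPGroup 3 G) [MulAction.IsPretransitive G Ω] (x₀ : Ω) (hn : 1 < Fintype.card Ω) :
    ∃ U : Subgroup G, U.Normal ∧ (MulAction.orbit U x₀).ncard * 3 = Fintype.card Ω := by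
  classical
  haveI : Fact (Nat.Prime 3) := ⟨Nat.prime_three⟩
  obtain ⟨k, hk⟩ := IsPGroup.iff_card.mp hG
  obtain ⟨St, hSt⟩ : ∃ St : Subgroup G, St = MulAction.stabilizer G x₀ := ⟨_, rfl⟩
  have hidx : St.index = Fintype.card Ω := by
    rw [hSt, MulAction.index_stabilizer_of_transitive, Nat.card_eq_fintype_card]
  obtain ⟨j, hj⟩ := IsPGroup.iff_card.mp (hG.to_subgroup St)
  have hmul := Subgroup.card_mul_index St
  rw [hidx, hj, hk] at hmul
  have hjk : j < k := by
    by_contra hcon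
    rw [not_lt] at hcon
    have h1 : 3 ^ k ≤ 3 ^ j := Nat.pow_le_pow_right (by norm_num) hcon
    have hpos : 0 < 3 ^ j := by positivity
    nlinarith
  have hdvd : 3 ^ (k - 1) ∣ Nat.card G := by
    rw [hk]; exact pow_dvd_pow 3 (Nat.sub_le k 1)
  obtain ⟨U, hU, hStU⟩ := Sylow.exists_subgroup_card_pow_prime_le 3 hdvd St hj (by omega)
  have hUidx : U.index = 3 := by
    have h := Subgroup.card_mul_index U
    rw [hU, hk] at h
    have h3 : 3 ^ k = 3 ^ (k - 1) * 3 := by
      rw [← pow_succ]; congr 1; omega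
    rw [h3] at h
    exact Nat.eq_of_mul_eq_mul_left (by positivity) h
  have hUn : U.Normal := by
    apply Subgroup.normal_of_index_eq_minFac_card
    rw [hUidx, hk, Nat.Prime.pow_minFac Nat.prime_three (by omega)]
  refine ⟨U, hUn, ?_⟩
  have h1 : (MulAction.orbit U x₀).ncard = (MulAction.stabilizer U x₀).index :=
    (MulAction.index_stabilizer U x₀).symm
  have h2 : MulAction.stabilizer U x₀ = St.subgroupOf U := by
    ext u
    rw [MulAction.mem_stabilizer_iff, Subgroup.mem_subgroupOf, hSt, MulAction.mem_stabilizer_iff]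
    rfl
  rw [h1, h2]
  show St.relIndex U * 3 = _
  rw [← hUidx, Subgroup.relIndex_mul_index hStU, hidx]

/-- A coarse invariant partition for a transitive 3-group. -/
theorem exists_coarse (P : Subgroup (Perm Ω)) (hP : IsPGroup 3 P) (htr : ∀ p q, orb P p q)
    (x₀ : Ω) (hn : 1 < Fintype.card Ω) :
    ∃ s : Ω → Ω → Prop, Equivalence s ∧ (∀ g ∈ P, ∀ p q, s p q → s (g p) (g q)) ∧
      ∃ B : Finset Ω, (∀ p, p ∈ B ↔ s x₀ p) ∧ B.card * 3 = Fintype.card Ω := by
  classical
  haveI : MulAction.IsPretransitive ↥P Ω := ⟨fun p q => by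
    obtain ⟨g, hg, h⟩ := htr p q
    exact ⟨⟨g, hg⟩, h⟩⟩
  obtain ⟨U, hUn, hU⟩ := exists_normal_index_three (G := ↥P) hP x₀ hn
  refine ⟨fun p q => ∃ u : ↥P, u ∈ U ∧ (u : Perm Ω) p = q, ⟨?_, ?_, ?_⟩, ?_, ?_⟩
  · intro p; exact ⟨1, U.one_mem, rfl⟩
  · rintro p q ⟨u, hu, rfl⟩
    refine ⟨u⁻¹, U.inv_mem hu, ?_⟩
    simp
  · rintro p q r ⟨u, hu, rfl⟩ ⟨v, hv, rfl⟩
    exact ⟨v * u, U.mul_mem hv hu, rfl⟩
  · rintro g hg p q ⟨u, hu, rfl⟩
    refine ⟨⟨g, hg⟩ * u * ⟨g, hg⟩⁻¹, hUn.conj_mem u hu ⟨g, hg⟩, ?_⟩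
    simp [Perm.mul_apply]
  · refine ⟨Finset.univ.filter (fun p => ∃ u : ↥P, u ∈ U ∧ (u : Perm Ω) x₀ = p), ?_, ?_⟩
    · intro p
      rw [Finset.mem_filter]
      exact ⟨fun h => h.2, fun h => ⟨Finset.mem_univ _, h⟩⟩
    · have hset : (MulAction.orbit U x₀ : Set Ω) =
          ↑(Finset.univ.filter (fun p => ∃ u : ↥P, u ∈ U ∧ (u : Perm Ω) x₀ = p)) := by
        ext p
        rw [MulAction.mem_orbit_iff, Finset.mem_coe, Finset.mem_filter]
        constructor
        · rintro ⟨u, h⟩; exact ⟨Finset.mem_univ _, u.1, u.2, h⟩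
        · rintro ⟨-, u, hu, h⟩; exact ⟨⟨u, hu⟩, h⟩
      rw [hset, Set.ncard_coe_finset] at hU
      exact hU

/-- Two orbits, both of size at least 3 and one of size more than 3: everything is connected. -/
theorem conn_all_of_two_orbits {P M : Subgroup (Perm Ω)} (hPA : P ≤ alternatingGroup Ω)
    (hmax : ∀ H : Subgroup (Perm Ω), P ≤ H → H ≤ alternatingGroup Ω →
      H ≠ alternatingGroup Ω → H ≤ M)
    (hP : IsPGroup 3 P) (hcard : 5 ≤ Fintype.card Ω)
    {x₀ y₀ : Ω} (hxy : ¬ orb P x₀ y₀) (hall : ∀ p, orb P x₀ p ∨ orb P y₀ p)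
    (hx4 : 4 ≤ (orbF P x₀).card) (hy3 : 3 ≤ (orbF P y₀).card) : ∀ x y : Ω, Conn M x y := by
  classical
  have hmove : ∀ p, ∃ g ∈ P, g p ≠ p := by
    intro p
    have h3 : 3 ≤ (orbF P p).card := by
      rcases hall p with h | h
      · rw [orbF_eq h]; omega
      · rw [orbF_eq h]; exact hy3
    have hlt : ({p} : Finset Ω).card < (orbF P p).card := by
      rw [Finset.card_singleton]; omega
    obtain ⟨q, hq, hqp⟩ := Finset.exists_mem_notMem_of_card_lt_card hlt
    rw [mem_orbF] at hq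
    obtain ⟨g, hg, h⟩ := hq
    refine ⟨g, hg, ?_⟩
    rw [h]
    simpa using hqp
  obtain ⟨z, hzP, hz3, hzf, hzo⟩ := exists_global_z P hP hmove
  have hz1 : z ≠ 1 := by
    intro h
    apply hzf x₀
    rw [h]; rfl
  have hcent := centAlt_le hPA hmax (by omega) z hz1 hzP
  have hcx : ∀ p, orb P x₀ p → Conn M x₀ p := fun p hp =>
    conn_of_class hPA hmax (orb P) (orb_equiv P) (fun g hg p q h => orb_smul hg h) hxy
      (orbF P x₀) (fun p hp => (mem_orbF P x₀ p).mp hp) (by omega) hp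
  have hcy : ∀ p, orb P y₀ p → Conn M y₀ p := fun p hp =>
    conn_of_class hPA hmax (orb P) (orb_equiv P) (fun g hg p q h => orb_smul hg h)
      (fun h => hxy (orb_symm h)) (orbF P y₀) (fun p hp => (mem_orbF P y₀ p).mp hp) hy3 hp
  have hlt : ({x₀, z x₀, z (z x₀)} : Finset Ω).card < (orbF P x₀).card :=
    lt_of_le_of_lt Finset.card_le_three (by omega)
  obtain ⟨u, hu, hu'⟩ := Finset.exists_mem_notMem_of_card_lt_card hlt
  rw [mem_orbF] at hu
  simp only [Finset.mem_insert, Finset.mem_singleton, not_or] at hu'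
  have hxu : ¬ zrel z x₀ u := by
    rintro (h | h | h)
    · exact hu'.1 h
    · exact hu'.2.1 h
    · exact hu'.2.2 h
  have hzo' : ∀ p q, zrel z p q → orb P p q := by
    rintro p q (h | h | h)
    · rw [h]; exact orb_refl P p
    · rw [h]; exact hzo p
    · rw [h]; exact orb_trans (hzo p) (hzo (z p))
  have hxy' : ¬ zrel z x₀ y₀ := fun h => hxy (hzo' _ _ h)
  have hyu : ¬ zrel z y₀ u := fun h => hxy (orb_trans hu (orb_symm (hzo' _ _ h)))
  obtain ⟨τ, hτA, hτz, hτx, hτu, -⟩ := exists_tau z hz3 hzf hxy' hxu hyu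
  have hτM : τ ∈ M := hcent τ hτA hτz
  have h1 : Conn M x₀ u := hcx u hu
  have h2 := conn_smul hτM h1
  rw [hτx, hτu] at h2
  have hallc : ∀ p, Conn M x₀ p := by
    intro p
    rcases hall p with h | h
    · exact hcx p h
    · exact conn_trans (conn_symm h2) (hcy p h)
  intro x y
  exact conn_trans (conn_symm (hallc x)) (hallc y)

/-- A transitive 3-group on at least 27 points: everything is connected. -/
theorem conn_all_of_transitive {P M : Subgroup (Perm Ω)} (hPA : P ≤ alternatingGroup Ω)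
    (hmax : ∀ H : Subgroup (Perm Ω), P ≤ H → H ≤ alternatingGroup Ω →
      H ≠ alternatingGroup Ω → H ≤ M)
    (hP : IsPGroup 3 P) (hcard : 27 ≤ Fintype.card Ω)
    (htr : ∀ p q, orb P p q) : ∀ x y : Ω, Conn M x y := by
  classical
  obtain ⟨x₀⟩ : Nonempty Ω := Fintype.card_pos_iff.mp (by omega)
  have hmove : ∀ p, ∃ g ∈ P, g p ≠ p := by
    intro p
    obtain ⟨q, hq⟩ : ∃ q, q ≠ p := by
      have hlt : ({p} : Finset Ω).card < Fintype.card Ω := by
        rw [Finset.card_singleton]; omega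
      obtain ⟨q, hq⟩ := exists_notMem_of_card_lt _ hlt
      exact ⟨q, by simpa using hq⟩
    obtain ⟨g, hg, h⟩ := htr p q
    exact ⟨g, hg, by rw [h]; exact hq⟩
  obtain ⟨z, hzP, hz3, hzf, hzo⟩ := exists_global_z P hP hmove
  have hz1 : z ≠ 1 := by
    intro h
    apply hzf x₀
    rw [h]; rfl
  have hcent := centAlt_le hPA hmax (by omega) z hz1 hzP
  obtain ⟨s, hs, hsinv, B, hB, hBcard⟩ := exists_coarse P hP htr x₀ (by omega)
  have hB9 : 9 ≤ B.card := by omega
  obtain ⟨t, ht⟩ : ∃ t, ¬ s x₀ t := by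
    have hlt : B.card < Fintype.card Ω := by omega
    obtain ⟨t, ht⟩ := exists_notMem_of_card_lt B hlt
    exact ⟨t, fun h => ht ((hB t).mpr h)⟩
  have hcB : ∀ p ∈ B, Conn M x₀ p := fun p hp =>
    conn_of_class hPA hmax s hs hsinv ht B (fun p hp => (hB p).mp hp) (by omega) ((hB p).mp hp)
  have hallc : ∀ y, Conn M x₀ y := by
    intro y
    have c1 : ({y, z y, z (z y)} : Finset Ω).card < B.card :=
      lt_of_le_of_lt Finset.card_le_three (by omega)
    obtain ⟨x', hx'B, hx'⟩ := Finset.exists_mem_notMem_of_card_lt_card c1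
    simp only [Finset.mem_insert, Finset.mem_singleton, not_or] at hx'
    have hyx' : ¬ zrel z y x' := by
      rintro (h | h | h)
      · exact hx'.1 h
      · exact hx'.2.1 h
      · exact hx'.2.2 h
    have hx'y : ¬ zrel z x' y := fun h => hyx' (zrel_symm hz3 h)
    have a1 : ({x', z x', z (z x')} : Finset Ω).card ≤ 3 := Finset.card_le_three
    have a2 : ({y, z y, z (z y)} : Finset Ω).card ≤ 3 := Finset.card_le_three
    have a0 := Finset.card_union_le ({x', z x', z (z x')} : Finset Ω) {y, z y, z (z y)}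
    have c2 : (({x', z x', z (z x')} : Finset Ω) ∪ {y, z y, z (z y)}).card < B.card := by
      omega
    obtain ⟨w, hwB, hw⟩ := Finset.exists_mem_notMem_of_card_lt_card c2
    simp only [Finset.mem_union, Finset.mem_insert, Finset.mem_singleton, not_or] at hw
    have hx'w : ¬ zrel z x' w := by
      rintro (h | h | h)
      · exact hw.1.1 h
      · exact hw.1.2.1 h
      · exact hw.1.2.2 h
    have hyw : ¬ zrel z y w := by
      rintro (h | h | h)
      · exact hw.2.1 h
      · exact hw.2.2.1 h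
      · exact hw.2.2.2 h
    have a3 : ({w, z w, z (z w)} : Finset Ω).card ≤ 3 := Finset.card_le_three
    have a4 := Finset.card_union_le
      (({x', z x', z (z x')} : Finset Ω) ∪ {y, z y, z (z y)}) {w, z w, z (z w)}
    have c3' : ((({x', z x', z (z x')} : Finset Ω) ∪ {y, z y, z (z y)}) ∪
        {w, z w, z (z w)}).card < Fintype.card Ω := by
      omega
    obtain ⟨u, hu⟩ := exists_notMem_of_card_lt _ c3'
    simp only [Finset.mem_union, Finset.mem_insert, Finset.mem_singleton, not_or] at hu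
    have hx'u : ¬ zrel z x' u := by
      rintro (h | h | h)
      · exact hu.1.1.1 h
      · exact hu.1.1.2.1 h
      · exact hu.1.1.2.2 h
    have hyu : ¬ zrel z y u := by
      rintro (h | h | h)
      · exact hu.1.2.1 h
      · exact hu.1.2.2.1 h
      · exact hu.1.2.2.2 h
    have hwu : ¬ zrel z w u := by
      rintro (h | h | h)
      · exact hu.2.1 h
      · exact hu.2.2.1 h
      · exact hu.2.2.2 h
    have huw : ¬ zrel z u w := fun h => hwu (zrel_symm hz3 h)
    obtain ⟨τ, hτA, hτz, hτx, -, hτfix⟩ := exists_tau z hz3 hzf hx'y hx'u hyu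
    have hτM : τ ∈ M := hcent τ hτA hτz
    have hτw : τ w = w := hτfix w hx'w hyw huw
    have h1 : Conn M x' w := conn_trans (conn_symm (hcB x' hx'B)) (hcB w hwB)
    have h2 := conn_smul hτM h1
    rw [hτx, hτw] at h2
    exact conn_trans (hcB w hwB) (conn_symm h2)
  intro x y
  exact conn_trans (conn_symm (hallc x)) (hallc y)

/-- **Core theorem.** -/
theorem core {P M : Subgroup (Perm Ω)} (hPA : P ≤ alternatingGroup Ω)
    (hmax : ∀ H : Subgroup (Perm Ω), P ≤ H → H ≤ alternatingGroup Ω →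
      H ≠ alternatingGroup Ω → H ≤ M)
    (hP : IsPGroup 3 P) (hM : ¬ alternatingGroup Ω ≤ M) (hcard : 5 ≤ Fintype.card Ω) :
    Fintype.card Ω = 6 ∨ Fintype.card Ω = 9 ∨
      ∃ a : ℕ, 2 ≤ a ∧ Fintype.card Ω = 3 ^ a + 1 := by
  classical
  have h2 : ∃ x y : Ω, x ≠ y := Fintype.one_lt_card_iff.mp (by omega)
  have hnot : ¬ ∀ x y : Ω, Conn M x y := fun h => hM (alt_le_of_conn h2 h)
  by_cases h3 : ∃ x₁ x₂ x₃ : Ω, ¬ orb P x₁ x₂ ∧ ¬ orb P x₁ x₃ ∧ ¬ orb P x₂ x₃
  · obtain ⟨x₁, x₂, x₃, h12, h13, h23⟩ := h3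
    exact absurd (conn_all_of_three_orbits hPA hmax hcard h12 h13 h23) hnot
  obtain ⟨x₀⟩ : Nonempty Ω := Fintype.card_pos_iff.mp (by omega)
  by_cases htr : ∀ p, orb P x₀ p
  · have htr' : ∀ p q, orb P p q := fun p q => orb_trans (orb_symm (htr p)) (htr q)
    obtain ⟨a, ha⟩ := card_orbF_pow P hP x₀
    have hu : orbF P x₀ = Finset.univ := by
      ext p
      simp only [mem_orbF, Finset.mem_univ, iff_true]
      exact htr p
    rw [hu, Finset.card_univ] at ha
    obtain ⟨fa0, fa1, fa2, fa2', fa3, -⟩ := pow3_facts a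
    by_cases ha3 : 3 ≤ a
    · have h27 : 27 ≤ Fintype.card Ω := by rw [ha]; exact fa3 ha3
      exact absurd (conn_all_of_transitive hPA hmax hP h27 htr') hnot
    · have hcases : a = 0 ∨ a = 1 ∨ a = 2 := by omega
      rcases hcases with h | h | h
      · have := fa0 h; omega
      · have := fa1 h; omega
      · right; left; rw [ha]; exact fa2' h
  · rw [not_forall] at htr
    obtain ⟨y₀, hy₀⟩ := htr
    have hall : ∀ p, orb P x₀ p ∨ orb P y₀ p := by
      intro p
      by_contra hcon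
      rw [not_or] at hcon
      exact h3 ⟨x₀, y₀, p, hy₀, hcon.1, hcon.2⟩
    obtain ⟨a, ha⟩ := card_orbF_pow P hP x₀
    obtain ⟨b, hb⟩ := card_orbF_pow P hP y₀
    have hun : Finset.univ = orbF P x₀ ∪ orbF P y₀ := by
      ext p
      simp only [Finset.mem_univ, Finset.mem_union, mem_orbF, true_iff]
      exact hall p
    have hdis : Disjoint (orbF P x₀) (orbF P y₀) := by
      rw [Finset.disjoint_left]
      intro p h1 h2
      rw [mem_orbF] at h1 h2
      exact hy₀ (orb_trans h1 (orb_symm h2))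
    have hsum : Fintype.card Ω = 3 ^ a + 3 ^ b := by
      rw [← Finset.card_univ, hun, Finset.card_union_of_disjoint hdis, ha, hb]
    obtain ⟨fa0, fa1, fa2, fa2', fa3, fa1'⟩ := pow3_facts a
    obtain ⟨fb0, fb1, fb2, fb2', fb3, fb1'⟩ := pow3_facts b
    by_cases ha0 : a = 0
    · right; right
      refine ⟨b, ?_, ?_⟩
      · rcases Nat.lt_or_ge b 2 with hlt | hge
        · exfalso
          have hb01 : b = 0 ∨ b = 1 := by omega
          have := fa0 ha0
          rcases hb01 with h | h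
          · have := fb0 h; omega
          · have := fb1 h; omega
        · exact hge
      · have := fa0 ha0; omega
    by_cases hb0 : b = 0
    · right; right
      refine ⟨a, ?_, ?_⟩
      · rcases Nat.lt_or_ge a 2 with hlt | hge
        · exfalso
          have ha01 : a = 0 ∨ a = 1 := by omega
          have := fb0 hb0
          rcases ha01 with h | h
          · have := fa0 h; omega
          · have := fa1 h; omega
        · exact hge
      · have := fb0 hb0; omega
    by_cases hab : a = 1 ∧ b = 1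
    · left
      have := fa1 hab.1
      have := fb1 hab.2
      omega
    · exfalso
      have h3a := fa1' (by omega)
      have h3b := fb1' (by omega)
      by_cases ha2 : 2 ≤ a
      · have h9 := fa2 ha2
        exact hnot (conn_all_of_two_orbits hPA hmax hP hcard hy₀ hall (by rw [ha]; omega)
          (by rw [hb]; omega))
      · have hb2 : 2 ≤ b := by omega
        have h9 := fb2 hb2
        exact hnot (conn_all_of_two_orbits hPA hmax hP hcard (fun h => hy₀ (orb_symm h))
          (fun p => (hall p).symm) (by rw [hb]; omega) (by rw [ha]; omega))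

end Cfsg.Agent.Lib.Helper2.ThreeMin
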