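import Cfsg.Agent.Lib.Helper4.AutAlt3

set_option autoImplicit false
set_option maxHeartbeats 1000000
set_option linter.unusedVariables false
set_option linter.unusedSectionVars false
set_option linter.style.longLine false
set_option linter.unusedSimpArgs false
set_option linter.deprecated false
set_option linter.style.haveILetI false

/-!
# Automorphisms of 3-power order of alternating groups are inner (for S2930)

The first theorem is helper4's `Cfsg.Agent.Lib.Helper4.AutAlt.exists_conj` with the hypothesis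
"degree ≠ 6" replaced by "the automorphism preserves 3-cycles" (same proof). In degree 6 an
automorphism of odd order preserves 3-cycles by a counting argument. (helper2)
-/

namespace Cfsg.Agent.Lib.Helper2.ThreeMin

section Copy

open Equiv Cfsg.Agent.Lib.Helper4.WreathAlt Cfsg.Agent.Lib.Helper4.SwapWord
open Cfsg.Agent.Lib.Helper4.AutAlt

variable {Ω : Type*} [DecidableEq Ω] [Fintype Ω]

theorem exists_conj_of_three_cycles (h4 : 4 ≤ Fintype.card Ω)
    (φ : alternatingGroup Ω ≃* alternatingGroup Ω)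
    (h3 : ∀ s : alternatingGroup Ω, (s : Perm Ω).IsThreeCycle →
      ((φ s : alternatingGroup Ω) : Perm Ω).IsThreeCycle) :
    ∃ σ : Perm Ω, ∀ g : alternatingGroup Ω,
      ((φ g : alternatingGroup Ω) : Perm Ω) = σ * g * σ⁻¹ := by
  haveI : Nontrivial Ω := Fintype.one_lt_card_iff_nontrivial.mp (by omega)
  obtain ⟨e⟩ : Nonempty (Fin 4 ↪ Ω) :=
    Function.Embedding.nonempty_of_card_le (by rw [Fintype.card_fin]; exact h4)
  obtain ⟨a, ha⟩ : ∃ a, a = e 0 := ⟨_, rfl⟩
  obtain ⟨b, hb⟩ : ∃ b, b = e 1 := ⟨_, rfl⟩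
  have hab : a ≠ b := by rw [ha, hb]; exact e.injective.ne (by decide)
  let ι := {x : Ω // x ≠ a ∧ x ≠ b}
  have hmem : ∀ x : ι, c3 a b x.1 ∈ alternatingGroup Ω := fun x =>
    c3_mem_alternatingGroup hab (Ne.symm x.2.1) (Ne.symm x.2.2)
  let S : ι → alternatingGroup Ω := fun x => ⟨c3 a b x.1, hmem x⟩
  let T : ι → Perm Ω := fun x => ((φ (S x) : alternatingGroup Ω) : Perm Ω)
  have hT3 : ∀ i, (T i).IsThreeCycle := fun i =>
    h3 (S i) (isThreeCycle_c3 hab (Ne.symm i.2.1) (Ne.symm i.2.2))
  have hR : ∀ i j, i ≠ j → Rel (T i) (T j) := by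
    intro i j hij
    have hij' : i.1 ≠ j.1 := fun h => hij (Subtype.ext h)
    constructor
    · have h1 : (S i * S j) * (S i * S j) = 1 := by
        apply Subtype.ext
        exact c3_mul_sq hab (Ne.symm i.2.1) (Ne.symm j.2.1) (Ne.symm i.2.2) (Ne.symm j.2.2) hij'
      have h2 := congrArg (fun g => ((φ g : alternatingGroup Ω) : Perm Ω)) h1
      simpa [map_mul] using h2
    · intro h1
      have h2 : φ (S i * S j) = 1 := by
        apply Subtype.ext
        simpa [map_mul] using h1
      have h3 : S i * S j = 1 := by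
        rwa [MulEquiv.map_eq_one_iff] at h2
      have h4 := congrArg (fun g : alternatingGroup Ω => (g : Perm Ω) j.1) h3
      simp only [S, Subgroup.coe_mul, Perm.mul_apply, Subgroup.coe_one, Perm.one_apply] at h4
      rw [c3_apply_right, c3_apply_left hab (Ne.symm i.2.1)] at h4
      exact j.2.2 h4.symm
  have h2mem : e 2 ≠ a ∧ e 2 ≠ b := by
    rw [ha, hb]; exact ⟨e.injective.ne (by decide), e.injective.ne (by decide)⟩
  have h3mem : e 3 ≠ a ∧ e 3 ≠ b := by
    rw [ha, hb]; exact ⟨e.injective.ne (by decide), e.injective.ne (by decide)⟩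
  have h23 : (⟨e 2, h2mem⟩ : ι) ≠ ⟨e 3, h3mem⟩ := by
    intro h
    have := congrArg Subtype.val h
    exact absurd (e.injective this) (by decide)
  obtain ⟨p, q, hpq, hTp⟩ := star_common T hT3 hR _ _ h23
  -- shape of each image
  have hshape : ∀ i : ι, p ≠ T i q ∧ q ≠ T i q ∧ T i = c3 p q (T i q) := by
    intro i
    have hp : T i p ≠ p := by rw [hTp]; exact Ne.symm hpq
    obtain ⟨q', r, hq', hr, -, n1, n2, n3, heq⟩ := exists_eq_c3 (hT3 i) hp
    have hqq : q' = q := by rw [← hq', hTp]
    subst hqq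
    rw [hr]
    exact ⟨n2, n3, heq⟩
  let f : Ω → Ω := fun z => if h1 : z = a then p else if h2 : z = b then q else T ⟨z, h1, h2⟩ q
  have hfa : f a = p := by simp [f]
  have hfb : f b = q := by simp [f, Ne.symm hab]
  have hfi : ∀ i : ι, f i.1 = T i q := by
    intro i
    simp [f, i.2.1, i.2.2]
  have hinj : Function.Injective f := by
    intro z w hzw
    by_cases hza : z = a
    · by_cases hwa : w = a
      · rw [hza, hwa]
      · exfalso
        by_cases hwb : w = b
        · rw [hza, hwb, hfa, hfb] at hzw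
          exact hpq hzw
        · have := hfi ⟨w, hwa, hwb⟩
          rw [hza, hfa, this] at hzw
          exact (hshape ⟨w, hwa, hwb⟩).1 hzw
    by_cases hzb : z = b
    · by_cases hwa : w = a
      · exfalso
        rw [hzb, hwa, hfa, hfb] at hzw
        exact hpq hzw.symm
      · by_cases hwb : w = b
        · rw [hzb, hwb]
        · exfalso
          have := hfi ⟨w, hwa, hwb⟩
          rw [hzb, hfb, this] at hzw
          exact (hshape ⟨w, hwa, hwb⟩).2.1 hzw
    · have hz := hfi ⟨z, hza, hzb⟩
      by_cases hwa : w = a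
      · exfalso
        rw [hwa, hfa, hz] at hzw
        exact (hshape ⟨z, hza, hzb⟩).1 hzw.symm
      · by_cases hwb : w = b
        · exfalso
          rw [hwb, hfb, hz] at hzw
          exact (hshape ⟨z, hza, hzb⟩).2.1 hzw.symm
        · have hw := hfi ⟨w, hwa, hwb⟩
          rw [hz, hw] at hzw
          by_contra hne
          have hne' : (⟨z, hza, hzb⟩ : ι) ≠ ⟨w, hwa, hwb⟩ := fun h => hne (congrArg Subtype.val h)
          have hrel := hR _ _ hne'
          have heq : T ⟨z, hza, hzb⟩ = T ⟨w, hwa, hwb⟩ := by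
            rw [(hshape ⟨z, hza, hzb⟩).2.2, (hshape ⟨w, hwa, hwb⟩).2.2, hzw]
          rw [heq] at hrel
          exact not_rel_self (hT3 _) hrel
  let σ : Perm Ω := Equiv.ofBijective f (Finite.injective_iff_bijective.mp hinj)
  have hσ : ∀ z, σ z = f z := fun z => rfl
  have hconj : ∀ i : ι, T i = σ * c3 a b i.1 * σ⁻¹ := by
    intro i
    rw [conj_c3, hσ, hσ, hσ, hfa, hfb, hfi]
    exact (hshape i).2.2
  refine ⟨σ, ?_⟩
  -- the locus where `φ` agrees with conjugation by `σ`
  let L' : Subgroup (alternatingGroup Ω) :=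
    { carrier := {g | ((φ g : alternatingGroup Ω) : Perm Ω) = σ * g * σ⁻¹}
      mul_mem' := by
        intro x y hx hy
        simp only [Set.mem_setOf_eq] at hx hy ⊢
        rw [map_mul, Subgroup.coe_mul, hx, hy, Subgroup.coe_mul]
        group
      one_mem' := by simp
      inv_mem' := by
        intro x hx
        simp only [Set.mem_setOf_eq] at hx ⊢
        rw [map_inv, Subgroup.coe_inv, hx, Subgroup.coe_inv]
        group }
  have hL : alternatingGroup Ω ≤ L'.map (alternatingGroup Ω).subtype := by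
    apply alternatingGroup_le_of_star hab
    intro x hxa hxb
    refine ⟨S ⟨x, hxa, hxb⟩, ?_, rfl⟩
    exact hconj ⟨x, hxa, hxb⟩
  intro g
  obtain ⟨g', hg', hgg⟩ := hL g.2
  have : g' = g := Subtype.ext hgg
  rw [← this]
  exact hg'

end Copy

section Six

open Equiv Equiv.Perm
open Cfsg.Agent.Lib.Helper4.WreathAlt Cfsg.Agent.Lib.Helper4.AutAlt

variable {Ω : Type*} [DecidableEq Ω] [Fintype Ω]

/-- the cycle type of the image of a 3-cycle under an automorphism does not depend on the
3-cycle -/
theorem cycleType_map_three_cycle (h5 : 5 ≤ Fintype.card Ω)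
    (φ : alternatingGroup Ω ≃* alternatingGroup Ω) (s t : alternatingGroup Ω)
    (hs : (s : Perm Ω).IsThreeCycle) (ht : (t : Perm Ω).IsThreeCycle) :
    ((φ s : alternatingGroup Ω) : Perm Ω).cycleType =
      ((φ t : alternatingGroup Ω) : Perm Ω).cycleType := by
  have hc : IsConj s t :=
    alternatingGroup.isThreeCycle_isConj (by rw [Nat.card_eq_fintype_card]; exact h5) hs ht
  have hc2 : IsConj (φ s) (φ t) := φ.toMonoidHom.map_isConj hc
  have hc3 : IsConj ((φ s : alternatingGroup Ω) : Perm Ω) ((φ t : alternatingGroup Ω) : Perm Ω) :=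
    (alternatingGroup Ω).subtype.map_isConj hc2
  exact Perm.isConj_iff_cycleType_eq.mp hc3

theorem cycleType_of_order_three (h6 : Fintype.card Ω = 6) (g : Perm Ω) (hg : orderOf g = 3) :
    g.cycleType = {3} ∨ g.cycleType = {3, 3} := by
  obtain ⟨k, hk⟩ := Perm.cycleType_prime_order (σ := g) (by rw [hg]; exact Nat.prime_three)
  rw [hg] at hk
  have hsum : (Multiset.replicate (k + 1) 3).sum ≤ Fintype.card Ω := by
    rw [← hk]; exact Perm.sum_cycleType_le _
  rw [Multiset.sum_replicate, h6] at hsum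
  have hk1 : k = 0 ∨ k = 1 := by
    simp only [smul_eq_mul] at hsum
    omega
  rcases hk1 with h | h
  · left; rw [hk, h]; rfl
  · right; rw [hk, h]; rfl

theorem card_cycleType_three (h6 : Fintype.card Ω = 6) :
    (Finset.univ.filter (fun g : Perm Ω => g.cycleType = {3})).card = 40 ∧
    (Finset.univ.filter (fun g : Perm Ω => g.cycleType = {3, 3})).card = 40 := by
  constructor
  · rw [Perm.card_of_cycleType, h6]; decide
  · rw [Perm.card_of_cycleType, h6]; decide

theorem three_or_thirtythree (h6 : Fintype.card Ω = 6)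
    (φ : alternatingGroup Ω ≃* alternatingGroup Ω) :
    (∀ s : alternatingGroup Ω, (s : Perm Ω).IsThreeCycle →
      ((φ s : alternatingGroup Ω) : Perm Ω).IsThreeCycle) ∨
    (∀ s : alternatingGroup Ω, (s : Perm Ω).IsThreeCycle →
      ((φ s : alternatingGroup Ω) : Perm Ω).cycleType = {3, 3}) := by
  by_cases h : ∃ s₀ : alternatingGroup Ω, (s₀ : Perm Ω).IsThreeCycle ∧
      ((φ s₀ : alternatingGroup Ω) : Perm Ω).cycleType = {3}
  · left
    obtain ⟨s₀, hs₀, h0⟩ := h
    intro s hs
    unfold Perm.IsThreeCycle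
    rw [cycleType_map_three_cycle (by omega) φ s s₀ hs hs₀]; exact h0
  · right
    intro s hs
    have hord : orderOf ((φ s : alternatingGroup Ω) : Perm Ω) = 3 := by
      rw [Subgroup.orderOf_coe, MulEquiv.orderOf_eq, ← Subgroup.orderOf_coe, hs.orderOf]
    rcases cycleType_of_order_three h6 _ hord with h1 | h1
    · exact absurd ⟨s, hs, h1⟩ h
    · exact h1

theorem map_thirtythree (h6 : Fintype.card Ω = 6)
    (φ : alternatingGroup Ω ≃* alternatingGroup Ω)
    (hQ : ∀ s : alternatingGroup Ω, (s : Perm Ω).IsThreeCycle →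
      ((φ s : alternatingGroup Ω) : Perm Ω).cycleType = {3, 3}) :
    ∀ t : alternatingGroup Ω, (t : Perm Ω).cycleType = {3, 3} →
      ((φ t : alternatingGroup Ω) : Perm Ω).IsThreeCycle := by
  classical
  intro t ht
  have hord : orderOf ((φ t : alternatingGroup Ω) : Perm Ω) = 3 := by
    rw [Subgroup.orderOf_coe, MulEquiv.orderOf_eq, ← Subgroup.orderOf_coe,
      ← Perm.lcm_cycleType, ht]
    simp
  rcases cycleType_of_order_three h6 _ hord with h1 | h1
  · exact h1
  · exfalso
    obtain ⟨hc1, hc2⟩ := card_cycleType_three h6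
    obtain ⟨f, hf⟩ : ∃ f : Perm Ω → Perm Ω, ∀ g, f g =
        if h : g ∈ alternatingGroup Ω then ((φ ⟨g, h⟩ : alternatingGroup Ω) : Perm Ω) else g :=
      ⟨_, fun g => rfl⟩
    have hfA : ∀ g (h : g ∈ alternatingGroup Ω),
        f g = ((φ ⟨g, h⟩ : alternatingGroup Ω) : Perm Ω) := by
      intro g h; rw [hf, dif_pos h]
    have hsub : (Finset.univ.filter (fun g : Perm Ω => g.cycleType = {3})).image f ⊆
        Finset.univ.filter (fun g : Perm Ω => g.cycleType = {3, 3}) := by
      intro g' hg'
      rw [Finset.mem_image] at hg'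
      obtain ⟨g, hg, rfl⟩ := hg'
      rw [Finset.mem_filter] at hg ⊢
      have hg3 : g.IsThreeCycle := hg.2
      refine ⟨Finset.mem_univ _, ?_⟩
      rw [hfA g hg3.mem_alternatingGroup]
      exact hQ ⟨g, hg3.mem_alternatingGroup⟩ hg3
    have hinj : Set.InjOn f ↑(Finset.univ.filter (fun g : Perm Ω => g.cycleType = {3})) := by
      intro g hg g' hg' heq
      rw [Finset.mem_coe, Finset.mem_filter] at hg hg'
      have hg3 : g.IsThreeCycle := hg.2
      have hg3' : g'.IsThreeCycle := hg'.2
      rw [hfA g hg3.mem_alternatingGroup, hfA g' hg3'.mem_alternatingGroup] at heq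
      have := φ.injective (Subtype.ext heq)
      exact congrArg Subtype.val this
    have himg : (Finset.univ.filter (fun g : Perm Ω => g.cycleType = {3})).image f =
        Finset.univ.filter (fun g : Perm Ω => g.cycleType = {3, 3}) := by
      apply Finset.eq_of_subset_of_card_le hsub
      rw [Finset.card_image_of_injOn hinj, hc1, hc2]
    have hmem : ((φ t : alternatingGroup Ω) : Perm Ω) ∈
        Finset.univ.filter (fun g : Perm Ω => g.cycleType = {3, 3}) := by
      rw [Finset.mem_filter]; exact ⟨Finset.mem_univ _, h1⟩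
    rw [← himg, Finset.mem_image] at hmem
    obtain ⟨g, hg, hgt⟩ := hmem
    rw [Finset.mem_filter] at hg
    have hg3 : g.IsThreeCycle := hg.2
    rw [hfA g hg3.mem_alternatingGroup] at hgt
    have h2 := φ.injective (Subtype.ext hgt)
    have h3 : g = (t : Perm Ω) := congrArg Subtype.val h2
    rw [← h3, hg3.cycleType] at ht
    exact absurd ht (by decide)

theorem exists_three_cycle_alt (h3 : 3 ≤ Fintype.card Ω) :
    ∃ s₀ : alternatingGroup Ω, (s₀ : Perm Ω).IsThreeCycle := by
  obtain ⟨a, b, c, hab, hac, hbc⟩ := Fintype.two_lt_card_iff.mp (by omega : 2 < Fintype.card Ω)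
  exact ⟨⟨c3 a b c, c3_mem_alternatingGroup hab hac hbc⟩, isThreeCycle_c3 hab hac hbc⟩

/-- In degree 6 an automorphism of 3-power order preserves 3-cycles. -/
theorem preserves_three_cycles_six (h6 : Fintype.card Ω = 6)
    (φ : MulAut (alternatingGroup Ω)) (k : ℕ) (hφ : φ ^ (3 ^ k) = 1) :
    ∀ s : alternatingGroup Ω, (s : Perm Ω).IsThreeCycle →
      ((φ s : alternatingGroup Ω) : Perm Ω).IsThreeCycle := by
  rcases three_or_thirtythree h6 φ with h | hQ
  · exact h
  · exfalso
    have hT := map_thirtythree h6 φ hQ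
    have hodd : ∀ j : ℕ, ∀ s : alternatingGroup Ω, (s : Perm Ω).IsThreeCycle →
        (((φ ^ (2 * j + 1)) s : alternatingGroup Ω) : Perm Ω).cycleType = {3, 3} := by
      intro j
      induction j with
      | zero =>
        intro s hs
        rw [Nat.mul_zero, Nat.zero_add, pow_one]
        exact hQ s hs
      | succ j ih =>
        have e : φ ^ (2 * (j + 1) + 1) = φ * (φ * φ ^ (2 * j + 1)) := by
          have hn : 2 * (j + 1) + 1 = 2 * j + 1 + 1 + 1 := by omega
          rw [hn, pow_succ', pow_succ']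
        intro s hs
        rw [e, MulAut.mul_apply, MulAut.mul_apply]
        exact hQ _ (hT _ (ih s hs))
    obtain ⟨j, hj⟩ : ∃ j, 3 ^ k = 2 * j + 1 := Odd.pow (by decide : Odd 3)
    have h1 := hodd j
    rw [← hj, hφ] at h1
    obtain ⟨s₀, hs₀⟩ := exists_three_cycle_alt (Ω := Ω) (by omega)
    have h2 := h1 s₀ hs₀
    rw [MulAut.one_apply, hs₀.cycleType] at h2
    exact absurd h2 (by decide)

theorem preserves_three_cycles (h5 : 5 ≤ Fintype.card Ω)
    (φ : MulAut (alternatingGroup Ω)) (k : ℕ) (hφ : φ ^ (3 ^ k) = 1) :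
    ∀ s : alternatingGroup Ω, (s : Perm Ω).IsThreeCycle →
      ((φ s : alternatingGroup Ω) : Perm Ω).IsThreeCycle := by
  by_cases h6 : Fintype.card Ω = 6
  · exact preserves_three_cycles_six h6 φ k hφ
  · haveI : Nontrivial Ω := Fintype.one_lt_card_iff_nontrivial.mp (by omega)
    intro s hs
    exact isThreeCycle_map h6 φ s hs

/-- An automorphism of 3-power order of `Alt(Ω)`, `|Ω| ≥ 5`, is inner. -/
theorem inner_of_three_power (h5 : 5 ≤ Fintype.card Ω)
    (φ : MulAut (alternatingGroup Ω)) (k : ℕ) (hφ : φ ^ (3 ^ k) = 1) :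
    ∃ a : alternatingGroup Ω, ∀ g : alternatingGroup Ω, φ g = a * g * a⁻¹ := by
  obtain ⟨σ, hσ⟩ := exists_conj_of_three_cycles (by omega) φ (preserves_three_cycles h5 φ k hφ)
  have hpow : ∀ m : ℕ, ∀ g : alternatingGroup Ω,
      (((φ ^ m) g : alternatingGroup Ω) : Perm Ω) = σ ^ m * g * (σ ^ m)⁻¹ := by
    intro m
    induction m with
    | zero => intro g; simp
    | succ m ih =>
      intro g
      rw [pow_succ', MulAut.mul_apply, hσ, ih, pow_succ']
      group
  have hσ1 : σ ^ (3 ^ k) = 1 := by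
    apply eq_one_of_conj (by omega)
    intro g hg
    have := hpow (3 ^ k) ⟨g, hg⟩
    rw [hφ, MulAut.one_apply] at this
    exact this.symm
  have hsign : Perm.sign σ = 1 := by
    have h1 : (Perm.sign σ) ^ (3 ^ k) = 1 := by rw [← map_pow, hσ1, map_one]
    rcases Int.units_eq_one_or (Perm.sign σ) with h | h
    · exact h
    · rw [h] at h1
      have hodd : Odd (3 ^ k) := Odd.pow (by decide)
      rw [Odd.neg_one_pow hodd] at h1
      exact absurd h1 (by decide)
  refine ⟨⟨σ, Perm.mem_alternatingGroup.mpr hsign⟩, ?_⟩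
  intro g
  apply Subtype.ext
  rw [hσ]
  simp

end Six

end Cfsg.Agent.Lib.Helper2.ThreeMin
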