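import Mathlib
import Cfsg.Agent.Lib.Helper2.SE1
import Cfsg.Agent.Lib.Helper2.Ti3D

/-! Restriction of automorphisms to invariant subgroups, and the solvability of the automorphism
group of a `2`-group with exactly three involutions. -/
set_option autoImplicit false
open scoped commutatorElement
universe u

namespace Cfsg.Agent.Lib.Helper2.Ti3

open Cfsg Cfsg.Agent.Lib.Helper2.SE

section critical
variable {Q : Type u} [Group Q]

/-- variant of `exists_omega_critical` which also records that central elements of small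
exponent lie in the subgroup -/
theorem exists_omega_critical' [Finite Q] {p : ℕ} [hp : Fact p.Prime] (hQ : IsPGroup p Q) :
    ∃ D : Subgroup Q, D.Characteristic ∧ (∀ x ∈ D, x ^ qexp p = 1) ∧
      (∀ x ∈ Subgroup.center Q, x ^ qexp p = 1 → x ∈ D) ∧
      ∀ a : MulAut Q, Nat.Coprime (orderOf a) p → (∀ x ∈ D, a x = x) → a = 1 := by
  classical
  obtain ⟨H, hHchar, hfr, hcomm, hcent⟩ := Cfsg.Agent.Lib.Helper1.exists_critical_subgroup hQ
  have hHp : IsPGroup p H := hQ.to_subgroup H
  -- commutators of elements of `H` centralize `H`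
  have hcz : ∀ x ∈ H, ∀ y ∈ H, ∀ z ∈ H, z * (y⁻¹ * x⁻¹ * y * x) = (y⁻¹ * x⁻¹ * y * x) * z := by
    intro x hx y hy z hz
    have h1 : ⁅y⁻¹, x⁻¹⁆ ∈ ⁅H, (⊤ : Subgroup Q)⁆ :=
      Subgroup.commutator_mem_commutator (H.inv_mem hy) (Subgroup.mem_top _)
    have h2 : ⁅y⁻¹, x⁻¹⁆ ∈ Subgroup.centralizer (H : Set Q) := (hcomm h1).2
    rw [Subgroup.mem_centralizer_iff] at h2
    have h3 := h2 z hz
    rw [commutatorElement_def, inv_inv, inv_inv] at h3
    exact h3
  -- `p`-th powers of elements of `H` centralize `H`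
  have hpz : ∀ y ∈ H, ∀ z ∈ H, z * y ^ p = y ^ p * z := by
    intro y hy z hz
    have h1 : (⟨y, hy⟩ : H) ^ p ∈ frattini H :=
      Cfsg.Agent.Lib.Helper1.pow_prime_mem_frattini_of_isPGroup p hHp ⟨y, hy⟩
    have h2 : y ^ p ∈ (frattini H).map H.subtype := ⟨_, h1, by simp⟩
    have h3 := hfr h2
    rw [Subgroup.mem_centralizer_iff] at h3
    exact h3 z hz
  -- the commutator has order dividing `p`
  have hcp : ∀ x ∈ H, ∀ y ∈ H, (y⁻¹ * x⁻¹ * y * x) ^ p = 1 := by
    intro x hx y hy
    set c := y⁻¹ * x⁻¹ * y * x with hc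
    have hyc : Commute y c := (hcz x hx y hy y hy)
    have h1 : x⁻¹ * y * x = y * c := by rw [hc]; group
    have h2 : (x⁻¹ * y * x) ^ p = x⁻¹ * y ^ p * x := by
      have := conj_pow (a := x⁻¹) (b := y) (i := p)
      rw [inv_inv] at this
      exact this
    have h3 : x⁻¹ * y ^ p * x = y ^ p := by
      have := hpz y hy x hx
      rw [mul_assoc, ← this, inv_mul_cancel_left]
    have h4 : (y * c) ^ p = y ^ p * c ^ p := hyc.mul_pow p
    rw [h1, h4] at h2
    rw [h3] at h2
    have h5 : y ^ p * c ^ p = y ^ p * 1 := by rw [h2, mul_one]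
    exact mul_left_cancel h5
  -- the power map on `H`
  have hmulpow : ∀ x ∈ H, ∀ y ∈ H, (x * y) ^ qexp p = x ^ qexp p * y ^ qexp p := by
    intro x hx y hy
    have hcH : ∀ g : H, g * ((⟨y, hy⟩ : H)⁻¹ * (⟨x, hx⟩ : H)⁻¹ * ⟨y, hy⟩ * ⟨x, hx⟩) =
        ((⟨y, hy⟩ : H)⁻¹ * (⟨x, hx⟩ : H)⁻¹ * ⟨y, hy⟩ * ⟨x, hx⟩) * g := by
      intro g
      apply Subtype.ext
      exact hcz x hx y hy g g.2
    have h1 := Cfsg.Agent.Lib.Lead.Fus.mul_pow_class_two (⟨x, hx⟩ : H) ⟨y, hy⟩ hcH (qexp p)
    have h2 := congrArg (Subtype.val) h1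
    simp only [Subgroup.coe_mul, Subgroup.coe_pow, Subgroup.coe_inv] at h2
    rw [h2]
    obtain ⟨k, hk⟩ := dvd_choose_qexp hp.out
    rw [hk, pow_mul, hcp x hx y hy, one_pow, mul_one]
  let D : Subgroup Q :=
    { carrier := {x | x ∈ H ∧ x ^ qexp p = 1}
      one_mem' := ⟨H.one_mem, one_pow _⟩
      mul_mem' := by
        rintro x y ⟨hx, hx'⟩ ⟨hy, hy'⟩
        exact ⟨H.mul_mem hx hy, by rw [hmulpow x hx y hy, hx', hy', one_mul]⟩
      inv_mem' := by
        rintro x ⟨hx, hx'⟩
        exact ⟨H.inv_mem hx, by rw [inv_pow, hx', inv_one]⟩ }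
  have hDmem : ∀ x : Q, x ∈ D ↔ x ∈ H ∧ x ^ qexp p = 1 := fun x => Iff.rfl
  have hHinv : ∀ (φ : Q ≃* Q) (x : Q), x ∈ H → φ x ∈ H := by
    intro φ x hx
    have := Subgroup.characteristic_iff_le_comap.mp hHchar φ
    exact this hx
  refine ⟨D, ?_, fun x hx => hx.2, ?_, ?_⟩
  · rw [Subgroup.characteristic_iff_le_comap]
    intro φ x hx
    show φ x ∈ D
    rw [hDmem] at hx ⊢
    exact ⟨hHinv φ x hx.1, by rw [← map_pow, hx.2, map_one]⟩
  · intro x hx hx4
    rw [hDmem]
    refine ⟨hcent ?_, hx4⟩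
    rw [Subgroup.mem_centralizer_iff]
    intro y _
    exact (Subgroup.mem_center_iff.mp hx y)
  · intro a ha hfix
    have hHa : ∀ x ∈ H, a x ∈ H := fun x hx => hHinv a x hx
    set aH := Cfsg.Agent.Lib.Helper1.restrictAut a H hHa with haH
    have hcop : Nat.Coprime (orderOf aH) p :=
      Nat.Coprime.coprime_dvd_left (Cfsg.Agent.Lib.Helper1.orderOf_restrictAut_dvd a H hHa) ha
    have haH1 : aH = 1 := by
      by_cases h2 : p = 2
      · subst h2
        apply Cfsg.Agent.Lib.Helper2.coprime_aut_trivial_of_fix_omega_two hHp aH hcop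
        intro x hx
        apply Subtype.ext
        rw [haH, Cfsg.Agent.Lib.Helper1.restrictAut_apply]
        apply hfix
        rw [hDmem]
        refine ⟨x.2, ?_⟩
        rw [qexp_two, ← Subgroup.coe_pow, hx, Subgroup.coe_one]
      · apply Cfsg.Agent.Lib.Helper1.coprime_aut_trivial_of_fix_omega h2 hHp aH hcop
        intro x hx
        apply Subtype.ext
        rw [haH, Cfsg.Agent.Lib.Helper1.restrictAut_apply]
        apply hfix
        rw [hDmem]
        refine ⟨x.2, ?_⟩
        rw [qexp_of_ne h2, ← Subgroup.coe_pow, hx, Subgroup.coe_one]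
    apply Cfsg.Agent.Lib.Helper1.coprime_aut_trivial_of_fix_self_centralizing hQ H hHchar hcent a ha
    intro x hx
    have h1 : aH ⟨x, hx⟩ = ⟨x, hx⟩ := by rw [haH1, MulAut.one_apply]
    have h2 := congrArg Subtype.val h1
    rw [haH, Cfsg.Agent.Lib.Helper1.restrictAut_apply] at h2
    exact h2

end critical

section restrict
variable {G : Type u} [Group G] [Finite G]

/-- restriction of automorphisms to a subgroup invariant under all automorphisms -/
noncomputable def resHom (H : Subgroup G) (hH : ∀ a : MulAut G, ∀ x ∈ H, a x ∈ H) :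
    MulAut G →* MulAut H :=
  MonoidHom.mk' (fun a => Cfsg.Agent.Lib.Helper1.restrictAut a H (hH a)) (by
    intro a b
    ext x
    rfl)

theorem resHom_apply (H : Subgroup G) (hH : ∀ a : MulAut G, ∀ x ∈ H, a x ∈ H) (a : MulAut G)
    (x : H) : ((resHom H hH a x : H) : G) = a x := rfl

theorem mem_ker_resHom (H : Subgroup G) (hH : ∀ a : MulAut G, ∀ x ∈ H, a x ∈ H) (a : MulAut G) :
    a ∈ (resHom H hH).ker ↔ ∀ x ∈ H, a x = x := by
  rw [MonoidHom.mem_ker]
  constructor
  · intro h x hx
    have h1 := DFunLike.congr_fun h (⟨x, hx⟩ : H)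
    have h2 := congrArg Subtype.val h1
    rw [resHom_apply] at h2
    exact h2
  · intro h
    ext x
    rw [resHom_apply]
    exact h x x.2

theorem solvable_of_restrict (H : Subgroup G) (hH : ∀ a : MulAut G, ∀ x ∈ H, a x ∈ H)
    (h1 : Group.IsSolvable (MulAut H)) (h2 : Group.IsSolvable (resHom H hH).ker) :
    Group.IsSolvable (MulAut G) :=
  Group.isSolvable_of_ker_le_range (resHom H hH).ker.subtype (resHom H hH)
    (by rw [Subgroup.range_subtype])

theorem solvable_of_restrict_pgroup {p : ℕ} [hp : Fact p.Prime] (H : Subgroup G)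
    (hH : ∀ a : MulAut G, ∀ x ∈ H, a x ∈ H) (h1 : Group.IsSolvable (MulAut H))
    (hfaith : ∀ a : MulAut G, Nat.Coprime (orderOf a) p → (∀ x ∈ H, a x = x) → a = 1) :
    Group.IsSolvable (MulAut G) := by
  have hpk : IsPGroup p (resHom H hH).ker := by
    apply isPGroup_of_coprime_trivial hp.out
    intro k hk
    apply Subtype.ext
    apply hfaith k.1 (by rwa [Subgroup.orderOf_coe]) ((mem_ker_resHom H hH k.1).mp k.2)
  haveI : Group.IsNilpotent (resHom H hH).ker := hpk.isNilpotent
  exact solvable_of_restrict H hH h1 inferInstance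

end restrict

theorem solvable_aut_of_card_four {T : Type*} [Group T] (hT : Nat.card T = 4) :
    Group.IsSolvable (MulAut T) := by
  haveI : Finite T := Nat.finite_of_card_ne_zero (by rw [hT]; norm_num)
  have hinj : Function.Injective (MulAut.toPerm T) := by
    intro a b hab
    ext x
    exact Equiv.congr_fun hab x
  have hdvd : Nat.card (MulAut T) ∣ 24 := by
    have := Subgroup.card_dvd_of_injective (MulAut.toPerm T) hinj
    rw [Nat.card_perm, hT] at this
    exact this
  have hprimes : ∀ r : ℕ, r.Prime → r ∣ Nat.card (MulAut T) → r = 2 ∨ r = 3 := by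
    intro r hr hr'
    have h24 : r ∣ 2 ^ 3 * 3 := hr'.trans hdvd
    rcases (Nat.Prime.dvd_mul hr).mp h24 with h | h
    · left
      exact (Nat.prime_dvd_prime_iff_eq hr Nat.prime_two).mp (hr.dvd_of_dvd_pow h)
    · right
      exact (Nat.prime_dvd_prime_iff_eq hr Nat.prime_three).mp h
  obtain ⟨a, b, hab⟩ := eq_two_pow_mul_pow (Nat.card_pos.ne') hprimes
  exact Cfsg.Agent.S0144.result 2 3 a b Nat.prime_two Nat.prime_three hab

/-- the core case: exponent four, central involutions, four solutions of `x ^ 2 = 1` -/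
theorem aut_solvable_core {E : Type u} [Group E] [Finite E] (h : Hyp E) (h4 : nsq (1 : E) = 4) :
    Group.IsSolvable (MulAut E) := by
  have hH : ∀ a : MulAut E, ∀ x ∈ Tsub h, a x ∈ Tsub h := by
    intro a x hx
    rw [mem_Tsub] at hx ⊢
    rw [← map_pow, hx, map_one]
  have hT4 : Nat.card (Tsub h) = 4 := h4
  apply solvable_of_restrict (Tsub h) hH (solvable_aut_of_card_four hT4)
  apply solvable_fixT h h4
  intro a ha t ht
  exact (mem_ker_resHom _ hH a).mp ha t ht

/-- a `2`-group whose solutions of `x ^ 2 = 1` are central and four in number -/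
theorem aut_solvable_Y {Y : Type u} [Group Y] [Finite Y] (hY : IsPGroup 2 Y)
    (hc : ∀ x y : Y, x ^ 2 = 1 → x * y = y * x) (h4 : nsq (1 : Y) = 4) :
    Group.IsSolvable (MulAut Y) := by
  obtain ⟨D, hDchar, hD4, hDcen, hDfaith⟩ := exists_omega_critical' hY
  rw [qexp_two] at hD4 hDcen
  have hH : ∀ a : MulAut Y, ∀ x ∈ D, a x ∈ D := by
    intro a x hx
    have := Subgroup.characteristic_iff_le_comap.mp hDchar a
    exact this hx
  have hE : Hyp D :=
    { h4 := fun x => Subtype.ext (by simpa using hD4 x.1 x.2)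
      hc := fun x y hx => Subtype.ext (by
        have hx' : (x : Y) ^ 2 = 1 := by
          have := congrArg Subtype.val hx
          simpa using this
        simpa using hc x.1 y.1 hx') }
  have hmemD : ∀ y : Y, y ^ 2 = 1 → y ∈ D := by
    intro y hy
    apply hDcen y
    · rw [Subgroup.mem_center_iff]
      intro g
      exact (hc y g hy).symm
    · have : y ^ 4 = (y ^ 2) ^ 2 := by rw [← pow_mul]
      rw [this, hy, one_pow]
  have hE4 : nsq (1 : D) = 4 := by
    have := nsq_subgroup D (one_mem D)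
    rw [show (1 : D) = ⟨1, one_mem D⟩ from rfl, this, ← h4]
    unfold nsq
    exact Nat.card_congr
      (Equiv.subtypeEquivRight (fun x => ⟨fun hx => hx.1, fun hx => ⟨hx, hmemD x hx⟩⟩))
  exact solvable_of_restrict_pgroup (p := 2) D hH (aut_solvable_core hE hE4) hDfaith

end Cfsg.Agent.Lib.Helper2.Ti3
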