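import Mathlib
import Cfsg.Agent.Lib.Helper2.Ti3E

/-! The automorphism group of a finite `2`-group with exactly three involutions is solvable. -/
set_option autoImplicit false
universe u

namespace Cfsg.Agent.Lib.Helper2.Ti3

open Cfsg

theorem aut_solvable_three_involutions {X : Type u} [Group X] [Finite X] (h2 : IsPGroup 2 X)
    (h3 : Nat.card {x : X // orderOf x = 2} = 3) : Group.IsSolvable (MulAut X) := by
  classical
  haveI : Fintype X := Fintype.ofFinite X
  -- involutions
  have hinv_iff : ∀ x : X, orderOf x = 2 ↔ x ^ 2 = 1 ∧ x ≠ 1 := fun x => orderOf_eq_prime_iff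
  haveI : Nontrivial {x : X // orderOf x = 2} := by
    apply Fintype.one_lt_card_iff_nontrivial.mp
    rw [← Nat.card_eq_fintype_card, h3]; norm_num
  obtain ⟨⟨u₀, hu₀⟩⟩ : Nonempty {x : X // orderOf x = 2} := inferInstance
  haveI : Nontrivial X := ⟨⟨u₀, 1, ((hinv_iff u₀).mp hu₀).2⟩⟩
  -- a central involution
  obtain ⟨z, hz, hzc⟩ : ∃ z : X, orderOf z = 2 ∧ ∀ g : X, g * z = z * g := by
    haveI := h2.center_nontrivial
    have hcp : IsPGroup 2 (Subgroup.center X) := h2.to_subgroup _
    obtain ⟨k, hk⟩ := IsPGroup.iff_card.mp hcp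
    have hk0 : k ≠ 0 := by
      rintro rfl
      rw [pow_zero] at hk
      have : 1 < Nat.card (Subgroup.center X) := Finite.one_lt_card
      omega
    have hdvd : 2 ∣ Nat.card (Subgroup.center X) := by rw [hk]; exact dvd_pow_self 2 hk0
    obtain ⟨z', hz'⟩ := exists_prime_orderOf_dvd_card' 2 hdvd
    refine ⟨z'.1, by rw [Subgroup.orderOf_coe]; exact hz', ?_⟩
    intro g
    exact Subgroup.mem_center_iff.mp z'.2 g
  obtain ⟨⟨u, hu⟩, hune⟩ := exists_ne (⟨z, hz⟩ : {x : X // orderOf x = 2})
  have huz : u ≠ z := fun e => hune (Subtype.ext e)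
  have hz2 := ((hinv_iff z).mp hz).1
  have hz1 := ((hinv_iff z).mp hz).2
  have hu2 := ((hinv_iff u).mp hu).1
  have hu1 := ((hinv_iff u).mp hu).2
  have hzinv : z⁻¹ = z := inv_eq_of_mul_eq_one_right (by rw [← pow_two]; exact hz2)
  have hzu2 : (z * u) ^ 2 = 1 := by
    have hcomm : Commute z u := (hzc u).symm
    rw [hcomm.mul_pow, hz2, hu2, one_mul]
  have hzu1 : z * u ≠ 1 := by
    intro e
    apply huz
    have : u = z⁻¹ := eq_inv_of_mul_eq_one_right e
    rw [this, hzinv]
  have hzzu : z ≠ z * u := by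
    intro e
    apply hu1
    exact (mul_left_cancel (e.symm.trans (mul_one z).symm))
  have huzu : u ≠ z * u := by
    intro e
    apply hz1
    exact (mul_right_cancel (e.symm.trans (one_mul u).symm))
  -- the four solutions of `x ^ 2 = 1`
  have hTf4 : (Tf X).card = 4 := by
    have e1 : (Tf X) = insert 1 (Finset.univ.filter (fun x : X => orderOf x = 2)) := by
      ext x
      rw [mem_Tf, Finset.mem_insert, Finset.mem_filter, hinv_iff]
      constructor
      · intro hx
        by_cases h1 : x = 1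
        · left; exact h1
        · right; exact ⟨Finset.mem_univ _, hx, h1⟩
      · rintro (rfl | ⟨-, hx, -⟩)
        · exact one_pow 2
        · exact hx
    have e2 : (Finset.univ.filter (fun x : X => orderOf x = 2)).card = 3 := by
      rw [← h3]
      exact (Nat.subtype_card _ (by simp)).symm
    rw [e1, Finset.card_insert_of_notMem, e2]
    rw [Finset.mem_filter]
    rintro ⟨-, h1⟩
    rw [orderOf_one] at h1
    omega
  have hTf := Tf_eq hTf4 hz2 hu2 hzu2 hz1 hu1 hzu1 (Ne.symm huz) hzzu huzu
  have hP : ∀ x : X, x ^ 2 = 1 → x = 1 ∨ x = z ∨ x = u ∨ x = z * u := by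
    intro x hx
    have : x ∈ Tf X := (mem_Tf x).mpr hx
    rw [hTf] at this
    simpa using this
  -- solutions of `x ^ 2 = 1` commute
  have hcu : ∀ x : X, x ^ 2 = 1 → x * u = u * x := by
    intro x hx
    rcases hP x hx with rfl | rfl | rfl | rfl
    · rw [one_mul, mul_one]
    · exact (hzc u).symm
    · rfl
    · rw [← mul_assoc, hzc u]
  have hcomm : ∀ a b : X, a ^ 2 = 1 → b ^ 2 = 1 → a * b = b * a := by
    intro a b ha hb
    rcases hP b hb with rfl | rfl | rfl | rfl
    · rw [one_mul, mul_one]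
    · exact hzc a
    · exact hcu a ha
    · rw [← mul_assoc, hzc a, mul_assoc, hcu a ha, ← mul_assoc]
  -- the subgroup `V`
  let V : Subgroup X :=
    { carrier := {x | x ^ 2 = 1}
      one_mem' := one_pow 2
      mul_mem' := by
        intro a b ha hb
        have hc : Commute a b := hcomm a b ha hb
        show (a * b) ^ 2 = 1
        rw [hc.mul_pow]
        have ha' : a ^ 2 = 1 := ha
        have hb' : b ^ 2 = 1 := hb
        rw [ha', hb', one_mul]
      inv_mem' := by
        intro a ha
        have ha' : a ^ 2 = 1 := ha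
        show (a⁻¹) ^ 2 = 1
        rw [inv_pow, ha', inv_one] }
  have hVmem : ∀ x : X, x ∈ V ↔ x ^ 2 = 1 := fun x => Iff.rfl
  have hVchar : V.Characteristic := by
    rw [Subgroup.characteristic_iff_le_comap]
    intro φ x hx
    show φ x ∈ V
    rw [hVmem] at hx ⊢
    rw [← map_pow, hx, map_one]
  set X₁ : Subgroup X := Subgroup.centralizer (V : Set X) with hX₁
  have hX₁char : X₁.Characteristic := Subgroup.characteristic_centralizer
  have hVX₁ : V ≤ X₁ := by
    intro v hv
    rw [hX₁, Subgroup.mem_centralizer_iff]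
    intro w hw
    exact hcomm w v ((hVmem w).mp hw) ((hVmem v).mp hv)
  have hcent : Subgroup.centralizer (X₁ : Set X) ≤ X₁ := by
    rw [hX₁]
    exact Subgroup.centralizer_le hVX₁
  have hH : ∀ a : MulAut X, ∀ x ∈ X₁, a x ∈ X₁ := by
    intro a x hx
    have := Subgroup.characteristic_iff_le_comap.mp hX₁char a
    exact this hx
  -- the group `Y = X₁`
  have hYp : IsPGroup 2 X₁ := h2.to_subgroup _
  have hYc : ∀ x y : X₁, x ^ 2 = 1 → x * y = y * x := by
    intro x y hx
    have hx' : (x : X) ^ 2 = 1 := by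
      have := congrArg Subtype.val hx
      simpa using this
    have hy : (y : X) ∈ Subgroup.centralizer (V : Set X) := y.2
    rw [Subgroup.mem_centralizer_iff] at hy
    exact Subtype.ext (by simpa using hy x.1 ((hVmem _).mpr hx'))
  have hY4 : nsq (1 : X₁) = 4 := by
    have := nsq_subgroup X₁ (one_mem X₁)
    rw [show (1 : X₁) = ⟨1, one_mem X₁⟩ from rfl, this, ← hTf4]
    rw [← Nat.subtype_card (Tf X) (fun x => mem_Tf x)]
    exact Nat.card_congr
      (Equiv.subtypeEquivRight (fun x => ⟨fun hx => hx.1, fun hx => ⟨hx, hVX₁ ((hVmem x).mpr hx)⟩⟩))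
  have hYsolv : Group.IsSolvable (MulAut X₁) := aut_solvable_Y hYp hYc hY4
  exact solvable_of_restrict_pgroup (p := 2) X₁ hH hYsolv
    (fun a ha hfix =>
      Cfsg.Agent.Lib.Helper1.coprime_aut_trivial_of_fix_self_centralizing h2 X₁ hX₁char hcent a ha
        hfix)

end Cfsg.Agent.Lib.Helper2.Ti3
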