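import Mathlib
import Cfsg.Prelude.Def_GeometricClasses
import Cfsg.Agent.Lib.Helper2.TnsA
set_option autoImplicit false
set_option maxHeartbeats 1000000
set_option linter.unusedVariables false
set_option linter.unusedSectionVars false
set_option linter.style.longLine false
set_option linter.unusedSimpArgs false
set_option linter.deprecated false
set_option linter.style.haveILetI false

/-! Elements of prime order of `PSL_n(q)` and stabilizers of tensor decompositions (part B):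
membership in the tensor product subgroup in terms of linear maps. -/

namespace Cfsg.Agent.Lib.Helper2.Tns

open Module
open scoped Kronecker Matrix MatrixGroups

universe u

variable {F : Type u} [Field F] {n a b : ℕ}

/-- conjugate to a Kronecker product -/
def TensConj (a b : ℕ) (T : Module.End F (Fin n → F)) : Prop :=
  ∃ (φ : (Fin n → F) ≃ₗ[F] (Fin a × Fin b → F)) (A : Matrix (Fin a) (Fin a) F)
    (B : Matrix (Fin b) (Fin b) F), A.det ≠ 0 ∧ B.det ≠ 0 ∧
    ∀ v, φ (T v) = Matrix.toLin' (A ⊗ₖ B) (φ v)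

theorem glReindex_val (e : Fin n ≃ Fin a × Fin b) (K : GL (Fin a × Fin b) F) :
    ((Cfsg.Geo.glReindex e.symm K : GL (Fin n) F) : Matrix (Fin n) (Fin n) F) =
      (K : Matrix (Fin a × Fin b) (Fin a × Fin b) F).submatrix e e := by
  unfold Cfsg.Geo.glReindex
  rw [Units.coe_mapEquiv]
  show (Matrix.reindexAlgEquiv F F e.symm) (K : Matrix (Fin a × Fin b) (Fin a × Fin b) F) = _
  rw [Matrix.reindexAlgEquiv_apply, Matrix.reindex_apply, Equiv.symm_symm]

theorem mem_tens_iff (e : Fin n ≃ Fin a × Fin b) (P y : GL (Fin n) F) :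
    y ∈ Cfsg.Geo.tensorProductSubgroup a b e P ↔
      ∃ K ∈ Cfsg.Geo.kroneckerSubgroup a b F, y = P * Cfsg.Geo.glReindex e.symm K * P⁻¹ := by
  unfold Cfsg.Geo.tensorProductSubgroup
  constructor
  · rintro ⟨K', ⟨K, hK, rfl⟩, rfl⟩
    exact ⟨K, hK, rfl⟩
  · rintro ⟨K, hK, rfl⟩
    exact ⟨_, ⟨K, hK, rfl⟩, rfl⟩

theorem det_ne_zero_of_gl {m : Type} [Fintype m] [DecidableEq m] (A : GL m F) :
    (A : Matrix m m F).det ≠ 0 := by
  rw [← Matrix.GeneralLinearGroup.val_det_apply]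
  exact Units.ne_zero _

theorem tensConj_of_mem (e : Fin n ≃ Fin a × Fin b) (P x g : GL (Fin n) F)
    (h : g⁻¹ * x * g ∈ Cfsg.Geo.tensorProductSubgroup a b e P) :
    TensConj a b (Matrix.toLin' (x : Matrix (Fin n) (Fin n) F)) := by
  obtain ⟨K, ⟨A, B, hK⟩, hy⟩ := (mem_tens_iff e P _).mp h
  obtain ⟨G, hG⟩ : ∃ G : GL (Fin n) F, G = g * P := ⟨_, rfl⟩
  have h1 : G⁻¹ * x = Cfsg.Geo.glReindex e.symm K * G⁻¹ := by
    have h2 : x = g * (P * Cfsg.Geo.glReindex e.symm K * P⁻¹) * g⁻¹ := by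
      rw [← hy]
      group
    rw [hG, h2]
    group
  have h1m : ((G⁻¹ : GL (Fin n) F) : Matrix (Fin n) (Fin n) F) * (x : Matrix (Fin n) (Fin n) F) =
      ((A : Matrix (Fin a) (Fin a) F) ⊗ₖ (B : Matrix (Fin b) (Fin b) F)).submatrix e e *
        ((G⁻¹ : GL (Fin n) F) : Matrix (Fin n) (Fin n) F) := by
    have h2 := congrArg (fun z : GL (Fin n) F => (z : Matrix (Fin n) (Fin n) F)) h1
    simp only [Units.val_mul] at h2
    rw [glReindex_val, hK] at h2
    exact h2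
  refine ⟨(Matrix.toLinearEquiv' ((G⁻¹ : GL (Fin n) F) : Matrix (Fin n) (Fin n) F)
    (Units.invertible _)).trans (LinearEquiv.funCongrLeft F F e.symm), A, B,
    det_ne_zero_of_gl A, det_ne_zero_of_gl B, ?_⟩
  intro v
  funext p
  rw [LinearEquiv.trans_apply, LinearEquiv.trans_apply, LinearEquiv.funCongrLeft_apply,
    LinearMap.funLeft_apply, Matrix.toLin'_apply, Matrix.toLin'_apply]
  have h3 : ∀ u : Fin n → F, (Matrix.toLinearEquiv' ((G⁻¹ : GL (Fin n) F) :
      Matrix (Fin n) (Fin n) F) (Units.invertible _)) u =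
      ((G⁻¹ : GL (Fin n) F) : Matrix (Fin n) (Fin n) F) *ᵥ u := by
    intro u
    rfl
  rw [h3, h3, Matrix.mulVec_mulVec, h1m, ← Matrix.mulVec_mulVec, Matrix.submatrix_mulVec_equiv,
    Function.comp_apply, Equiv.apply_symm_apply]
  congr 1

/-- the element of `GL` attached to a Kronecker product -/
theorem exists_kron (A : GL (Fin a) F) (B : GL (Fin b) F) :
    ∃ K ∈ Cfsg.Geo.kroneckerSubgroup a b F,
      (K : Matrix (Fin a × Fin b) (Fin a × Fin b) F) =
        (A : Matrix (Fin a) (Fin a) F) ⊗ₖ (B : Matrix (Fin b) (Fin b) F) := by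
  refine ⟨⟨(A : Matrix (Fin a) (Fin a) F) ⊗ₖ (B : Matrix (Fin b) (Fin b) F),
    ((A⁻¹ : GL (Fin a) F) : Matrix (Fin a) (Fin a) F) ⊗ₖ
      ((B⁻¹ : GL (Fin b) F) : Matrix (Fin b) (Fin b) F), ?_, ?_⟩, ⟨A, B, rfl⟩, rfl⟩
  · rw [← Matrix.mul_kronecker_mul, Units.mul_inv, Units.mul_inv, Matrix.one_kronecker_one]
  · rw [← Matrix.mul_kronecker_mul, Units.inv_mul, Units.inv_mul, Matrix.one_kronecker_one]

theorem exists_conj_mem (e : Fin n ≃ Fin a × Fin b) (P x : GL (Fin n) F)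
    (φ : (Fin n → F) ≃ₗ[F] (Fin a × Fin b → F)) (A : GL (Fin a) F) (B : GL (Fin b) F)
    (hφ : ∀ v, φ (Matrix.toLin' (x : Matrix (Fin n) (Fin n) F) v) =
      Matrix.toLin' ((A : Matrix (Fin a) (Fin a) F) ⊗ₖ (B : Matrix (Fin b) (Fin b) F)) (φ v))
    (hcent : ∀ δ : F, δ ≠ 0 → ∃ h : Module.End F (Fin n → F),
      h * Matrix.toLin' (x : Matrix (Fin n) (Fin n) F) =
        Matrix.toLin' (x : Matrix (Fin n) (Fin n) F) * h ∧ LinearMap.det h = δ) :
    ∃ g ∈ Cfsg.Geo.specialLinear (Fin n) F,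
      g⁻¹ * x * g ∈ Cfsg.Geo.tensorProductSubgroup a b e P := by
  classical
  obtain ⟨K, hKmem, hK⟩ := exists_kron A B
  obtain ⟨K', hK'⟩ : ∃ K' : GL (Fin n) F, K' = Cfsg.Geo.glReindex e.symm K := ⟨_, rfl⟩
  have hK'val : (K' : Matrix (Fin n) (Fin n) F) =
      ((A : Matrix (Fin a) (Fin a) F) ⊗ₖ (B : Matrix (Fin b) (Fin b) F)).submatrix e e := by
    rw [hK', glReindex_val, hK]
  obtain ⟨ψ, hψdef⟩ : ∃ ψ : (Fin n → F) ≃ₗ[F] (Fin n → F),
      ψ = φ.trans (LinearEquiv.funCongrLeft F F e) := ⟨_, rfl⟩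
  have hψ : ∀ v, ψ ((x : Matrix (Fin n) (Fin n) F) *ᵥ v) =
      (K' : Matrix (Fin n) (Fin n) F) *ᵥ ψ v := by
    intro v
    funext i
    have h1 := hφ v
    rw [Matrix.toLin'_apply, Matrix.toLin'_apply] at h1
    rw [hψdef, LinearEquiv.trans_apply, LinearEquiv.trans_apply, LinearEquiv.funCongrLeft_apply,
      LinearMap.funLeft_apply, h1, hK'val, Matrix.submatrix_mulVec_equiv, Function.comp_apply]
    congr 2
    funext p
    rw [Function.comp_apply, LinearEquiv.funCongrLeft_apply, LinearMap.funLeft_apply,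
      Equiv.apply_symm_apply]
  obtain ⟨Q, hQ⟩ : ∃ Q : GL (Fin n) F, (Q : Matrix (Fin n) (Fin n) F) =
      LinearMap.toMatrix' (ψ : (Fin n → F) →ₗ[F] (Fin n → F)) := by
    refine ⟨⟨LinearMap.toMatrix' (ψ : (Fin n → F) →ₗ[F] (Fin n → F)),
      LinearMap.toMatrix' (ψ.symm : (Fin n → F) →ₗ[F] (Fin n → F)), ?_, ?_⟩, rfl⟩
    · rw [← LinearMap.toMatrix'_comp, LinearEquiv.comp_coe, LinearEquiv.symm_trans_self,
        LinearEquiv.refl_toLinearMap, LinearMap.toMatrix'_id]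
    · rw [← LinearMap.toMatrix'_comp, LinearEquiv.comp_coe, LinearEquiv.self_trans_symm,
        LinearEquiv.refl_toLinearMap, LinearMap.toMatrix'_id]
  have hQx : Q * x = K' * Q := by
    apply Units.ext
    rw [Units.val_mul, Units.val_mul, hQ]
    apply Matrix.toLin'.injective
    apply LinearMap.ext
    intro v
    rw [Matrix.toLin'_mul, Matrix.toLin'_mul, LinearMap.comp_apply, LinearMap.comp_apply,
      Matrix.toLin'_toMatrix', Matrix.toLin'_apply, Matrix.toLin'_apply]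
    exact hψ v
  obtain ⟨G, hG⟩ : ∃ G : GL (Fin n) F, G = P * Q := ⟨_, rfl⟩
  obtain ⟨h, hcomm, hdet⟩ := hcent ((Matrix.GeneralLinearGroup.det G : Fˣ) : F) (Units.ne_zero _)
  obtain ⟨h', hh'⟩ : ∃ h' : GL (Fin n) F, (h' : Matrix (Fin n) (Fin n) F) =
      LinearMap.toMatrix' h :=
    ⟨Matrix.GeneralLinearGroup.mkOfDetNeZero (LinearMap.toMatrix' h) (by
      rw [LinearMap.det_toMatrix', hdet]
      exact Units.ne_zero _), rfl⟩
  have hcomm' : h' * x = x * h' := by
    apply Units.ext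
    rw [Units.val_mul, Units.val_mul, hh']
    have h1 := congrArg LinearMap.toMatrix' hcomm
    rw [LinearMap.toMatrix'_mul, LinearMap.toMatrix'_mul, LinearMap.toMatrix'_toLin'] at h1
    exact h1
  have hdet' : Matrix.GeneralLinearGroup.det h' = Matrix.GeneralLinearGroup.det G := by
    apply Units.ext
    rw [Matrix.GeneralLinearGroup.val_det_apply, hh', LinearMap.det_toMatrix', hdet]
  refine ⟨h' * G⁻¹, ?_, ?_⟩
  · unfold Cfsg.Geo.specialLinear
    rw [MonoidHom.mem_ker, map_mul, map_inv, hdet', mul_inv_cancel]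
  · rw [mem_tens_iff]
    refine ⟨K, hKmem, ?_⟩
    rw [← hK']
    have h1 : h'⁻¹ * x * h' = x := by
      rw [mul_assoc, ← hcomm', ← mul_assoc, inv_mul_cancel, one_mul]
    have h2 : Q * x * Q⁻¹ = K' := by
      rw [hQx, mul_assoc, mul_inv_cancel, mul_one]
    calc (h' * G⁻¹)⁻¹ * x * (h' * G⁻¹) = G * (h'⁻¹ * x * h') * G⁻¹ := by group
      _ = P * (Q * x * Q⁻¹) * P⁻¹ := by
        rw [h1, hG]
        group
      _ = P * K' * P⁻¹ := by rw [h2]

theorem exists_gl_of_end (y : Module.End F (Fin n → F)) (hdet : LinearMap.det y = 1) :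
    ∃ x : GL (Fin n) F, x ∈ Cfsg.Geo.specialLinear (Fin n) F ∧
      Matrix.toLin' (x : Matrix (Fin n) (Fin n) F) = y := by
  classical
  refine ⟨Matrix.GeneralLinearGroup.mkOfDetNeZero (LinearMap.toMatrix' y) (by
    rw [LinearMap.det_toMatrix', hdet]
    exact one_ne_zero), ?_, ?_⟩
  · unfold Cfsg.Geo.specialLinear
    rw [MonoidHom.mem_ker]
    apply Units.ext
    rw [Matrix.GeneralLinearGroup.val_det_apply]
    show (LinearMap.toMatrix' y).det = 1
    rw [LinearMap.det_toMatrix', hdet]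
  · show Matrix.toLin' (LinearMap.toMatrix' y) = y
    exact Matrix.toLin'_toMatrix' y

/-- a bad element refutes the fixed point property -/
theorem false_of_bad (e : Fin n ≃ Fin a × Fin b) (P : GL (Fin n) F) (r : ℕ)
    (hall : ∀ x ∈ Cfsg.Geo.specialLinear (Fin n) F,
      (∃ z : F, ((x ^ r : GL (Fin n) F) : Matrix (Fin n) (Fin n) F) =
        z • (1 : Matrix (Fin n) (Fin n) F)) →
      (∀ z : F, (x : Matrix (Fin n) (Fin n) F) ≠ z • (1 : Matrix (Fin n) (Fin n) F)) →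
      ∃ g ∈ Cfsg.Geo.specialLinear (Fin n) F,
        g⁻¹ * x * g ∈ Cfsg.Geo.tensorProductSubgroup a b e P)
    (y : Module.End F (Fin n → F)) (hdet : LinearMap.det y = 1) (z : F) (hyr : y ^ r = z • 1)
    (hns : ∀ c : F, y ≠ c • 1) (hbad : ¬ TensConj a b y) : False := by
  obtain ⟨x, hx, hxy⟩ := exists_gl_of_end y hdet
  have hsm : ∀ c : F, Matrix.toLin' (c • (1 : Matrix (Fin n) (Fin n) F)) =
      c • (1 : Module.End F (Fin n → F)) := by
    intro c
    rw [map_smul, Matrix.toLin'_one]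
    rfl
  obtain ⟨g, -, hg⟩ := hall x hx ⟨z, by
    rw [Units.val_pow_eq_pow_val]
    apply Matrix.toLin'.injective
    rw [Matrix.toLin'_pow, hxy, hyr, hsm]⟩ (by
    intro c hc
    apply hns c
    rw [← hxy, hc, hsm])
  apply hbad
  rw [← hxy]
  exact tensConj_of_mem e P x g hg

end Cfsg.Agent.Lib.Helper2.Tns
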