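import Mathlib
import Cfsg.Agent.Lib.Helper2.TnsB
import Cfsg.Agent.Lib.Helper2.ElusD
import Cfsg.Agent.Lib.Helper2.ImpF
import Cfsg.Agent.Lib.Helper2.SfrA
import Cfsg.Agent.Lib.Helper2.SpSlC
set_option autoImplicit false
set_option maxHeartbeats 1000000
set_option linter.unusedVariables false
set_option linter.unusedSectionVars false
set_option linter.style.longLine false
set_option linter.unusedSimpArgs false
set_option linter.deprecated false
set_option linter.style.haveILetI false

/-! Elements of prime order of `PSL_n(q)` and stabilizers of tensor decompositions (part C):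
elements that are not conjugate into the tensor product subgroup. -/

namespace Cfsg.Agent.Lib.Helper2.Tns

open Module
open scoped Kronecker Matrix MatrixGroups

universe u

section NoGo

variable {F : Type u} [Field F] {n a b : ℕ}

theorem arith_ss (a d f b : ℕ) (ha : 2 ≤ a) (hd : 2 ≤ d) (h1 : a * f + d = a * b)
    (h2 : d ∣ b - f) : False := by
  have hfb : f < b := by
    by_contra h
    push Not at h
    have : a * b ≤ a * f := Nat.mul_le_mul_left a h
    omega
  have hm : 0 < b - f := by omega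
  have h3 := Nat.le_of_dvd hm h2
  obtain ⟨m, hm'⟩ : ∃ m, b = f + m := ⟨b - f, by omega⟩
  subst hm'
  have h4 : d = a * m := by
    rw [mul_add] at h1
    omega
  have h5 : f + m - f = m := by omega
  rw [h5] at h3
  nlinarith

theorem not_tensConj_codim (hab : n = a * b) (ha : 2 ≤ a) (T : Module.End F (Fin n → F))
    (c c' : F) (h1 : n < finrank F (LinearMap.ker (T - c • 1)) + b)
    (h2 : ¬ a ∣ finrank F (LinearMap.ker (T - c' • 1))) : ¬ TensConj a b T := by
  rintro ⟨φ, A, B, hA, hB, hφ⟩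
  rw [finrank_ker_of_conj φ T _ hφ c] at h1
  rw [finrank_ker_of_conj φ T _ hφ c'] at h2
  obtain ⟨c₁, rfl⟩ := scalar_of_codim_lt A B hB c (by rw [← hab]; exact h1)
  rw [smul_one_kron, finrank_ker_one_kron] at h2
  exact h2 (dvd_mul_right _ _)

variable [Fintype F]

theorem not_tensConj_ss {p : ℕ} [hp : Fact p.Prime] [CharP F p] (hab : n = a * b) (ha : 2 ≤ a)
    (hlt : a < b) (r : ℕ) [hr : Fact r.Prime] (hrp : r ≠ p)
    (T : Module.End F (Fin n → F)) (hT : T ^ r = 1)
    (hd2 : 2 ≤ orderOf ((Fintype.card F : ℕ) : ZMod r))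
    (hker : finrank F (LinearMap.ker (T - 1)) + orderOf ((Fintype.card F : ℕ) : ZMod r) = n) :
    ¬ TensConj a b T := by
  rintro ⟨φ, A, B, hA, hB, hφ⟩
  obtain ⟨d, hd⟩ : ∃ d, d = orderOf ((Fintype.card F : ℕ) : ZMod r) := ⟨_, rfl⟩
  rw [← hd] at hd2 hker
  have hrq : ¬ r ∣ Fintype.card F := Elus.not_dvd_card_of_ne (F := F) r hrp
  have hrq1 : ¬ r ∣ Fintype.card F - 1 := by
    intro h
    have h1 := (Elus.ord_eq_one_iff r (Fintype.card F) Fintype.card_pos).mpr h
    omega
  have hT' : (Matrix.toLin' (A ⊗ₖ B) : Module.End F (Fin a × Fin b → F)) ^ r = 1 := by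
    have h1 := pow_eq_of_conj φ T _ hφ r 1 (by rw [hT, one_smul])
    rw [one_smul] at h1
    exact h1
  have hABr : (A ^ r) ⊗ₖ (B ^ r) = 1 := by
    rw [← kron_pow]
    apply Matrix.toLin'.injective
    rw [Matrix.toLin'_pow, hT', Matrix.toLin'_one]
    rfl
  have hk1 : finrank F (LinearMap.ker ((Matrix.toLin' (A ⊗ₖ B) :
      Module.End F (Fin a × Fin b → F)) - (1 : F) • 1)) + d = n := by
    rw [← finrank_ker_of_conj φ T _ hφ 1, one_smul]
    exact hker
  have hAsc : ∃ c₁ : F, A = c₁ • 1 := by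
    by_cases hdb : d < b
    · exact scalar_of_codim_lt A B hB 1 (by rw [← hab]; omega)
    · push Not at hdb
      obtain ⟨c', hc'⟩ := scalar_of_kron_eq (by omega) (by omega) (A ^ r) (B ^ r) 1 one_ne_zero
        (by rw [hABr, one_smul])
      have hc'0 : c' ≠ 0 := by
        rintro rfl
        rw [zero_smul] at hc'
        have h1 := congrArg Matrix.det hc'
        haveI : Nonempty (Fin a) := ⟨⟨0, by omega⟩⟩
        rw [Matrix.det_pow, Matrix.det_zero] at h1
        exact pow_ne_zero r hA h1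
      obtain ⟨l, hl⟩ := Elus.exists_root r hrq1 c' hc'0
      have hl0 : l ≠ 0 := by
        rintro rfl
        rw [zero_pow hr.out.ne_zero] at hl
        exact hc'0 hl.symm
      obtain ⟨g, hgdef⟩ : ∃ g : Module.End F (Fin a → F), g = Matrix.toLin' (l⁻¹ • A) :=
        ⟨_, rfl⟩
      have hg : g ^ r = 1 := by
        rw [hgdef, ← Matrix.toLin'_pow, smul_pow, hc', smul_smul, inv_pow, hl,
          inv_mul_cancel₀ hc'0, one_smul, Matrix.toLin'_one]
        rfl
      have hdvd := Elus.orderOf_dvd_sub g r hg hrq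
      rw [Module.finrank_fin_fun, ← hd] at hdvd
      have hle : finrank F (LinearMap.ker (g - 1)) ≤ a := by
        have h1 := Submodule.finrank_le (LinearMap.ker (g - 1))
        rw [Module.finrank_fin_fun] at h1
        exact h1
      have h0 : a - finrank F (LinearMap.ker (g - 1)) = 0 :=
        Nat.eq_zero_of_dvd_of_lt hdvd (by omega)
      have htop : LinearMap.ker (g - 1) = ⊤ :=
        Submodule.eq_top_of_finrank_eq (by rw [Module.finrank_fin_fun]; omega)
      have hg1 : g = 1 := by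
        apply LinearMap.ext
        intro v
        have h1 : v ∈ LinearMap.ker (g - 1) := by
          rw [htop]
          exact Submodule.mem_top
        rw [Elus.mem_ker_sub_one] at h1
        rw [h1, Module.End.one_apply]
      refine ⟨l, ?_⟩
      have h1 : l⁻¹ • A = 1 := by
        apply Matrix.toLin'.injective
        rw [← hgdef, hg1, Matrix.toLin'_one]
        rfl
      rw [← h1, smul_smul, mul_inv_cancel₀ hl0, one_smul]
  obtain ⟨c₁, rfl⟩ := hAsc
  rw [smul_one_kron] at hT' hk1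
  have hBr : (c₁ • B) ^ r = 1 := by
    apply eq_one_of_one_kron (a := a) (by omega)
    have h1 : ((1 : Matrix (Fin a) (Fin a) F) ⊗ₖ (c₁ • B)) ^ r = 1 := by
      apply Matrix.toLin'.injective
      rw [Matrix.toLin'_pow, hT', Matrix.toLin'_one]
      rfl
    rw [kron_pow, one_pow] at h1
    exact h1
  obtain ⟨g', hg'def⟩ : ∃ g' : Module.End F (Fin b → F), g' = Matrix.toLin' (c₁ • B) :=
    ⟨_, rfl⟩
  have hg' : g' ^ r = 1 := by
    rw [hg'def, ← Matrix.toLin'_pow, hBr, Matrix.toLin'_one]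
    rfl
  have hdvd := Elus.orderOf_dvd_sub g' r hg' hrq
  rw [Module.finrank_fin_fun, ← hd] at hdvd
  rw [finrank_ker_one_kron, one_smul, ← hg'def, hab] at hk1
  exact arith_ss a d _ b ha hd2 hk1 hdvd

end NoGo

section Bad

variable {F : Type u} [Field F] [Fintype F]

/-- a transvection -/
theorem exists_transv {p : ℕ} [hp : Fact p.Prime] [CharP F p] (n : ℕ) (hn : 2 ≤ n) :
    ∃ y : Module.End F (Fin n → F), LinearMap.det y = 1 ∧ y ^ p = (1 : F) • 1 ∧
      (∀ c' : F, y ≠ c' • 1) ∧ finrank F (LinearMap.ker (y - (1 : F) • 1)) = n - 1 := by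
  classical
  obtain ⟨i0, hi0⟩ : ∃ i0 : Fin n, i0.val = 0 := ⟨⟨0, by omega⟩, rfl⟩
  obtain ⟨i1, hi1⟩ : ∃ i1 : Fin n, i1.val = 1 := ⟨⟨1, by omega⟩, rfl⟩
  have h01 : i1 ≠ i0 := by
    intro h
    rw [h] at hi1
    omega
  obtain ⟨φ, hφ⟩ : ∃ φ : (Fin n → F) →ₗ[F] F, ∀ u, φ u = u i1 :=
    ⟨LinearMap.proj i1, fun u => rfl⟩
  obtain ⟨e₀, he₀⟩ : ∃ e₀ : Fin n → F, e₀ = Pi.single i0 1 := ⟨_, rfl⟩
  obtain ⟨e₁, he₁⟩ : ∃ e₁ : Fin n → F, e₁ = Pi.single i1 1 := ⟨_, rfl⟩
  have hφe₀ : φ e₀ = 0 := by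
    rw [hφ, he₀, Pi.single_eq_of_ne h01]
  have hφe₁ : φ e₁ = 1 := by
    rw [hφ, he₁, Pi.single_eq_same]
  have he₀0 : e₀ ≠ 0 := by
    intro h0
    have h1 := congrFun h0 i0
    rw [he₀, Pi.single_eq_same] at h1
    exact one_ne_zero h1
  obtain ⟨N, hN⟩ : ∃ N : Module.End F (Fin n → F), N = φ.smulRight e₀ := ⟨_, rfl⟩
  have hNap : ∀ u, N u = φ u • e₀ := by
    intro u
    rw [hN, LinearMap.smulRight_apply]
  obtain ⟨y, hy⟩ : ∃ y : Module.End F (Fin n → F), y = 1 + N := ⟨_, rfl⟩
  have hyap : ∀ u, y u = u + φ u • e₀ := by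
    intro u
    rw [hy, LinearMap.add_apply, Module.End.one_apply, hNap]
  have hpow : ∀ (k : ℕ) u, (y ^ k) u = u + ((k : F) * φ u) • e₀ := by
    intro k
    induction k with
    | zero =>
      intro u
      rw [pow_zero, Module.End.one_apply, Nat.cast_zero, zero_mul, zero_smul, add_zero]
    | succ k ih =>
      intro u
      rw [pow_succ, Module.End.mul_apply, ih, hyap, map_add, map_smul, hφe₀, smul_eq_mul, mul_zero,
        add_zero, add_assoc, ← add_smul, Nat.cast_succ]
      congr 2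
      ring
  have hyp : y ^ p = (1 : F) • 1 := by
    apply LinearMap.ext
    intro u
    rw [hpow, CharP.cast_eq_zero F p, zero_mul, zero_smul, add_zero, one_smul,
      Module.End.one_apply]
  have hdet : LinearMap.det y = 1 := by
    have h1 : (LinearMap.det y) ^ p = 1 := by
      rw [← map_pow, hyp, one_smul, map_one]
    have h2 : (LinearMap.det y - 1) ^ p = 0 := by
      rw [sub_pow_char, h1, one_pow, sub_self]
    exact sub_eq_zero.mp (pow_eq_zero_iff hp.out.ne_zero |>.mp h2)
  have hns : ∀ c' : F, y ≠ c' • 1 := by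
    intro c' hc
    have h1 := congrFun (LinearMap.congr_fun hc e₁) i0
    rw [hyap, hφe₁, one_smul, LinearMap.smul_apply, Module.End.one_apply, Pi.add_apply,
      Pi.smul_apply, he₁, he₀, Pi.single_eq_of_ne h01.symm, Pi.single_eq_same, zero_add,
      smul_eq_mul, mul_zero] at h1
    exact one_ne_zero h1
  have hker : finrank F (LinearMap.ker (y - (1 : F) • 1)) = n - 1 := by
    have h1 : y - (1 : F) • 1 = N := by
      rw [hy, one_smul, add_sub_cancel_left]
    have hφ0 : φ ≠ 0 := by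
      intro h0
      rw [h0, LinearMap.zero_apply] at hφe₁
      exact zero_ne_one hφe₁
    have h2 := LinearMap.finrank_range_add_finrank_ker N
    rw [hN, LinearMap.range_smulRight_apply hφ0, finrank_span_singleton he₀0,
      Module.finrank_fin_fun] at h2
    rw [h1, hN]
    omega
  exact ⟨y, hdet, hyp, hns, hker⟩

/-- a diagonal element with eigenvalues `lam`, `lam⁻¹`, `1, …, 1` -/
theorem exists_diag_pair (lam : F) (r : ℕ) (hr0 : r ≠ 0) (hlr : lam ^ r = 1) (hl1 : lam ≠ 1)
    (n : ℕ) (hn : 3 ≤ n) :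
    ∃ y : Module.End F (Fin n → F), LinearMap.det y = 1 ∧ y ^ r = (1 : F) • 1 ∧
      (∀ c' : F, y ≠ c' • 1) ∧ finrank F (LinearMap.ker (y - (1 : F) • 1)) = n - 2 ∧
      (lam * lam ≠ 1 → finrank F (LinearMap.ker (y - lam • 1)) = 1) := by
  classical
  have hl0 : lam ≠ 0 := by
    rintro rfl
    rw [zero_pow hr0] at hlr
    exact zero_ne_one hlr
  have hli1 : lam⁻¹ ≠ 1 := by
    intro h
    apply hl1
    rw [← inv_inv lam, h, inv_one]
  obtain ⟨i0, hi0⟩ : ∃ i0 : Fin n, i0.val = 0 := ⟨⟨0, by omega⟩, rfl⟩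
  obtain ⟨i1, hi1⟩ : ∃ i1 : Fin n, i1.val = 1 := ⟨⟨1, by omega⟩, rfl⟩
  obtain ⟨i2, hi2⟩ : ∃ i2 : Fin n, i2.val = 2 := ⟨⟨2, by omega⟩, rfl⟩
  have h01 : i1 ≠ i0 := by
    intro h
    rw [h] at hi1
    omega
  have h02 : i2 ≠ i0 := by
    intro h
    rw [h] at hi2
    omega
  have h12 : i2 ≠ i1 := by
    intro h
    rw [h] at hi2
    omega
  obtain ⟨d, hd⟩ : ∃ d : Fin n → F, d = fun j =>
      (if j = i0 then lam else 1) * (if j = i1 then lam⁻¹ else 1) := ⟨_, rfl⟩
  have hd0 : d i0 = lam := by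
    rw [hd]
    simp only [if_true, if_neg h01.symm, mul_one]
  have hd1 : d i1 = lam⁻¹ := by
    rw [hd]
    simp only [if_true, if_neg h01, one_mul]
  have hdj : ∀ j, j ≠ i0 → j ≠ i1 → d j = 1 := by
    intro j hj0 hj1
    rw [hd]
    simp only [if_neg hj0, if_neg hj1, mul_one]
  obtain ⟨y, hy⟩ : ∃ y : Module.End F (Fin n → F), y = Matrix.toLin' (Matrix.diagonal d) :=
    ⟨_, rfl⟩
  have hdet : LinearMap.det y = 1 := by
    rw [hy, LinearMap.det_toLin', Matrix.det_diagonal, hd, Finset.prod_mul_distrib,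
      Finset.prod_ite_eq' Finset.univ i0 (fun _ => lam),
      Finset.prod_ite_eq' Finset.univ i1 (fun _ => lam⁻¹), if_pos (Finset.mem_univ _),
      if_pos (Finset.mem_univ _), mul_inv_cancel₀ hl0]
  have hyr : y ^ r = (1 : F) • 1 := by
    rw [hy, ← Matrix.toLin'_pow, Matrix.diagonal_pow, ← Elus.toLin'_smul_one,
      Matrix.smul_one_eq_diagonal]
    congr 2
    funext j
    rw [Pi.pow_apply]
    by_cases hj0 : j = i0
    · rw [hj0, hd0, hlr]
    · by_cases hj1 : j = i1
      · rw [hj1, hd1, inv_pow, hlr, inv_one]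
      · rw [hdj j hj0 hj1, one_pow]
  have hns : ∀ c' : F, y ≠ c' • 1 := by
    intro c' hc
    rw [hy, ← Elus.toLin'_smul_one, Matrix.smul_one_eq_diagonal] at hc
    have h1 := Matrix.diagonal_injective (Matrix.toLin'.injective hc)
    have h2 : d i0 = c' := congrFun h1 i0
    have h3 : d i2 = c' := congrFun h1 i2
    rw [hd0] at h2
    rw [hdj i2 h02 h12] at h3
    exact hl1 (h2.trans h3.symm)
  have hk1 : finrank F (LinearMap.ker (y - (1 : F) • 1)) = n - 2 := by
    rw [hy, SpSl.finrank_ker_diag]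
    have h1 : Finset.univ.filter (fun j => d j = 1) = (Finset.univ.erase i0).erase i1 := by
      ext j
      rw [Finset.mem_filter, Finset.mem_erase, Finset.mem_erase]
      constructor
      · rintro ⟨-, hj⟩
        refine ⟨?_, ?_, Finset.mem_univ _⟩
        · rintro rfl
          rw [hd1] at hj
          exact hli1 hj
        · rintro rfl
          rw [hd0] at hj
          exact hl1 hj
      · rintro ⟨hne1, hne0, -⟩
        exact ⟨Finset.mem_univ _, hdj j hne0 hne1⟩
    rw [h1, Finset.card_erase_of_mem (Finset.mem_erase.mpr ⟨h01, Finset.mem_univ _⟩),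
      Finset.card_erase_of_mem (Finset.mem_univ _), Finset.card_univ, Fintype.card_fin]
    omega
  have hk2 : lam * lam ≠ 1 → finrank F (LinearMap.ker (y - lam • 1)) = 1 := by
    intro hll
    rw [hy, SpSl.finrank_ker_diag]
    have h1 : Finset.univ.filter (fun j => d j = lam) = {i0} := by
      ext j
      rw [Finset.mem_filter, Finset.mem_singleton]
      constructor
      · rintro ⟨-, hj⟩
        by_contra hj0
        by_cases hj1 : j = i1
        · rw [hj1, hd1] at hj
          apply hll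
          have h5 : lam * lam = lam * lam⁻¹ := by rw [hj]
          rw [h5, mul_inv_cancel₀ hl0]
        · rw [hdj j hj0 hj1] at hj
          exact hl1 hj.symm
      · rintro rfl
        exact ⟨Finset.mem_univ _, hd0⟩
    rw [h1, Finset.card_singleton]
  exact ⟨y, hdet, hyr, hns, hk1, hk2⟩

end Bad

end Cfsg.Agent.Lib.Helper2.Tns
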