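import Mathlib
import Cfsg.Agent.Lib.Helper2.TnsC
set_option autoImplicit false
set_option maxHeartbeats 1000000
set_option linter.unusedVariables false
set_option linter.unusedSectionVars false
set_option linter.style.longLine false
set_option linter.unusedSimpArgs false
set_option linter.deprecated false
set_option linter.style.haveILetI false

/-! Elements of prime order of `PSL_n(q)` and stabilizers of tensor decompositions (part D):
the necessity direction. -/

namespace Cfsg.Agent.Lib.Helper2.Tns

open Module
open scoped Kronecker Matrix MatrixGroups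

universe u

variable {F : Type u} [Field F] [Fintype F]

theorem ord_le_of_dvd_relIndex {p : ℕ} [hp : Fact p.Prime] [CharP F p] (n : ℕ)
    (H : Subgroup (GL (Fin n) F)) (r : ℕ) [hr : Fact r.Prime] (hrp : r ≠ p)
    (hΩ : r ∣ H.relIndex (Cfsg.Geo.specialLinear (Fin n) F)) :
    orderOf ((Fintype.card F : ℕ) : ZMod r) ≤ n := by
  classical
  have hrq : ¬ r ∣ Fintype.card F := Elus.not_dvd_card_of_ne (F := F) r hrp
  have h1 : r ∣ Nat.card (GL (Fin n) F) :=
    dvd_trans hΩ (dvd_trans (Subgroup.relIndex_dvd_card _ _) (Subgroup.card_subgroup_dvd_card _))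
  rw [Matrix.card_GL_field] at h1
  obtain ⟨i, -, hi⟩ := Prime.exists_mem_finset_dvd hr.out.prime h1
  have hin : (i : ℕ) < n := i.isLt
  have h2 : Fintype.card F ^ n - Fintype.card F ^ (i : ℕ) =
      Fintype.card F ^ (i : ℕ) * (Fintype.card F ^ (n - (i : ℕ)) - 1) := by
    rw [Nat.mul_sub_one, ← pow_add]
    congr 2
    omega
  rw [h2] at hi
  rcases (Nat.Prime.dvd_mul hr.out).mp hi with h3 | h3
  · exact absurd (hr.out.dvd_of_dvd_pow h3) hrq
  · have h4 := Elus.ord_dvd_of_dvd_sub_one r (Fintype.card F) (n - (i : ℕ)) Fintype.card_pos h3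
    have h5 := Nat.le_of_dvd (by omega) h4
    omega

theorem necessity {p : ℕ} [hp : Fact p.Prime] [CharP F p] (n a b : ℕ) (hab : n = a * b)
    (ha : 2 ≤ a) (hlt : a < b) (e : Fin n ≃ Fin a × Fin b) (P : GL (Fin n) F) (r : ℕ)
    [hr : Fact r.Prime]
    (hΩ : r ∣ (Cfsg.Geo.tensorProductSubgroup a b e P).relIndex
      (Cfsg.Geo.specialLinear (Fin n) F))
    (hall : ∀ x ∈ Cfsg.Geo.specialLinear (Fin n) F,
      (∃ z : F, ((x ^ r : GL (Fin n) F) : Matrix (Fin n) (Fin n) F) =
        z • (1 : Matrix (Fin n) (Fin n) F)) →
      (∀ z : F, (x : Matrix (Fin n) (Fin n) F) ≠ z • (1 : Matrix (Fin n) (Fin n) F)) →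
      ∃ g ∈ Cfsg.Geo.specialLinear (Fin n) F,
        g⁻¹ * x * g ∈ Cfsg.Geo.tensorProductSubgroup a b e P) :
    r = 2 ∧ a = 2 ∧ Odd (Fintype.card F) ∧
      padicValNat 2 (Fintype.card F - 1) ≤ padicValNat 2 n := by
  classical
  have hb3 : 3 ≤ b := by omega
  have hn6 : 6 ≤ n := by
    rw [hab]
    nlinarith
  have hnb : b < n := by
    rw [hab]
    nlinarith
  have han : a ∣ n := by
    rw [hab]
    exact dvd_mul_right a b
  have hbad := false_of_bad e P r hall
  by_cases hrp : r = p
  · exfalso
    subst hrp
    obtain ⟨y, hdet, hyp, hns, hker⟩ := exists_transv (F := F) (p := r) n (by omega)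
    refine hbad y hdet 1 hyp hns (not_tensConj_codim hab ha y 1 1 (by rw [hker]; omega) ?_)
    rw [hker]
    intro hdvd
    have h1 := Nat.dvd_sub han hdvd
    have h2 : n - (n - 1) = 1 := by omega
    rw [h2, Nat.dvd_one] at h1
    omega
  · by_cases hr2 : r = 2
    · subst hr2
      have hp2 : p ≠ 2 := fun h => hrp h.symm
      have h2F : (2 : F) ≠ 0 := SpInv.two_ne_zero_of_char (F := F) hp2
      have hodd : Odd (Fintype.card F) := Nat.odd_iff.mpr (SpInv.card_odd_of_char (F := F) hp2)
      by_cases ha2 : a = 2
      · by_cases hv : padicValNat 2 (Fintype.card F - 1) ≤ padicValNat 2 n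
        · exact ⟨rfl, ha2, hodd, hv⟩
        · exfalso
          push Not at hv
          obtain ⟨y, w, hdet, hyy, hns, hk⟩ :=
            Fld.exists_refl_elt (F := F) (p := p) n (by omega) hv
          refine hbad y hdet (w * w) hyy hns
            (not_tensConj_codim hab ha y w w (by rw [hk]; omega) ?_)
          rw [hk, ha2]
          rw [ha2] at hab
          omega
      · exfalso
        have hm1 : (-1 : F) ≠ 1 := by
          intro h
          apply h2F
          linear_combination -h
        obtain ⟨y, hdet, hyr, hns, hk1, -⟩ := exists_diag_pair (-1 : F) 2 two_ne_zero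
          (by norm_num) hm1 n (by omega)
        refine hbad y hdet 1 hyr hns
          (not_tensConj_codim hab ha y 1 1 (by rw [hk1]; omega) ?_)
        rw [hk1]
        intro hdvd
        have h1 := Nat.dvd_sub han hdvd
        have h2 : n - (n - 2) = 2 := by omega
        rw [h2] at h1
        have h3 := Nat.le_of_dvd (by norm_num) h1
        omega
    · exfalso
      have hrq : ¬ r ∣ Fintype.card F := Elus.not_dvd_card_of_ne (F := F) r hrp
      obtain ⟨d, hd⟩ : ∃ d, d = orderOf ((Fintype.card F : ℕ) : ZMod r) := ⟨_, rfl⟩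
      have hdn : d ≤ n := by
        rw [hd]
        exact ord_le_of_dvd_relIndex n _ r hrp hΩ
      have hdpos : 0 < d := by
        rw [hd]
        exact Elus.ord_pos r (Fintype.card F) hrq
      by_cases hd1 : d = 1
      · have hrq1 : r ∣ Fintype.card F - 1 :=
          (Elus.ord_eq_one_iff r (Fintype.card F) Fintype.card_pos).mp (by rw [← hd, hd1])
        obtain ⟨lam, hlam⟩ := Sfr.exists_elt_of_order (F := F) r hrq1
        have hlr : lam ^ r = 1 := by
          rw [← hlam]
          exact pow_orderOf_eq_one lam
        have hl1 : lam ≠ 1 := by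
          rintro rfl
          rw [orderOf_one] at hlam
          exact hr.out.one_lt.ne hlam
        have hll : lam * lam ≠ 1 := by
          intro h
          have h1 : orderOf lam ∣ 2 := orderOf_dvd_of_pow_eq_one (by rw [pow_two]; exact h)
          rw [hlam] at h1
          have h2 := Nat.le_of_dvd (by norm_num) h1
          have h3 := hr.out.two_le
          omega
        obtain ⟨y, hdet, hyr, hns, hk1, hk2⟩ := exists_diag_pair lam r hr.out.ne_zero hlr hl1 n
          (by omega)
        refine hbad y hdet 1 hyr hns
          (not_tensConj_codim hab ha y 1 lam (by rw [hk1]; omega) ?_)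
        rw [hk2 hll, Nat.dvd_one]
        omega
      · have hd2 : 2 ≤ d := by omega
        obtain ⟨f₀, -, hf₀⟩ := FiniteField.card F p
        obtain ⟨y, hyr, hk⟩ := Imp.exists_ss_map' (F := F) hf₀ r hrp n (n - d) 1
          (by rw [← hd]; exact hd2) (by rw [← hd]; omega)
        have hrq1 : ¬ r ∣ Fintype.card F - 1 := by
          intro h
          have h1 := (Elus.ord_eq_one_iff r (Fintype.card F) Fintype.card_pos).mpr h
          rw [← hd] at h1
          exact hd1 h1
        have hdet : LinearMap.det y = 1 :=
          Elus.eq_one_of_pow r hrq1 _ (by rw [← map_pow, hyr, map_one])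
        have hns : ∀ c : F, y ≠ c • 1 := by
          intro c hc
          have h1 : c ^ r = 1 := by
            apply Elus.smul_one_inj (n := n) (by omega)
            have h0 : (c • (1 : Module.End F (Fin n → F))) ^ r = c ^ r • 1 := by
              rw [smul_pow, one_pow]
            rw [one_smul, ← h0, ← hc]
            exact hyr
          have h2 := Elus.eq_one_of_pow r hrq1 c h1
          rw [h2, one_smul] at hc
          rw [hc, sub_self, LinearMap.ker_zero, finrank_top, Module.finrank_fin_fun] at hk
          omega
        refine hbad y hdet 1 (by rw [hyr, one_smul]) hns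
          (not_tensConj_ss hab ha hlt r hrp y hyr (by rw [← hd]; exact hd2) ?_)
        rw [hk, ← hd]
        omega

end Cfsg.Agent.Lib.Helper2.Tns
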