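import Mathlib
import Cfsg.Agent.Lib.Helper2.TnsD
import Cfsg.Agent.Lib.Helper2.SfrF
set_option autoImplicit false
set_option maxHeartbeats 1000000
set_option linter.unusedVariables false
set_option linter.unusedSectionVars false
set_option linter.style.longLine false
set_option linter.unusedSimpArgs false
set_option linter.deprecated false
set_option linter.style.haveILetI false

/-! Elements of prime order of `PSL_n(q)` and stabilizers of tensor decompositions (part E):
the sufficiency direction. -/

namespace Cfsg.Agent.Lib.Helper2.Tns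

open Module
open scoped Kronecker Matrix MatrixGroups

universe u v v'

section Split

variable {F : Type u} [Field F] {V : Type v} [AddCommGroup V] [Module F V]
  [FiniteDimensional F V] {V' : Type v'} [AddCommGroup V'] [Module F V'] [FiniteDimensional F V']

omit [FiniteDimensional F V] in
theorem mem_ker_sub (y : Module.End F V) (w : F) (x : V) :
    x ∈ LinearMap.ker (y - w • 1) ↔ y x = w • x := by
  rw [LinearMap.mem_ker, LinearMap.sub_apply, LinearMap.smul_apply, Module.End.one_apply,
    sub_eq_zero]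

omit [FiniteDimensional F V] in
theorem mem_ker_add (y : Module.End F V) (w : F) (x : V) :
    x ∈ LinearMap.ker (y + w • 1) ↔ y x = (-w) • x := by
  rw [LinearMap.mem_ker, LinearMap.add_apply, LinearMap.smul_apply, Module.End.one_apply,
    neg_smul, eq_neg_iff_add_eq_zero]

/-- two operators with the same square `w²` and the same eigenspace dimensions are conjugate -/
theorem conj_split (h2 : (2 : F) ≠ 0) (y : Module.End F V) (y' : Module.End F V') (w : F)
    (hw : w ≠ 0) (hy : ∀ u, y (y u) = (w * w) • u) (hy' : ∀ u, y' (y' u) = (w * w) • u)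
    (hfin : finrank F V = finrank F V')
    (hm : finrank F (LinearMap.ker (y + w • 1)) = finrank F (LinearMap.ker (y' + w • 1))) :
    ∃ g : V ≃ₗ[F] V', ∀ u, g (y u) = y' (g u) := by
  obtain ⟨-, -, hPC, -, -⟩ := SpInv.split_data y w hw h2 hy
  obtain ⟨-, -, hPC', -, -⟩ := SpInv.split_data y' w hw h2 hy'
  have hsum := Submodule.finrank_add_eq_of_isCompl hPC
  have hsum' := Submodule.finrank_add_eq_of_isCompl hPC'
  have hp : finrank F (LinearMap.ker (y - w • 1)) = finrank F (LinearMap.ker (y' - w • 1)) := by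
    omega
  obtain ⟨gp⟩ : Nonempty (↥(LinearMap.ker (y - w • 1)) ≃ₗ[F] ↥(LinearMap.ker (y' - w • 1))) :=
    ⟨LinearEquiv.ofFinrankEq _ _ hp⟩
  obtain ⟨gm⟩ : Nonempty (↥(LinearMap.ker (y + w • 1)) ≃ₗ[F] ↥(LinearMap.ker (y' + w • 1))) :=
    ⟨LinearEquiv.ofFinrankEq _ _ hm⟩
  obtain ⟨g, hgdef⟩ : ∃ g : V ≃ₗ[F] V', g = ((Submodule.prodEquivOfIsCompl _ _ hPC).symm.trans
      (gp.prodCongr gm)).trans (Submodule.prodEquivOfIsCompl _ _ hPC') := ⟨_, rfl⟩
  have hg : ∀ (p : ↥(LinearMap.ker (y - w • 1))) (c : ↥(LinearMap.ker (y + w • 1))),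
      g (Submodule.prodEquivOfIsCompl _ _ hPC (p, c)) = ((gp p : V') + (gm c : V')) := by
    intro p c
    rw [hgdef, LinearEquiv.trans_apply, LinearEquiv.trans_apply, LinearEquiv.symm_apply_apply,
      LinearEquiv.prodCongr_apply, Submodule.coe_prodEquivOfIsCompl']
  refine ⟨g, ?_⟩
  intro u
  obtain ⟨⟨p, c⟩, rfl⟩ := (Submodule.prodEquivOfIsCompl _ _ hPC).surjective u
  have hp1 := (mem_ker_sub y w p.1).mp p.2
  have hc1 := (mem_ker_add y w c.1).mp c.2
  have hp2 := (mem_ker_sub y' w (gp p).1).mp (gp p).2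
  have hc2 := (mem_ker_add y' w (gm c).1).mp (gm c).2
  have hyu : y (Submodule.prodEquivOfIsCompl _ _ hPC (p, c)) =
      Submodule.prodEquivOfIsCompl _ _ hPC (w • p, (-w) • c) := by
    rw [Submodule.coe_prodEquivOfIsCompl', Submodule.coe_prodEquivOfIsCompl', map_add, hp1, hc1,
      Submodule.coe_smul, Submodule.coe_smul]
  rw [hyu, hg, hg, map_add, map_smul, map_smul, Submodule.coe_smul, Submodule.coe_smul]
  exact (congrArg₂ (· + ·) hp2 hc2).symm

end Split

section Suff

variable {F : Type u} [Field F] [Fintype F]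

theorem sufficiency {p : ℕ} [hp : Fact p.Prime] [CharP F p] (n b : ℕ) (hab : n = 2 * b)
    (hb : 1 ≤ b) (e : Fin n ≃ Fin 2 × Fin b) (P : GL (Fin n) F)
    (hodd : Odd (Fintype.card F))
    (hv : padicValNat 2 (Fintype.card F - 1) ≤ padicValNat 2 n)
    (x : GL (Fin n) F) (hx : x ∈ Cfsg.Geo.specialLinear (Fin n) F) (z : F)
    (hxz : ((x ^ 2 : GL (Fin n) F) : Matrix (Fin n) (Fin n) F) =
      z • (1 : Matrix (Fin n) (Fin n) F)) :
    ∃ g ∈ Cfsg.Geo.specialLinear (Fin n) F,
      g⁻¹ * x * g ∈ Cfsg.Geo.tensorProductSubgroup 2 b e P := by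
  classical
  have hn0 : 0 < n := by omega
  haveI : Nonempty (Fin n) := ⟨⟨0, hn0⟩⟩
  have h2F : (2 : F) ≠ 0 := by
    have hr1 : 2 ∣ Fintype.card F - 1 := by
      obtain ⟨t, ht⟩ := hodd
      exact ⟨t, by omega⟩
    have hp2 : p ≠ 2 := SpInv.char_ne_two_of_dvd (F := F) (p := p) hr1
    exact SpInv.two_ne_zero_of_char (F := F) (p := p) hp2
  obtain ⟨y, hydef⟩ : ∃ y : Module.End F (Fin n → F),
      y = Matrix.toLin' (x : Matrix (Fin n) (Fin n) F) := ⟨_, rfl⟩
  have hyy : y ^ 2 = z • 1 := by
    rw [hydef, ← Matrix.toLin'_pow, ← Units.val_pow_eq_pow_val, hxz, Elus.toLin'_smul_one]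
  have hy2 : ∀ u, y (y u) = z • u := by
    intro u
    have h1 := LinearMap.congr_fun hyy u
    rw [pow_two, Module.End.mul_apply, LinearMap.smul_apply, Module.End.one_apply] at h1
    exact h1
  have hdet : LinearMap.det y = 1 := by
    rw [hydef, LinearMap.det_toLin']
    unfold Cfsg.Geo.specialLinear at hx
    rw [MonoidHom.mem_ker] at hx
    rw [← Matrix.GeneralLinearGroup.val_det_apply, hx, Units.val_one]
  have hz0 : z ≠ 0 := by
    rintro rfl
    have h1 : LinearMap.det (y ^ 2) = 0 := by
      rw [hyy, zero_smul, LinearMap.det_zero' (Pi.basisFun F (Fin n))]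
    rw [map_pow, hdet, one_pow] at h1
    exact one_ne_zero h1
  have hss : y.IsSemisimple := by
    apply Module.End.isSemisimple_of_squarefree_aeval_eq_zero
      (p := (Polynomial.X ^ 2 - Polynomial.C z : Polynomial F))
    · exact (Polynomial.separable_X_pow_sub_C z (by exact_mod_cast h2F) hz0).squarefree
    · rw [map_sub, map_pow, Polynomial.aeval_X, Polynomial.aeval_C, hyy,
        Algebra.algebraMap_eq_smul_one, sub_self]
  have hcent : ∀ δ : F, δ ≠ 0 → ∃ h : Module.End F (Fin n → F),
      h * Matrix.toLin' (x : Matrix (Fin n) (Fin n) F) =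
        Matrix.toLin' (x : Matrix (Fin n) (Fin n) F) * h ∧ LinearMap.det h = δ := by
    intro δ _
    rw [← hydef]
    exact Sfr.exists_cent_det y hss δ
  have hfinV' : finrank F (Fin 2 × Fin b → F) = n := by
    rw [Module.finrank_fintype_fun_eq_card, Fintype.card_prod, Fintype.card_fin, Fintype.card_fin,
      hab]
  by_cases hsq : ∃ w : F, w * w = z
  · obtain ⟨w, rfl⟩ := hsq
    have hw0 : w ≠ 0 := by
      rintro rfl
      exact hz0 (mul_zero 0)
    have hww : w ≠ -w := by
      intro h
      have h1 : (2 : F) * w = 0 := by linear_combination h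
      rcases mul_eq_zero.mp h1 with h3 | h3
      · exact h2F h3
      · exact hw0 h3
    obtain ⟨hP, hC, hPC, hrP, hrC⟩ := SpInv.split_data y w hw0 h2F hy2
    have hXP : y.restrict hP = w • (1 : Module.End F (LinearMap.ker (y - w • 1))) :=
      LinearMap.ext (fun x => by
        rw [hrP, LinearMap.smul_apply, Module.End.one_apply])
    have hXC : y.restrict hC = (-w) • (1 : Module.End F (LinearMap.ker (y + w • 1))) :=
      LinearMap.ext (fun x => by
        rw [hrC, LinearMap.smul_apply, Module.End.one_apply])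
    have hdetP : LinearMap.det (y.restrict hP) = w ^ finrank F (LinearMap.ker (y - w • 1)) := by
      rw [hXP, LinearMap.det_smul, map_one, mul_one]
    have hdetC : LinearMap.det (y.restrict hC) =
        (-w) ^ finrank F (LinearMap.ker (y + w • 1)) := by
      rw [hXC, LinearMap.det_smul, map_one, mul_one]
    have hdd := SpInv.det_isCompl hPC y hP hC
    rw [hdet, hdetP, hdetC] at hdd
    have hsum := Submodule.finrank_add_eq_of_isCompl hPC
    rw [Module.finrank_fin_fun] at hsum
    have hevC : Even (finrank F (LinearMap.ker (y + w • 1))) := by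
      rw [← Nat.not_odd_iff_even]
      intro hoddC
      rw [hoddC.neg_pow, mul_neg, ← pow_add, hsum] at hdd
      exact SpInv.no_root_neg_one (F := F) h2F n hn0 hv w hw0 (by linear_combination hdd)
    obtain ⟨t, ht⟩ := hevC
    have htb : t ≤ b := by omega
    obtain ⟨D, hD⟩ : ∃ D : Fin b → F, D = fun k : Fin b => if (k : ℕ) < t then -w else w := ⟨_, rfl⟩
    have hD0 : ∀ k, D k ≠ 0 := by
      intro k
      rw [hD]
      by_cases hk : (k : ℕ) < t
      · simp only [if_pos hk]
        exact neg_ne_zero.mpr hw0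
      · simp only [if_neg hk]
        exact hw0
    have hDD : ∀ k, D k * D k = w * w := by
      intro k
      rw [hD]
      by_cases hk : (k : ℕ) < t
      · simp only [if_pos hk]
        ring
      · simp only [if_neg hk]
    obtain ⟨Bgl, hBgl⟩ : ∃ Bgl : GL (Fin b) F,
        (Bgl : Matrix (Fin b) (Fin b) F) = Matrix.diagonal D :=
      ⟨Matrix.GeneralLinearGroup.mkOfDetNeZero (Matrix.diagonal D) (by
        rw [Matrix.det_diagonal]
        exact Finset.prod_ne_zero_iff.mpr (fun k _ => hD0 k)), rfl⟩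
    obtain ⟨y', hy'def⟩ : ∃ y' : Module.End F (Fin 2 × Fin b → F),
        y' = Matrix.toLin' ((1 : Matrix (Fin 2) (Fin 2) F) ⊗ₖ Matrix.diagonal D) := ⟨_, rfl⟩
    have hy'2 : ∀ u, y' (y' u) = (w * w) • u := by
      intro u
      have h1 : y' * y' = (w * w) • 1 := by
        rw [hy'def, Module.End.mul_eq_comp, ← Matrix.toLin'_mul, ← Matrix.mul_kronecker_mul,
          one_mul, Matrix.diagonal_mul_diagonal]
        have h3 : (Matrix.diagonal fun i => D i * D i) =
            (w * w) • (1 : Matrix (Fin b) (Fin b) F) := by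
          rw [Matrix.smul_one_eq_diagonal]
          congr 1
          funext k
          exact hDD k
        rw [h3, Matrix.kronecker_smul, Matrix.one_kronecker_one, map_smul, Matrix.toLin'_one]
        rfl
      have h4 := LinearMap.congr_fun h1 u
      rw [Module.End.mul_apply, LinearMap.smul_apply, Module.End.one_apply] at h4
      exact h4
    have hm' : finrank F (LinearMap.ker (y' + w • 1)) = t + t := by
      have h1 : y' + w • 1 = y' - (-w) • 1 := by
        module
      rw [h1, hy'def, finrank_ker_one_kron, SpSl.finrank_ker_diag]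
      have h3 : Finset.univ.filter (fun k => D k = -w) =
          Finset.univ.filter (fun k : Fin b => (k : ℕ) < t) := by
        ext k
        rw [Finset.mem_filter, Finset.mem_filter, hD]
        constructor
        · rintro ⟨-, hk⟩
          refine ⟨Finset.mem_univ _, ?_⟩
          by_contra hkt
          simp only [if_neg hkt] at hk
          exact hww hk
        · rintro ⟨-, hk⟩
          refine ⟨Finset.mem_univ _, ?_⟩
          simp only [if_pos hk]
      rw [h3, Fin.card_filter_val_lt, min_eq_right htb]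
      ring
    obtain ⟨φ, hφ⟩ := conj_split h2F y y' w hw0 hy2 hy'2
      (by rw [Module.finrank_fin_fun, hfinV']) (by rw [hm', ht])
    refine exists_conj_mem e P x φ 1 Bgl ?_ hcent
    intro v
    rw [← hydef, hφ, hy'def, hBgl, Units.val_one]
  · push Not at hsq
    obtain ⟨A₀, hA₀⟩ : ∃ A₀ : Matrix (Fin 2) (Fin 2) F, A₀ = !![0, z; 1, 0] := ⟨_, rfl⟩
    have hA₀2 : A₀ * A₀ = z • 1 := by
      rw [hA₀]
      ext i j
      fin_cases i <;> fin_cases j <;> simp [Matrix.mul_apply, Fin.sum_univ_two]
    obtain ⟨Agl, hAgl⟩ : ∃ Agl : GL (Fin 2) F, (Agl : Matrix (Fin 2) (Fin 2) F) = A₀ :=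
      ⟨Matrix.GeneralLinearGroup.mkOfDetNeZero A₀ (by
        rw [hA₀, Matrix.det_fin_two_of]
        simpa using hz0), rfl⟩
    obtain ⟨y', hy'def⟩ : ∃ y' : Module.End F (Fin 2 × Fin b → F),
        y' = Matrix.toLin' (A₀ ⊗ₖ (1 : Matrix (Fin b) (Fin b) F)) := ⟨_, rfl⟩
    have hy'2 : ∀ u, y' (y' u) = (0 : F) • y' u + z • u := by
      intro u
      have h1 : y' * y' = z • 1 := by
        rw [hy'def, Module.End.mul_eq_comp, ← Matrix.toLin'_mul, ← Matrix.mul_kronecker_mul,
          one_mul, hA₀2,
          Matrix.smul_kronecker, Matrix.one_kronecker_one, map_smul, Matrix.toLin'_one]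
        rfl
      have h4 := LinearMap.congr_fun h1 u
      rw [Module.End.mul_apply, LinearMap.smul_apply, Module.End.one_apply] at h4
      rw [h4, zero_smul, zero_add]
    have hrel : ∀ u, y (y u) = (0 : F) • y u + z • u := by
      intro u
      rw [hy2, zero_smul, zero_add]
    obtain ⟨φ, hφ⟩ := Fld.conj_quad (F := F) 0 z (fun l hl => hsq l (by
      rw [hl, zero_mul, zero_add])) n (Fin n → F) (Fin 2 × Fin b → F) y y'
      (Module.finrank_fin_fun F) hfinV' hrel hy'2
    refine exists_conj_mem e P x φ Agl 1 ?_ hcent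
    intro v
    rw [← hydef, hφ, hy'def, hAgl, Units.val_one]

end Suff

end Cfsg.Agent.Lib.Helper2.Tns
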