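import Mathlib

set_option autoImplicit false

/-!
# Transfer of a right-free `T × T`-set (biset transfer)

A `T × T`-set `X` is viewed as a biset: `(a, s) • x = a x s⁻¹`.  When the right action is free,
choosing a section of the `1 × T`-orbits gives a homomorphism `tr : T →* Abelianization T`.
-/

namespace Cfsg.Agent.Lib.Helper2.Tr

open MulAction

/-- right freeness of a `T × T`-set -/
def RFree (T : Type*) [Group T] (X : Type*) [MulAction (T × T) X] : Prop :=
  ∀ (x : X) (s : T), (((1 : T), s) : T × T) • x = x → s = 1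

/-- a section of the orbits of `1 × T` -/
structure Sec (T : Type*) [Group T] (X : Type*) [MulAction (T × T) X] where
  σ : X → X
  mem : ∀ x, ∃ s : T, (((1 : T), s) : T × T) • x = σ x
  const : ∀ (x : X) (s : T), σ ((((1 : T), s) : T × T) • x) = σ x

section basic

variable {T : Type*} [Group T] {X : Type*} [MulAction (T × T) X]

theorem Sec.idem (σ : Sec T X) (x : X) : σ.σ (σ.σ x) = σ.σ x := by
  obtain ⟨s, hs⟩ := σ.mem x
  calc σ.σ (σ.σ x) = σ.σ ((((1 : T), s) : T × T) • x) := by rw [hs]
    _ = σ.σ x := σ.const x s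

theorem smul_comm_lr (a s : T) (x : X) :
    ((a, (1 : T)) : T × T) • (((1 : T), s) : T × T) • x
      = (((1 : T), s) : T × T) • ((a, (1 : T)) : T × T) • x := by
  rw [smul_smul, smul_smul]; simp

theorem Sec.sigma_smul_left (σ : Sec T X) (a : T) (x : X) :
    σ.σ (((a, (1 : T)) : T × T) • σ.σ x) = σ.σ (((a, (1 : T)) : T × T) • x) := by
  obtain ⟨s, hs⟩ := σ.mem x
  rw [← hs, smul_comm_lr, σ.const]

theorem exists_kap (σ : Sec T X) (a : T) (x : X) :
    ∃ u : T, ((a, u) : T × T) • x = σ.σ (((a, (1 : T)) : T × T) • x) := by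
  obtain ⟨s, hs⟩ := σ.mem (((a, (1 : T)) : T × T) • x)
  refine ⟨s, ?_⟩
  rw [← hs, smul_smul]; simp

/-- the cocycle of a section -/
noncomputable def kap (σ : Sec T X) (a : T) (x : X) : T := Classical.choose (exists_kap σ a x)

theorem kap_spec (σ : Sec T X) (a : T) (x : X) :
    ((a, kap σ a x) : T × T) • x = σ.σ (((a, (1 : T)) : T × T) • x) :=
  Classical.choose_spec (exists_kap σ a x)

theorem eq_of_smul_eq (hf : RFree T X) {a u v : T} {x : X}
    (h : ((a, u) : T × T) • x = ((a, v) : T × T) • x) : u = v := by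
  have h1 : (((1 : T), v⁻¹ * u) : T × T) • x = x := by
    have e : (((1 : T), v⁻¹ * u) : T × T) = ((a, v) : T × T)⁻¹ * (a, u) := by
      simp
    rw [e, mul_smul, h, inv_smul_smul]
  have := hf x _ h1
  exact (inv_mul_eq_one.mp this).symm

theorem kap_unique (hf : RFree T X) (σ : Sec T X) {a u : T} {x : X}
    (h : ((a, u) : T × T) • x = σ.σ (((a, (1 : T)) : T × T) • x)) : u = kap σ a x :=
  eq_of_smul_eq hf (h.trans (kap_spec σ a x).symm)

theorem kap_mul (hf : RFree T X) (σ : Sec T X) (a b : T) (x : X) :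
    kap σ (a * b) x = kap σ a (σ.σ (((b, (1 : T)) : T × T) • x)) * kap σ b x := by
  symm
  apply kap_unique hf
  have h1 := kap_spec σ b x
  have h2 := kap_spec σ a (σ.σ (((b, (1 : T)) : T × T) • x))
  have e : ((a * b, kap σ a (σ.σ (((b, (1 : T)) : T × T) • x)) * kap σ b x) : T × T)
      = (a, kap σ a (σ.σ (((b, (1 : T)) : T × T) • x))) * (b, kap σ b x) := by simp
  rw [e, mul_smul, h1, h2, σ.sigma_smul_left]
  congr 1
  rw [smul_smul]; simp

/-- representatives -/
abbrev Rep (σ : Sec T X) : Type _ := {x : X // σ.σ x = x}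

/-- the action of `a` on representatives -/
def ract (σ : Sec T X) (a : T) (r : Rep σ) : Rep σ :=
  ⟨σ.σ (((a, (1 : T)) : T × T) • r.1), σ.idem _⟩

theorem ract_one (σ : Sec T X) (r : Rep σ) : ract σ 1 r = r := by
  apply Subtype.ext
  show σ.σ ((((1 : T), (1 : T)) : T × T) • r.1) = r.1
  have h : (((1 : T), (1 : T)) : T × T) = 1 := rfl
  rw [h, one_smul]; exact r.2

theorem ract_mul (σ : Sec T X) (a b : T) (r : Rep σ) :
    ract σ (a * b) r = ract σ a (ract σ b r) := by
  apply Subtype.ext
  show σ.σ (((a * b, (1 : T)) : T × T) • r.1)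
    = σ.σ (((a, (1 : T)) : T × T) • σ.σ (((b, (1 : T)) : T × T) • r.1))
  rw [σ.sigma_smul_left, smul_smul]; simp

/-- `ract` as a permutation -/
def ractEquiv (σ : Sec T X) (a : T) : Rep σ ≃ Rep σ where
  toFun := ract σ a
  invFun := ract σ a⁻¹
  left_inv r := by rw [← ract_mul, inv_mul_cancel, ract_one]
  right_inv r := by rw [← ract_mul, mul_inv_cancel, ract_one]

theorem card_rep_mul (hf : RFree T X) (σ : Sec T X) :
    Nat.card (Rep σ) * Nat.card T = Nat.card X := by
  rw [← Nat.card_prod]
  apply Nat.card_congr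
  refine Equiv.ofBijective (fun rs : Rep σ × T => (((1 : T), rs.2) : T × T) • rs.1.1) ⟨?_, ?_⟩
  · rintro ⟨r, s⟩ ⟨r', s'⟩ h
    simp only at h
    have h1 : r = r' := by
      apply Subtype.ext
      have := congrArg σ.σ h
      rw [σ.const, σ.const, r.2, r'.2] at this
      exact this
    subst h1
    have h2 : s = s' := eq_of_smul_eq hf h
    rw [h2]
  · intro x
    obtain ⟨s, hs⟩ := σ.mem x
    refine ⟨(⟨σ.σ x, σ.idem x⟩, s⁻¹), ?_⟩
    show (((1 : T), s⁻¹) : T × T) • σ.σ x = x
    rw [← hs, smul_smul]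
    have e : ((((1 : T), s⁻¹) : T × T) * ((1 : T), s)) = 1 := by
      rw [Prod.mk_mul_mk, inv_mul_cancel, one_mul]; rfl
    rw [e, one_smul]

end basic

section transfer

variable {T : Type*} [Group T] {X : Type*} [MulAction (T × T) X] [Finite X]

noncomputable instance repFintype (σ : Sec T X) : Fintype (Rep σ) := Fintype.ofFinite _

/-- the transfer of a right-free biset with respect to a section -/
noncomputable def tr (hf : RFree T X) (σ : Sec T X) : T →* Abelianization T where
  toFun a := ∏ r : Rep σ, Abelianization.of (kap σ a r.1)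
  map_one' := by
    apply Finset.prod_eq_one
    intro r _
    have h1 : (1 : T) = kap σ 1 r.1 := by
      apply kap_unique hf
      have h : (((1 : T), (1 : T)) : T × T) = 1 := rfl
      rw [h, one_smul, r.2]
    rw [← h1, map_one]
  map_mul' a b := by
    simp only [kap_mul hf σ a b, map_mul, Finset.prod_mul_distrib]
    congr 1
    exact (ractEquiv σ b).prod_comp (fun r => Abelianization.of (kap σ a r.1))

theorem tr_apply (hf : RFree T X) (σ : Sec T X) (a : T) :
    tr hf σ a = ∏ r : Rep σ, Abelianization.of (kap σ a r.1) := rfl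

/-- comparison of representatives of two sections -/
def repEquiv (σ σ' : Sec T X) : Rep σ ≃ Rep σ' where
  toFun r := ⟨σ'.σ r.1, σ'.idem _⟩
  invFun r := ⟨σ.σ r.1, σ.idem _⟩
  left_inv r := by
    apply Subtype.ext
    show σ.σ (σ'.σ r.1) = r.1
    obtain ⟨s, hs⟩ := σ'.mem r.1
    rw [← hs, σ.const, r.2]
  right_inv r := by
    apply Subtype.ext
    show σ'.σ (σ.σ r.1) = r.1
    obtain ⟨s, hs⟩ := σ.mem r.1
    rw [← hs, σ'.const, r.2]

theorem tr_indep (hf : RFree T X) (σ σ' : Sec T X) : tr hf σ = tr hf σ' := by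
  apply MonoidHom.ext
  intro a
  rw [tr_apply, tr_apply]
  -- the comparison elements
  have hu : ∀ r : Rep σ, ∃ u : T, (((1 : T), u) : T × T) • r.1 = σ'.σ r.1 := fun r => σ'.mem r.1
  choose u hu using hu
  have key : ∀ r : Rep σ, kap σ' a (σ'.σ r.1) = u (ract σ a r) * kap σ a r.1 * (u r)⁻¹ := by
    intro r
    symm
    apply kap_unique hf
    have e1 : σ'.σ (((a, (1 : T)) : T × T) • σ'.σ r.1) = σ'.σ (ract σ a r).1 := by
      rw [σ'.sigma_smul_left]
      show _ = σ'.σ (σ.σ (((a, (1 : T)) : T × T) • r.1))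
      obtain ⟨s, hs⟩ := σ.mem (((a, (1 : T)) : T × T) • r.1)
      rw [← hs, σ'.const]
    rw [e1, ← hu (ract σ a r), ← hu r, smul_smul]
    show _ = (((1 : T), u (ract σ a r)) : T × T) • σ.σ (((a, (1 : T)) : T × T) • r.1)
    rw [← kap_spec σ a r.1, smul_smul]
    congr 1
    simp
  calc ∏ r : Rep σ, Abelianization.of (kap σ a r.1)
      = ∏ r : Rep σ, Abelianization.of (u (ract σ a r) * kap σ a r.1 * (u r)⁻¹) := by
        have h1 : ∏ r : Rep σ, Abelianization.of (u (ract σ a r))
            = ∏ r : Rep σ, Abelianization.of (u r) :=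
          (ractEquiv σ a).prod_comp (fun r => Abelianization.of (u r))
        simp only [map_mul, map_inv, Finset.prod_mul_distrib, Finset.prod_inv_distrib, h1]
        rw [mul_comm (∏ r : Rep σ, Abelianization.of (u r)), mul_inv_cancel_right]
    _ = ∏ r : Rep σ, Abelianization.of (kap σ' a (repEquiv σ σ' r).1) := by
        apply Finset.prod_congr rfl
        intro r _
        rw [← key r]
        rfl
    _ = ∏ r : Rep σ', Abelianization.of (kap σ' a r.1) :=
        (repEquiv σ σ').prod_comp (fun r => Abelianization.of (kap σ' a r.1))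

/-- twisting invariance: a bijection intertwining `a` with `b` and commuting with the right
action forces equal transfers -/
theorem tr_eq_of_twist (hf : RFree T X) (σ : Sec T X) (θ : X ≃ X) (a b : T)
    (h1 : ∀ x, θ (((a, (1 : T)) : T × T) • x) = ((b, (1 : T)) : T × T) • θ x)
    (h2 : ∀ (s : T) (x : X), θ ((((1 : T), s) : T × T) • x) = (((1 : T), s) : T × T) • θ x) :
    tr hf σ a = tr hf σ b := by
  have h2' : ∀ (s : T) (y : X), θ.symm ((((1 : T), s) : T × T) • y)
      = (((1 : T), s) : T × T) • θ.symm y := by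
    intro s y
    rw [Equiv.symm_apply_eq, h2, Equiv.apply_symm_apply]
  let σ' : Sec T X :=
    { σ := fun y => θ (σ.σ (θ.symm y))
      mem := by
        intro y
        obtain ⟨s, hs⟩ := σ.mem (θ.symm y)
        refine ⟨s, ?_⟩
        rw [← hs, h2, Equiv.apply_symm_apply]
      const := by
        intro y s
        show θ (σ.σ (θ.symm _)) = θ (σ.σ (θ.symm y))
        rw [h2', σ.const] }
  have hk : ∀ x : X, kap σ' b (θ x) = kap σ a x := by
    intro x
    symm
    apply kap_unique hf
    show _ = θ (σ.σ (θ.symm _))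
    rw [← h1, Equiv.symm_apply_apply, ← kap_spec σ a x]
    have e : ((b, kap σ a x) : T × T) = (((1 : T), kap σ a x) : T × T) * (b, (1 : T)) := by simp
    have e' : ((a, kap σ a x) : T × T) = (((1 : T), kap σ a x) : T × T) * (a, (1 : T)) := by simp
    rw [e, e', mul_smul, mul_smul, h2, h1]
  let e : Rep σ ≃ Rep σ' :=
    { toFun := fun r => ⟨θ r.1, by
        show θ (σ.σ (θ.symm (θ r.1))) = θ r.1
        rw [Equiv.symm_apply_apply, r.2]⟩
      invFun := fun r => ⟨θ.symm r.1, by
        have := r.2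
        have h : θ (σ.σ (θ.symm r.1)) = r.1 := this
        rw [← Equiv.eq_symm_apply] at h
        exact h⟩
      left_inv := fun r => Subtype.ext (Equiv.symm_apply_apply θ r.1)
      right_inv := fun r => Subtype.ext (Equiv.apply_symm_apply θ r.1) }
  calc tr hf σ a = ∏ r : Rep σ, Abelianization.of (kap σ a r.1) := rfl
    _ = ∏ r : Rep σ, Abelianization.of (kap σ' b (e r).1) := by
        apply Finset.prod_congr rfl
        intro r _
        rw [← hk r.1]
        rfl
    _ = ∏ r : Rep σ', Abelianization.of (kap σ' b r.1) :=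
        e.prod_comp (fun r => Abelianization.of (kap σ' b r.1))
    _ = tr hf σ' b := rfl
    _ = tr hf σ b := by rw [tr_indep hf σ σ']

end transfer

end Cfsg.Agent.Lib.Helper2.Tr
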