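import Mathlib

set_option autoImplicit false

/-!
# Marks of finite `H`-sets: equal marks give an equivariant bijection
-/

namespace Cfsg.Agent.Lib.Helper2.Tr

open MulAction

section marks

variable {H : Type*} [Group H]

/-- the mark (number of fixed points) of a subgroup on an `H`-set -/
noncomputable def mark (X : Type*) [MulAction H X] (K : Subgroup H) : ℕ :=
  Nat.card (MulAction.fixedPoints K X)

theorem mem_fixedPoints_subgroup {X : Type*} [MulAction H X] (K : Subgroup H) (x : X) :
    x ∈ MulAction.fixedPoints K X ↔ K ≤ MulAction.stabilizer H x := by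
  constructor
  · intro h k hk
    exact h ⟨k, hk⟩
  · intro h k
    exact h k.2

theorem mark_bot (Z : Type*) [MulAction H Z] : mark Z (⊥ : Subgroup H) = Nat.card Z := by
  unfold mark
  apply Nat.card_congr
  refine (Equiv.subtypeUnivEquiv ?_)
  intro z
  rw [mem_fixedPoints_subgroup]
  exact bot_le

/-- number of points with a given stabilizer -/
noncomputable def eX (X : Type*) [MulAction H X] (K : Subgroup H) : ℕ :=
  Nat.card {x : X // MulAction.stabilizer H x = K}

open scoped Classical in
theorem mark_split [Finite H] {X : Type*} [MulAction H X] [Finite X] [Fintype (Subgroup H)]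
    (K : Subgroup H) :
    mark X K = eX X K + ∑ K' ∈ Finset.univ.filter (fun K' : Subgroup H => K < K'), eX X K' := by
  haveI := Fintype.ofFinite X
  have h1 : mark X K = (Finset.univ.filter (fun x : X => K ≤ stabilizer H x)).card := by
    unfold mark
    rw [Nat.card_congr (Equiv.subtypeEquivRight (mem_fixedPoints_subgroup K)),
      Nat.card_eq_fintype_card, Fintype.card_subtype]
  have h2 : ∀ K' : Subgroup H,
      eX X K' = (Finset.univ.filter (fun x : X => stabilizer H x = K')).card := by
    intro K'
    unfold eX
    rw [Nat.card_eq_fintype_card, Fintype.card_subtype]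
  have h3 := Finset.card_eq_sum_card_fiberwise (f := fun x : X => stabilizer H x)
    (s := Finset.univ.filter (fun x : X => K ≤ stabilizer H x))
    (t := Finset.univ.filter (fun K' : Subgroup H => K ≤ K'))
    (by intro x hx; simpa using hx)
  have h4 : ∀ b ∈ Finset.univ.filter (fun K' : Subgroup H => K ≤ K'),
      ((Finset.univ.filter (fun x : X => K ≤ stabilizer H x)).filter
        (fun x => stabilizer H x = b)).card = eX X b := by
    intro b hb
    rw [h2]
    congr 1
    ext x
    simp only [Finset.mem_filter, Finset.mem_univ, true_and]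
    constructor
    · exact fun h => h.2
    · intro h
      refine ⟨?_, h⟩
      rw [h]
      simpa using hb
  rw [Finset.sum_congr rfl h4] at h3
  have h5 : Finset.univ.filter (fun K' : Subgroup H => K ≤ K')
      = insert K (Finset.univ.filter (fun K' : Subgroup H => K < K')) := by
    ext K'
    simp only [Finset.mem_filter, Finset.mem_univ, true_and, Finset.mem_insert]
    rw [le_iff_eq_or_lt, eq_comm]
  rw [h5, Finset.sum_insert (by simp)] at h3
  rw [h1, h3]

theorem card_lt_of_lt [Finite H] {K K' : Subgroup H} (h : K < K') : Nat.card K < Nat.card K' := by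
  by_contra hc
  push_neg at hc
  exact h.ne (Subgroup.eq_of_le_of_card_ge h.le hc)

theorem eX_eq_of_mark_eq [Finite H] {X Y : Type*} [MulAction H X] [MulAction H Y] [Finite X]
    [Finite Y] (hm : ∀ K : Subgroup H, mark X K = mark Y K) (K : Subgroup H) :
    eX X K = eX Y K := by
  classical
  haveI : Fintype (Subgroup H) := Fintype.ofFinite _
  have main : ∀ n : ℕ, ∀ K : Subgroup H, Nat.card H - Nat.card K = n → eX X K = eX Y K := by
    intro n
    induction n using Nat.strong_induction_on with
    | _ n ih =>
      intro K hK
      have hX := mark_split (X := X) K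
      have hY := mark_split (X := Y) K
      have hs : ∑ K' ∈ Finset.univ.filter (fun K' : Subgroup H => K < K'), eX X K'
          = ∑ K' ∈ Finset.univ.filter (fun K' : Subgroup H => K < K'), eX Y K' := by
        apply Finset.sum_congr rfl
        intro K' hK'
        simp only [Finset.mem_filter, Finset.mem_univ, true_and] at hK'
        have h1 := card_lt_of_lt hK'
        have h2 : Nat.card K' ≤ Nat.card H := Subgroup.card_le_card_group K'
        exact ih (Nat.card H - Nat.card K') (by omega) K' rfl
      have := hm K
      omega
  exact main _ K rfl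

end marks

section conj

variable {H : Type*} [Group H]

/-- conjugacy of subgroups, elementwise -/
def cj (K K' : Subgroup H) : Prop := ∃ h : H, ∀ x, x ∈ K' ↔ h⁻¹ * x * h ∈ K

theorem cj_refl (K : Subgroup H) : cj K K := ⟨1, by simp⟩

theorem cj_symm {K K' : Subgroup H} (h : cj K K') : cj K' K := by
  obtain ⟨h, H'⟩ := h
  refine ⟨h⁻¹, fun x => ?_⟩
  rw [H']
  simp [mul_assoc]

theorem cj_trans {K K' K'' : Subgroup H} (h1 : cj K K') (h2 : cj K' K'') : cj K K'' := by
  obtain ⟨h, H1⟩ := h1
  obtain ⟨g, H2⟩ := h2
  refine ⟨g * h, fun x => ?_⟩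
  rw [H2, H1]
  simp [mul_assoc]

theorem cj_card {K K' : Subgroup H} (h : cj K K') : Nat.card K = Nat.card K' := by
  obtain ⟨h, H'⟩ := h
  apply Nat.card_congr
  exact
    { toFun := fun k => ⟨h * k.1 * h⁻¹, (H' _).mpr (by simpa [mul_assoc] using k.2)⟩
      invFun := fun k => ⟨h⁻¹ * k.1 * h, (H' _).mp k.2⟩
      left_inv := fun k => Subtype.ext (by simp [mul_assoc])
      right_inv := fun k => Subtype.ext (by simp [mul_assoc]) }

/-- the conjugacy setoid on subgroups -/
def csetoid (H : Type*) [Group H] : Setoid (Subgroup H) :=
  ⟨cj, ⟨cj_refl, cj_symm, cj_trans⟩⟩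

/-- a chosen representative of the conjugacy class -/
noncomputable def rep (K : Subgroup H) : Subgroup H := (Quotient.mk (csetoid H) K).out

theorem cj_rep (K : Subgroup H) : cj (rep K) K := Quotient.mk_out (s := csetoid H) K

theorem rep_eq {K K' : Subgroup H} (h : cj K K') : rep K = rep K' :=
  congrArg Quotient.out (Quotient.sound (s := csetoid H) h)

theorem rep_rep (K : Subgroup H) : rep (rep K) = rep K := rep_eq (cj_rep K)

theorem cj_stabilizer {X : Type*} [MulAction H X] (h : H) (x : X) :
    cj (stabilizer H x) (stabilizer H (h • x)) := by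
  refine ⟨h, fun g => ?_⟩
  rw [mem_stabilizer_iff, mem_stabilizer_iff, mul_smul, mul_smul, inv_smul_eq_iff]

end conj

section iso

variable {H : Type*} [Group H]

/-- the conjugacy type of an orbit -/
noncomputable def kty (X : Type*) [MulAction H X] (o : orbitRel.Quotient H X) : Subgroup H :=
  rep (stabilizer H o.out)

theorem exists_smul_out {X : Type*} [MulAction H X] (x : X) :
    ∃ h : H, h • x = (Quotient.mk (orbitRel H X) x).out := by
  have := Quotient.mk_out (s := orbitRel H X) x
  rw [orbitRel_apply, mem_orbit_iff] at this
  exact this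

theorem kty_mk {X : Type*} [MulAction H X] (x : X) :
    kty X (Quotient.mk (orbitRel H X) x) = rep (stabilizer H x) := by
  obtain ⟨h, hh⟩ := exists_smul_out (H := H) x
  unfold kty
  rw [← hh]
  exact (rep_eq (cj_stabilizer h x)).symm

open scoped Classical in
theorem card_fiber_kty [Finite H] {X : Type*} [MulAction H X] [Finite X] (K0 : Subgroup H) :
    Nat.card {x : X // rep (stabilizer H x) = K0} * Nat.card K0
      = Nat.card {o : orbitRel.Quotient H X // kty X o = K0} * Nat.card H := by
  haveI := Fintype.ofFinite X
  haveI := Fintype.ofFinite H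
  haveI : Fintype (orbitRel.Quotient H X) := Fintype.ofFinite _
  have hL : Nat.card {x : X // rep (stabilizer H x) = K0}
      = (Finset.univ.filter (fun x : X => rep (stabilizer H x) = K0)).card := by
    rw [Nat.card_eq_fintype_card, Fintype.card_subtype]
  have hR : Nat.card {o : orbitRel.Quotient H X // kty X o = K0}
      = (Finset.univ.filter (fun o : orbitRel.Quotient H X => kty X o = K0)).card := by
    rw [Nat.card_eq_fintype_card, Fintype.card_subtype]
  rw [hL, hR]
  have h3 := Finset.card_eq_sum_card_fiberwise (f := fun x : X => Quotient.mk (orbitRel H X) x)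
    (s := Finset.univ.filter (fun x : X => rep (stabilizer H x) = K0))
    (t := Finset.univ.filter (fun o : orbitRel.Quotient H X => kty X o = K0))
    (by
      intro x hx
      have hx' := Finset.mem_coe.mp hx
      apply Finset.mem_coe.mpr
      rw [Finset.mem_filter] at hx' ⊢
      exact ⟨Finset.mem_univ _, by rw [kty_mk]; exact hx'.2⟩)
  rw [h3, Finset.sum_mul]
  have hf : ∀ o ∈ Finset.univ.filter (fun o : orbitRel.Quotient H X => kty X o = K0),
      ((Finset.univ.filter (fun x : X => rep (stabilizer H x) = K0)).filter
        (fun x => Quotient.mk (orbitRel H X) x = o)).card * Nat.card K0 = Nat.card H := by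
    intro o ho
    simp only [Finset.mem_filter, Finset.mem_univ, true_and] at ho
    have h4 : (Finset.univ.filter (fun x : X => rep (stabilizer H x) = K0)).filter
        (fun x => Quotient.mk (orbitRel H X) x = o)
        = Finset.univ.filter (fun x : X => Quotient.mk (orbitRel H X) x = o) := by
      ext x
      simp only [Finset.mem_filter, Finset.mem_univ, true_and]
      constructor
      · exact fun h => h.2
      · intro h
        refine ⟨?_, h⟩
        rw [← kty_mk, h]; exact ho
    have e2 : {x : X // Quotient.mk (orbitRel H X) x = o} ≃ orbit H o.out :=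
      Equiv.subtypeEquivRight (fun x => by
        rw [← orbitRel_apply]
        constructor
        · intro h
          have : Quotient.mk (orbitRel H X) x = Quotient.mk (orbitRel H X) o.out := by
            rw [h, Quotient.out_eq]
          exact Quotient.exact this
        · intro h
          have := Quotient.sound (s := orbitRel H X) h
          rw [this, Quotient.out_eq])
    have h3 : Nat.card K0 = Nat.card (stabilizer H o.out) := by
      unfold kty at ho
      rw [← ho]
      exact cj_card (cj_rep _)
    rw [h4, ← Fintype.card_subtype, Fintype.card_congr e2, h3, Nat.card_eq_fintype_card,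
      Nat.card_eq_fintype_card]
    exact card_orbit_mul_card_stabilizer_eq_card_group H o.out
  rw [Finset.sum_congr rfl hf, Finset.sum_const, smul_eq_mul]

open scoped Classical in
theorem card_rep_fiber [Finite H] {X : Type*} [MulAction H X] [Finite X] [Fintype (Subgroup H)]
    (K0 : Subgroup H) :
    Nat.card {x : X // rep (stabilizer H x) = K0}
      = ∑ K' ∈ Finset.univ.filter (fun K' : Subgroup H => rep K' = K0), eX X K' := by
  haveI := Fintype.ofFinite X
  have h2 : ∀ K' : Subgroup H,
      eX X K' = (Finset.univ.filter (fun x : X => stabilizer H x = K')).card := by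
    intro K'
    unfold eX
    rw [Nat.card_eq_fintype_card, Fintype.card_subtype]
  rw [Nat.card_eq_fintype_card, Fintype.card_subtype]
  have h3 := Finset.card_eq_sum_card_fiberwise (f := fun x : X => stabilizer H x)
    (s := Finset.univ.filter (fun x : X => rep (stabilizer H x) = K0))
    (t := Finset.univ.filter (fun K' : Subgroup H => rep K' = K0))
    (by intro x hx; simpa using hx)
  rw [h3]
  apply Finset.sum_congr rfl
  intro b hb
  rw [h2]
  congr 1
  ext x
  simp only [Finset.mem_filter, Finset.mem_univ, true_and]
  constructor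
  · exact fun h => h.2
  · intro h
    refine ⟨?_, h⟩
    rw [h]
    simpa using hb

/-- **Burnside's theorem on marks**: two finite `H`-sets with the same marks are isomorphic. -/
theorem exists_equiv_of_mark_eq [Finite H] {X Y : Type*} [MulAction H X] [MulAction H Y]
    [Finite X] [Finite Y] (hm : ∀ K : Subgroup H, mark X K = mark Y K) :
    ∃ θ : X ≃ Y, ∀ (h : H) (x : X), θ (h • x) = h • θ x := by
  classical
  haveI : Fintype (Subgroup H) := Fintype.ofFinite _
  have he := eX_eq_of_mark_eq hm
  -- equal numbers of orbits of each type
  have hq : ∀ K0 : Subgroup H, Nat.card {o : orbitRel.Quotient H X // kty X o = K0}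
      = Nat.card {o : orbitRel.Quotient H Y // kty Y o = K0} := by
    intro K0
    have h1 := card_fiber_kty (X := X) K0
    have h2 := card_fiber_kty (X := Y) K0
    have h3 : Nat.card {x : X // rep (stabilizer H x) = K0}
        = Nat.card {x : Y // rep (stabilizer H x) = K0} := by
      rw [card_rep_fiber, card_rep_fiber]
      exact Finset.sum_congr rfl (fun K' _ => he K')
    rw [h3, h2] at h1
    exact (Nat.eq_of_mul_eq_mul_right Nat.card_pos h1).symm
  let e : orbitRel.Quotient H X ≃ orbitRel.Quotient H Y :=
    Equiv.ofFiberEquiv (f := kty X) (g := kty Y)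
      (fun K0 => Classical.choice (Finite.card_eq.mp (hq K0)))
  have hek : ∀ o, kty Y (e o) = kty X o := fun o => Equiv.ofFiberEquiv_map _ o
  -- base points
  have hbase : ∀ o : orbitRel.Quotient H X, ∃ y : Y,
      Quotient.mk (orbitRel H Y) y = e o ∧ stabilizer H y = stabilizer H o.out := by
    intro o
    have h1 : cj (stabilizer H (e o).out) (stabilizer H o.out) := by
      have h2 := hek o
      unfold kty at h2
      exact cj_trans (cj_symm (cj_rep _)) (h2 ▸ cj_rep _)
    obtain ⟨g, hg⟩ := h1
    refine ⟨g • (e o).out, ?_, ?_⟩
    · have : Quotient.mk (orbitRel H Y) (g • (e o).out)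
          = Quotient.mk (orbitRel H Y) (e o).out := by
        apply Quotient.sound
        show orbitRel H Y _ _
        rw [orbitRel_apply]
        exact ⟨g, rfl⟩
      rw [this, Quotient.out_eq]
    · ext k
      rw [hg k, mem_stabilizer_iff, mem_stabilizer_iff, mul_smul, mul_smul, inv_smul_eq_iff]
  choose yb hyb1 hyb2 using hbase
  -- a group element carrying the base point to x
  have hg : ∀ x : X, ∃ g : H, g • (Quotient.mk (orbitRel H X) x).out = x := by
    intro x
    obtain ⟨h, hh⟩ := exists_smul_out (H := H) x
    exact ⟨h⁻¹, by rw [← hh, inv_smul_smul]⟩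
  choose gx hgx using hg
  let θ : X → Y := fun x => gx x • yb (Quotient.mk (orbitRel H X) x)
  have hθ : ∀ (x : X) (g : H), g • (Quotient.mk (orbitRel H X) x).out = x →
      θ x = g • yb (Quotient.mk (orbitRel H X) x) := by
    intro x g hgx'
    show gx x • _ = g • _
    have h1 : g⁻¹ * gx x ∈ stabilizer H (Quotient.mk (orbitRel H X) x).out := by
      rw [mem_stabilizer_iff, mul_smul, hgx x, inv_smul_eq_iff]
      exact hgx'.symm
    rw [← hyb2, mem_stabilizer_iff, mul_smul, inv_smul_eq_iff] at h1
    exact h1
  have hmk : ∀ (h : H) (x : X), Quotient.mk (orbitRel H X) (h • x)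
      = Quotient.mk (orbitRel H X) x := by
    intro h x
    apply Quotient.sound
    show orbitRel H X _ _
    rw [orbitRel_apply]
    exact ⟨h, rfl⟩
  have hequi : ∀ (h : H) (x : X), θ (h • x) = h • θ x := by
    intro h x
    have h1 : (h * gx x) • (Quotient.mk (orbitRel H X) (h • x)).out = h • x := by
      rw [hmk, mul_smul, hgx]
    rw [hθ (h • x) (h * gx x) h1, hmk, mul_smul]
  have hinj : Function.Injective θ := by
    intro x x' hxx
    have hoy : ∀ x : X, Quotient.mk (orbitRel H Y) (θ x) = e (Quotient.mk (orbitRel H X) x) := by
      intro x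
      rw [← hyb1]
      apply Quotient.sound
      show orbitRel H Y _ _
      rw [orbitRel_apply]
      exact ⟨gx x, rfl⟩
    have ho : Quotient.mk (orbitRel H X) x = Quotient.mk (orbitRel H X) x' := by
      apply e.injective
      rw [← hoy, ← hoy, hxx]
    have h1 : gx x • yb (Quotient.mk (orbitRel H X) x)
        = gx x' • yb (Quotient.mk (orbitRel H X) x) := by
      have h0 : gx x • yb (Quotient.mk (orbitRel H X) x)
          = gx x' • yb (Quotient.mk (orbitRel H X) x') := hxx
      rw [← ho] at h0
      exact h0
    have h2 : (gx x')⁻¹ * gx x ∈ stabilizer H (yb (Quotient.mk (orbitRel H X) x)) := by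
      rw [mem_stabilizer_iff, mul_smul, h1, inv_smul_smul]
    rw [hyb2, mem_stabilizer_iff, mul_smul, inv_smul_eq_iff, hgx, ho, hgx] at h2
    exact h2
  have hcard : Nat.card Y ≤ Nat.card X := by
    have h1 := hm ⊥
    rw [mark_bot, mark_bot] at h1
    exact h1.ge
  exact ⟨Equiv.ofBijective θ (hinj.bijective_of_nat_card_le hcard), hequi⟩

end iso

end Cfsg.Agent.Lib.Helper2.Tr
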