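import Cfsg.Agent.Lib.Helper2.Tr2

set_option autoImplicit false

/-!
# Marks of sums, sigmas and coset spaces; the Burnside congruence
-/

namespace Cfsg.Agent.Lib.Helper2.Tr

open MulAction

section sums

variable {G : Type*} [Group G]

theorem mem_fp {X : Type*} [MulAction G X] (K : Subgroup G) (x : X) :
    x ∈ MulAction.fixedPoints K X ↔ ∀ k ∈ K, k • x = x := by
  rw [mem_fixedPoints_subgroup]
  exact ⟨fun h k hk => h hk, fun h k hk => h k hk⟩

theorem mark_congr_fp {X Y : Type*} [MulAction G X] [MulAction G Y] (K K' : Subgroup G)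
    (e : {x : X // ∀ k ∈ K, k • x = x} ≃ {y : Y // ∀ k ∈ K', k • y = y}) :
    mark X K = mark Y K' := by
  unfold mark
  rw [Nat.card_congr (Equiv.subtypeEquivRight (mem_fp K)),
    Nat.card_congr (Equiv.subtypeEquivRight (mem_fp K'))]
  exact Nat.card_congr e

theorem mark_eq_card {X : Type*} [MulAction G X] (K : Subgroup G) :
    mark X K = Nat.card {x : X // ∀ k ∈ K, k • x = x} := by
  unfold mark
  rw [Nat.card_congr (Equiv.subtypeEquivRight (mem_fp K))]

theorem mark_sum (X Y : Type*) [MulAction G X] [MulAction G Y] [Finite X] [Finite Y]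
    (K : Subgroup G) : mark (X ⊕ Y) K = mark X K + mark Y K := by
  rw [mark_eq_card, mark_eq_card, mark_eq_card, Nat.card_congr Equiv.subtypeSum, Nat.card_sum]
  congr 1
  · apply Nat.card_congr
    exact Equiv.subtypeEquivRight (fun a => by simp only [Sum.smul_inl, Sum.inl.injEq])
  · apply Nat.card_congr
    exact Equiv.subtypeEquivRight (fun a => by simp only [Sum.smul_inr, Sum.inr.injEq])

theorem mark_sigma {ι : Type*} [Fintype ι] (Z : ι → Type*) [∀ i, MulAction G (Z i)]
    [∀ i, Finite (Z i)] (K : Subgroup G) : mark (Σ i, Z i) K = ∑ i, mark (Z i) K := by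
  rw [mark_eq_card]
  simp only [mark_eq_card]
  rw [← Nat.card_sigma]
  apply Nat.card_congr
  exact
    { toFun := fun p => ⟨p.1.1, ⟨p.1.2, fun k hk => by
        have := p.2 k hk
        exact sigma_mk_injective this⟩⟩
      invFun := fun p => ⟨⟨p.1, p.2.1⟩, fun k hk => by
        show (⟨p.1, k • p.2.1⟩ : Σ i, Z i) = _
        rw [p.2.2 k hk]⟩
      left_inv := fun p => rfl
      right_inv := fun p => rfl }

theorem mark_le_card {X : Type*} [MulAction G X] [Finite X] (K : Subgroup G) :
    mark X K ≤ Nat.card X := by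
  unfold mark
  exact Nat.card_le_card_of_injective _ Subtype.val_injective

theorem mark_pos_iff {X : Type*} [MulAction G X] [Finite X] (K : Subgroup G) :
    0 < mark X K ↔ ∃ x : X, K ≤ stabilizer G x := by
  unfold mark
  rw [Nat.card_pos_iff]
  constructor
  · rintro ⟨⟨x, hx⟩, -⟩
    exact ⟨x, (mem_fixedPoints_subgroup K x).mp hx⟩
  · rintro ⟨x, hx⟩
    exact ⟨⟨x, (mem_fixedPoints_subgroup K x).mpr hx⟩, inferInstance⟩

theorem mark_conj {X : Type*} [MulAction G X] {K K' : Subgroup G} (h : cj K K') :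
    mark X K' = mark X K := by
  obtain ⟨h, H'⟩ := h
  apply mark_congr_fp
  exact
    { toFun := fun x => ⟨h⁻¹ • x.1, fun k hk => by
        have h1 : h * k * h⁻¹ ∈ K' := by
          rw [H']; simpa [mul_assoc] using hk
        have h2 := x.2 _ h1
        rw [mul_smul, mul_smul] at h2
        exact (smul_eq_iff_eq_inv_smul h).mp h2⟩
      invFun := fun x => ⟨h • x.1, fun k hk => by
        have h1 := x.2 _ ((H' k).mp hk)
        rw [mul_smul, mul_smul, inv_smul_eq_iff] at h1
        exact h1⟩
      left_inv := fun x => Subtype.ext (smul_inv_smul h x.1)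
      right_inv := fun x => Subtype.ext (inv_smul_smul h x.1) }

theorem cj_stabilizer_quot (D : Subgroup G) (g : G) :
    cj D (stabilizer G (QuotientGroup.mk g : G ⧸ D)) := by
  refine ⟨g, fun k => ?_⟩
  rw [mem_stabilizer_iff, MulAction.Quotient.smul_mk, smul_eq_mul, eq_comm, QuotientGroup.eq,
    mul_assoc]

theorem cj_le_card [Finite G] {K K' E : Subgroup G} (h : cj K K') (hE : E ≤ K') :
    Nat.card E ≤ Nat.card K := by
  rw [cj_card h]
  exact Subgroup.card_le_of_le hE

theorem mark_quot_pos [Finite G] {D E : Subgroup G} (h : 0 < mark (G ⧸ D) E) :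
    ∃ D' : Subgroup G, cj D D' ∧ E ≤ D' := by
  rw [mark_pos_iff] at h
  obtain ⟨x, hx⟩ := h
  induction x using QuotientGroup.induction_on with
  | H g => exact ⟨_, cj_stabilizer_quot D g, hx⟩

theorem mark_quot_self [Finite G] (D : Subgroup G) :
    mark (G ⧸ D) D * Nat.card D = Nat.card (Subgroup.normalizer (D : Set G)) := by
  have h1 : mark (G ⧸ D) D
      = Nat.card (↥(Subgroup.normalizer (D : Set G))
          ⧸ D.comap (Subgroup.normalizer (D : Set G)).subtype) :=
    Nat.card_congr (Sylow.fixedPointsMulLeftCosetsEquivQuotient D)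
  rw [h1, Subgroup.card_eq_card_quotient_mul_card_subgroup
      (D.comap (Subgroup.normalizer (D : Set G)).subtype)]
  congr 1
  exact (Nat.card_congr (Subgroup.subgroupOfEquivOfLe Subgroup.le_normalizer).toEquiv).symm

end sums

section burnside

variable {G : Type*} [Group G]

open scoped Classical in
/-- Burnside's lemma for an action through a homomorphism, relative to a normal subgroup -/
theorem burnside_hom {N : Type*} [Group N] [Fintype N] {X : Type*} [MulAction G X] [Finite X]
    (Ψ : N →* G) (D0 : Subgroup N) [D0.Normal] :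
    ∃ k : ℕ, Nat.card D0 * mark X (D0.map Ψ)
      + ∑ n ∈ Finset.univ.filter (fun n : N => n ∉ D0),
          mark X (D0.map Ψ ⊔ Subgroup.zpowers (Ψ n)) = k * Nat.card N := by
  letI : MulAction N X := MulAction.compHom X Ψ
  have hsm : ∀ (n : N) (x : X), n • x = Ψ n • x := fun n x => rfl
  let S : SubMulAction N X :=
    { carrier := {x | ∀ d ∈ D0, Ψ d • x = x}
      smul_mem' := by
        intro n x hx d hd
        have h1 : n⁻¹ * d * n ∈ D0 := by
          have := Subgroup.Normal.conj_mem ‹D0.Normal› d hd n⁻¹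
          simpa using this
        have h2 := hx _ h1
        rw [hsm, smul_smul, ← map_mul]
        have e : d * n = n * (n⁻¹ * d * n) := by group
        rw [e, map_mul, mul_smul, h2] }
  haveI : Fintype X := Fintype.ofFinite X
  haveI : Fintype (Quotient (orbitRel N S)) := Fintype.ofFinite _
  have hB := MulAction.sum_card_fixedBy_eq_card_orbits_mul_card_group N S
  have hterm : ∀ n : N, Fintype.card (fixedBy S n)
      = mark X (D0.map Ψ ⊔ Subgroup.zpowers (Ψ n)) := by
    intro n
    rw [mark_eq_card, ← Nat.card_eq_fintype_card]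
    apply Nat.card_congr
    have hiff : ∀ x : X, (∀ k ∈ D0.map Ψ ⊔ Subgroup.zpowers (Ψ n), k • x = x)
        ↔ (∀ d ∈ D0, Ψ d • x = x) ∧ Ψ n • x = x := by
      intro x
      have : (∀ k ∈ D0.map Ψ ⊔ Subgroup.zpowers (Ψ n), k • x = x)
          ↔ D0.map Ψ ⊔ Subgroup.zpowers (Ψ n) ≤ stabilizer G x :=
        ⟨fun h k hk => h k hk, fun h k hk => h hk⟩
      rw [this, sup_le_iff, Subgroup.zpowers_le, Subgroup.map_le_iff_le_comap]
      exact ⟨fun h => ⟨fun d hd => h.1 hd, h.2⟩, fun h => ⟨fun d hd => h.1 d hd, h.2⟩⟩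
    exact
      { toFun := fun y => ⟨y.1.1, (hiff _).mpr ⟨y.1.2, by
          have := y.2
          have h2 : n • y.1 = y.1 := this
          have h3 := congrArg Subtype.val h2
          exact h3⟩⟩
        invFun := fun x => ⟨⟨x.1, ((hiff _).mp x.2).1⟩, by
          show n • (⟨x.1, _⟩ : S) = ⟨x.1, _⟩
          apply Subtype.ext
          exact ((hiff _).mp x.2).2⟩
        left_inv := fun y => rfl
        right_inv := fun x => rfl }
  rw [Finset.sum_congr rfl (fun n _ => hterm n)] at hB
  refine ⟨Fintype.card (Quotient (orbitRel N S)), ?_⟩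
  rw [Nat.card_eq_fintype_card (α := N), ← hB,
    ← Finset.sum_filter_add_sum_filter_not Finset.univ (fun n : N => n ∈ D0)]
  congr 1
  have h1 : ∀ n ∈ Finset.univ.filter (fun n : N => n ∈ D0),
      mark X (D0.map Ψ ⊔ Subgroup.zpowers (Ψ n)) = mark X (D0.map Ψ) := by
    intro n hn
    simp only [Finset.mem_filter, Finset.mem_univ, true_and] at hn
    have : Subgroup.zpowers (Ψ n) ≤ D0.map Ψ := by
      rw [Subgroup.zpowers_le]
      exact Subgroup.mem_map_of_mem Ψ hn
    rw [sup_eq_left.mpr this]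
  rw [Finset.sum_congr rfl h1, Finset.sum_const, smul_eq_mul]
  congr 1
  rw [Nat.card_eq_fintype_card, Fintype.card_subtype]

/-- the Burnside congruence comparing `D` with its image under a homomorphism defined on a
subgroup `N` normalizing `D` -/
theorem mark_modEq_of_hom [Finite G] {X : Type*} [MulAction G X] [Finite X] (D N : Subgroup G)
    (hDN : D ≤ N) [hnorm : (D.subgroupOf N).Normal] (Θ : ↥N →* G)
    (hΘ : ∀ n : ↥N, (n : G) ∉ D →
      mark X (D ⊔ Subgroup.zpowers (n : G))
        = mark X ((D.subgroupOf N).map Θ ⊔ Subgroup.zpowers (Θ n))) :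
    mark X D ≡ mark X ((D.subgroupOf N).map Θ) [MOD Nat.card N / Nat.card D] := by
  classical
  haveI : Fintype ↥N := Fintype.ofFinite _
  have hmap : (D.subgroupOf N).map N.subtype = D := by
    rw [Subgroup.subgroupOf_map_subtype, inf_eq_left.mpr hDN]
  obtain ⟨k1, h1⟩ := burnside_hom (X := X) N.subtype (D.subgroupOf N)
  obtain ⟨k2, h2⟩ := burnside_hom (X := X) Θ (D.subgroupOf N)
  rw [hmap] at h1
  have hR : ∑ n ∈ Finset.univ.filter (fun n : N => n ∉ D.subgroupOf N),
        mark X (D ⊔ Subgroup.zpowers (N.subtype n))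
      = ∑ n ∈ Finset.univ.filter (fun n : N => n ∉ D.subgroupOf N),
        mark X ((D.subgroupOf N).map Θ ⊔ Subgroup.zpowers (Θ n)) := by
    apply Finset.sum_congr rfl
    intro n hn
    simp only [Finset.mem_filter, Finset.mem_univ, true_and] at hn
    exact hΘ n (fun h => hn (Subgroup.mem_subgroupOf.mpr h))
  rw [hR] at h1
  have hcD : Nat.card (D.subgroupOf N) = Nat.card D :=
    Nat.card_congr (Subgroup.subgroupOfEquivOfLe hDN).toEquiv
  rw [hcD] at h1 h2
  have hdvd : Nat.card D ∣ Nat.card N := by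
    rw [← hcD]; exact Subgroup.card_subgroup_dvd_card _
  obtain ⟨w, hw⟩ := hdvd
  have hDpos : 0 < Nat.card D := Nat.card_pos
  have hw' : Nat.card N / Nat.card D = w := by
    rw [hw, Nat.mul_div_cancel_left _ hDpos]
  rw [hw']
  have h3 : Nat.card D * mark X D ≡ Nat.card D * mark X ((D.subgroupOf N).map Θ)
      [MOD Nat.card D * w] := by
    rw [← hw]
    have e1 : (Nat.card D * mark X D + ∑ n ∈ Finset.univ.filter (fun n : N => n ∉ D.subgroupOf N),
        mark X ((D.subgroupOf N).map Θ ⊔ Subgroup.zpowers (Θ n))) ≡ 0 [MOD Nat.card N] := by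
      rw [h1]; exact (Nat.modEq_zero_iff_dvd.mpr (Dvd.intro_left k1 rfl))
    have e2 : (Nat.card D * mark X ((D.subgroupOf N).map Θ)
        + ∑ n ∈ Finset.univ.filter (fun n : N => n ∉ D.subgroupOf N),
        mark X ((D.subgroupOf N).map Θ ⊔ Subgroup.zpowers (Θ n))) ≡ 0 [MOD Nat.card N] := by
      rw [h2]; exact (Nat.modEq_zero_iff_dvd.mpr (Dvd.intro_left k2 rfl))
    exact Nat.ModEq.add_right_cancel' _ (e1.trans e2.symm)
  exact Nat.ModEq.mul_left_cancel' hDpos.ne' h3

end burnside

end Cfsg.Agent.Lib.Helper2.Tr
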