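import Cfsg.Agent.Lib.Helper2.Tr3
import Cfsg.Agent.Lib.Helper9.FusionSat3
import Cfsg.Agent.Lib.Helper9.FusionCenter

set_option autoImplicit false

/-!
# Graph subgroups of `S × S` attached to a fusion system
-/

namespace Cfsg.Agent.Lib.Helper2.Tr

open Cfsg Cfsg.FusionSystem Cfsg.Agent.Lib.Helper9 MulAction

variable {Ω : Type*} [Group Ω] {S : Subgroup Ω}

/-- the function `f`, restricted to `P`, is a map of the system -/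
def FRel (F : FusionSystem S) (P : Subgroup Ω) (f : Ω → Ω) : Prop :=
  ∃ φ ∈ F.Hom P, ∀ x : P, φ x = f x

namespace FRel

variable {F : FusionSystem S} {P Q : Subgroup Ω} {f g : Ω → Ω}

theorem le (h : FRel F P f) : P ≤ S := by
  obtain ⟨φ, hφ, -⟩ := h
  exact hom_le F hφ

theorem mem (h : FRel F P f) {x : Ω} (hx : x ∈ P) : f x ∈ S := by
  obtain ⟨φ, hφ, hf⟩ := h
  have := hom_mem F hφ ⟨x, hx⟩
  rw [hf] at this
  exact this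

theorem inj (h : FRel F P f) {x y : Ω} (hx : x ∈ P) (hy : y ∈ P) (hxy : f x = f y) : x = y := by
  obtain ⟨φ, hφ, hf⟩ := h
  have h1 : φ ⟨x, hx⟩ = φ ⟨y, hy⟩ := by rw [hf, hf]; exact hxy
  exact congrArg Subtype.val (F.injective_of_mem hφ h1)

theorem map_mul (h : FRel F P f) {x y : Ω} (hx : x ∈ P) (hy : y ∈ P) :
    f (x * y) = f x * f y := by
  obtain ⟨φ, hφ, hf⟩ := h
  have e := hf (⟨x, hx⟩ * ⟨y, hy⟩)
  rw [φ.map_mul, hf, hf] at e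
  exact e.symm

theorem map_one (h : FRel F P f) : f 1 = 1 := by
  obtain ⟨φ, hφ, hf⟩ := h
  have e := hf 1
  rw [_root_.map_one] at e
  exact e.symm

theorem map_inv (h : FRel F P f) {x : Ω} (hx : x ∈ P) : f x⁻¹ = (f x)⁻¹ := by
  obtain ⟨φ, hφ, hf⟩ := h
  have e := hf (⟨x, hx⟩⁻¹)
  rw [_root_.map_inv, hf] at e
  exact e.symm

theorem restrict (h : FRel F P f) (hQ : Q ≤ P) : FRel F Q f := by
  obtain ⟨φ, hφ, hf⟩ := h
  exact ⟨φ.comp (Subgroup.inclusion hQ), restrict_mem F hφ hQ, fun x => hf _⟩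

theorem congr (h : FRel F P f) (hfg : ∀ x ∈ P, f x = g x) : FRel F P g := by
  obtain ⟨φ, hφ, hf⟩ := h
  exact ⟨φ, hφ, fun x => (hf x).trans (hfg x x.2)⟩

theorem comp (h1 : FRel F P f) (h2 : FRel F Q g) (hPQ : ∀ x ∈ P, f x ∈ Q) :
    FRel F P (fun x => g (f x)) := by
  obtain ⟨φ, hφ, hf⟩ := h1
  obtain ⟨ψ, hψ, hg⟩ := h2
  have hm : ∀ x : P, φ x ∈ Q := fun x => by rw [hf]; exact hPQ x x.2
  obtain ⟨χ, hχ, hχ1⟩ := comp_hom F hφ hψ hm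
  refine ⟨χ, hχ, fun x => ?_⟩
  rw [hχ1, hg]
  show g (φ x) = g (f x)
  rw [hf]

theorem conj (F : FusionSystem S) (hP : P ≤ S) {u : Ω} (hu : u ∈ S) :
    FRel F P (fun x => u * x * u⁻¹) :=
  ⟨conjHom P u, F.conj_mem hP hu, fun _ => rfl⟩

theorem id (F : FusionSystem S) (hP : P ≤ S) : FRel F P (fun x => x) :=
  ⟨P.subtype, subtype_mem F hP, fun _ => rfl⟩

theorem exists_inv (h : FRel F P f) :
    ∃ (Q : Subgroup Ω) (g : Ω → Ω), FRel F Q g ∧ F.IsConj P Q ∧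
      (∀ y, y ∈ Q ↔ ∃ x ∈ P, f x = y) ∧ (∀ x ∈ P, g (f x) = x) ∧
      (∀ y ∈ Q, g y ∈ P ∧ f (g y) = y) := by
  classical
  obtain ⟨φ, hφ, hf⟩ := h
  obtain ⟨θ, hθ, hθ1, -, hθ3⟩ := inv_hom F hφ rfl
  have hgdef : ∀ (y : Ω) (hy : y ∈ φ.range),
      (fun y => if hy : y ∈ φ.range then θ ⟨y, hy⟩ else 1) y = θ ⟨y, hy⟩ := by
    intro y hy
    exact dif_pos hy
  refine ⟨φ.range, fun y => if hy : y ∈ φ.range then θ ⟨y, hy⟩ else 1,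
    ⟨θ, hθ, fun y => (hgdef y.1 y.2).symm⟩, ⟨φ, hφ, rfl⟩, ?_, ?_, ?_⟩
  · intro y
    constructor
    · rintro ⟨x, rfl⟩
      exact ⟨x, x.2, (hf x).symm⟩
    · rintro ⟨x, hx, rfl⟩
      exact ⟨⟨x, hx⟩, hf _⟩
  · intro x hx
    have hy : f x ∈ φ.range := ⟨⟨x, hx⟩, hf _⟩
    rw [hgdef _ hy]
    have e : (⟨f x, hy⟩ : φ.range) = ⟨φ ⟨x, hx⟩, ⟨⟨x, hx⟩, rfl⟩⟩ :=
      Subtype.ext (hf ⟨x, hx⟩).symm
    rw [e]
    exact hθ1 ⟨x, hx⟩ _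
  · intro y hy
    rw [hgdef _ hy]
    obtain ⟨h1, h2⟩ := hθ3 ⟨y, hy⟩
    refine ⟨h1, ?_⟩
    rw [← hf ⟨_, h1⟩]
    exact h2

end FRel

/-- `D` is the graph of a map of the system -/
def IsFG (F : FusionSystem S) (D : Subgroup (↥S × ↥S)) : Prop :=
  ∃ (P : Subgroup Ω) (f : Ω → Ω), FRel F P f ∧
    ∀ a b : ↥S, (a, b) ∈ D ↔ (a : Ω) ∈ P ∧ f a = b

/-- the source (first projection) of a subgroup of `S × S` -/
def src (D : Subgroup (↥S × ↥S)) : Subgroup Ω :=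
  (D.map (MonoidHom.fst ↥S ↥S)).map S.subtype

theorem mem_src {D : Subgroup (↥S × ↥S)} {x : Ω} :
    x ∈ src D ↔ ∃ ab ∈ D, ((ab : ↥S × ↥S).1 : Ω) = x := by
  constructor
  · rintro ⟨a, ⟨ab, hab, rfl⟩, rfl⟩
    exact ⟨ab, hab, rfl⟩
  · rintro ⟨ab, hab, rfl⟩
    exact ⟨ab.1, ⟨ab, hab, rfl⟩, rfl⟩

theorem src_le (D : Subgroup (↥S × ↥S)) : src D ≤ S := by
  intro x hx
  rw [mem_src] at hx
  obtain ⟨ab, -, rfl⟩ := hx
  exact ab.1.2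

theorem src_mono {D E : Subgroup (↥S × ↥S)} (h : E ≤ D) : src E ≤ src D := by
  intro x hx
  rw [mem_src] at hx ⊢
  obtain ⟨ab, hab, rfl⟩ := hx
  exact ⟨ab, h hab, rfl⟩

theorem src_eq {F : FusionSystem S} {D : Subgroup (↥S × ↥S)} {P : Subgroup Ω} {f : Ω → Ω}
    (h : FRel F P f) (hD : ∀ a b : ↥S, (a, b) ∈ D ↔ (a : Ω) ∈ P ∧ f a = b) : src D = P := by
  ext x
  rw [mem_src]
  constructor
  · rintro ⟨⟨a, b⟩, hab, rfl⟩
    exact ((hD a b).mp hab).1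
  · intro hx
    exact ⟨(⟨x, h.le hx⟩, ⟨f x, h.mem hx⟩), (hD _ _).mpr ⟨hx, rfl⟩, rfl⟩

theorem IsFG.card_eq {F : FusionSystem S} {D : Subgroup (↥S × ↥S)} (hD : IsFG F D) :
    Nat.card D = Nat.card (src D) := by
  obtain ⟨P, f, h, hD'⟩ := hD
  rw [src_eq h hD']
  apply Nat.card_congr
  refine Equiv.ofBijective
    (fun d : D => (⟨d.1.1, ((hD' d.1.1 d.1.2).mp d.2).1⟩ : P)) ⟨?_, ?_⟩
  · intro d d' hdd
    have h1 : (d.1.1 : Ω) = d'.1.1 := congrArg (fun z : P => (z : Ω)) hdd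
    have h2 := ((hD' d.1.1 d.1.2).mp d.2).2
    have h3 := ((hD' d'.1.1 d'.1.2).mp d'.2).2
    have h4 : (d.1.2 : Ω) = d'.1.2 := by rw [← h2, ← h3, h1]
    exact Subtype.ext (Prod.ext (Subtype.ext h1) (Subtype.ext h4))
  · intro x
    exact ⟨⟨(⟨x.1, h.le x.2⟩, ⟨f x.1, h.mem x.2⟩), (hD' _ _).mpr ⟨x.2, rfl⟩⟩, Subtype.ext rfl⟩

theorem IsFG.transport {F : FusionSystem S} {E E' : Subgroup (↥S × ↥S)} (hE : IsFG F E)
    {N1 N2 : Subgroup Ω} {g1 g2 : Ω → Ω} (h1 : FRel F N1 g1) (h2 : FRel F N2 g2)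
    (hsub : ∀ a b : ↥S, (a, b) ∈ E → (a : Ω) ∈ N1 ∧ (b : Ω) ∈ N2)
    (hE' : ∀ a' b' : ↥S, (a', b') ∈ E' ↔
      ∃ a b : ↥S, (a, b) ∈ E ∧ g1 a = a' ∧ g2 b = b') :
    IsFG F E' ∧ F.IsConj (src E) (src E') := by
  obtain ⟨P, f, hf, hEf⟩ := hE
  have hPN : P ≤ N1 := by
    intro x hx
    exact (hsub ⟨x, hf.le hx⟩ ⟨f x, hf.mem hx⟩ ((hEf _ _).mpr ⟨hx, rfl⟩)).1
  have hfN : ∀ x ∈ P, f x ∈ N2 := by
    intro x hx
    exact (hsub ⟨x, hf.le hx⟩ ⟨f x, hf.mem hx⟩ ((hEf _ _).mpr ⟨hx, rfl⟩)).2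
  obtain ⟨P', k, hk, hconj, hP', hk1, hk2⟩ := (h1.restrict hPN).exists_inv
  have hf' : FRel F P' (fun y => g2 (f (k y))) :=
    (hk.comp hf (fun y hy => (hk2 y hy).1)).comp h2 (fun y hy => hfN _ (hk2 y hy).1)
  have hiff : ∀ a' b' : ↥S, (a', b') ∈ E' ↔ (a' : Ω) ∈ P' ∧ g2 (f (k a')) = b' := by
    intro a' b'
    rw [hE']
    constructor
    · rintro ⟨a, b, hab, ha, hb⟩
      obtain ⟨haP, hfa⟩ := (hEf a b).mp hab
      refine ⟨(hP' _).mpr ⟨a, haP, ha⟩, ?_⟩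
      rw [← ha, hk1 _ haP, hfa, hb]
    · rintro ⟨ha', hb'⟩
      obtain ⟨hkP, hgk⟩ := hk2 _ ha'
      refine ⟨⟨k a', hf.le hkP⟩, ⟨f (k a'), hf.mem hkP⟩, (hEf _ _).mpr ⟨hkP, rfl⟩, hgk, hb'⟩
  refine ⟨⟨P', _, hf', hiff⟩, ?_⟩
  rw [src_eq hf hEf, src_eq hf' hiff]
  exact hconj

theorem IsFG.of_le {F : FusionSystem S} {D E : Subgroup (↥S × ↥S)} (hD : IsFG F D)
    (hED : E ≤ D) : IsFG F E := by
  obtain ⟨P, f, hf, hDf⟩ := hD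
  have hQP : src E ≤ P := by
    intro x hx
    rw [mem_src] at hx
    obtain ⟨⟨a, b⟩, hab, rfl⟩ := hx
    exact ((hDf a b).mp (hED hab)).1
  refine ⟨src E, f, hf.restrict hQP, fun a b =>
    ⟨fun hab => ⟨mem_src.mpr ⟨(a, b), hab, rfl⟩, ((hDf a b).mp (hED hab)).2⟩, ?_⟩⟩
  rintro ⟨ha, hfa⟩
  rw [mem_src] at ha
  obtain ⟨⟨a', b'⟩, hab', haa⟩ := ha
  have h1 : a' = a := Subtype.ext haa
  subst h1
  have h2 := ((hDf a' b').mp (hED hab')).2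
  have hbb : b' = b := Subtype.ext (h2.symm.trans hfa)
  rw [← hbb]
  exact hab'

theorem IsFG.conj {F : FusionSystem S} {D D' : Subgroup (↥S × ↥S)} (hD : IsFG F D)
    (h : cj D D') : IsFG F D' ∧ F.IsConj (src D) (src D') := by
  obtain ⟨⟨u, v⟩, huv⟩ := h
  apply hD.transport (FRel.conj F (le_refl S) u.2) (FRel.conj F (le_refl S) v.2)
    (fun a b _ => ⟨a.2, b.2⟩)
  intro a' b'
  rw [huv]
  constructor
  · intro h1
    refine ⟨u⁻¹ * a' * u, v⁻¹ * b' * v, h1, ?_, ?_⟩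
    · show (u : Ω) * ((u : Ω)⁻¹ * a' * u) * (u : Ω)⁻¹ = a'
      group
    · show (v : Ω) * ((v : Ω)⁻¹ * b' * v) * (v : Ω)⁻¹ = b'
      group
  · rintro ⟨a, b, hab, ha, hb⟩
    have ha' : a' = u * a * u⁻¹ := Subtype.ext ha.symm
    have hb' : b' = v * b * v⁻¹ := Subtype.ext hb.symm
    rw [ha', hb']
    have e : ((u, v) : ↥S × ↥S)⁻¹ * (u * a * u⁻¹, v * b * v⁻¹) * (u, v) = (a, b) := by
      rw [Prod.inv_mk, Prod.mk_mul_mk, Prod.mk_mul_mk]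
      congr 1 <;> group
    rw [e]
    exact hab

theorem IsFG.src_le {F : FusionSystem S} {D : Subgroup (↥S × ↥S)} (_hD : IsFG F D) :
    src D ≤ S := Tr.src_le D

/-- the diagonal copy of `P` -/
def dg (S : Subgroup Ω) (P : Subgroup Ω) : Subgroup (↥S × ↥S) where
  carrier := {ab | (ab.1 : Ω) ∈ P ∧ (ab.1 : Ω) = ab.2}
  one_mem' := ⟨P.one_mem, rfl⟩
  mul_mem' := by
    rintro a b ⟨ha, ha'⟩ ⟨hb, hb'⟩
    refine ⟨P.mul_mem ha hb, ?_⟩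
    show (a.1 : Ω) * b.1 = a.2 * b.2
    rw [ha', hb']
  inv_mem' := by
    rintro a ⟨ha, ha'⟩
    refine ⟨P.inv_mem ha, ?_⟩
    show (a.1 : Ω)⁻¹ = (a.2 : Ω)⁻¹
    rw [ha']

theorem mem_dg {P : Subgroup Ω} {a b : ↥S} : (a, b) ∈ dg S P ↔ (a : Ω) ∈ P ∧ (a : Ω) = b :=
  Iff.rfl

theorem isFG_dg (F : FusionSystem S) {P : Subgroup Ω} (hP : P ≤ S) : IsFG F (dg S P) :=
  ⟨P, fun x => x, FRel.id F hP, fun _ _ => mem_dg⟩

theorem src_dg (F : FusionSystem S) {P : Subgroup Ω} (hP : P ≤ S) : src (dg S P) = P :=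
  src_eq (FRel.id F hP) (fun _ _ => mem_dg)

theorem mark_eq_zero_of_not_isFG {F : FusionSystem S} {X : Type*} [MulAction (↥S × ↥S) X]
    [Finite X] (hX : ∀ x : X, IsFG F (stabilizer (↥S × ↥S) x)) {E : Subgroup (↥S × ↥S)}
    (hE : ¬ IsFG F E) : mark X E = 0 := by
  by_contra h
  have h1 : 0 < mark X E := Nat.pos_of_ne_zero h
  rw [mark_pos_iff] at h1
  obtain ⟨x, hx⟩ := h1
  exact hE ((hX x).of_le hx)

/-- `(D ⊔ ⟨n⟩)` maps to `Θ D ⊔ ⟨Θ n⟩` -/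
theorem map_sup_zpowers {G : Type*} [Group G] (D N : Subgroup G) (hDN : D ≤ N) (n : ↥N)
    (Θ : ↥N →* G) :
    ((D ⊔ Subgroup.zpowers (n : G)).subgroupOf N).map Θ
      = (D.subgroupOf N).map Θ ⊔ Subgroup.zpowers (Θ n) := by
  have h1 : (D ⊔ Subgroup.zpowers (n : G)).subgroupOf N
      = D.subgroupOf N ⊔ Subgroup.zpowers n := by
    have hz : Subgroup.zpowers (n : G) ≤ N := by
      rw [Subgroup.zpowers_le]; exact n.2
    rw [Subgroup.subgroupOf_sup hDN hz]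
    congr 1
    have : Subgroup.zpowers (n : G) = (Subgroup.zpowers n).map N.subtype := by
      rw [MonoidHom.map_zpowers]; rfl
    rw [this]
    exact Subgroup.comap_map_eq_self_of_injective N.subtype_injective _
  rw [h1, Subgroup.map_sup, MonoidHom.map_zpowers]

end Cfsg.Agent.Lib.Helper2.Tr
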