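import Cfsg.Agent.Lib.Helper2.Tr4

set_option autoImplicit false

/-!
# The congruence of marks at a graph subgroup and at the diagonal of a fully normalized conjugate
-/

namespace Cfsg.Agent.Lib.Helper2.Tr

open Cfsg Cfsg.FusionSystem Cfsg.Agent.Lib.Helper9 MulAction

variable {Ω : Type*} [Group Ω] {S : Subgroup Ω}

/-- a map of the system as a function on the ambient group -/
theorem FRel.ofHom {F : FusionSystem S} {P : Subgroup Ω} {φ : P →* Ω} (hφ : φ ∈ F.Hom P) :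
    ∃ g : Ω → Ω, FRel F P g ∧ ∀ x : P, g x = φ x := by
  classical
  have hgdef : ∀ (y : Ω) (hy : y ∈ P),
      (fun y => if hy : y ∈ P then φ ⟨y, hy⟩ else 1) y = φ ⟨y, hy⟩ := by
    intro y hy
    exact dif_pos hy
  exact ⟨fun y => if hy : y ∈ P then φ ⟨y, hy⟩ else 1, ⟨φ, hφ, fun x => (hgdef x.1 x.2).symm⟩,
    fun x => hgdef x.1 x.2⟩

/-- the homomorphism induced by a pair of maps of the system on a subgroup of `S × S` -/
def prodHom {F : FusionSystem S} {N : Subgroup (↥S × ↥S)} {N1 N2 : Subgroup Ω}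
    {g1 g2 : Ω → Ω} (h1 : FRel F N1 g1) (h2 : FRel F N2 g2)
    (hN : ∀ a b : ↥S, (a, b) ∈ N → (a : Ω) ∈ N1 ∧ (b : Ω) ∈ N2) : ↥N →* ↥S × ↥S where
  toFun n := (⟨g1 (n.1.1 : Ω), h1.mem (hN n.1.1 n.1.2 n.2).1⟩,
              ⟨g2 (n.1.2 : Ω), h2.mem (hN n.1.1 n.1.2 n.2).2⟩)
  map_one' := by
    apply Prod.ext
    · apply Subtype.ext
      exact h1.map_one
    · apply Subtype.ext
      exact h2.map_one
  map_mul' n n' := by
    apply Prod.ext
    · apply Subtype.ext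
      show g1 ((n.1.1 : Ω) * (n'.1.1 : Ω)) = g1 n.1.1 * g1 n'.1.1
      exact h1.map_mul (hN n.1.1 n.1.2 n.2).1 (hN n'.1.1 n'.1.2 n'.2).1
    · apply Subtype.ext
      show g2 ((n.1.2 : Ω) * (n'.1.2 : Ω)) = g2 n.1.2 * g2 n'.1.2
      exact h2.map_mul (hN n.1.1 n.1.2 n.2).2 (hN n'.1.1 n'.1.2 n'.2).2

theorem mem_map_prodHom {F : FusionSystem S} {N K : Subgroup (↥S × ↥S)} (hKN : K ≤ N)
    {N1 N2 : Subgroup Ω} {g1 g2 : Ω → Ω} (h1 : FRel F N1 g1) (h2 : FRel F N2 g2)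
    (hN : ∀ a b : ↥S, (a, b) ∈ N → (a : Ω) ∈ N1 ∧ (b : Ω) ∈ N2) (a' b' : ↥S) :
    (a', b') ∈ (K.subgroupOf N).map (prodHom h1 h2 hN) ↔
      ∃ a b : ↥S, (a, b) ∈ K ∧ g1 a = a' ∧ g2 b = b' := by
  constructor
  · rintro ⟨n, hn, he⟩
    refine ⟨n.1.1, n.1.2, Subgroup.mem_subgroupOf.mp hn, ?_, ?_⟩
    · exact congrArg (fun z : ↥S × ↥S => (z.1 : Ω)) he
    · exact congrArg (fun z : ↥S × ↥S => (z.2 : Ω)) he
  · rintro ⟨a, b, hab, ha, hb⟩
    refine ⟨⟨(a, b), hKN hab⟩, Subgroup.mem_subgroupOf.mpr hab, ?_⟩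
    exact Prod.ext (Subtype.ext ha) (Subtype.ext hb)

/-- marks are transported along a pair of maps of the system, at a level where the set is
stable -/
theorem mark_map_prod {F : FusionSystem S} {X : Type*} [MulAction (↥S × ↥S) X] [Finite X]
    (hX : ∀ x : X, IsFG F (stabilizer (↥S × ↥S) x)) {K K' : Subgroup (↥S × ↥S)}
    {N1 N2 : Subgroup Ω} {g1 g2 : Ω → Ω} (h1 : FRel F N1 g1) (h2 : FRel F N2 g2)
    (hK : ∀ a b : ↥S, (a, b) ∈ K → (a : Ω) ∈ N1 ∧ (b : Ω) ∈ N2)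
    (hK' : ∀ a' b' : ↥S, (a', b') ∈ K' ↔ ∃ a b : ↥S, (a, b) ∈ K ∧ g1 a = a' ∧ g2 b = b')
    (hst : ∀ D E : Subgroup (↥S × ↥S), IsFG F D → IsFG F E → Nat.card D = Nat.card K →
      F.IsConj (src D) (src E) → mark X D = mark X E) :
    mark X K = mark X K' := by
  by_cases hfg : IsFG F K
  · obtain ⟨hfg', hc⟩ := hfg.transport h1 h2 hK hK'
    exact hst K K' hfg hfg' rfl hc
  · have hfg' : ¬ IsFG F K' := by
      intro hfg'
      apply hfg
      obtain ⟨Q1, k1, hk1, -, hQ1, hk1a, -⟩ := h1.exists_inv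
      obtain ⟨Q2, k2, hk2, -, hQ2, hk2a, -⟩ := h2.exists_inv
      refine (hfg'.transport hk1 hk2 ?_ ?_).1
      · intro a' b' hab'
        obtain ⟨a, b, hab, ha, hb⟩ := (hK' a' b').mp hab'
        exact ⟨(hQ1 _).mpr ⟨a, (hK a b hab).1, ha⟩, (hQ2 _).mpr ⟨b, (hK a b hab).2, hb⟩⟩
      · intro a b
        constructor
        · intro hab
          exact ⟨⟨g1 a, h1.mem (hK a b hab).1⟩, ⟨g2 b, h2.mem (hK a b hab).2⟩,
            (hK' _ _).mpr ⟨a, b, hab, rfl, rfl⟩, hk1a _ (hK a b hab).1, hk2a _ (hK a b hab).2⟩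
        · rintro ⟨a', b', hab', ha, hb⟩
          obtain ⟨a0, b0, hab0, ha0, hb0⟩ := (hK' a' b').mp hab'
          have e1 : a0 = a := by
            apply Subtype.ext
            rw [← ha, ← ha0]
            exact (hk1a _ (hK a0 b0 hab0).1).symm
          have e2 : b0 = b := by
            apply Subtype.ext
            rw [← hb, ← hb0]
            exact (hk2a _ (hK a0 b0 hab0).2).symm
          rw [← e1, ← e2]
          exact hab0
    rw [mark_eq_zero_of_not_isFG hX hfg, mark_eq_zero_of_not_isFG hX hfg']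

/-- the congruence of marks along a pair of maps of the system defined on the normalizer -/
theorem mark_modEq_prod [Finite S] {F : FusionSystem S} {X : Type*} [MulAction (↥S × ↥S) X]
    [Finite X] (hX : ∀ x : X, IsFG F (stabilizer (↥S × ↥S) x)) {m : ℕ}
    (hst : ∀ D E : Subgroup (↥S × ↥S), IsFG F D → IsFG F E → m < Nat.card D →
      F.IsConj (src D) (src E) → mark X D = mark X E)
    {D D' : Subgroup (↥S × ↥S)} (hDm : Nat.card D = m)
    {N1 N2 : Subgroup Ω} {g1 g2 : Ω → Ω} (h1 : FRel F N1 g1) (h2 : FRel F N2 g2)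
    (hN : ∀ a b : ↥S, (a, b) ∈ Subgroup.normalizer (D : Set (↥S × ↥S)) →
      (a : Ω) ∈ N1 ∧ (b : Ω) ∈ N2)
    (hD' : ∀ a' b' : ↥S, (a', b') ∈ D' ↔ ∃ a b : ↥S, (a, b) ∈ D ∧ g1 a = a' ∧ g2 b = b') :
    mark X D ≡ mark X D'
      [MOD Nat.card (Subgroup.normalizer (D : Set (↥S × ↥S))) / Nat.card D] := by
  have hDN : D ≤ Subgroup.normalizer (D : Set (↥S × ↥S)) := Subgroup.le_normalizer
  have hmap : (D.subgroupOf (Subgroup.normalizer (D : Set (↥S × ↥S)))).map (prodHom h1 h2 hN)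
      = D' := by
    ext ⟨a', b'⟩
    rw [mem_map_prodHom hDN, hD']
  have key := mark_modEq_of_hom (X := X) D (Subgroup.normalizer (D : Set (↥S × ↥S))) hDN
    (prodHom h1 h2 hN) ?_
  · rw [hmap] at key
    exact key
  · intro n hn
    rw [← map_sup_zpowers D _ hDN n (prodHom h1 h2 hN)]
    have hKN : D ⊔ Subgroup.zpowers (n : ↥S × ↥S)
        ≤ Subgroup.normalizer (D : Set (↥S × ↥S)) :=
      sup_le hDN (by rw [Subgroup.zpowers_le]; exact n.2)
    apply mark_map_prod hX h1 h2 (fun a b hab => hN a b (hKN hab))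
      (fun a' b' => mem_map_prodHom hKN h1 h2 hN a' b')
    intro D1 E1 hD1 hE1 hcard hconj
    apply hst D1 E1 hD1 hE1 _ hconj
    rw [hcard, ← hDm]
    apply card_lt_of_lt
    refine lt_of_le_of_ne le_sup_left ?_
    intro heq
    apply hn
    have h3 : (n : ↥S × ↥S) ∈ D ⊔ Subgroup.zpowers (n : ↥S × ↥S) :=
      (le_sup_right : Subgroup.zpowers (n : ↥S × ↥S) ≤ _) (Subgroup.mem_zpowers _)
    exact heq.ge h3

/-- elements of the normalizer of a graph subgroup -/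
theorem mem_normalizer_graph {F : FusionSystem S} {D : Subgroup (↥S × ↥S)} {Q : Subgroup Ω}
    {f : Ω → Ω} (hf : FRel F Q f) (hD : ∀ a b : ↥S, (a, b) ∈ D ↔ (a : Ω) ∈ Q ∧ f a = b)
    {a b : ↥S} (hab : (a, b) ∈ Subgroup.normalizer (D : Set (↥S × ↥S))) {x : Ω} (hx : x ∈ Q) :
    (a : Ω) * x * (a : Ω)⁻¹ ∈ Q ∧
      f ((a : Ω) * x * (a : Ω)⁻¹) = (b : Ω) * f x * (b : Ω)⁻¹ := by
  rw [Subgroup.mem_normalizer_iff] at hab
  have h1 : ((⟨x, hf.le hx⟩ : ↥S), (⟨f x, hf.mem hx⟩ : ↥S)) ∈ D := (hD _ _).mpr ⟨hx, rfl⟩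
  have h2 := (hab _).mp h1
  have e : ((a, b) : ↥S × ↥S) * (⟨x, hf.le hx⟩, ⟨f x, hf.mem hx⟩) * (a, b)⁻¹
      = (a * ⟨x, hf.le hx⟩ * a⁻¹, b * ⟨f x, hf.mem hx⟩ * b⁻¹) := rfl
  rw [e] at h2
  exact (hD _ _).mp h2

/-- the key congruence: the mark at a graph subgroup of order `m` agrees, modulo the order of
its Weyl group, with the mark at the diagonal of a fully normalized conjugate of its source -/
theorem mark_modEq_dg [Finite S] {p : ℕ} [Fact p.Prime] (hS : IsPGroup p S)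
    {F : FusionSystem S} (hF : F.IsSaturated p) {X : Type*} [MulAction (↥S × ↥S) X] [Finite X]
    (hX : ∀ x : X, IsFG F (stabilizer (↥S × ↥S) x)) {m : ℕ}
    (hst : ∀ D E : Subgroup (↥S × ↥S), IsFG F D → IsFG F E → m < Nat.card D →
      F.IsConj (src D) (src E) → mark X D = mark X E)
    {D : Subgroup (↥S × ↥S)} (hD : IsFG F D) (hDm : Nat.card D = m)
    {R : Subgroup Ω} (hR : F.IsFullyNormalized R) (hc : F.IsConj (src D) R) :
    mark X D ≡ mark X (dg S R)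
      [MOD Nat.card (Subgroup.normalizer (D : Set (↥S × ↥S))) / Nat.card D] := by
  obtain ⟨Q, f, hf, hDf⟩ := hD
  rw [src_eq hf hDf] at hc
  obtain ⟨Q', k, hk, hQQ', hQ'mem, hk1, hk2⟩ := hf.exists_inv
  have hQ'R : F.IsConj Q' R := isConj_trans F (isConj_symm F hQQ') hc
  have hRa := fullyAutomized_of_fullyNormalized hS F hF hR
  have hRr := receptive_of_fullyCentralized hS F hF
    (fullyCentralized_of_fullyNormalized hS F hF hR)
  obtain ⟨χ, hχ, hχN, hχQ⟩ := exists_normalizer_hom hS F R Q' hRa hRr hQ'R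
  obtain ⟨g2, hg2, hg2e⟩ := FRel.ofHom hχ
  have hQ'S : Q' ≤ S := isConj_le_left F hQ'R
  have hQ'N : Q' ≤ normalizerIn S Q' := self_le_normalizerIn' hQ'S
  have hfQ' : ∀ x ∈ Q, f x ∈ Q' := fun x hx => (hQ'mem _).mpr ⟨x, hx, rfl⟩
  obtain ⟨ω, hω, hωe⟩ := hf.comp hg2 (fun x hx => hQ'N (hfQ' x hx))
  have hωe' : ∀ x : Q, ω x = g2 (f x) := hωe
  have hg2R : ∀ y ∈ Q', g2 y ∈ R := by
    intro y hy
    rw [← hχQ]
    refine ⟨⟨y, hQ'N hy⟩, Subgroup.mem_subgroupOf.mpr hy, ?_⟩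
    exact (hg2e ⟨y, hQ'N hy⟩).symm
  have hωr : ω.range = R := by
    apply le_antisymm
    · rintro _ ⟨x, rfl⟩
      rw [hωe']
      exact hg2R _ (hfQ' _ x.2)
    · intro y hy
      rw [← hχQ] at hy
      obtain ⟨z, hz, rfl⟩ := hy
      obtain ⟨x, hx, hxz⟩ := (hQ'mem _).mp (Subgroup.mem_subgroupOf.mp hz)
      refine ⟨⟨x, hx⟩, ?_⟩
      rw [hωe']
      show g2 (f x) = χ z
      rw [hxz, hg2e]
  obtain ⟨ψ, hψ, hψe⟩ := hRr.2 Q ω hω hωr
  obtain ⟨g1, hg1, hg1e⟩ := FRel.ofHom hψ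
  have hN : ∀ a b : ↥S, (a, b) ∈ Subgroup.normalizer (D : Set (↥S × ↥S)) →
      (a : Ω) ∈ extender S Q ω ∧ (b : Ω) ∈ normalizerIn S Q' := by
    intro a b hab
    have hab' : ((a⁻¹, b⁻¹) : ↥S × ↥S) ∈ Subgroup.normalizer (D : Set (↥S × ↥S)) :=
      Subgroup.inv_mem _ hab
    have haN : (a : Ω) ∈ Subgroup.normalizer (Q : Set Ω) := by
      rw [Subgroup.mem_normalizer_iff]
      intro x
      constructor
      · intro hx
        exact (mem_normalizer_graph hf hDf hab hx).1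
      · intro hx
        have h3 := (mem_normalizer_graph hf hDf hab' hx).1
        have e : ((a⁻¹ : ↥S) : Ω) * ((a : Ω) * x * (a : Ω)⁻¹) * ((a⁻¹ : ↥S) : Ω)⁻¹ = x := by
          rw [Subgroup.coe_inv]; group
        rwa [e] at h3
    have hbN : (b : Ω) ∈ Subgroup.normalizer (Q' : Set Ω) := by
      rw [Subgroup.mem_normalizer_iff]
      intro y
      constructor
      · intro hy
        obtain ⟨x, hx, rfl⟩ := (hQ'mem _).mp hy
        obtain ⟨h3, h4⟩ := mem_normalizer_graph hf hDf hab hx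
        rw [← h4]
        exact hfQ' _ h3
      · intro hy
        obtain ⟨x, hx, hxy⟩ := (hQ'mem _).mp hy
        obtain ⟨h3, h4⟩ := mem_normalizer_graph hf hDf hab' hx
        have e : ((b⁻¹ : ↥S) : Ω) * f x * ((b⁻¹ : ↥S) : Ω)⁻¹ = y := by
          rw [hxy, Subgroup.coe_inv]; group
        rw [e] at h4
        rw [← h4]
        exact hfQ' _ h3
    have hbN' : (b : Ω) ∈ normalizerIn S Q' := mem_normalizerIn.mpr ⟨b.2, hbN⟩
    refine ⟨?_, hbN'⟩
    apply Subgroup.subset_closure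
    refine ⟨a.2, haN, g2 b, hg2.mem hbN', ?_⟩
    intro x hx
    rw [hωe', hωe']
    show g2 (f ((a : Ω) * x * (a : Ω)⁻¹)) = g2 b * g2 (f x) * (g2 b)⁻¹
    obtain ⟨-, h4⟩ := mem_normalizer_graph hf hDf hab x.2
    have hfx : f x ∈ normalizerIn S Q' := hQ'N (hfQ' _ x.2)
    rw [h4, hg2.map_mul (mul_mem hbN' hfx) (inv_mem hbN'), hg2.map_mul hbN' hfx,
      hg2.map_inv hbN']
  have hD' : ∀ a' b' : ↥S, (a', b') ∈ dg S R ↔
      ∃ a b : ↥S, (a, b) ∈ D ∧ g1 a = a' ∧ g2 b = b' := by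
    intro a' b'
    rw [mem_dg]
    constructor
    · rintro ⟨ha', hab'⟩
      rw [← hωr] at ha'
      obtain ⟨x, hx⟩ := ha'
      have hxE : (x : Ω) ∈ extender S Q ω :=
        le_extender hf.le ω (fun y => hom_mem F hω y) x.2
      refine ⟨⟨x, hf.le x.2⟩, ⟨f x, hf.mem x.2⟩, (hDf _ _).mpr ⟨x.2, rfl⟩, ?_, ?_⟩
      · show g1 (x : Ω) = a'
        rw [← hx]
        exact (hg1e ⟨x, hxE⟩).trans (hψe x x.2 hxE)
      · show g2 (f x) = b'
        rw [← hab', ← hx, hωe']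
    · rintro ⟨a, b, hab, ha, hb⟩
      obtain ⟨haQ, hfa⟩ := (hDf a b).mp hab
      have haE : (a : Ω) ∈ extender S Q ω :=
        le_extender hf.le ω (fun y => hom_mem F hω y) haQ
      have e1 : g1 a = ω ⟨a, haQ⟩ := (hg1e ⟨a, haE⟩).trans (hψe a haQ haE)
      have e2 : ω ⟨a, haQ⟩ = g2 b := by
        rw [hωe']
        show g2 (f a) = g2 b
        rw [hfa]
      refine ⟨?_, ?_⟩
      · rw [← ha, e1, ← hωr]
        exact ⟨_, rfl⟩
      · rw [← ha, ← hb, e1, e2]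
  exact mark_modEq_prod hX hst hDm hg1 hg2 hN hD'

end Cfsg.Agent.Lib.Helper2.Tr
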