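import Cfsg.Agent.Lib.Helper2.Tr5

set_option autoImplicit false

/-!
# Adding orbits: the inductive step of the construction of a characteristic biset
-/

namespace Cfsg.Agent.Lib.Helper2.Tr

open Cfsg Cfsg.FusionSystem Cfsg.Agent.Lib.Helper9 MulAction

universe u

section general

variable {G : Type*} [Group G]

theorem stabilizer_inl {X Y : Type*} [MulAction G X] [MulAction G Y] (x : X) :
    stabilizer G (Sum.inl x : X ⊕ Y) = stabilizer G x := by
  ext g
  rw [mem_stabilizer_iff, mem_stabilizer_iff]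
  constructor
  · intro h
    exact Sum.inl_injective h
  · intro h
    show Sum.inl (g • x) = Sum.inl x
    rw [h]

theorem stabilizer_inr {X Y : Type*} [MulAction G X] [MulAction G Y] (y : Y) :
    stabilizer G (Sum.inr y : X ⊕ Y) = stabilizer G y := by
  ext g
  rw [mem_stabilizer_iff, mem_stabilizer_iff]
  constructor
  · intro h
    exact Sum.inr_injective h
  · intro h
    show Sum.inr (g • y) = Sum.inr y
    rw [h]

theorem stabilizer_sigma {ι : Type*} {Z : ι → Type*} [∀ i, MulAction G (Z i)] (i : ι)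
    (y : Z i) : stabilizer G (⟨i, y⟩ : Σ i, Z i) = stabilizer G y := by
  ext g
  rw [mem_stabilizer_iff, mem_stabilizer_iff]
  constructor
  · intro h
    have h' : (⟨i, g • y⟩ : Σ i, Z i) = ⟨i, y⟩ := h
    exact sigma_mk_injective h'
  · intro h
    show (⟨i, g • y⟩ : Σ i, Z i) = ⟨i, y⟩
    rw [h]

theorem mark_quot_eq_zero [Finite G] {D E : Subgroup G} (hcard : Nat.card D ≤ Nat.card E)
    (hne : ¬ cj D E) : mark (G ⧸ D) E = 0 := by
  by_contra h
  obtain ⟨D', hDD', hED'⟩ := mark_quot_pos (Nat.pos_of_ne_zero h)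
  apply hne
  have : E = D' := Subgroup.eq_of_le_of_card_ge hED' (by rw [← cj_card hDD']; exact hcard)
  rw [this]
  exact hDD'

theorem mark_quot_lt [Finite G] {D E : Subgroup G} (h : Nat.card D < Nat.card E) :
    mark (G ⧸ D) E = 0 := by
  apply mark_quot_eq_zero h.le
  intro hc
  have := cj_card hc
  omega

theorem mark_quot_cj [Finite G] {D E : Subgroup G} (h : cj D E) :
    mark (G ⧸ D) E * Nat.card D = Nat.card (Subgroup.normalizer (D : Set G)) := by
  rw [mark_conj h]
  exact mark_quot_self D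

theorem sum_sigma_fin {ι : Type*} [Fintype ι] (c : ι → ℕ) (g : ι → ℕ) :
    ∑ j : (Σ i : ι, Fin (c i)), g j.1 = ∑ i, c i * g i := by
  rw [Fintype.sum_sigma]
  apply Finset.sum_congr rfl
  intro i _
  simp

end general

variable {Ω : Type u} [Group Ω] {S : Subgroup Ω}

theorem card_eq_of_isConj (F : FusionSystem S) {P Q : Subgroup Ω} (h : F.IsConj P Q) :
    Nat.card P = Nat.card Q := by
  obtain ⟨φ, hφ, hQ⟩ := h
  exact Nat.card_congr (equivOfRange φ (F.injective_of_mem hφ) hQ).toEquiv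

/-- the set of fully normalized conjugates of a subgroup -/
def fnSet (F : FusionSystem S) (P : Subgroup Ω) : Set (Subgroup Ω) :=
  {Q | F.IsConj P Q ∧ F.IsFullyNormalized Q}

theorem fnSet_eq (F : FusionSystem S) {P P' : Subgroup Ω} (h : F.IsConj P P') :
    fnSet F P = fnSet F P' := by
  ext Q
  constructor
  · rintro ⟨h1, h2⟩
    exact ⟨isConj_trans F (isConj_symm F h) h1, h2⟩
  · rintro ⟨h1, h2⟩
    exact ⟨isConj_trans F h h1, h2⟩

open Classical in
/-- a choice of an element of a set of subgroups -/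
noncomputable def pick (s : Set (Subgroup Ω)) : Subgroup Ω :=
  if h : s.Nonempty then h.some else ⊥

/-- a fully normalized representative of the class of `P`, depending only on the class -/
noncomputable def fnRep (F : FusionSystem S) (P : Subgroup Ω) : Subgroup Ω := pick (fnSet F P)

theorem fnRep_eq (F : FusionSystem S) {P P' : Subgroup Ω} (h : F.IsConj P P') :
    fnRep F P = fnRep F P' := congrArg pick (fnSet_eq F h)

theorem fnRep_spec [Finite S] (F : FusionSystem S) {P : Subgroup Ω} (hP : P ≤ S) :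
    F.IsConj P (fnRep F P) ∧ F.IsFullyNormalized (fnRep F P) := by
  have hne : (fnSet F P).Nonempty := by
    obtain ⟨Q, h1, h2⟩ := exists_isConj_fullyNormalized F hP
    exact ⟨Q, h1, h2⟩
  have : fnRep F P = hne.some := by
    unfold fnRep pick
    exact dif_pos hne
  rw [this]
  exact hne.some_mem

/-- the data carried along the construction -/
structure Good (p : ℕ) (F : FusionSystem S) (m : ℕ) (X : Type u) [MulAction (↥S × ↥S) X] :
    Prop where
  fin : Finite X
  fg : ∀ x : X, IsFG F (stabilizer (↥S × ↥S) x)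
  st : ∀ D E : Subgroup (↥S × ↥S), IsFG F D → IsFG F E → m < Nat.card D →
      F.IsConj (src D) (src E) → mark X D = mark X E
  cd : ∃ k : ℕ, Nat.card X = k * Nat.card S ∧ ¬ p ∣ k

theorem IsFG.card_dvd {F : FusionSystem S} {D : Subgroup (↥S × ↥S)} (hD : IsFG F D) :
    Nat.card D ∣ Nat.card S := by
  rw [hD.card_eq]
  exact Subgroup.card_dvd_of_le (Tr.src_le D)

theorem IsFG.card_eq_of_conj {F : FusionSystem S} {D E : Subgroup (↥S × ↥S)} (hD : IsFG F D)
    (hE : IsFG F E) (h : F.IsConj (src D) (src E)) : Nat.card D = Nat.card E := by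
  rw [hD.card_eq, hE.card_eq]
  exact card_eq_of_isConj F h

/-- the size of the orbits which are added -/
theorem card_quot_eq [Finite S] {p : ℕ} [Fact p.Prime] (hS : IsPGroup p S) {F : FusionSystem S}
    {m : ℕ} (hm : m < Nat.card S) {E0 : Subgroup (↥S × ↥S)} (hE0 : IsFG F E0)
    (hc : Nat.card E0 = m) :
    ∃ r, Nat.card ((↥S × ↥S) ⧸ E0) = p * r * Nat.card S := by
  obtain ⟨q, hq⟩ := hE0.card_dvd
  obtain ⟨n, hn⟩ := IsPGroup.iff_card.mp hS
  have hqd : q ∣ p ^ n := by
    rw [← hn, hq]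
    exact Dvd.intro_left _ rfl
  obtain ⟨j, hj, rfl⟩ := (Nat.dvd_prime_pow (Fact.out : p.Prime)).mp hqd
  have hj0 : j ≠ 0 := by
    rintro rfl
    rw [pow_zero, mul_one] at hq
    omega
  obtain ⟨j', rfl⟩ := Nat.exists_eq_succ_of_ne_zero hj0
  refine ⟨p ^ j', ?_⟩
  have h1 := Subgroup.card_eq_card_quotient_mul_card_subgroup E0
  rw [Nat.card_prod] at h1
  have hpos : 0 < Nat.card E0 := Nat.card_pos
  apply Nat.eq_of_mul_eq_mul_right hpos
  rw [← h1]
  calc Nat.card S * Nat.card S = (Nat.card E0 * p ^ (j' + 1)) * Nat.card S := by rw [← hq]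
    _ = p * p ^ j' * Nat.card S * Nat.card E0 := by rw [pow_succ]; ring

/-- adding a family of orbits at level `m` -/
theorem good_add [Finite S] {p : ℕ} [Fact p.Prime] (hS : IsPGroup p S) {F : FusionSystem S}
    {m : ℕ} (hm : m < Nat.card S) {X : Type u} [MulAction (↥S × ↥S) X] (hX : Good p F m X)
    {ι : Type u} [Fintype ι] (E : ι → Subgroup (↥S × ↥S))
    (hE : ∀ i, IsFG F (E i) ∧ Nat.card (E i) = m)
    (tgt : Subgroup Ω → ℕ) (htgt : ∀ P P' : Subgroup Ω, F.IsConj P P' → tgt P = tgt P')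
    (hsum : ∀ D : Subgroup (↥S × ↥S), IsFG F D → Nat.card D = m →
      mark X D + ∑ i, mark ((↥S × ↥S) ⧸ E i) D = tgt (src D)) :
    Good p F (m - 1) (X ⊕ Σ i, (↥S × ↥S) ⧸ E i) := by
  have := hX.fin
  refine ⟨inferInstance, ?_, ?_, ?_⟩
  · rintro (x | ⟨i, y⟩)
    · rw [stabilizer_inl]
      exact hX.fg x
    · rw [stabilizer_inr, stabilizer_sigma]
      induction y using QuotientGroup.induction_on with
      | H g => exact ((hE i).1.conj (cj_stabilizer_quot (E i) g)).1
  · intro D E' hD hE' hlt hconj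
    have hcard : Nat.card D = Nat.card E' := hD.card_eq_of_conj hE' hconj
    rw [mark_sum, mark_sum, mark_sigma, mark_sigma]
    rcases Nat.lt_or_ge m (Nat.card D) with h | h
    · have z1 : ∑ i, mark ((↥S × ↥S) ⧸ E i) D = 0 :=
        Finset.sum_eq_zero (fun i _ => mark_quot_lt (by rw [(hE i).2]; exact h))
      have z2 : ∑ i, mark ((↥S × ↥S) ⧸ E i) E' = 0 :=
        Finset.sum_eq_zero (fun i _ => mark_quot_lt (by rw [(hE i).2, ← hcard]; exact h))
      rw [z1, z2, add_zero, add_zero]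
      exact hX.st D E' hD hE' h hconj
    · have h1 : Nat.card D = m := by omega
      rw [hsum D hD h1, hsum E' hE' (hcard ▸ h1)]
      exact htgt _ _ hconj
  · obtain ⟨k, hk, hpk⟩ := hX.cd
    have hr : ∀ i, ∃ r, Nat.card ((↥S × ↥S) ⧸ E i) = p * r * Nat.card S :=
      fun i => card_quot_eq hS hm (hE i).1 (hE i).2
    choose r hr using hr
    refine ⟨k + p * ∑ i, r i, ?_, ?_⟩
    · rw [Nat.card_sum, Nat.card_sigma, hk]
      simp only [hr]
      rw [← Finset.sum_mul, ← Finset.mul_sum]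
      ring
    · intro h
      exact hpk ((Nat.dvd_add_left (Dvd.intro _ rfl)).mp h)

/-- the target value of the marks at level `m` -/
noncomputable def tgtM (F : FusionSystem S) (X : Type u) [MulAction (↥S × ↥S) X]
    (P : Subgroup Ω) : ℕ :=
  mark X (dg S (fnRep F P)) + Nat.card X * Nat.card (↥S × ↥S)

theorem tgtM_conj (F : FusionSystem S) (X : Type u) [MulAction (↥S × ↥S) X] {P P' : Subgroup Ω}
    (h : F.IsConj P P') : tgtM F X P = tgtM F X P' := by
  unfold tgtM
  rw [fnRep_eq F h]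

/-- the order of the Weyl group -/
noncomputable def wy (E : Subgroup (↥S × ↥S)) : ℕ :=
  Nat.card (Subgroup.normalizer (E : Set (↥S × ↥S))) / Nat.card E

/-- the number of orbits to be added -/
noncomputable def cnt (F : FusionSystem S) (X : Type u) [MulAction (↥S × ↥S) X]
    (E : Subgroup (↥S × ↥S)) : ℕ :=
  (tgtM F X (src E) - mark X E) / wy E

theorem wy_dvd [Finite S] {p : ℕ} [Fact p.Prime] (hS : IsPGroup p S) {F : FusionSystem S}
    (hF : F.IsSaturated p) {m : ℕ} {X : Type u} [MulAction (↥S × ↥S) X] (hX : Good p F m X)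
    {E0 : Subgroup (↥S × ↥S)} (hE0 : IsFG F E0) (hc : Nat.card E0 = m) :
    mark X E0 ≤ tgtM F X (src E0) ∧ wy E0 ∣ tgtM F X (src E0) - mark X E0 := by
  have := hX.fin
  obtain ⟨h1, h2⟩ := fnRep_spec F (src_le E0)
  have hmod := mark_modEq_dg hS hF hX.fg hX.st hE0 hc h2 h1
  have hle : mark X E0 ≤ tgtM F X (src E0) := by
    unfold tgtM
    have h3 := mark_le_card (X := X) E0
    have hG : 0 < Nat.card (↥S × ↥S) := Nat.card_pos
    calc mark X E0 ≤ Nat.card X := h3
      _ = Nat.card X * 1 := (mul_one _).symm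
      _ ≤ Nat.card X * Nat.card (↥S × ↥S) := Nat.mul_le_mul_left _ hG
      _ ≤ _ := Nat.le_add_left _ _
  refine ⟨hle, ?_⟩
  rw [← Nat.modEq_iff_dvd' hle]
  have hwG : wy E0 ∣ Nat.card X * Nat.card (↥S × ↥S) := by
    apply Dvd.dvd.mul_left
    unfold wy
    exact (Nat.div_dvd_of_dvd (Subgroup.card_dvd_of_le Subgroup.le_normalizer)).trans
      (Subgroup.card_subgroup_dvd_card _)
  obtain ⟨t, ht⟩ := hwG
  unfold tgtM
  rw [ht]
  show mark X E0 % wy E0 = (mark X (dg S (fnRep F (src E0))) + wy E0 * t) % wy E0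
  rw [Nat.add_mul_mod_self_left]
  exact hmod

/-- representatives of the conjugacy classes of graph subgroups of order `m` -/
abbrev Reps (F : FusionSystem S) (m : ℕ) : Type u :=
  {E : Subgroup (↥S × ↥S) // IsFG F E ∧ Nat.card E = m ∧ rep E = E}

/-- the inductive step -/
theorem good_step [Finite S] {p : ℕ} [Fact p.Prime] (hS : IsPGroup p S) {F : FusionSystem S}
    (hF : F.IsSaturated p) {m : ℕ} (hm : m < Nat.card S) {X : Type u} [MulAction (↥S × ↥S) X]
    (hX : Good p F m X) :
    ∃ (X' : Type u) (_ : MulAction (↥S × ↥S) X'), Good p F (m - 1) X' := by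
  classical
  have := hX.fin
  haveI : Fintype (Reps F m) := Fintype.ofFinite _
  refine ⟨X ⊕ Σ j : (Σ E0 : Reps F m, Fin (cnt F X E0.1)), (↥S × ↥S) ⧸ j.1.1, inferInstance, ?_⟩
  apply good_add hS hm hX (fun j : (Σ E0 : Reps F m, Fin (cnt F X E0.1)) => j.1.1)
    (fun j => ⟨j.1.2.1, j.1.2.2.1⟩) (tgtM F X) (fun P P' h => tgtM_conj F X h)
  intro D hD hDm
  have hcj : cj (rep D) D := cj_rep D
  have hrD : IsFG F (rep D) := (hD.conj (cj_symm hcj)).1
  have hrc : Nat.card (rep D) = m := by rw [cj_card hcj]; exact hDm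
  have hsrc : F.IsConj (src (rep D)) (src D) := (hrD.conj hcj).2
  have hsum1 : ∑ j : (Σ E0 : Reps F m, Fin (cnt F X E0.1)), mark ((↥S × ↥S) ⧸ j.1.1) D
      = ∑ E0 : Reps F m, cnt F X E0.1 * mark ((↥S × ↥S) ⧸ E0.1) D :=
    sum_sigma_fin (fun E0 : Reps F m => cnt F X E0.1)
      (fun E0 : Reps F m => mark ((↥S × ↥S) ⧸ E0.1) D)
  rw [hsum1]
  rw [Finset.sum_eq_single (⟨rep D, hrD, hrc, rep_rep D⟩ : Reps F m)]
  · obtain ⟨hle, hdvd⟩ := wy_dvd hS hF hX hrD hrc
    have hw : mark ((↥S × ↥S) ⧸ rep D) D = wy (rep D) := by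
      have h1 := mark_quot_cj hcj
      unfold wy
      exact (Nat.div_eq_of_eq_mul_left Nat.card_pos h1.symm).symm
    show mark X D + cnt F X (rep D) * mark ((↥S × ↥S) ⧸ rep D) D = tgtM F X (src D)
    rw [hw]
    unfold cnt
    rw [Nat.div_mul_cancel hdvd, mark_conj (X := X) hcj, Nat.add_sub_of_le hle]
    exact tgtM_conj F X hsrc
  · intro E0 _ hne
    have : mark ((↥S × ↥S) ⧸ E0.1) D = 0 := by
      apply mark_quot_eq_zero
      · rw [E0.2.2.1, hDm]
      · intro hc
        apply hne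
        apply Subtype.ext
        show E0.1 = rep D
        rw [← E0.2.2.2]
        exact rep_eq hc
    rw [this, mul_zero]
  · intro h
    exact absurd (Finset.mem_univ _) h

end Cfsg.Agent.Lib.Helper2.Tr
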