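import Cfsg.Agent.Lib.Helper2.Tr6

set_option autoImplicit false

/-!
# The top level of the construction, and the existence of a characteristic biset
-/

namespace Cfsg.Agent.Lib.Helper2.Tr

open Cfsg Cfsg.FusionSystem Cfsg.Agent.Lib.Helper9 MulAction

universe u

variable {Ω : Type u} [Group Ω] {S : Subgroup Ω}

/-- the graph of an automorphism of `S` -/
def gphA (α : MulAut ↥S) : Subgroup (↥S × ↥S) where
  carrier := {ab | α ab.1 = ab.2}
  one_mem' := map_one α
  mul_mem' := by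
    rintro a b ha hb
    have ha' : α a.1 = a.2 := ha
    have hb' : α b.1 = b.2 := hb
    show α (a.1 * b.1) = a.2 * b.2
    rw [map_mul, ha', hb']
  inv_mem' := by
    rintro a ha
    have ha' : α a.1 = a.2 := ha
    show α a.1⁻¹ = a.2⁻¹
    rw [map_inv, ha']

theorem mem_gphA {α : MulAut ↥S} {a b : ↥S} : (a, b) ∈ gphA α ↔ α a = b := Iff.rfl

theorem isFG_gphA (F : FusionSystem S) {α : MulAut ↥S} (hα : α ∈ F.autGroup S) :
    IsFG F (gphA α) := by
  have h1 := hom_of_mem_autGroup F le_rfl hα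
  obtain ⟨g, hg, hge⟩ := FRel.ofHom h1
  refine ⟨S, g, hg, fun a b => ?_⟩
  rw [mem_gphA]
  have e : g a = ((α a : ↥S) : Ω) := hge a
  constructor
  · intro h
    exact ⟨a.2, by rw [e, h]⟩
  · rintro ⟨-, h⟩
    exact Subtype.ext (e.symm.trans h)

theorem card_gphA (α : MulAut ↥S) : Nat.card (gphA α) = Nat.card S := by
  apply Nat.card_congr
  exact
    { toFun := fun d => d.1.1
      invFun := fun a => ⟨(a, α a), mem_gphA.mpr rfl⟩
      left_inv := by
        rintro ⟨⟨a, b⟩, h⟩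
        apply Subtype.ext
        exact Prod.ext rfl h
      right_inv := fun a => rfl }

theorem exists_gphA [Finite S] (F : FusionSystem S) {D : Subgroup (↥S × ↥S)} (hD : IsFG F D)
    (hc : Nat.card D = Nat.card S) : ∃ β ∈ F.autGroup S, D = gphA β := by
  have hc' := hD.card_eq
  obtain ⟨P, f, hf, hDf⟩ := hD
  rw [src_eq hf hDf] at hc'
  have hPS : P = S := Subgroup.eq_of_le_of_card_ge hf.le (by rw [← hc', hc])
  subst hPS
  obtain ⟨φ, hφ, hφf⟩ := hf
  have hrange : φ.range = P := by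
    apply le_antisymm (range_le F hφ)
    intro y hy
    have hinj : Function.Injective (fun x : ↥P => (⟨φ x, hom_mem F hφ x⟩ : ↥P)) :=
      fun a b hab => F.injective_of_mem hφ (congrArg Subtype.val hab)
    obtain ⟨x, hx⟩ := (Finite.injective_iff_surjective.mp hinj) ⟨y, hy⟩
    exact ⟨x, congrArg Subtype.val hx⟩
  obtain ⟨β, hβ, hβe⟩ := exists_aut_of_hom F hφ hrange
  refine ⟨β, hβ, ?_⟩
  ext ⟨a, b⟩
  rw [hDf, mem_gphA]
  have e : f a = ((β a : ↥P) : Ω) := by rw [hβe, hφf]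
  constructor
  · rintro ⟨-, h⟩
    exact Subtype.ext (e.symm.trans h)
  · intro h
    exact ⟨a.2, by rw [e, h]⟩

theorem cj_gphA_of_inn {α β : MulAut ↥S} (h : α⁻¹ * β ∈ autInducedBy S S) :
    cj (gphA α) (gphA β) := by
  obtain ⟨u, hu, hue⟩ := (mem_autInducedBy_iff S S _).mp h
  have hβ : ∀ x : ↥S, β x = α (⟨u, hu⟩ * x * ⟨u, hu⟩⁻¹) := by
    intro x
    have h1 : (α⁻¹ * β) x = ⟨u, hu⟩ * x * ⟨u, hu⟩⁻¹ := Subtype.ext (hue x)
    have h2 : α ((α⁻¹ * β) x) = β x := MulAut.apply_inv_self _ α (β x)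
    rw [← h2, h1]
  refine ⟨((⟨u, hu⟩ : ↥S)⁻¹, 1), ?_⟩
  rintro ⟨a, b⟩
  rw [mem_gphA, hβ]
  have e : (((⟨u, hu⟩ : ↥S)⁻¹, (1 : ↥S)) : ↥S × ↥S)⁻¹ * (a, b) * ((⟨u, hu⟩ : ↥S)⁻¹, 1)
      = (⟨u, hu⟩ * a * ⟨u, hu⟩⁻¹, b) := by
    rw [Prod.inv_mk, Prod.mk_mul_mk, Prod.mk_mul_mk]
    simp
  rw [e, mem_gphA]

theorem inn_of_cj_gphA {α β : MulAut ↥S} (h : cj (gphA α) (gphA β)) :
    α⁻¹ * β ∈ autInducedBy S S := by
  obtain ⟨⟨u, v⟩, huv⟩ := h
  have key : ∀ a : ↥S, α (u⁻¹ * a * u) = v⁻¹ * β a * v := by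
    intro a
    have h1 := (huv (a, β a)).mp (mem_gphA.mpr rfl)
    have e : ((u, v) : ↥S × ↥S)⁻¹ * (a, β a) * (u, v) = (u⁻¹ * a * u, v⁻¹ * β a * v) := rfl
    rw [e, mem_gphA] at h1
    exact h1
  rw [mem_autInducedBy_iff]
  refine ⟨((α⁻¹ v * u⁻¹ : ↥S) : Ω), (α⁻¹ v * u⁻¹ : ↥S).2, fun x => ?_⟩
  have h2 : β x = v * α (u⁻¹ * x * u) * v⁻¹ := by
    rw [key]
    group
  have h3 : (α⁻¹ * β) x = α⁻¹ v * u⁻¹ * x * (α⁻¹ v * u⁻¹)⁻¹ := by
    show α⁻¹ (β x) = _
    rw [h2, map_mul, map_mul, map_inv, MulAut.inv_apply_self]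
    group
  rw [h3]
  rfl

theorem card_normalizer_gphA (α : MulAut ↥S) :
    Nat.card (Subgroup.normalizer ((gphA α : Subgroup (↥S × ↥S)) : Set (↥S × ↥S)))
      = Nat.card (Subgroup.normalizer
          ((gphA (1 : MulAut ↥S) : Subgroup (↥S × ↥S)) : Set (↥S × ↥S))) := by
  have hmap : (gphA (1 : MulAut ↥S)).map
      (MulEquiv.prodCongr (MulEquiv.refl ↥S) α).toMonoidHom = gphA α := by
    ext ⟨a, b⟩
    rw [Subgroup.mem_map, mem_gphA]
    constructor
    · rintro ⟨⟨x, y⟩, hxy, he⟩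
      have hxy' : x = y := hxy
      have h1 : x = a := congrArg Prod.fst he
      have h2 : α y = b := congrArg Prod.snd he
      rw [← h1, hxy', h2]
    · intro h
      exact ⟨(a, a), mem_gphA.mpr rfl, Prod.ext rfl h⟩
  have h2 := Subgroup.map_equiv_normalizer_eq (gphA (1 : MulAut ↥S))
    (MulEquiv.prodCongr (MulEquiv.refl ↥S) α)
  rw [hmap] at h2
  rw [← h2]
  exact Subgroup.card_map_of_injective (MulEquiv.prodCongr (MulEquiv.refl ↥S) α).injective

/-- the orbit types at the top level -/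
noncomputable def topE (F : FusionSystem S) (R : Subgroup (F.autGroup S))
    (q : ↥(F.autGroup S) ⧸ R) : Subgroup (↥S × ↥S) :=
  gphA ((Quotient.out q : F.autGroup S) : MulAut ↥S)

/-- the automorphisms induced by `S`, inside `Aut_F(S)` -/
def innSub (F : FusionSystem S) : Subgroup (F.autGroup S) :=
  (autInducedBy S S).subgroupOf (F.autGroup S)

theorem mark_top [Finite S] (F : FusionSystem S)
    [Fintype (↥(F.autGroup S) ⧸ innSub F)] {D : Subgroup (↥S × ↥S)} (hD : IsFG F D)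
    (hc : Nat.card D = Nat.card S) :
    mark (Σ q, (↥S × ↥S) ⧸ topE F (innSub F) q) D * Nat.card S
      = Nat.card (Subgroup.normalizer
          ((gphA (1 : MulAut ↥S) : Subgroup (↥S × ↥S)) : Set (↥S × ↥S))) := by
  obtain ⟨β, hβ, rfl⟩ := exists_gphA F hD hc
  rw [mark_sigma]
  have hmemR : ∀ q : ↥(F.autGroup S) ⧸ innSub F,
      (q = QuotientGroup.mk ⟨β, hβ⟩ ↔
        ((Quotient.out q : F.autGroup S) : MulAut ↥S)⁻¹ * β ∈ autInducedBy S S) := by
    intro q
    have hq : (QuotientGroup.mk (Quotient.out q) : ↥(F.autGroup S) ⧸ innSub F) = q :=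
      QuotientGroup.out_eq' q
    have h1 : q = QuotientGroup.mk ⟨β, hβ⟩ ↔
        (QuotientGroup.mk (Quotient.out q) : ↥(F.autGroup S) ⧸ innSub F)
          = QuotientGroup.mk ⟨β, hβ⟩ :=
      ⟨fun h => hq.trans h, fun h => hq.symm.trans h⟩
    rw [h1, QuotientGroup.eq]
    unfold innSub
    rw [Subgroup.mem_subgroupOf]
    rfl
  rw [Finset.sum_eq_single (QuotientGroup.mk ⟨β, hβ⟩ : ↥(F.autGroup S) ⧸ innSub F)]
  · have hcj : cj (topE F (innSub F) (QuotientGroup.mk ⟨β, hβ⟩)) (gphA β) :=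
      cj_gphA_of_inn ((hmemR _).mp rfl)
    have h1 := mark_quot_cj hcj
    unfold topE at h1 ⊢
    rw [card_gphA, card_normalizer_gphA] at h1
    exact h1
  · intro q _ hne
    apply mark_quot_eq_zero
    · unfold topE
      rw [card_gphA, card_gphA]
    · intro hcj
      exact hne ((hmemR q).mpr (inn_of_cj_gphA hcj))
  · intro h
    exact absurd (Finset.mem_univ _) h

theorem isFullyNormalized_self [Finite S] (F : FusionSystem S) : F.IsFullyNormalized S := by
  refine ⟨le_rfl, fun Q _ => ?_⟩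
  have h1 : normalizerIn S Q ≤ normalizerIn S S := by
    intro x hx
    exact mem_normalizerIn.mpr ⟨(mem_normalizerIn.mp hx).1,
      Subgroup.le_normalizer (mem_normalizerIn.mp hx).1⟩
  have := finite_normalizerIn (S := S) S
  exact Subgroup.card_le_of_le h1

/-- the top level of the construction -/
theorem good_top [Finite S] {p : ℕ} [Fact p.Prime] (hS : IsPGroup p S) {F : FusionSystem S}
    (hF : F.IsSaturated p) :
    ∃ (X : Type u) (_ : MulAction (↥S × ↥S) X), Good p F (Nat.card S - 1) X := by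
  classical
  obtain ⟨-, R, hR⟩ := fullyAutomized_of_fullyNormalized hS F hF (isFullyNormalized_self F)
  have hidx : ¬ p ∣ (innSub F).index := by
    have h := R.not_dvd_index
    rw [hR] at h
    exact h
  haveI : Fintype (↥(F.autGroup S) ⧸ innSub F) := Fintype.ofFinite _
  refine ⟨Σ q, (↥S × ↥S) ⧸ topE F (innSub F) q, inferInstance, ?_⟩
  have hpos : 0 < Nat.card S := Nat.card_pos
  refine ⟨inferInstance, ?_, ?_, ?_⟩
  · rintro ⟨q, y⟩
    rw [stabilizer_sigma]
    induction y using QuotientGroup.induction_on with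
    | H g =>
      exact ((isFG_gphA F (Quotient.out q : F.autGroup S).2).conj
        (cj_stabilizer_quot _ g)).1
  · intro D E hD hE hlt hconj
    have hcard : Nat.card D = Nat.card E := hD.card_eq_of_conj hE hconj
    have hle : Nat.card D ≤ Nat.card S := Nat.le_of_dvd hpos hD.card_dvd
    have hDc : Nat.card D = Nat.card S := by omega
    have h1 := mark_top F hD hDc
    have h2 := mark_top F hE (hcard ▸ hDc)
    exact Nat.eq_of_mul_eq_mul_right hpos (h1.trans h2.symm)
  · refine ⟨Nat.card (↥(F.autGroup S) ⧸ innSub F), ?_, hidx⟩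
    rw [Nat.card_sigma]
    have hq : ∀ q : ↥(F.autGroup S) ⧸ innSub F,
        Nat.card ((↥S × ↥S) ⧸ topE F (innSub F) q) = Nat.card S := by
      intro q
      have h1 := Subgroup.card_eq_card_quotient_mul_card_subgroup (topE F (innSub F) q)
      rw [Nat.card_prod] at h1
      have h2 : Nat.card (topE F (innSub F) q) = Nat.card S := by
        unfold topE
        exact card_gphA _
      rw [h2] at h1
      exact (Nat.eq_of_mul_eq_mul_right hpos h1).symm
    simp only [hq]
    rw [Finset.sum_const, Finset.card_univ, smul_eq_mul, ← Nat.card_eq_fintype_card]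

/-- the existence of a characteristic biset -/
theorem exists_good [Finite S] {p : ℕ} [Fact p.Prime] (hS : IsPGroup p S) {F : FusionSystem S}
    (hF : F.IsSaturated p) :
    ∃ (X : Type u) (_ : MulAction (↥S × ↥S) X), Good p F 0 X := by
  have hpos : 0 < Nat.card S := Nat.card_pos
  have main : ∀ d : ℕ, ∃ (X : Type u) (_ : MulAction (↥S × ↥S) X),
      Good p F (Nat.card S - 1 - d) X := by
    intro d
    induction d with
    | zero => exact good_top hS hF
    | succ d ih =>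
      obtain ⟨X, inst, hX⟩ := ih
      have hlt : Nat.card S - 1 - d < Nat.card S := by omega
      obtain ⟨X', inst', hX'⟩ := good_step hS hF hlt hX
      refine ⟨X', inst', ?_⟩
      have e : Nat.card S - 1 - (d + 1) = Nat.card S - 1 - d - 1 := by omega
      rw [e]
      exact hX'
  obtain ⟨X, inst, hX⟩ := main (Nat.card S)
  refine ⟨X, inst, ?_⟩
  have e : Nat.card S - 1 - Nat.card S = 0 := by omega
  rw [e] at hX
  exact hX

end Cfsg.Agent.Lib.Helper2.Tr
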