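import Mathlib
import Cfsg.Agent.Lib.Helper5.TwAutDefs2
import Cfsg.Agent.Lib.Helper5.ChevWKer
import Cfsg.Agent.Lib.Helper4.BNPair2

set_option autoImplicit false
set_option linter.style.haveILetI false

/-!
Twisted-Out farm (S2129 ³D₄, S2130 ²E₆), unit B7 (generic part): the node map induced by an
automorphism preserving `U ∩ G1` and `V ∩ G1` is the identity when the twisted diagram is rigid.
The units A2a' (`mapsT_borel`), B3, B5, B6 enter as hypotheses.
-/

namespace Cfsg.Agent.Lib.Helper2.TwAut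

open Cfsg Cfsg.Lie Cfsg.Agent.Lib.Helper5.ChevStruct Cfsg.Agent.Lib.Helper5.ChevSym
open Cfsg.Agent.Lib.Helper5.TwAut

variable {K : Type*} [Field K] [Fintype K] (D : ChevalleyDatum) (hD : D ∈ Seven) (G : GraphData)
  (hp : checkGraphPerm D G = true) (f : K →+* K) (rho : Equiv.Perm (Fin D.rank))
  (orbs : List (List ℕ)) (G1 : Subgroup (GL D.Idx K)) (m : ℕ)
  (hyp : TwAutHyp D hD G hp f rho orbs G1 m)

include hyp in
/-- the node elements are distinct -/
theorem nT_injective (J J' : List ℕ) (hJ : J ∈ orbs) (hJ' : J' ∈ orbs)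
    (h : nT hyp J hJ = nT hyp J' hJ') : J = J' := by
  have hw : (wGL D hD J : GL D.Idx K) = wGL D hD J' := congrArg Subtype.val h
  have hJwd : Wd D J := hyp.bn.hO.wd J hJ
  have hJ'wd : Wd D J' := hyp.bn.hO.wd J' hJ'
  have h2 : (wGL D hD J * (wGL D hD J')⁻¹ : GL D.Idx K) ∈ D.diagonalSubgroup K := by
    rw [hw, mul_inv_cancel]
    exact one_mem _
  exact hyp.bn.hdist J hJ J' hJ' ((hrel_iff_act_eq D hD _ _ hJwd hJ'wd).1 h2)

include hyp in
theorem nT_mem_S (J : List ℕ) (hJ : J ∈ orbs) : nT hyp J hJ ∈ (bnT hyp).S :=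
  ⟨J, hJ, rfl⟩

include hyp in
/-- B7, with the units A2a', B3, B5, B6 as hypotheses -/
theorem mapsT_neg_node_of
    (hBorel : ∀ θ : ↥G1 ≃* ↥G1, MapsT G1 θ (D.posUnipotent K) (D.posUnipotent K) →
      MapsT G1 θ (D.borelSubgroup K) (D.borelSubgroup K))
    (hB3 : ∀ θ : ↥G1 ≃* ↥G1, MapsT G1 θ (D.posUnipotent K) (D.posUnipotent K) →
      MapsT G1 θ (D.negUnipotent K) (D.negUnipotent K) → ∀ (J : List ℕ) (hJ : J ∈ orbs),
      ∃ (J' : List ℕ) (hJ' : J' ∈ orbs),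
        ((bnT hyp).parabolic {nT hyp J hJ}).map θ.toMonoidHom
          = (bnT hyp).parabolic {nT hyp J' hJ'} ∧
        MapsT G1 θ (rootSetSub D K (negJ D J)) (rootSetSub D K (negJ D J')))
    (hB5 : ∀ (θ : ↥G1 ≃* ↥G1) (J J' : List ℕ), J ∈ orbs → J' ∈ orbs →
      MapsT G1 θ (rootSetSub D K (negJ D J)) (rootSetSub D K (negJ D J')) →
      J'.length = J.length)
    (hB6 : ∀ θ : ↥G1 ≃* ↥G1, MapsT G1 θ (D.borelSubgroup K) (D.borelSubgroup K) →
      ∀ (J₁ J₂ J₁' J₂' : List ℕ) (h1 : J₁ ∈ orbs) (h2 : J₂ ∈ orbs) (h1' : J₁' ∈ orbs)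
        (h2' : J₂' ∈ orbs),
        ((bnT hyp).parabolic {nT hyp J₁ h1}).map θ.toMonoidHom
          = (bnT hyp).parabolic {nT hyp J₁' h1'} →
        ((bnT hyp).parabolic {nT hyp J₂ h2}).map θ.toMonoidHom
          = (bnT hyp).parabolic {nT hyp J₂' h2'} →
        (CommW D J₁ J₂ ↔ CommW D J₁' J₂'))
    (hrig : Rigid D orbs) (θ : ↥G1 ≃* ↥G1)
    (hU : MapsT G1 θ (D.posUnipotent K) (D.posUnipotent K))
    (hV : MapsT G1 θ (D.negUnipotent K) (D.negUnipotent K)) (J : List ℕ) (hJ : J ∈ orbs) :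
    MapsT G1 θ (rootSetSub D K (negJ D J)) (rootSetSub D K (negJ D J)) := by
  classical
  have hB := hBorel θ hU
  choose π hπmem hπ using fun (A : {A : List ℕ // A ∈ orbs}) => hB3 θ hU hV A.1 A.2
  set π' : List ℕ → List ℕ := fun A => if h : A ∈ orbs then π ⟨A, h⟩ else A with hπ'
  have hπ'eq : ∀ A (hA : A ∈ orbs), π' A = π ⟨A, hA⟩ := fun A hA => by
    rw [hπ']
    exact dif_pos hA
  have ha : ∀ A ∈ orbs, π' A ∈ orbs := fun A hA => by
    rw [hπ'eq A hA]
    exact hπmem ⟨A, hA⟩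
  -- the parabolic of `A` goes to the parabolic of `π' A`
  have hpar : ∀ A (hA : A ∈ orbs), ((bnT hyp).parabolic {nT hyp A hA}).map θ.toMonoidHom
      = (bnT hyp).parabolic {nT hyp (π' A) (ha A hA)} := by
    intro A hA
    have := (hπ ⟨A, hA⟩).1
    have e : nT hyp (π' A) (ha A hA) = nT hyp (π ⟨A, hA⟩) (hπmem ⟨A, hA⟩) := by
      apply Subtype.ext
      show wGL D hD (π' A) = wGL D hD (π ⟨A, hA⟩)
      rw [hπ'eq A hA]
    rw [e]
    exact this
  have hneg : ∀ A (hA : A ∈ orbs),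
      MapsT G1 θ (rootSetSub D K (negJ D A)) (rootSetSub D K (negJ D (π' A))) := by
    intro A hA
    rw [hπ'eq A hA]
    exact (hπ ⟨A, hA⟩).2
  have hb : ∀ A ∈ orbs, ∀ A' ∈ orbs, π' A = π' A' → A = A' := by
    intro A hA A' hA' hAA
    have e1 := hpar A hA
    have e2 := hpar A' hA'
    have e : nT hyp (π' A) (ha A hA) = nT hyp (π' A') (ha A' hA') := by
      apply Subtype.ext
      show wGL D hD (π' A) = wGL D hD (π' A')
      rw [hAA]
    rw [e, ← e2] at e1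
    have e3 := Subgroup.map_injective θ.injective e1
    have e4 := Cfsg.Agent.Lib.Helper4.BNPair.parabolic_injective (P := bnT hyp)
      (Set.singleton_subset_iff.2 (nT_mem_S D hD G hp f rho orbs G1 m hyp A hA))
      (Set.singleton_subset_iff.2 (nT_mem_S D hD G hp f rho orbs G1 m hyp A' hA')) e3
    exact nT_injective D hD G hp f rho orbs G1 m hyp A A' hA hA' (Set.singleton_eq_singleton_iff.1 e4)
  have hc : ∀ A ∈ orbs, (π' A).length = A.length := fun A hA =>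
    hB5 θ A (π' A) hA (ha A hA) (hneg A hA)
  have hd : ∀ A ∈ orbs, ∀ A' ∈ orbs, (CommW D A A' ↔ CommW D (π' A) (π' A')) :=
    fun A hA A' hA' => hB6 θ hB A A' (π' A) (π' A') hA hA' (ha A hA) (ha A' hA')
      (hpar A hA) (hpar A' hA')
  have hfix := hrig π' ha hb hc hd J hJ
  have := hneg J hJ
  rwa [hfix] at this

end Cfsg.Agent.Lib.Helper2.TwAut
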