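import Mathlib
import Cfsg.Agent.Lib.Helper5.TwAutDefs
import Cfsg.Agent.Lib.Helper5.ChevOrdProd
import Cfsg.Agent.Lib.Helper2.AutC0
import Cfsg.Agent.Lib.Helper2.TwAutT3

set_option autoImplicit false
set_option linter.style.haveILetI false

/-!
Twisted-Out farm (S2129 ³D₄, S2130 ²E₆), unit T2: the elements of `⟨X_{p_i} : i ∈ J⟩ ∩ G1` are the
twisted root elements `x_J(t)`, `t ∈ K_J`; likewise for the negative roots.
-/

namespace Cfsg.Agent.Lib.Helper2.TwAut

open Cfsg Cfsg.Lie Cfsg.Agent.Lib.Helper5.ChevStruct Cfsg.Agent.Lib.Helper5.ChevSym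
open Cfsg.Agent.Lib.Helper5.TwAut Cfsg.Agent.Lib.Helper5.RankOneHom

local notation "SL2" => Matrix.SpecialLinearGroup (Fin 2)

section grp

variable {G : Type*} [Group G] {ι : Type*}

/-- conjugating by a product of elements all of which but the `j`-th commute with `y` and with the
`j`-th factor -/
theorem conj_prod_of_commute (L : List ι) (hnd : L.Nodup) (F : ι → G) (j : ι) (hj : j ∈ L) (y : G)
    (hc : ∀ i ∈ L, i ≠ j → Commute (F i) y) (hc2 : ∀ i ∈ L, i ≠ j → Commute (F i) (F j)) :
    (L.map F).prod * y * ((L.map F).prod)⁻¹ = F j * y * (F j)⁻¹ := by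
  induction L with
  | nil => simp at hj
  | cons i L ih =>
    rw [List.map_cons, List.prod_cons]
    have hnd' := (List.nodup_cons.1 hnd).2
    have hi_not := (List.nodup_cons.1 hnd).1
    set P := (L.map F).prod with hP
    by_cases hij : i = j
    · subst hij
      have hPy : Commute P y := by
        apply Commute.list_prod_left
        intro x hx
        rw [List.mem_map] at hx
        obtain ⟨i', hi', rfl⟩ := hx
        exact hc i' (List.mem_cons_of_mem _ hi') (by rintro rfl; exact hi_not hi')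
      calc F i * P * y * (F i * P)⁻¹ = F i * (P * y) * P⁻¹ * (F i)⁻¹ := by group
        _ = F i * (y * P) * P⁻¹ * (F i)⁻¹ := by rw [hPy.eq]
        _ = _ := by group
    · have hjL : j ∈ L := by
        rcases List.mem_cons.1 hj with h | h
        · exact absurd h.symm hij
        · exact h
      have ih' := ih hnd' hjL (fun i' hi' => hc i' (List.mem_cons_of_mem _ hi'))
        (fun i' hi' => hc2 i' (List.mem_cons_of_mem _ hi'))
      have h1 := hc i (List.mem_cons_self ..) hij
      have h2 := hc2 i (List.mem_cons_self ..) hij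
      have h3 : Commute (F i) (F j * y * (F j)⁻¹) := (h2.mul_right h1).mul_right h2.inv_right
      calc F i * P * y * (F i * P)⁻¹ = F i * (P * y * P⁻¹) * (F i)⁻¹ := by group
        _ = F i * (F j * y * (F j)⁻¹) * (F i)⁻¹ := by rw [ih']
        _ = (F j * y * (F j)⁻¹) * F i * (F i)⁻¹ := by rw [h3.eq]
        _ = _ := by group

end grp

section sl2

variable {k : Type*} [Field k]

theorem comm_uu_ll_central (d : k)
    (h : uu d * ll 1 * (uu d)⁻¹ * (ll 1)⁻¹ = 1 ∨ uu d * ll 1 * (uu d)⁻¹ * (ll 1)⁻¹ = -1) :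
    d = 0 := by
  rcases h with h | h
  · rw [mul_inv_eq_one, mul_inv_eq_iff_eq_mul] at h
    have e := congrArg (fun X : SL2 k => (X : Matrix (Fin 2) (Fin 2) k)) h
    simp only [Matrix.SpecialLinearGroup.coe_mul] at e
    have e00 := congrFun (congrFun e 0) 0
    simp [uu, ll, Matrix.mul_apply, Fin.sum_univ_two] at e00
    exact e00
  · rw [mul_inv_eq_iff_eq_mul, mul_inv_eq_iff_eq_mul] at h
    have e := congrArg (fun X : SL2 k => (X : Matrix (Fin 2) (Fin 2) k)) h
    simp only [Matrix.SpecialLinearGroup.coe_mul, Matrix.SpecialLinearGroup.coe_neg,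
      Matrix.SpecialLinearGroup.coe_one] at e
    have e00 := congrFun (congrFun e 0) 0
    have e10 := congrFun (congrFun e 1) 0
    simp [uu, ll, Matrix.mul_apply, Fin.sum_univ_two] at e00 e10
    linear_combination e00 - e10

theorem comm_ll_uu_central (d : k)
    (h : ll d * uu 1 * (ll d)⁻¹ * (uu 1)⁻¹ = 1 ∨ ll d * uu 1 * (ll d)⁻¹ * (uu 1)⁻¹ = -1) :
    d = 0 := by
  rcases h with h | h
  · rw [mul_inv_eq_one, mul_inv_eq_iff_eq_mul] at h
    have e := congrArg (fun X : SL2 k => (X : Matrix (Fin 2) (Fin 2) k)) h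
    simp only [Matrix.SpecialLinearGroup.coe_mul] at e
    have e11 := congrFun (congrFun e 1) 1
    simp [uu, ll, Matrix.mul_apply, Fin.sum_univ_two] at e11
    exact e11
  · rw [mul_inv_eq_iff_eq_mul, mul_inv_eq_iff_eq_mul] at h
    have e := congrArg (fun X : SL2 k => (X : Matrix (Fin 2) (Fin 2) k)) h
    simp only [Matrix.SpecialLinearGroup.coe_mul, Matrix.SpecialLinearGroup.coe_neg,
      Matrix.SpecialLinearGroup.coe_one] at e
    have e11 := congrFun (congrFun e 1) 1
    have e01 := congrFun (congrFun e 0) 1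
    simp [uu, ll, Matrix.mul_apply, Fin.sum_univ_two] at e11 e01
    linear_combination e11 - e01

end sl2

section chev

variable {K : Type*} [Field K]

/-- `x_{p_j}(d)` commutes with `x_{-p_j}(1)` only for `d = 0` -/
theorem commute_pos_neg (D : ChevalleyDatum) (hD : D ∈ Seven) (j : ℕ) (hj : j < D.rank) (d : K)
    (h : Commute (xGL D hD (D.simple j) d) (xGL D hD (D.neg (D.simple j)) (1 : K))) : d = 0 := by
  apply comm_uu_ll_central d
  apply Cfsg.Agent.Lib.Helper2.ChevAut.sl2_ker D hD (D.simple j) (simple_lt D hD j hj)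
    (phiS D hD j) (fun t => phiS_uu D hD j hj t) (fun t => phiS_ll D hD j hj t)
  rw [map_mul, map_mul, map_mul, map_inv, map_inv, phiS_uu D hD j hj, phiS_ll D hD j hj, h.eq]
  group

/-- `x_{-p_j}(d)` commutes with `x_{p_j}(1)` only for `d = 0` -/
theorem commute_neg_pos (D : ChevalleyDatum) (hD : D ∈ Seven) (j : ℕ) (hj : j < D.rank) (d : K)
    (h : Commute (xGL D hD (D.neg (D.simple j)) d) (xGL D hD (D.simple j) (1 : K))) : d = 0 := by
  apply comm_ll_uu_central d
  apply Cfsg.Agent.Lib.Helper2.ChevAut.sl2_ker D hD (D.simple j) (simple_lt D hD j hj)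
    (phiS D hD j) (fun t => phiS_uu D hD j hj t) (fun t => phiS_ll D hD j hj t)
  rw [map_mul, map_mul, map_mul, map_inv, map_inv, phiS_uu D hD j hj, phiS_ll D hD j hj, h.eq]
  group

theorem checkOrth_spec (D : ChevalleyDatum) (J : List ℕ) (hJ : checkOrth D J = true) :
    ∀ i ∈ J, ∀ j ∈ J, i ≠ j →
      commOK D (D.simple i) (D.simple j) = true ∧
      commOK D (D.simple i) (D.neg (D.simple j)) = true ∧
      commOK D (D.neg (D.simple i)) (D.simple j) = true ∧
      commOK D (D.neg (D.simple i)) (D.neg (D.simple j)) = true := by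
  intro i hi j hj hij
  unfold checkOrth at hJ
  rw [List.all_eq_true] at hJ
  have := hJ i hi
  rw [List.all_eq_true] at this
  have := this j hj
  have hb : Nat.beq i j = false := by
    rw [← Bool.not_eq_true, Nat.beq_eq]
    exact hij
  rw [hb, Bool.false_or] at this
  simp only [Bool.and_eq_true] at this
  exact ⟨this.1.1.1, this.1.1.2, this.1.2, this.2⟩

theorem commOK_spec (D : ChevalleyDatum) (a b : ℕ) (h : commOK D a b = true) :
    a < D.nroots ∧ b < D.nroots ∧ a ≠ b ∧ D.commTerms a b = [] ∧ b ≠ D.neg a := by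
  unfold commOK at h
  simp only [Bool.and_eq_true, Nat.blt_eq, Bool.not_eq_true', List.isEmpty_iff] at h
  obtain ⟨⟨⟨⟨ha, hb⟩, hab⟩, h1⟩, h2⟩ := h
  refine ⟨ha, hb, ?_, h1, ?_⟩
  · rintro rfl
    have : Nat.beq a a = true := by rw [Nat.beq_eq]
    rw [this] at hab
    exact Bool.noConfusion hab
  · intro e
    have : Nat.beq b (D.neg a) = true := by rw [Nat.beq_eq]; exact e
    rw [this] at h2
    exact Bool.noConfusion h2

/-- a list of pairwise commuting roots is good -/
theorem good_of_pairwise (D : ChevalleyDatum) (L : List ℕ) (hlt : ∀ r ∈ L, r < D.nroots)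
    (hpw : L.Pairwise fun a b => commOK D a b = true) : checkGoodList D L = true := by
  induction L with
  | nil => rfl
  | cons k post ih =>
    rw [List.pairwise_cons] at hpw
    have hk := hlt k (List.mem_cons_self ..)
    unfold checkGoodList
    simp only [Bool.and_eq_true, List.all_eq_true, Nat.blt_eq, Bool.not_eq_true']
    refine ⟨⟨hk, fun s hs => ?_⟩, ih (fun r hr => hlt r (List.mem_cons_of_mem _ hr)) hpw.2⟩
    obtain ⟨-, hs', hne, hct, hneg⟩ := commOK_spec D k s (hpw.1 s hs)
    refine ⟨⟨⟨hs', ?_⟩, ?_⟩, ?_⟩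
    · rw [← Bool.not_eq_true, Nat.beq_eq]
      exact fun e => hne e.symm
    · rw [← Bool.not_eq_true, Nat.beq_eq]
      exact hneg
    · intro c hc
      rw [hct] at hc
      simp at hc

end chev

section stub

variable {K : Type*} [Field K] [Fintype K] (D : ChevalleyDatum) (hD : D ∈ Seven) (G : GraphData)
  (hp : checkGraphPerm D G = true) (f : K →+* K) (rho : Equiv.Perm (Fin D.rank))
  (orbs : List (List ℕ)) (G1 : Subgroup (GL D.Idx K)) (m : ℕ)
  (hyp : TwAutHyp D hD G hp f rho orbs G1 m)

include hyp in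
/-- `ρ` maps an orbit to itself -/
theorem rhoN_mem (J : List ℕ) (hJ : J ∈ orbs) (i : ℕ) (hi : i ∈ J) : rhoN D.rank rho i ∈ J := by
  have hj : J.idxOf i < J.length := List.idxOf_lt_length_iff.2 hi
  have hget : J.getD (J.idxOf i) 0 = i := by
    rw [List.getD_eq_getElem _ _ hj, List.getElem_idxOf]
  have hc := hyp.hcyc J hJ (J.idxOf i) hj
  rw [hget] at hc
  have hpos : 0 < J.length := lt_of_le_of_lt (Nat.zero_le _) hj
  have hlt : (J.idxOf i + 1) % J.length < J.length := Nat.mod_lt _ hpos
  rw [hc, List.getD_eq_getElem _ _ hlt]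
  exact List.getElem_mem _

theorem rhoN_inj (i i' : ℕ) (hi : i < D.rank) (hi' : i' < D.rank)
    (h : rhoN D.rank rho i = rhoN D.rank rho i') : i = i' := by
  unfold rhoN at h
  rw [dif_pos hi, dif_pos hi'] at h
  have := rho.injective (Fin.ext h)
  exact congrArg Fin.val this

include hyp in
/-- the generic form of T2: root map `rt`, opposite root map `rt'` -/
theorem exists_param_of_fixed (J : List ℕ) (hJ : J ∈ orbs) (rt rt' : ℕ → ℕ)
    (hcomm : ∀ i ∈ J, ∀ j ∈ J, i ≠ j →
      commOK D (rt i) (rt j) = true ∧ commOK D (rt i) (rt' j) = true)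
    (hlt : ∀ i ∈ J, rt i < D.nroots)
    (hker : ∀ j ∈ J, ∀ d : K, Commute (xGL D hD (rt j) d) (xGL D hD (rt' j) (1 : K)) → d = 0)
    (hsig : ∀ i ∈ J, ∀ t : K, sigma D G hp f (xGL D hD (rt i) t)
      = xGL D hD (rt (rhoN D.rank rho i)) (f t))
    (g : GL D.Idx K) (hg : g ∈ rootSetSub D K {s | s ∈ J.map rt}) (hg1 : g ∈ G1) :
    ∃ t, InK f J t ∧ g = wordGL D hD (J.map fun i => (rt i, sT f J t i)) := by
  have hnd := hyp.bn.hO.nodup J hJ
  have hwd := hyp.bn.hO.wd J hJ
  have hpw : J.Pairwise fun i j => commOK D (rt i) (rt j) = true :=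
    List.Pairwise.imp_of_mem (fun {i j} hi hj hne => (hcomm i hi j hj hne).1) hnd
  have hpw' : (J.map rt).Pairwise fun a b => commOK D a b = true := List.pairwise_map.2 hpw
  have hndm : (J.map rt).Nodup :=
    hpw'.imp (fun {a b} h => (commOK_spec D a b h).2.2.1)
  have hgood : checkGoodList D (J.map rt) = true := by
    apply good_of_pairwise D _ _ hpw'
    intro r hr
    rw [List.mem_map] at hr
    obtain ⟨i, hi, rfl⟩ := hr
    exact hlt i hi
  obtain ⟨t0, ht0⟩ := exists_prodL D hD (J.map rt) hgood hndm g hg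
  set a : ℕ → K := fun i => t0 (rt i) with ha
  have hga : g = (J.map fun i => xGL D hD (rt i) (a i)).prod := by
    rw [ht0]
    unfold prodL wordGL
    rw [List.map_map, List.map_map]
    rfl
  -- `σ g = g`
  have hfix : sigma D G hp f g = g := by
    rw [hyp.bn.hG1] at hg1
    exact (mem_sigmaFix D G hp f g).1 (Subgroup.mem_inf.1 hg1).2
  have hsg : sigma D G hp f g
      = (J.map fun i => xGL D hD (rt (rhoN D.rank rho i)) (f (a i))).prod := by
    rw [hga, map_list_prod, List.map_map]
    congr 1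
    apply List.map_congr_left
    intro i hi
    exact hsig i hi (a i)
  -- compatibility of the parameters
  have hcompat : ∀ i ∈ J, a (rhoN D.rank rho i) = f (a i) := by
    intro i₀ hi₀
    have hjJ := rhoN_mem D hD G hp f rho orbs G1 m hyp J hJ i₀ hi₀
    set j := rhoN D.rank rho i₀ with hjdef
    set y := xGL D hD (rt' j) (1 : K) with hy
    have e1 : g * y * g⁻¹ = xGL D hD (rt j) (a j) * y * (xGL D hD (rt j) (a j))⁻¹ := by
      rw [hga]
      apply conj_prod_of_commute J hnd (fun i => xGL D hD (rt i) (a i)) j hjJ y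
      · intro i hi hij
        exact xGL_commute D hD _ _ (hcomm i hi j hjJ hij).2 _ _
      · intro i hi hij
        exact xGL_commute D hD _ _ (hcomm i hi j hjJ hij).1 _ _
    have e2 : sigma D G hp f g * y * (sigma D G hp f g)⁻¹
        = xGL D hD (rt j) (f (a i₀)) * y * (xGL D hD (rt j) (f (a i₀)))⁻¹ := by
      rw [hsg]
      apply conj_prod_of_commute J hnd (fun i => xGL D hD (rt (rhoN D.rank rho i)) (f (a i)))
        i₀ hi₀ y
      · intro i hi hij
        have hne : rhoN D.rank rho i ≠ j := fun e =>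
          hij (rhoN_inj D rho i i₀ (hwd i hi) (hwd i₀ hi₀) e)
        exact xGL_commute D hD _ _
          (hcomm _ (rhoN_mem D hD G hp f rho orbs G1 m hyp J hJ i hi) j hjJ hne).2 _ _
      · intro i hi hij
        have hne : rhoN D.rank rho i ≠ j := fun e =>
          hij (rhoN_inj D rho i i₀ (hwd i hi) (hwd i₀ hi₀) e)
        exact xGL_commute D hD _ _
          (hcomm _ (rhoN_mem D hD G hp f rho orbs G1 m hyp J hJ i hi) j hjJ hne).1 _ _
    rw [hfix, e1] at e2
    have hcm : Commute (xGL D hD (rt j) (a j + -(f (a i₀)))) y := by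
      have hinv : (xGL D hD (rt j) (f (a i₀)))⁻¹ = xGL D hD (rt j) (-(f (a i₀))) := by
        rw [inv_eq_iff_mul_eq_one, ← xGL_add, add_neg_cancel]
        apply Units.ext
        rw [xGL_val, x_at_zero, Units.val_one]
      have hcomm' : Commute (xGL D hD (rt j) (a j)) (xGL D hD (rt j) (-(f (a i₀)))) := by
        show _ * _ = _ * _
        rw [← xGL_add, ← xGL_add, add_comm]
      show _ * _ = _ * _
      rw [xGL_add, ← hinv]
      rw [← hinv] at hcomm'
      set A := xGL D hD (rt j) (a j)
      set B := xGL D hD (rt j) (f (a i₀))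
      have hAB : A * B⁻¹ = B⁻¹ * A := hcomm'.eq
      calc A * B⁻¹ * y = B⁻¹ * (A * y * A⁻¹) * A := by rw [hAB]; group
        _ = B⁻¹ * (B * y * B⁻¹) * A := by rw [e2]
        _ = y * (B⁻¹ * A) := by group
        _ = y * (A * B⁻¹) := by rw [hAB]
    have := hker j hjJ _ hcm
    linear_combination this
  -- the parameters along the orbit
  have hne := hyp.hne J hJ
  have hpos : 0 < J.length := List.length_pos_iff.2 hne
  set t := a (J.getD 0 0) with ht
  have hget_mem : ∀ j < J.length, J.getD j 0 ∈ J := by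
    intro j hj
    rw [List.getD_eq_getElem _ _ hj]
    exact List.getElem_mem _
  have horb : ∀ j < J.length, a (J.getD j 0) = (f ^ j) t := by
    intro j
    induction j with
    | zero => intro _; rfl
    | succ j ih =>
      intro hj
      have hj' : j < J.length := Nat.lt_of_succ_lt hj
      have hc := hyp.hcyc J hJ j hj'
      rw [Nat.mod_eq_of_lt hj] at hc
      rw [← hc, hcompat _ (hget_mem j hj'), ih hj', pow_succ']
      rfl
  have hInK : InK f J t := by
    unfold InK
    have hL : J.length - 1 < J.length := Nat.sub_lt hpos Nat.one_pos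
    have hc := hyp.hcyc J hJ (J.length - 1) hL
    have e : J.length - 1 + 1 = J.length := Nat.sub_add_cancel hpos
    rw [e, Nat.mod_self] at hc
    have h1 := hcompat _ (hget_mem _ hL)
    rw [hc, horb _ hL] at h1
    have h2 : (f ^ J.length) t = f ((f ^ (J.length - 1)) t) := by
      conv_lhs => rw [← e, pow_succ']
      rfl
    rw [h2, ← h1]
  refine ⟨t, hInK, ?_⟩
  rw [hga]
  unfold wordGL
  rw [List.map_map]
  congr 1
  apply List.map_congr_left
  intro i hi
  have hj : J.idxOf i < J.length := List.idxOf_lt_length_iff.2 hi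
  have hget : J.getD (J.idxOf i) 0 = i := by
    rw [List.getD_eq_getElem _ _ hj, List.getElem_idxOf]
  have := horb _ hj
  rw [hget] at this
  show xGL D hD (rt i) (a i) = xGL D hD (rt i) (sT f J t i)
  rw [this]
  rfl

include hyp in
/-- T2a -/
theorem exists_xT_of_mem (J : List ℕ) (hJ : J ∈ orbs) (g : GL D.Idx K)
    (hg : g ∈ rootSetSub D K (posJ D J)) (hg1 : g ∈ G1) :
    ∃ t, InK f J t ∧ g = xT D hD f J t := by
  have hwd := hyp.bn.hO.wd J hJ
  have hset : posJ D J = {s | s ∈ J.map D.simple} := by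
    ext r
    simp only [posJ, Set.mem_setOf_eq, List.mem_map]
    constructor
    · rintro ⟨i, hi, rfl⟩
      exact ⟨i, hi, rfl⟩
    · rintro ⟨i, hi, rfl⟩
      exact ⟨i, hi, rfl⟩
  rw [hset] at hg
  have hspec := checkOrth_spec D J (hyp.horth J hJ)
  exact exists_param_of_fixed D hD G hp f rho orbs G1 m hyp J hJ D.simple
    (fun i => D.neg (D.simple i))
    (fun i hi j hj hij => ⟨(hspec i hi j hj hij).1, (hspec i hi j hj hij).2.1⟩)
    (fun i hi => simple_lt D hD i (hwd i hi))
    (fun j hj d h => commute_pos_neg D hD j (hwd j hj) d h)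
    (fun i hi t => by
      have hi' := hwd i hi
      obtain ⟨h1, -, h3, -, h5, -⟩ := hyp.bn.hrho ⟨i, hi'⟩
      rw [sigma_xGL D hD G hp hyp.bn.hG f _ h5 t, h1, h3]
      have : rhoN D.rank rho i = (rho ⟨i, hi'⟩).val := by
        unfold rhoN
        rw [dif_pos hi']
      rw [this]
      simp)
    g hg hg1

include hyp in
/-- T2b -/
theorem exists_yT_of_mem (J : List ℕ) (hJ : J ∈ orbs) (g : GL D.Idx K)
    (hg : g ∈ rootSetSub D K (negJ D J)) (hg1 : g ∈ G1) :
    ∃ t, InK f J t ∧ g = yT D hD f J t := by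
  have hwd := hyp.bn.hO.wd J hJ
  have hset : negJ D J = {s | s ∈ J.map fun i => D.neg (D.simple i)} := by
    ext r
    simp only [negJ, Set.mem_setOf_eq, List.mem_map]
    constructor
    · rintro ⟨i, hi, rfl⟩
      exact ⟨i, hi, rfl⟩
    · rintro ⟨i, hi, rfl⟩
      exact ⟨i, hi, rfl⟩
  rw [hset] at hg
  have hspec := checkOrth_spec D J (hyp.horth J hJ)
  exact exists_param_of_fixed D hD G hp f rho orbs G1 m hyp J hJ (fun i => D.neg (D.simple i))
    D.simple
    (fun i hi j hj hij => ⟨(hspec i hi j hj hij).2.2.2, (hspec i hi j hj hij).2.2.1⟩)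
    (fun i hi => (neg_lt D hD _ (simple_lt D hD i (hwd i hi))).1)
    (fun j hj d h => commute_neg_pos D hD j (hwd j hj) d h)
    (fun i hi t => by
      have hi' := hwd i hi
      obtain ⟨-, h2, -, h4, -, h6⟩ := hyp.bn.hrho ⟨i, hi'⟩
      rw [sigma_xGL D hD G hp hyp.bn.hG f _ h6 t, h2, h4]
      have : rhoN D.rank rho i = (rho ⟨i, hi'⟩).val := by
        unfold rhoN
        rw [dif_pos hi']
      rw [this]
      simp)
    g hg hg1

end stub

end Cfsg.Agent.Lib.Helper2.TwAut
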