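import Mathlib
import Cfsg.Agent.Lib.Helper2.TwAutB7a
import Cfsg.Agent.Lib.Helper2.TwAutT2
import Cfsg.Agent.Lib.Helper4.TwAutA2a
import Cfsg.Agent.Lib.Helper4.TwAutB3a
import Cfsg.Agent.Lib.Helper4.TwAutB6
import Cfsg.Agent.Lib.Helper6.TwAutB2
import Cfsg.Agent.Lib.Helper6.TwAutB5

set_option autoImplicit false

/-!
Twisted-Out farm (S2129 ³D₄, S2130 ²E₆), unit B7: the negative node subgroups are fixed.
-/

namespace Cfsg.Agent.Lib.Helper2.TwAut

open Cfsg Cfsg.Lie Cfsg.Agent.Lib.Helper5.ChevStruct Cfsg.Agent.Lib.Helper5.ChevSym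
open Cfsg.Agent.Lib.Helper5.TwAut

variable {K : Type*} [Field K] [Fintype K] (D : ChevalleyDatum) (hD : D ∈ Seven) (G : GraphData)
  (hp : checkGraphPerm D G = true) (f : K →+* K) (rho : Equiv.Perm (Fin D.rank))
  (orbs : List (List ℕ)) (G1 : Subgroup (GL D.Idx K)) (m : ℕ)
  (hyp : TwAutHyp D hD G hp f rho orbs G1 m)

include hyp in
/-- B7 : the negative node subgroups are fixed -/
theorem mapsT_neg_node (hfne : ∃ t : K, f t ≠ t) (hrig : Rigid D orbs) (θ : ↥G1 ≃* ↥G1)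
    (hU : MapsT G1 θ (D.posUnipotent K) (D.posUnipotent K))
    (hV : MapsT G1 θ (D.negUnipotent K) (D.negUnipotent K)) (J : List ℕ) (hJ : J ∈ orbs) :
    MapsT G1 θ (rootSetSub D K (negJ D J)) (rootSetSub D K (negJ D J)) :=
  mapsT_neg_node_of D hD G hp f rho orbs G1 m hyp
    (fun θ' hU' => Cfsg.Agent.Lib.Helper4.TwAut.mapsT_borel D hD G hp f rho orbs G1 m hyp θ' hU')
    (fun θ' hU' hV' J' hJ' =>
      Cfsg.Agent.Lib.Helper4.TwAut.h4_exists_node_map D hD G hp f rho orbs G1 m hyp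
        (fun A hA g hg hgV =>
          Cfsg.Agent.Lib.Helper6.TwAutB2.parabolic_inf_neg_T D hD G hp f rho orbs G1 m hyp A hA g
            hg hgV)
        (fun A hA g hg hg1 => exists_yT_of_mem D hD G hp f rho orbs G1 m hyp A hA g hg hg1)
        θ' (Cfsg.Agent.Lib.Helper4.TwAut.mapsT_borel D hD G hp f rho orbs G1 m hyp θ' hU') hV'
        J' hJ')
    (fun θ' A A' hA hA' h =>
      Cfsg.Agent.Lib.Helper6.TwAutB5.node_length_eq D hD G hp f rho orbs G1 m hyp hfne θ' A A'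
        hA hA' h)
    (fun θ' hB' J₁ J₂ J₁' J₂' h1 h2 h1' h2' e1 e2 =>
      Cfsg.Agent.Lib.Helper4.TwAut.node_commW_iff D hD G hp f rho orbs G1 m hyp θ' hB' J₁ J₂ J₁'
        J₂' h1 h2 h1' h2' e1 e2)
    hrig θ hU hV J hJ

end Cfsg.Agent.Lib.Helper2.TwAut
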