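import Mathlib
import Cfsg.Agent.Lib.Helper2.RankOneAbs

set_option autoImplicit false

/-!
Twisted-Out farm (S2129 / S2130), unit C12abs: verbatim statement of the stub, from
`Cfsg.Agent.Lib.Helper2.RankOneAbs.rank_one_iso`.
-/

namespace Cfsg.Agent.Lib.Helper2.TwAut

open Cfsg.Agent.Lib.Helper5.RankOneHom

/-- C12abs : an automorphism-like map preserving the two root subgroups of a quotient of `SL₂(k)`
is diagonal-by-field.  (`φ`, `φ'` may be two different rank-one homomorphisms into the same group.) -/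
theorem rank_one_abs {k : Type*} [Field k] [Finite k] {S : Type*} [Group S]
    (φ φ' : Matrix.SpecialLinearGroup (Fin 2) k →* S)
    (hker0 : ∀ M, φ M = 1 → M = 1 ∨ M = -1)
    (hker : ∀ M, φ' M = 1 → M = 1 ∨ M = -1) (θ : S ≃* S)
    (h1 : ∀ t, ∃ t', θ (φ (uu t)) = φ' (uu t')) (h1' : ∀ t', ∃ t, θ (φ (uu t)) = φ' (uu t'))
    (h2 : ∀ t, ∃ t', θ (φ (ll t)) = φ' (ll t')) (h2' : ∀ t', ∃ t, θ (φ (ll t)) = φ' (ll t')) :
    ∃ (c : kˣ) (σ : k ≃+* k),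
      (∀ t, θ (φ (uu t)) = φ' (uu ((c : k) * σ t))) ∧
      (∀ t, θ (φ (ll t)) = φ' (ll (((c⁻¹ : kˣ) : k) * σ t))) ∧
      (∀ (t : k) (ht : t ≠ 0), θ (φ (dd t ht)) = φ' (dd (σ t) (by simpa using ht))) := by
  obtain ⟨c, σ, hu, hl, hd, -⟩ :=
    Cfsg.Agent.Lib.Helper2.RankOneAbs.rank_one_iso φ φ' θ hker0 hker h1 h2 h1'
  exact ⟨c, σ, hu, hl, fun t ht => hd t ht _⟩

end Cfsg.Agent.Lib.Helper2.TwAut
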