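import Mathlib
import Cfsg.Agent.Lib.Helper1.FrattiniAction
import Cfsg.Agent.Lib.Helper1.FrattiniP

/-!
# Odd-order automorphisms of two-generated `2`-groups

An element of order coprime to `6` normalizing a `2`-subgroup generated by two elements
centralizes it.
-/

set_option autoImplicit false

open Pointwise

namespace Cfsg.Agent.Lib.Helper2

open Cfsg.Agent.Lib.Helper1

variable {G : Type*} [Group G]

/-- the subgroups of index two of `Q` -/
def indexTwoIn (Q : Subgroup G) : Set (Subgroup G) := {M | M ≤ Q ∧ M.relIndex Q = 2}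

theorem mul_mem_iff_of_mem_indexTwoIn {Q M : Subgroup G} (hM : M ∈ indexTwoIn Q) {a b : G}
    (ha : a ∈ Q) (hb : b ∈ Q) : a * b ∈ M ↔ (a ∈ M ↔ b ∈ M) := by
  have h := Subgroup.mul_mem_iff_of_index_two (H := M.subgroupOf Q) hM.2
    (a := ⟨a, ha⟩) (b := ⟨b, hb⟩)
  simpa [Subgroup.mem_subgroupOf] using h

theorem inv_mem_iff_of_mem (M : Subgroup G) {a : G} : a⁻¹ ∈ M ↔ a ∈ M := inv_mem_iff

theorem eq_of_mem_indexTwoIn {Q M M' : Subgroup G} (hM : M ∈ indexTwoIn Q)
    (hM' : M' ∈ indexTwoIn Q) {d t : G} (hQ : Q = Subgroup.closure {d, t})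
    (hd : d ∈ M ↔ d ∈ M') (ht : t ∈ M ↔ t ∈ M') : M = M' := by
  have hdQ : d ∈ Q := by rw [hQ]; exact Subgroup.subset_closure (Set.mem_insert _ _)
  have htQ : t ∈ Q := by rw [hQ]; exact Subgroup.subset_closure (Set.mem_insert_of_mem _ rfl)
  let S : Subgroup G :=
    { carrier := {x | x ∈ Q ∧ (x ∈ M ↔ x ∈ M')}
      one_mem' := ⟨Q.one_mem, by simp [M.one_mem, M'.one_mem]⟩
      mul_mem' := by
        rintro a b ⟨ha, ha'⟩ ⟨hb, hb'⟩
        refine ⟨Q.mul_mem ha hb, ?_⟩
        rw [mul_mem_iff_of_mem_indexTwoIn hM ha hb, mul_mem_iff_of_mem_indexTwoIn hM' ha hb,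
          ha', hb']
      inv_mem' := by
        rintro a ⟨ha, ha'⟩
        refine ⟨Q.inv_mem ha, ?_⟩
        rw [inv_mem_iff, inv_mem_iff]
        exact ha' }
  have hQS : Q ≤ S := by
    rw [hQ, Subgroup.closure_le]
    intro x hx
    rcases hx with rfl | hx
    · exact ⟨hdQ, hd⟩
    · rw [Set.mem_singleton_iff] at hx
      rw [hx]
      exact ⟨htQ, ht⟩
  ext x
  constructor
  · intro hx
    exact (hQS (hM.1 hx)).2.1 hx
  · intro hx
    exact (hQS (hM'.1 hx)).2.2 hx

theorem card_indexTwoIn_le [Finite G] {Q : Subgroup G} {d t : G}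
    (hQ : Q = Subgroup.closure {d, t}) : Nat.card (indexTwoIn Q) ≤ 3 := by
  classical
  have hnot : ∀ M ∈ indexTwoIn Q, d ∈ M → t ∉ M := by
    intro M hM hd ht
    have hle : Q ≤ M := by
      rw [hQ, Subgroup.closure_le]
      intro x hx
      rcases hx with rfl | hx
      · exact hd
      · rw [Set.mem_singleton_iff] at hx
        rw [hx]; exact ht
    have := Subgroup.relIndex_eq_one.2 hle
    rw [hM.2] at this
    norm_num at this
  let f : indexTwoIn Q → Fin 3 := fun M =>
    if d ∈ (M : Subgroup G) then 0 else if t ∈ (M : Subgroup G) then 1 else 2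
  have hf : Function.Injective f := by
    rintro ⟨M, hM⟩ ⟨M', hM'⟩ hff
    apply Subtype.ext
    show M = M'
    simp only [f] at hff
    by_cases h1 : d ∈ M <;> by_cases h2 : d ∈ M' <;> by_cases h3 : t ∈ M <;>
      by_cases h4 : t ∈ M' <;> simp [h1, h2, h3, h4] at hff
    all_goals first
      | exact absurd h3 (hnot M hM h1)
      | exact absurd h4 (hnot M' hM' h2)
      | exact eq_of_mem_indexTwoIn hM hM' hQ (by simp [h1, h2]) (by simp [h3, h4])
  have := Nat.card_le_card_of_injective f hf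
  simpa using this

theorem smul_mem_indexTwoIn {Q M : Subgroup G} (hM : M ∈ indexTwoIn Q) (c : ConjAct G)
    (hc : c • Q = Q) : c • M ∈ indexTwoIn Q := by
  refine ⟨?_, ?_⟩
  · rw [← hc]; exact Subgroup.pointwise_smul_le_pointwise_smul_iff.2 hM.1
  · have := Subgroup.relIndex_pointwise_smul c M Q
    rw [hc] at this
    rw [this]; exact hM.2

theorem normalizes_of_mem_indexTwoIn [Finite G] {Q : Subgroup G} {d t : G}
    (hQ : Q = Subgroup.closure {d, t}) {g : G} (hg : g ∈ Subgroup.normalizer (Q : Set G))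
    (hcop : (orderOf g).Coprime 6) {M : Subgroup G} (hM : M ∈ indexTwoIn Q) :
    g ∈ Subgroup.normalizer (M : Set G) := by
  set c := ConjAct.toConjAct g with hc
  set A : Subgroup (ConjAct G) := Subgroup.zpowers c with hA
  have hAQ : ∀ a : A, (a : ConjAct G) • Q = Q := by
    rintro ⟨a, ha⟩
    obtain ⟨m, rfl⟩ := Subgroup.mem_zpowers_iff.1 ha
    show c ^ m • Q = Q
    rw [hc, ← map_zpow]
    exact Subgroup.conjAct_pointwise_smul_eq_self (Subgroup.zpow_mem _ hg m)
  have horb : MulAction.orbit A M ⊆ indexTwoIn Q := by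
    rintro _ ⟨a, rfl⟩
    exact smul_mem_indexTwoIn hM a (hAQ a)
  have hcard : (MulAction.orbit A M).ncard ≤ 3 := by
    refine (Set.ncard_le_ncard horb (Set.toFinite _)).trans ?_
    rw [← Nat.card_coe_set_eq]
    exact card_indexTwoIn_le hQ
  have hoc : orderOf c = orderOf g := MulEquiv.orderOf_eq ConjAct.toConjAct g
  have hdvd : (MulAction.orbit A M).ncard ∣ orderOf g := by
    rw [← MulAction.index_stabilizer]
    have := Subgroup.index_dvd_card (MulAction.stabilizer A M)
    rwa [Nat.card_zpowers, hoc] at this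
  have hone : (MulAction.orbit A M).ncard = 1 := by
    have hpos : 0 < (MulAction.orbit A M).ncard := Nat.pos_of_dvd_of_pos hdvd (orderOf_pos g)
    have hc6 : ((MulAction.orbit A M).ncard).Coprime 6 := Nat.Coprime.coprime_dvd_left hdvd hcop
    generalize (MulAction.orbit A M).ncard = n at hcard hpos hc6
    interval_cases n
    · rfl
    · norm_num at hc6
    · norm_num at hc6
  have hcM : c • M = M := by
    obtain ⟨x, hx⟩ := Set.ncard_eq_one.1 hone
    have h1 : M ∈ MulAction.orbit A M := MulAction.mem_orbit_self M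
    have h2 : (⟨c, Subgroup.mem_zpowers c⟩ : A) • M ∈ MulAction.orbit A M :=
      MulAction.mem_orbit _ _
    rw [hx, Set.mem_singleton_iff] at h1 h2
    have h3 : (⟨c, Subgroup.mem_zpowers c⟩ : A) • M = c • M := rfl
    rw [← h3, h2, h1]
  exact Subgroup.conjAct_pointwise_smul_iff.1 hcM

theorem commutator_mem_frattini_of_two_generated [Finite G] {Q : Subgroup G}
    (hQ2 : IsPGroup 2 Q) {d t : G} (hQ : Q = Subgroup.closure {d, t}) {g : G}
    (hg : g ∈ Subgroup.normalizer (Q : Set G)) (hcop : (orderOf g).Coprime 6) :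
    ∀ k ∈ Q, g * k * g⁻¹ * k⁻¹ ∈ (frattini Q).map Q.subtype := by
  intro k hk
  have hgk : g * k * g⁻¹ ∈ Q := (Subgroup.mem_normalizer_iff.1 hg k).1 hk
  have hmem : g * k * g⁻¹ * k⁻¹ ∈ Q := Q.mul_mem hgk (Q.inv_mem hk)
  refine ⟨⟨_, hmem⟩, ?_, rfl⟩
  show (⟨_, hmem⟩ : Q) ∈ frattini Q
  unfold frattini Order.radical
  rw [Subgroup.mem_iInf]
  intro M'
  rw [Subgroup.mem_iInf]
  intro hM'
  haveI : Fact (Nat.Prime 2) := ⟨Nat.prime_two⟩
  have hidx : M'.index = 2 := index_eq_prime_of_isCoatom 2 hQ2 M' hM'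
  have hMmem : M'.map Q.subtype ∈ indexTwoIn Q := by
    refine ⟨Subgroup.map_subtype_le _, ?_⟩
    show ((M'.map Q.subtype).subgroupOf Q).index = 2
    have : (M'.map Q.subtype).subgroupOf Q = M' :=
      Subgroup.comap_map_eq_self_of_injective Q.subtype_injective M'
    rw [this]; exact hidx
  have hgM := normalizes_of_mem_indexTwoIn hQ hg hcop hMmem
  have h1 : k ∈ M'.map Q.subtype ↔ g * k * g⁻¹ ∈ M'.map Q.subtype :=
    Subgroup.mem_normalizer_iff.1 hgM k
  have h2 : g * k * g⁻¹ * k⁻¹ ∈ M'.map Q.subtype := by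
    rw [mul_mem_iff_of_mem_indexTwoIn hMmem hgk (Q.inv_mem hk), inv_mem_iff]
    exact h1.symm
  obtain ⟨y, hy, hyeq⟩ := h2
  have : y = ⟨_, hmem⟩ := Subtype.ext hyeq
  rwa [← this]

/-- An element of order coprime to `6` normalizing a two-generated `2`-subgroup centralizes
it. -/
theorem mem_centralizer_of_two_generated [Finite G] {Q : Subgroup G}
    (hQ2 : IsPGroup 2 Q) {d t : G} (hQ : Q = Subgroup.closure {d, t}) {g : G}
    (hg : g ∈ Subgroup.normalizer (Q : Set G)) (hcop : (orderOf g).Coprime 6) :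
    g ∈ Subgroup.centralizer (Q : Set G) := by
  have hcop2 : (orderOf g).Coprime 2 :=
    Nat.Coprime.coprime_dvd_right (by norm_num : 2 ∣ 6) hcop
  have h1 : (Nat.card (Subgroup.zpowers g)).Coprime (Nat.card (frattini Q)) := by
    rw [Nat.card_zpowers]
    obtain ⟨n, hn⟩ := IsPGroup.iff_card.1 hQ2
    have h2 : Nat.card (frattini Q) ∣ 2 ^ n := by
      rw [← hn]; exact Subgroup.card_subgroup_dvd_card _
    exact Nat.Coprime.coprime_dvd_right h2 (Nat.Coprime.pow_right n hcop2)
  have := centralizes_of_trivial_on_frattini_quotient (Subgroup.zpowers g) Q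
    (by rw [Subgroup.zpowers_le]; exact hg) h1 (by
      intro a ha k hk
      obtain ⟨m, rfl⟩ := Subgroup.mem_zpowers_iff.1 ha
      have hgm : g ^ m ∈ Subgroup.normalizer (Q : Set G) := Subgroup.zpow_mem _ hg m
      have hom : (orderOf (g ^ m)).Coprime 6 := by
        refine Nat.Coprime.coprime_dvd_left ?_ hcop
        apply orderOf_dvd_of_pow_eq_one
        rw [← zpow_natCast, ← zpow_mul, mul_comm, zpow_mul, zpow_natCast, pow_orderOf_eq_one,
          one_zpow]
      exact commutator_mem_frattini_of_two_generated hQ2 hQ hgm hom k hk)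
  exact this (Subgroup.mem_zpowers g)

end Cfsg.Agent.Lib.Helper2
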