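import Mathlib
import Cfsg.Agent.Lib.Helper3.TwoMod4Base

/-!
# S3401 piece A1: Sylow arithmetic producing the datum `Dat`
-/

set_option autoImplicit false
set_option linter.style.haveILetI false
set_option linter.unusedSectionVars false

namespace Cfsg.Agent.Lib.Helper2.TwoMod4

open MulAction Cfsg.Agent.Lib.Helper3.TwoMod4

variable {G : Type*} [Group G] [Finite G] {Ω : Type*} [Fintype Ω] [MulAction G Ω]

theorem card_eq_of_trans (N : Subgroup G) (htr : ∀ c d : Ω, ∃ x ∈ N, x • c = d) (c : Ω) :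
    Nat.card N = Fintype.card Ω * Nat.card (N ⊓ stabilizer G c : Subgroup G) := by
  haveI : IsPretransitive N Ω :=
    ⟨fun a b => by obtain ⟨x, hx, h⟩ := htr a b; exact ⟨⟨x, hx⟩, h⟩⟩
  have h1 := MulAction.index_stabilizer_of_transitive N c
  have h2 := Subgroup.card_mul_index (stabilizer N c)
  have h3 : stabilizer N c = (stabilizer G c).subgroupOf N := by
    ext x
    rw [mem_stabilizer_iff, Subgroup.mem_subgroupOf, mem_stabilizer_iff]
    rfl
  have h4 : Nat.card (stabilizer N c) = Nat.card (N ⊓ stabilizer G c : Subgroup G) := by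
    rw [h3, ← Subgroup.inf_subgroupOf_left]
    exact Nat.card_congr (Subgroup.subgroupOfEquivOfLe inf_le_left).toEquiv
  rw [← h2, h1, h4, Nat.card_eq_fintype_card (α := Ω), mul_comm]

theorem exists_dat (H N : Subgroup G) (hH : TwoTrans Ω H) (hn : Fintype.card Ω % 4 = 2)
    (hNH : N ≤ H) (hnorm : ∀ h ∈ H, ∀ x ∈ N, h * x * h⁻¹ ∈ N)
    (htr : ∀ c d : Ω, ∃ x ∈ N, x • c = d) : Nonempty (Dat Ω N) := by
  haveI : Fact (Nat.Prime 2) := ⟨Nat.prime_two⟩
  have hΩ0 : 0 < Fintype.card Ω := by omega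
  obtain ⟨a⟩ : Nonempty Ω := Fintype.card_pos_iff.1 hΩ0
  obtain ⟨m, hm⟩ : ∃ m, Fintype.card Ω = 2 * (2 * m + 1) := ⟨Fintype.card Ω / 4, by omega⟩
  have hA0 : Nat.card (N ⊓ stabilizer G a : Subgroup G) ≠ 0 := by
    have : 0 < Nat.card (N ⊓ stabilizer G a : Subgroup G) := Nat.card_pos
    exact this.ne'
  obtain ⟨q, m', hm', hAq⟩ := Nat.exists_eq_two_pow_mul_odd hA0
  have hcardN : Nat.card N = 2 ^ (q + 1) * ((2 * m + 1) * m') := by
    rw [card_eq_of_trans N htr a, hm, hAq]; ring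
  have hodd : Odd ((2 * m + 1) * m') := (odd_two_mul_add_one m).mul hm'
  have hAc : ∀ c : Ω, Nat.card (N ⊓ stabilizer G c : Subgroup G) = 2 ^ q * m' := by
    intro c
    have h1 := card_eq_of_trans N htr c
    have h2 := card_eq_of_trans N htr a
    rw [h1] at h2
    rw [← hAq]
    exact Nat.eq_of_mul_eq_mul_left hΩ0 h2
  have hstab : ∀ c : Ω, ¬ 2 ^ (q + 1) ∣ Nat.card (N ⊓ stabilizer G c : Subgroup G) := by
    intro c hdiv
    rw [hAc c, pow_succ] at hdiv
    have := Nat.dvd_of_mul_dvd_mul_left (pow_pos two_pos q) hdiv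
    exact (Nat.not_even_iff_odd.2 hm') (even_iff_two_dvd.2 this)
  have hN : ¬ 2 ^ (q + 2) ∣ Nat.card N := by
    intro hdiv
    rw [hcardN, pow_succ 2 (q + 1)] at hdiv
    have := Nat.dvd_of_mul_dvd_mul_left (pow_pos two_pos (q + 1)) hdiv
    exact (Nat.not_even_iff_odd.2 hodd) (even_iff_two_dvd.2 this)
  -- Q
  obtain ⟨K, hK⟩ := Sylow.exists_subgroup_card_pow_prime (G := ↥(N ⊓ stabilizer G a)) 2 (n := q)
    ⟨m', hAq⟩
  let Q : Subgroup G := K.map (N ⊓ stabilizer G a).subtype
  have hQcard : Nat.card Q = 2 ^ q := by rw [Subgroup.card_subtype]; exact hK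
  have hQle : Q ≤ N ⊓ stabilizer G a := Subgroup.map_subtype_le K
  have hQN : Q ≤ N := hQle.trans inf_le_left
  -- S
  have hQ' : Nat.card (Q.subgroupOf N) = 2 ^ q := by
    rw [← hQcard]
    exact Nat.card_congr (Subgroup.subgroupOfEquivOfLe hQN).toEquiv
  obtain ⟨K2, hK2, hQK2⟩ := Sylow.exists_subgroup_card_pow_succ (G := ↥N) (p := 2) (n := q)
    (by rw [hcardN]; exact Dvd.intro _ rfl) hQ'
  let S : Subgroup G := K2.map N.subtype
  have hScard : Nat.card S = 2 ^ (q + 1) := by rw [Subgroup.card_subtype]; exact hK2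
  have hSN : S ≤ N := Subgroup.map_subtype_le K2
  have hQS : Q ≤ S := by
    intro x hx
    have : (⟨x, hQN hx⟩ : N) ∈ K2 := hQK2 (by rw [Subgroup.mem_subgroupOf]; exact hx)
    exact ⟨⟨x, hQN hx⟩, this, rfl⟩
  have hidx : (Q.subgroupOf S).index = 2 := by
    have h1 := Subgroup.card_mul_index (Q.subgroupOf S)
    have h2 : Nat.card (Q.subgroupOf S) = 2 ^ q := by
      rw [← hQcard]
      exact Nat.card_congr (Subgroup.subgroupOfEquivOfLe hQS).toEquiv
    rw [h2, hScard, pow_succ] at h1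
    exact Nat.eq_of_mul_eq_mul_left (pow_pos two_pos q) h1
  have hSnorm : S ≤ Subgroup.normalizer (Q : Set G) :=
    (Subgroup.normal_subgroupOf_iff_le_normalizer hQS).1 (Subgroup.normal_of_index_eq_two hidx)
  -- s
  have hex : ∃ s ∈ S, s ∉ Q := by
    by_contra hcon
    push Not at hcon
    have hle : S ≤ Q := hcon
    have h1 := Subgroup.card_dvd_of_le hle
    rw [hScard, hQcard, pow_succ] at h1
    have h2 := Nat.le_of_dvd (pow_pos two_pos q) h1
    have h3 : 0 < 2 ^ q := pow_pos two_pos q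
    omega
  obtain ⟨s, hsS, hsQ⟩ := hex
  have hs2 : s * s ∈ Q := by
    have := Subgroup.mul_self_mem_of_index_two hidx ⟨s, hsS⟩
    rw [Subgroup.mem_subgroupOf] at this
    exact this
  have hSQ : ∀ y ∈ S, y ∉ Q → y * s ∈ Q := by
    intro y hy hyQ
    have := (Subgroup.mul_mem_iff_of_index_two hidx (a := ⟨y, hy⟩) (b := ⟨s, hsS⟩)).2
      (by simp [Subgroup.mem_subgroupOf, hyQ, hsQ])
    rw [Subgroup.mem_subgroupOf] at this
    exact this
  have hQa : ∀ x ∈ Q, x • a = a := fun x hx => mem_stabilizer_iff.1 (hQle hx).2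
  have hsa : s • a ≠ a := by
    intro hfix
    apply hstab a
    rw [← hScard]
    apply Subgroup.card_dvd_of_le
    intro y hy
    refine ⟨hSN hy, ?_⟩
    show y ∈ stabilizer G a
    rw [mem_stabilizer_iff]
    by_cases hyQ : y ∈ Q
    · exact hQa y hyQ
    · have h1 := hQa _ (hSQ y hy hyQ)
      rw [mul_smul, hfix] at h1
      exact h1
  refine ⟨{ q := q, Q := Q, S := S, s := s, a := a, a' := s • a, hne := fun h => hsa h.symm,
            hQS := hQS, hSN := hSN, hQcard := hQcard, hScard := hScard, hSnorm := hSnorm,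
            hQa := hQa, hQa' := ?_, hsS := hsS, hsa := rfl, hsa' := ?_, hs2 := hs2,
            hstab := hstab, hstab2 := ?_, hN := hN }⟩
  · intro x hx
    have h1 : s⁻¹ * x * s ∈ Q := by
      have := (Subgroup.mem_normalizer_iff.1 (hSnorm (S.inv_mem hsS)) x).1 hx
      simpa using this
    have h2 := hQa _ h1
    have h3 : x • s • a = s • (s⁻¹ * x * s) • a := by
      rw [← mul_smul, ← mul_smul]
      congr 1
      group
    rw [h3, h2]
  · rw [← mul_smul]
    exact hQa _ hs2
  · intro c d hcd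
    obtain ⟨h, hhH, hhc, hhd⟩ := hH a (s • a) c d (fun h => hsa h.symm) hcd
    rw [← hQcard, ← Subgroup.card_map_of_injective (f := (MulAut.conj h).toMonoidHom)
      (MulAut.conj h).injective (K := Q)]
    apply Subgroup.card_dvd_of_le
    rintro y ⟨x, hx, rfl⟩
    have hy : (MulAut.conj h).toMonoidHom x = h * x * h⁻¹ := by simp [MulAut.conj_apply]
    rw [hy]
    have hQa' : x • s • a = s • a := by
      have h1 : s⁻¹ * x * s ∈ Q := by
        have := (Subgroup.mem_normalizer_iff.1 (hSnorm (S.inv_mem hsS)) x).1 hx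
        simpa using this
      have h2 := hQa _ h1
      have h3 : x • s • a = s • (s⁻¹ * x * s) • a := by
        rw [← mul_smul, ← mul_smul]
        congr 1
        group
      rw [h3, h2]
    refine ⟨⟨hnorm h hhH x (hQN hx), ?_⟩, ?_⟩
    · show h * x * h⁻¹ ∈ stabilizer G c
      rw [mem_stabilizer_iff, mul_smul, mul_smul]
      have : h⁻¹ • c = a := by rw [← hhc, inv_smul_smul]
      rw [this, hQa x hx, hhc]
    · show h * x * h⁻¹ ∈ stabilizer G d
      rw [mem_stabilizer_iff, mul_smul, mul_smul]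
      have : h⁻¹ • d = s • a := by rw [← hhd, inv_smul_smul]
      rw [this, hQa', hhd]

end Cfsg.Agent.Lib.Helper2.TwoMod4
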