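import Mathlib
import Cfsg.Agent.Lib.Helper3.TwoMod4Base

/-!
# S3401 piece W: Witt's lemma via Sylow conjugacy
-/

set_option autoImplicit false
set_option linter.style.haveILetI false
set_option linter.unusedSectionVars false

namespace Cfsg.Agent.Lib.Helper2.TwoMod4

open MulAction Cfsg.Agent.Lib.Helper3.TwoMod4
open scoped Pointwise

/-- Two subgroups of order `p ^ k` of `T`, where `p ^ (k + 1)` does not divide `|T|`, are conjugate
under `T`. -/
theorem conj_of_card_pow {G : Type*} [Group G] [Finite G] {p k : ℕ} [hp : Fact p.Prime]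
    (T P1 P2 : Subgroup G) (h1 : P1 ≤ T) (h2 : P2 ≤ T)
    (c1 : Nat.card P1 = p ^ k) (c2 : Nat.card P2 = p ^ k) (hT : ¬ p ^ (k + 1) ∣ Nat.card T) :
    ∃ h ∈ T, ∀ y : G, y ∈ P1 ↔ h * y * h⁻¹ ∈ P2 := by
  have hT0 : Nat.card T ≠ 0 := Nat.card_pos.ne'
  have hfac : (Nat.card T).factorization p = k := by
    have hle : k ≤ (Nat.card T).factorization p := by
      rw [← Nat.Prime.pow_dvd_iff_le_factorization hp.out hT0, ← c1]
      exact Subgroup.card_dvd_of_le h1
    have hlt : ¬ k + 1 ≤ (Nat.card T).factorization p := by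
      rw [← Nat.Prime.pow_dvd_iff_le_factorization hp.out hT0]
      exact hT
    omega
  have e1 : Nat.card (P1.subgroupOf T) = p ^ (Nat.card T).factorization p := by
    rw [hfac, ← c1]
    exact Nat.card_congr (Subgroup.subgroupOfEquivOfLe h1).toEquiv
  have e2 : Nat.card (P2.subgroupOf T) = p ^ (Nat.card T).factorization p := by
    rw [hfac, ← c2]
    exact Nat.card_congr (Subgroup.subgroupOfEquivOfLe h2).toEquiv
  let S1 : Sylow p T := Sylow.ofCard (P1.subgroupOf T) e1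
  let S2 : Sylow p T := Sylow.ofCard (P2.subgroupOf T) e2
  obtain ⟨h, hh⟩ := MulAction.exists_smul_eq (↥T) S1 S2
  have hh' : MulAut.conj h • (P1.subgroupOf T) = P2.subgroupOf T := by
    have := congrArg (fun P : Sylow p T => (P : Subgroup T)) hh
    simpa [Sylow.coe_subgroup_smul, S1, S2] using this
  have key : ∀ y : T, y ∈ P1.subgroupOf T ↔ h * y * h⁻¹ ∈ P2.subgroupOf T := by
    intro y
    rw [← hh']
    have : h * y * h⁻¹ = MulAut.conj h • y := by
      rw [MulAut.smul_def, MulAut.conj_apply]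
    rw [this, Subgroup.smul_mem_pointwise_smul_iff]
  refine ⟨(h : G), h.2, ?_⟩
  intro y
  constructor
  · intro hy
    have := (key ⟨y, h1 hy⟩).1 (by rw [Subgroup.mem_subgroupOf]; exact hy)
    rw [Subgroup.mem_subgroupOf] at this
    simpa using this
  · intro hy
    have hyT : y ∈ T := by
      have h3 : h * y * h⁻¹ ∈ T := h2 hy
      have h4 : (h : G)⁻¹ * ((h : G) * y * (h : G)⁻¹) * (h : G) ∈ T :=
        T.mul_mem (T.mul_mem (T.inv_mem h.2) h3) h.2
      have h5 : (h : G)⁻¹ * ((h : G) * y * (h : G)⁻¹) * (h : G) = y := by group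
      rwa [h5] at h4
    have := (key ⟨y, hyT⟩).2 (by rw [Subgroup.mem_subgroupOf]; simpa using hy)
    rw [Subgroup.mem_subgroupOf] at this
    exact this

variable {G : Type*} [Group G] [Finite G] {Ω : Type*} [Fintype Ω] [MulAction G Ω]

theorem witt (H N : Subgroup G) (hH : TwoTrans Ω H)
    (hNH : N ≤ H) (hnorm : ∀ h ∈ H, ∀ x ∈ N, h * x * h⁻¹ ∈ N) (D : Dat Ω N)
    (c d c' d' : Ω) (hc : ∀ x ∈ D.Q, x • c = c) (hd : ∀ x ∈ D.Q, x • d = d)
    (hc' : ∀ x ∈ D.Q, x • c' = c') (hd' : ∀ x ∈ D.Q, x • d' = d') (hcd : c ≠ d) (hcd' : c' ≠ d') :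
    ∃ g ∈ H, g ∈ Subgroup.normalizer (D.Q : Set G) ∧ g • c = c' ∧ g • d = d' := by
  obtain ⟨g0, hg0H, hg0c, hg0d⟩ := hH c d c' d' hcd hcd'
  let T : Subgroup G := N ⊓ stabilizer G c' ⊓ stabilizer G d'
  let Q1 : Subgroup G := D.Q.map (MulAut.conj g0).toMonoidHom
  have hQN : D.Q ≤ N := D.hQS.trans D.hSN
  have hQT : D.Q ≤ T := by
    intro x hx
    exact ⟨⟨hQN hx, mem_stabilizer_iff.2 (hc' x hx)⟩, mem_stabilizer_iff.2 (hd' x hx)⟩
  have hQ1mem : ∀ y, y ∈ Q1 ↔ g0⁻¹ * y * g0 ∈ D.Q := by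
    intro y
    constructor
    · rintro ⟨x, hx, rfl⟩
      have : g0⁻¹ * ((MulAut.conj g0).toMonoidHom x) * g0 = x := by
        simp [MulAut.conj_apply]; group
      rw [this]; exact hx
    · intro hy
      refine ⟨g0⁻¹ * y * g0, hy, ?_⟩
      simp [MulAut.conj_apply]; group
  have hQ1T : Q1 ≤ T := by
    rintro y ⟨x, hx, rfl⟩
    have hy : (MulAut.conj g0).toMonoidHom x = g0 * x * g0⁻¹ := by simp [MulAut.conj_apply]
    rw [hy]
    refine ⟨⟨hnorm g0 hg0H x (hQN hx), ?_⟩, ?_⟩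
    · show g0 * x * g0⁻¹ ∈ stabilizer G c'
      rw [mem_stabilizer_iff, mul_smul, mul_smul]
      have : g0⁻¹ • c' = c := by rw [← hg0c, inv_smul_smul]
      rw [this, hc x hx, hg0c]
    · show g0 * x * g0⁻¹ ∈ stabilizer G d'
      rw [mem_stabilizer_iff, mul_smul, mul_smul]
      have : g0⁻¹ • d' = d := by rw [← hg0d, inv_smul_smul]
      rw [this, hd x hx, hg0d]
  have cQ1 : Nat.card Q1 = 2 ^ D.q := by
    rw [Subgroup.card_map_of_injective (MulAut.conj g0).injective]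
    exact D.hQcard
  have hTcard : ¬ 2 ^ (D.q + 1) ∣ Nat.card T := by
    intro hdiv
    apply D.hstab c'
    exact hdiv.trans (Subgroup.card_dvd_of_le (inf_le_left : T ≤ N ⊓ stabilizer G c'))
  haveI : Fact (Nat.Prime 2) := ⟨Nat.prime_two⟩
  obtain ⟨h, hhT, hconj⟩ := conj_of_card_pow (p := 2) (k := D.q) T Q1 D.Q hQ1T hQT cQ1 D.hQcard hTcard
  have hhN : h ∈ N := hhT.1.1
  have hhc : h • c' = c' := mem_stabilizer_iff.1 hhT.1.2
  have hhd : h • d' = d' := mem_stabilizer_iff.1 hhT.2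
  refine ⟨h * g0, H.mul_mem (hNH hhN) hg0H, ?_, ?_, ?_⟩
  · rw [Subgroup.mem_normalizer_iff]
    intro x
    have e : h * g0 * x * (h * g0)⁻¹ = h * (g0 * x * g0⁻¹) * h⁻¹ := by group
    rw [e, ← hconj, hQ1mem]
    have e2 : g0⁻¹ * (g0 * x * g0⁻¹) * g0 = x := by group
    rw [e2]
  · rw [mul_smul, hg0c, hhc]
  · rw [mul_smul, hg0d, hhd]

end Cfsg.Agent.Lib.Helper2.TwoMod4
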