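import Mathlib

set_option autoImplicit false

/-! Field data for unitary groups: an involutive field automorphism with surjective norm. -/

namespace Cfsg.Agent.Lib.Helper2.UFus

variable {K : Type*} [Field K]

/-- the properties of the conjugation used for unitary groups -/
structure FD (φ : K →+* K) : Prop where
  inv : ∀ x, φ (φ x) = x
  ne : ∃ t, φ t ≠ t
  norm : ∀ l, φ l = l → ∃ s, s * φ s = l

theorem FD.exists_eps {φ : K →+* K} (h : FD φ) : ∃ e : K, e ≠ 0 ∧ φ e = -e := by
  obtain ⟨t, ht⟩ := h.ne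
  refine ⟨t - φ t, sub_ne_zero.mpr (Ne.symm ht), ?_⟩
  rw [map_sub, h.inv]
  ring

theorem FD.exists_tau {φ : K →+* K} (h : FD φ) : ∃ τ : K, τ + φ τ = 1 := by
  by_cases h2 : (2 : K) = 0
  · obtain ⟨t, ht⟩ := h.ne
    have hs : t + φ t ≠ 0 := by
      intro h0
      apply ht
      have h3 : φ t = -t := by linear_combination h0
      rw [h3]
      linear_combination (-t) * h2
    refine ⟨t / (t + φ t), ?_⟩
    have hφs : φ (t + φ t) = t + φ t := by
      rw [map_add, h.inv]
      ring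
    rw [map_div₀, hφs]
    field_simp
  · refine ⟨1 / 2, ?_⟩
    rw [map_div₀, map_one, map_ofNat]
    field_simp
    norm_num

theorem FD.map_norm {φ : K →+* K} (h : FD φ) (a : K) : φ (a * φ a) = a * φ a := by
  rw [map_mul, h.inv, mul_comm]

theorem FD_of_card [Fintype K] (q : ℕ) (hK : Fintype.card K = q ^ 2) (φ : K →+* K)
    (hφ : ∀ x, φ x = x ^ q) : FD φ := by
  classical
  have hq2 : 2 ≤ q := by
    have h1 : 1 < Fintype.card K := Fintype.one_lt_card
    rw [hK] at h1
    by_contra h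
    have h3 : q = 0 ∨ q = 1 := by omega
    rcases h3 with rfl | rfl <;> simp at h1
  obtain ⟨g, hg⟩ := IsCyclic.exists_generator (α := Kˣ)
  have hord : orderOf g = q ^ 2 - 1 := by
    rw [orderOf_eq_card_of_forall_mem_zpowers hg, Nat.card_eq_fintype_card, Fintype.card_units,
      hK]
  have h5 : q ^ 2 - 1 = (q + 1) * (q - 1) := by
    obtain ⟨r, rfl⟩ : ∃ r, q = r + 1 := ⟨q - 1, by omega⟩
    rw [Nat.add_sub_cancel]
    have h6 : (r + 1) ^ 2 = (r + 1 + 1) * r + 1 := by ring
    rw [h6, Nat.add_sub_cancel]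
  have hfix : ∀ a : ℕ, ((g ^ a : Kˣ) : K) ^ q = ((g ^ a : Kˣ) : K) → (q + 1) ∣ a := by
    intro a ha
    have h2 : ((g ^ a) ^ q : Kˣ) = g ^ a := by
      apply Units.ext
      rw [Units.val_pow_eq_pow_val]
      exact ha
    have h1 : (g ^ a) ^ (q - 1) = 1 := by
      have h3 : (g ^ a) ^ (q - 1) * (g ^ a) = 1 * (g ^ a) := by
        rw [← pow_succ, Nat.sub_add_cancel (by omega), h2, one_mul]
      exact mul_right_cancel h3
    rw [← pow_mul] at h1
    have h4 := orderOf_dvd_of_pow_eq_one h1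
    rw [hord, h5] at h4
    exact Nat.dvd_of_mul_dvd_mul_right (by omega) h4
  refine ⟨?_, ?_, ?_⟩
  · intro x
    rw [hφ, hφ, ← pow_mul, ← pow_two, ← hK]
    exact FiniteField.pow_card x
  · refine ⟨(g : K), ?_⟩
    intro h
    rw [hφ] at h
    have h1 := hfix 1 (by rw [pow_one]; exact h)
    have h2 := Nat.le_of_dvd one_pos h1
    omega
  · intro l hl
    by_cases h0 : l = 0
    · exact ⟨0, by rw [zero_mul, h0]⟩
    · obtain ⟨a, ha⟩ : ∃ a : ℕ, g ^ a = Units.mk0 l h0 := by
        have h1 := hg (Units.mk0 l h0)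
        rw [← mem_powers_iff_mem_zpowers] at h1
        exact (Submonoid.mem_powers_iff _ _).mp h1
      have hval : ((g ^ a : Kˣ) : K) = l := by rw [ha]; rfl
      rw [hφ] at hl
      have h1 := hfix a (by rw [hval]; exact hl)
      obtain ⟨b, hb⟩ := h1
      refine ⟨((g ^ b : Kˣ) : K), ?_⟩
      rw [hφ, ← pow_succ', ← Units.val_pow_eq_pow_val, ← pow_mul, ← hval, hb, mul_comm]

end Cfsg.Agent.Lib.Helper2.UFus
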