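import Mathlib
import Cfsg.Agent.Lib.Helper2.UniTri3
import Cfsg.Agent.Lib.Helper2.UFus0

set_option autoImplicit false

/-! The unitary group inside `SL_n(K)` for the antidiagonal hermitian form: root elements. -/

namespace Cfsg.Agent.Lib.Helper2.UFus

open Matrix Cfsg.Agent.Lib.Helper2.UniTri

variable {K : Type*} [Field K] {n : ℕ}

local notation "SLn" => Matrix.SpecialLinearGroup (Fin n) K
local notation "Mn" => Matrix (Fin n) (Fin n) K

/-! ### indices -/

theorem rev_ne_rev {i j : Fin n} (hij : i ≠ j) : i.rev ≠ j.rev :=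
  fun h => hij (Fin.rev_inj.mp h)

theorem lo_ne_rev {i : Fin n} (hi : 2 * (i : ℕ) + 1 < n) : i ≠ i.rev := by
  intro h
  have h1 := congrArg Fin.val h
  rw [Fin.val_rev] at h1
  omega

theorem lo_lt_rev {i j : Fin n} (hi : 2 * (i : ℕ) + 1 < n) (hj : 2 * (j : ℕ) + 1 < n) :
    i < j.rev := by
  rw [Fin.lt_def, Fin.val_rev]
  omega

theorem lo_ne_rev' {i j : Fin n} (hi : 2 * (i : ℕ) + 1 < n) (hj : 2 * (j : ℕ) + 1 < n) :
    i ≠ j.rev := ne_of_lt (lo_lt_rev hi hj)

theorem mid_rev {c : Fin n} (hc : 2 * (c : ℕ) + 1 = n) : c.rev = c := by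
  apply Fin.ext
  rw [Fin.val_rev]
  omega

theorem lo_lt_mid {i c : Fin n} (hi : 2 * (i : ℕ) + 1 < n) (hc : 2 * (c : ℕ) + 1 = n) :
    i < c := by
  rw [Fin.lt_def]
  omega

theorem mid_lt_rev {i c : Fin n} (hi : 2 * (i : ℕ) + 1 < n) (hc : 2 * (c : ℕ) + 1 = n) :
    c < i.rev := by
  rw [Fin.lt_def, Fin.val_rev]
  omega

theorem rev_lo_iff (i : Fin n) : 2 * ((i.rev : Fin n) : ℕ) + 1 < n ↔ n < 2 * (i : ℕ) + 1 := by
  rw [Fin.val_rev]
  have := i.2
  omega

/-! ### matrix units -/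

/-- matrix unit -/
def E (a b : Fin n) : Mn := Matrix.single a b 1

theorem E_mul_E (a b c d : Fin n) : (E a b : Mn) * E c d = if b = c then E a d else 0 := by
  unfold E
  split_ifs with h
  · subst h
    rw [Matrix.single_mul_single_same, mul_one]
  · exact Matrix.single_mul_single_of_ne _ _ _ _ h _

theorem E_apply (a b r s : Fin n) : (E a b : Mn) r s = if a = r ∧ b = s then 1 else 0 :=
  Matrix.single_apply a b 1 r s

theorem E_transpose (a b : Fin n) : (E a b : Mn)ᵀ = E b a := Matrix.transpose_single a b 1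

theorem tv_val' (i j : Fin n) (h : i ≠ j) (c : K) :
    (tv i j h c : SLn).1 = 1 + c • E i j := by
  rw [tv_val, Matrix.transvection]
  congr 1
  unfold E
  rw [Matrix.smul_single, smul_eq_mul, mul_one]

theorem E_map (φ : K →+* K) (a b : Fin n) : (E a b : Mn).map φ = E a b := by
  ext r s
  rw [Matrix.map_apply, E_apply]
  split_ifs
  · exact map_one φ
  · exact map_zero φ

theorem smul_map (φ : K →+* K) (c : K) (M : Mn) : (c • M).map φ = φ c • M.map φ := by
  ext r s
  rw [Matrix.map_apply, Matrix.smul_apply, Matrix.smul_apply, Matrix.map_apply, smul_eq_mul,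
    smul_eq_mul, map_mul]

theorem add_map (φ : K →+* K) (M N : Mn) : (M + N).map φ = M.map φ + N.map φ := by
  ext r s
  rw [Matrix.map_apply, Matrix.add_apply, Matrix.add_apply, Matrix.map_apply, Matrix.map_apply,
    map_add]

theorem one_map (φ : K →+* K) : (1 : Mn).map φ = 1 := Matrix.map_one φ (map_zero φ) (map_one φ)

/-! ### the form -/

/-- the Gram matrix -/
def Om : Mn := fun i j => if j = i.rev then 1 else 0

theorem Om_apply (i j : Fin n) : (Om : Mn) i j = if j = i.rev then 1 else 0 := rfl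

theorem mul_Om_apply (X : Mn) (a k : Fin n) : (X * Om : Mn) a k = X a k.rev := by
  rw [Matrix.mul_apply, Finset.sum_eq_single k.rev]
  · rw [Om_apply, if_pos (Fin.rev_rev k).symm, mul_one]
  · intro l _ hl
    rw [Om_apply, if_neg, mul_zero]
    intro h
    apply hl
    rw [h, Fin.rev_rev]
  · intro h
    exact absurd (Finset.mem_univ _) h

theorem form_apply (X Y : Mn) (a b : Fin n) :
    (X * Om * Yᵀ : Mn) a b = ∑ k, X a k.rev * Y b k := by
  rw [Matrix.mul_apply]
  apply Finset.sum_congr rfl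
  intro k _
  rw [mul_Om_apply, Matrix.transpose_apply]

theorem E_mul_Om (i j : Fin n) : (E i j : Mn) * Om = E i j.rev := by
  ext a b
  rw [mul_Om_apply, E_apply, E_apply]
  by_cases h : i = a ∧ j = b.rev
  · have h' : i = a ∧ j.rev = b := ⟨h.1, by rw [h.2, Fin.rev_rev]⟩
    rw [if_pos h, if_pos h']
  · have h' : ¬ (i = a ∧ j.rev = b) := fun h2 => h ⟨h2.1, by rw [← h2.2, Fin.rev_rev]⟩
    rw [if_neg h, if_neg h']

theorem Om_mul_E (i j : Fin n) : (Om : Mn) * E i j = E i.rev j := by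
  ext a b
  rw [Matrix.mul_apply, Finset.sum_eq_single a.rev]
  · rw [Om_apply, if_pos rfl, one_mul, E_apply, E_apply]
    by_cases h : i = a.rev ∧ j = b
    · have h' : i.rev = a ∧ j = b := ⟨by rw [h.1, Fin.rev_rev], h.2⟩
      rw [if_pos h, if_pos h']
    · have h' : ¬ (i.rev = a ∧ j = b) := fun h2 => h ⟨by rw [← h2.1, Fin.rev_rev], h2.2⟩
      rw [if_neg h, if_neg h']
  · intro k _ hk
    rw [Om_apply, if_neg hk, zero_mul]
  · intro h
    exact absurd (Finset.mem_univ _) h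

/-- unitary -/
def IsU (φ : K →+* K) (x : SLn) : Prop := x.1 * Om * (x.1.map φ)ᵀ = Om

theorem isU_of_nil (φ : K →+* K) (x : SLn) (N : Mn) (hx : x.1 = 1 + N)
    (h : N * Om + Om * (N.map φ)ᵀ + N * Om * (N.map φ)ᵀ = 0) : IsU φ x := by
  unfold IsU
  rw [hx, add_map, one_map, Matrix.transpose_add, Matrix.transpose_one]
  have h2 : (1 + N) * Om * (1 + (N.map φ)ᵀ) =
      Om + (N * Om + Om * (N.map φ)ᵀ + N * Om * (N.map φ)ᵀ) := by
    simp only [Matrix.add_mul, Matrix.mul_add, Matrix.one_mul, Matrix.mul_one]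
    abel
  rw [h2, h, add_zero]

/-! ### root elements -/

/-- long root element -/
def Zl (i : Fin n) (h : i ≠ i.rev) (c : K) : SLn := tv i i.rev h c

/-- opposite long root element -/
def Zn (j : Fin n) (h : j.rev ≠ j) (c : K) : SLn := tv j.rev j h c

/-- short root element of Levi type -/
def Ym (φ : K →+* K) (i j : Fin n) (hij : i ≠ j) (c : K) : SLn :=
  tv i j hij c * tv j.rev i.rev (rev_ne_rev hij.symm) (-φ c)

/-- short root element in the Siegel radical -/
def Yp (φ : K →+* K) (i j : Fin n) (h : i ≠ j.rev) (c : K) : SLn :=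
  tv i j.rev h c * tv j i.rev (fun h2 => h (by rw [h2, Fin.rev_rev])) (-φ c)

/-- root element through the middle index, upper -/
def Wu (φ : K →+* K) (i c : Fin n) (hic : i ≠ c) (hci : c ≠ i.rev) (hi : i ≠ i.rev) (a b : K) :
    SLn :=
  tv c i.rev hci (-φ a) * tv i c hic a * tv i i.rev hi b

/-- root element through the middle index, lower -/
def Wl (φ : K →+* K) (j c : Fin n) (hcj : c ≠ j) (hjc : j.rev ≠ c) (hj : j.rev ≠ j) (p r : K) :
    SLn :=
  tv c j hcj p * tv j.rev c hjc (-φ p) * tv j.rev j hj r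

theorem Zl_val (i : Fin n) (h : i ≠ i.rev) (c : K) : (Zl i h c : SLn).1 = 1 + c • E i i.rev :=
  tv_val' _ _ _ _

theorem Zn_val (j : Fin n) (h : j.rev ≠ j) (c : K) : (Zn j h c : SLn).1 = 1 + c • E j.rev j :=
  tv_val' _ _ _ _

theorem Ym_val (φ : K →+* K) (i j : Fin n) (hij : i ≠ j) (hj : j ≠ j.rev) (c : K) :
    (Ym φ i j hij c : SLn).1 = 1 + (c • E i j + (-φ c) • E j.rev i.rev) := by
  unfold Ym
  rw [Matrix.SpecialLinearGroup.coe_mul, tv_val', tv_val']
  simp only [Matrix.add_mul, Matrix.mul_add, Matrix.smul_mul, Matrix.mul_smul, E_mul_E,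
    hj, if_false, smul_zero, add_zero, Matrix.one_mul, Matrix.mul_one]
  abel

theorem Yp_val (φ : K →+* K) (i j : Fin n) (h : i ≠ j.rev) (hj : j.rev ≠ j) (c : K) :
    (Yp φ i j h c : SLn).1 = 1 + (c • E i j.rev + (-φ c) • E j i.rev) := by
  unfold Yp
  rw [Matrix.SpecialLinearGroup.coe_mul, tv_val', tv_val']
  simp only [Matrix.add_mul, Matrix.mul_add, Matrix.smul_mul, Matrix.mul_smul, E_mul_E,
    hj, if_false, smul_zero, add_zero, Matrix.one_mul, Matrix.mul_one]
  abel

theorem Wu_val (φ : K →+* K) (i c : Fin n) (hic : i ≠ c) (hci : c ≠ i.rev) (hi : i ≠ i.rev)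
    (a b : K) :
    (Wu φ i c hic hci hi a b : SLn).1 =
      1 + (a • E i c + (-φ a) • E c i.rev + b • E i i.rev) := by
  unfold Wu
  rw [Matrix.SpecialLinearGroup.coe_mul, Matrix.SpecialLinearGroup.coe_mul, tv_val', tv_val',
    tv_val']
  simp only [Matrix.add_mul, Matrix.mul_add, Matrix.smul_mul, Matrix.mul_smul, E_mul_E,
    hi.symm, hic.symm, if_false, smul_zero, add_zero, zero_add, Matrix.one_mul, Matrix.mul_one]
  abel

theorem Wl_val (φ : K →+* K) (j c : Fin n) (hcj : c ≠ j) (hjc : j.rev ≠ c) (hj : j.rev ≠ j)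
    (p r : K) :
    (Wl φ j c hcj hjc hj p r : SLn).1 =
      1 + (p • E c j + (-φ p) • E j.rev c + r • E j.rev j) := by
  unfold Wl
  rw [Matrix.SpecialLinearGroup.coe_mul, Matrix.SpecialLinearGroup.coe_mul, tv_val', tv_val',
    tv_val']
  simp only [Matrix.add_mul, Matrix.mul_add, Matrix.smul_mul, Matrix.mul_smul, E_mul_E,
    hj.symm, hjc.symm, if_false, smul_zero, add_zero, zero_add, Matrix.one_mul, Matrix.mul_one]
  abel

theorem Zl_isU (φ : K →+* K) (i : Fin n) (h : i ≠ i.rev) (c : K) (hc : φ c = -c) :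
    IsU φ (Zl i h c : SLn) := by
  apply isU_of_nil φ _ _ (Zl_val i h c)
  simp only [smul_map, E_map, Matrix.transpose_smul, E_transpose, Matrix.smul_mul,
    Matrix.mul_smul, E_mul_Om, Om_mul_E, E_mul_E, Fin.rev_rev, h, if_false, smul_zero, add_zero,
    hc]
  module

theorem Zn_isU (φ : K →+* K) (j : Fin n) (h : j.rev ≠ j) (c : K) (hc : φ c = -c) :
    IsU φ (Zn j h c : SLn) := by
  apply isU_of_nil φ _ _ (Zn_val j h c)
  simp only [smul_map, E_map, Matrix.transpose_smul, E_transpose, Matrix.smul_mul,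
    Matrix.mul_smul, E_mul_Om, Om_mul_E, E_mul_E, Fin.rev_rev, h, if_false, smul_zero, add_zero,
    hc]
  module

theorem Ym_isU (φ : K →+* K) (hφ : ∀ x, φ (φ x) = x) (i j : Fin n) (hij : i ≠ j)
    (hi : i ≠ i.rev) (hj : j ≠ j.rev) (c : K) : IsU φ (Ym φ i j hij c : SLn) := by
  apply isU_of_nil φ _ _ (Ym_val φ i j hij hj c)
  simp only [add_map, smul_map, E_map, Matrix.transpose_add, Matrix.transpose_smul, E_transpose,
    Matrix.add_mul, Matrix.mul_add, Matrix.smul_mul, Matrix.mul_smul, E_mul_Om, Om_mul_E, E_mul_E,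
    Fin.rev_rev, map_neg, hφ, hij, hi, hj.symm, rev_ne_rev hij.symm, if_false, smul_zero,
    add_zero, zero_add]
  module

theorem Yp_isU (φ : K →+* K) (hφ : ∀ x, φ (φ x) = x) (i j : Fin n) (h : i ≠ j.rev)
    (hi : i ≠ i.rev) (hj : j.rev ≠ j) (c : K) : IsU φ (Yp φ i j h c : SLn) := by
  have h' : j ≠ i.rev := fun h2 => h (by rw [h2, Fin.rev_rev])
  apply isU_of_nil φ _ _ (Yp_val φ i j h hj c)
  simp only [add_map, smul_map, E_map, Matrix.transpose_add, Matrix.transpose_smul, E_transpose,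
    Matrix.add_mul, Matrix.mul_add, Matrix.smul_mul, Matrix.mul_smul, E_mul_Om, Om_mul_E, E_mul_E,
    Fin.rev_rev, map_neg, hφ, h, h', hi, hj.symm, if_false, smul_zero, add_zero, zero_add]
  module

theorem Wu_isU (φ : K →+* K) (hφ : ∀ x, φ (φ x) = x) (i c : Fin n) (hic : i ≠ c)
    (hci : c ≠ i.rev) (hi : i ≠ i.rev) (hc : c.rev = c) (a b : K) (hb : φ b = -b - a * φ a) :
    IsU φ (Wu φ i c hic hci hi a b : SLn) := by
  apply isU_of_nil φ _ _ (Wu_val φ i c hic hci hi a b)
  simp only [add_map, smul_map, E_map, Matrix.transpose_add, Matrix.transpose_smul, E_transpose,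
    Matrix.add_mul, Matrix.mul_add, Matrix.smul_mul, Matrix.mul_smul, E_mul_Om, Om_mul_E, E_mul_E,
    Fin.rev_rev, map_neg, hφ, hc, hb, hic, hic.symm, hci, hci.symm, hi, hi.symm, if_false,
    if_true, eq_self_iff_true, smul_zero, add_zero, zero_add]
  module

theorem Wl_isU (φ : K →+* K) (hφ : ∀ x, φ (φ x) = x) (j c : Fin n) (hcj : c ≠ j)
    (hjc : j.rev ≠ c) (hj : j.rev ≠ j) (hc : c.rev = c) (p r : K) (hr : φ r = -r - p * φ p) :
    IsU φ (Wl φ j c hcj hjc hj p r : SLn) := by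
  apply isU_of_nil φ _ _ (Wl_val φ j c hcj hjc hj p r)
  simp only [add_map, smul_map, E_map, Matrix.transpose_add, Matrix.transpose_smul, E_transpose,
    Matrix.add_mul, Matrix.mul_add, Matrix.smul_mul, Matrix.mul_smul, E_mul_Om, Om_mul_E, E_mul_E,
    Fin.rev_rev, map_neg, hφ, hc, hr, hcj, hcj.symm, hjc, hjc.symm, hj, hj.symm, if_false,
    if_true, eq_self_iff_true, smul_zero, add_zero, zero_add]
  module

/-! ### conjugation -/

theorem conj_nil (N M : Mn) (hN : N * N = 0) :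
    (1 + N) * (1 + M) * (1 - N) = 1 + (M + N * M - M * N - N * M * N) := by
  have h : (1 + N) * (1 + M) * (1 - N) = 1 + (M + N * M - M * N - N * M * N) - N * N := by
    noncomm_ring
  rw [h, hN, sub_zero]

theorem inv_val_of_nil (x : SLn) (N : Mn) (hx : x.1 = 1 + N) (hN : N * N = 0) :
    (x⁻¹).1 = 1 - N := by
  have h : x.1 * (1 - N) = 1 := by
    rw [hx]
    have h0 : (1 + N) * (1 - N) = 1 - N * N := by noncomm_ring
    rw [h0, hN, sub_zero]
  have h2 : (x⁻¹).1 * (x.1 * (1 - N)) = (x⁻¹).1 := by rw [h, Matrix.mul_one]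
  rw [← Matrix.mul_assoc, ← Matrix.SpecialLinearGroup.coe_mul, inv_mul_cancel,
    Matrix.SpecialLinearGroup.coe_one, Matrix.one_mul] at h2
  exact h2.symm

theorem conj_val (x y : SLn) (N M : Mn) (hx : x.1 = 1 + N) (hN : N * N = 0)
    (hy : y.1 = 1 + M) : (x * y * x⁻¹).1 = 1 + (M + N * M - M * N - N * M * N) := by
  rw [Matrix.SpecialLinearGroup.coe_mul, Matrix.SpecialLinearGroup.coe_mul,
    inv_val_of_nil x N hx hN, hx, hy, conj_nil N M hN]

theorem mul_val (a b : SLn) {A B : Mn} (ha : a.1 = 1 + A) (hb : b.1 = 1 + B) :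
    (a * b).1 = 1 + (A + B + A * B) := by
  rw [Matrix.SpecialLinearGroup.coe_mul, ha, hb]
  noncomm_ring

/-- elements whose nilpotent part has vanishing cube have `p`-power order -/
theorem pow_of_nil (p : ℕ) [Fact p.Prime] [CharP K p] [NeZero n] (x : SLn) (N : Mn)
    (hx : x.1 = 1 + N) (hN : N * N * N = 0) : x ^ p ^ 2 = 1 := by
  apply Subtype.ext
  rw [Matrix.SpecialLinearGroup.coe_pow, Matrix.SpecialLinearGroup.coe_one, hx,
    add_pow_char_pow_of_commute p 2 (Commute.one_left N), one_pow]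
  have hp : 2 ≤ p := (Fact.out : p.Prime).two_le
  have h3 : 3 ≤ p ^ 2 := by nlinarith
  have h4 : N ^ p ^ 2 = 0 := by
    apply pow_eq_zero_of_le h3
    rw [pow_succ, pow_two]
    exact hN
  rw [h4, add_zero]

end Cfsg.Agent.Lib.Helper2.UFus
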