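import Mathlib
import Cfsg.Agent.Lib.Helper2.UFus1

set_option autoImplicit false

/-! The unitary group, its unitriangular subgroup and two unipotent radicals. -/

namespace Cfsg.Agent.Lib.Helper2.UFus

open Matrix Cfsg.Agent.Lib.Helper2.UniTri

variable {K : Type*} [Field K] [Fintype K] {n : ℕ}

local notation "SLn" => Matrix.SpecialLinearGroup (Fin n) K
local notation "Mn" => Matrix (Fin n) (Fin n) K

/-- the unitary group for the antidiagonal form -/
def SUa (φ : K →+* K) : Subgroup SLn := ofSubmonoid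
  { carrier := {x | IsU φ x}
    mul_mem' := by
      intro x y hx hy
      have hx' : x.1 * Om * (x.1.map φ)ᵀ = Om := hx
      have hy' : y.1 * Om * (y.1.map φ)ᵀ = Om := hy
      show (x * y).1 * Om * ((x * y).1.map φ)ᵀ = Om
      rw [Matrix.SpecialLinearGroup.coe_mul, Matrix.map_mul, Matrix.transpose_mul]
      have h : x.1 * y.1 * Om * ((y.1.map φ)ᵀ * (x.1.map φ)ᵀ) =
          x.1 * (y.1 * Om * (y.1.map φ)ᵀ) * (x.1.map φ)ᵀ := by
        simp only [Matrix.mul_assoc]
      rw [h, hy', hx']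
    one_mem' := by
      show (1 : SLn).1 * Om * ((1 : SLn).1.map φ)ᵀ = Om
      rw [Matrix.SpecialLinearGroup.coe_one, one_map, Matrix.transpose_one, Matrix.one_mul,
        Matrix.mul_one] }

theorem mem_SUa {φ : K →+* K} {x : SLn} : x ∈ (SUa φ : Subgroup SLn) ↔ IsU φ x := Iff.rfl

/-- the unitriangular unitary group -/
def UU (φ : K →+* K) : Subgroup SLn := UT ⊓ SUa φ

theorem mem_UU {φ : K →+* K} {x : SLn} :
    x ∈ (UU φ : Subgroup SLn) ↔ x ∈ (UT : Subgroup SLn) ∧ x ∈ (SUa φ : Subgroup SLn) :=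
  Subgroup.mem_inf

/-! ### memberships -/

theorem Zl_mem_UT {i : Fin n} (hi : 2 * (i : ℕ) + 1 < n) (c : K) :
    (Zl i (lo_ne_rev hi) c : SLn) ∈ (UT : Subgroup SLn) := tv_mem_UT (lo_lt_rev hi hi) c

theorem Ym_mem_UT (φ : K →+* K) {i j : Fin n} (hij : i < j) (c : K) :
    (Ym φ i j (ne_of_lt hij) c : SLn) ∈ (UT : Subgroup SLn) :=
  Subgroup.mul_mem _ (tv_mem_UT hij c) (tv_mem_UT (Fin.rev_lt_rev.mpr hij) _)

theorem Yp_mem_UT (φ : K →+* K) {i j : Fin n} (hi : 2 * (i : ℕ) + 1 < n)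
    (hj : 2 * (j : ℕ) + 1 < n) (c : K) :
    (Yp φ i j (lo_ne_rev' hi hj) c : SLn) ∈ (UT : Subgroup SLn) :=
  Subgroup.mul_mem _ (tv_mem_UT (lo_lt_rev hi hj) c) (tv_mem_UT (lo_lt_rev hj hi) _)

theorem Wu_mem_UT (φ : K →+* K) {i c : Fin n} (hi : 2 * (i : ℕ) + 1 < n)
    (hc : 2 * (c : ℕ) + 1 = n) (a b : K) :
    (Wu φ i c (ne_of_lt (lo_lt_mid hi hc)) (ne_of_lt (mid_lt_rev hi hc)) (lo_ne_rev hi) a b : SLn) ∈
      (UT : Subgroup SLn) :=
  Subgroup.mul_mem _ (Subgroup.mul_mem _ (tv_mem_UT (mid_lt_rev hi hc) _)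
    (tv_mem_UT (lo_lt_mid hi hc) _)) (tv_mem_UT (lo_lt_rev hi hi) _)

theorem Zl_mem_UU {φ : K →+* K} {i : Fin n} (hi : 2 * (i : ℕ) + 1 < n) (c : K)
    (hc : φ c = -c) : (Zl i (lo_ne_rev hi) c : SLn) ∈ (UU φ : Subgroup SLn) :=
  mem_UU.mpr ⟨Zl_mem_UT hi c, Zl_isU φ i _ c hc⟩

theorem Ym_mem_UU {φ : K →+* K} (hφ : ∀ x, φ (φ x) = x) {i j : Fin n} (hij : i < j)
    (hj : 2 * (j : ℕ) + 1 < n) (c : K) :
    (Ym φ i j (ne_of_lt hij) c : SLn) ∈ (UU φ : Subgroup SLn) :=
  mem_UU.mpr ⟨Ym_mem_UT φ hij c, Ym_isU φ hφ i j _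
    (lo_ne_rev (by rw [Fin.lt_def] at hij; omega)) (lo_ne_rev hj) c⟩

theorem Yp_mem_UU {φ : K →+* K} (hφ : ∀ x, φ (φ x) = x) {i j : Fin n}
    (hi : 2 * (i : ℕ) + 1 < n) (hj : 2 * (j : ℕ) + 1 < n) (c : K) :
    (Yp φ i j (lo_ne_rev' hi hj) c : SLn) ∈ (UU φ : Subgroup SLn) :=
  mem_UU.mpr ⟨Yp_mem_UT φ hi hj c, Yp_isU φ hφ i j _ (lo_ne_rev hi) (lo_ne_rev hj).symm c⟩

theorem Wu_mem_UU {φ : K →+* K} (hφ : ∀ x, φ (φ x) = x) {i c : Fin n}
    (hi : 2 * (i : ℕ) + 1 < n) (hc : 2 * (c : ℕ) + 1 = n) (a b : K)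
    (hb : φ b = -b - a * φ a) :
    (Wu φ i c (ne_of_lt (lo_lt_mid hi hc)) (ne_of_lt (mid_lt_rev hi hc)) (lo_ne_rev hi) a b : SLn) ∈
      (UU φ : Subgroup SLn) :=
  mem_UU.mpr ⟨Wu_mem_UT φ hi hc a b, Wu_isU φ hφ i c _ _ _ (mid_rev hc) a b hb⟩

/-! ### products of root elements -/

omit [Fintype K] in
theorem Ym_mul (φ : K →+* K) (i j : Fin n) (hij : i ≠ j) (hi : i ≠ i.rev) (hj : j ≠ j.rev)
    (c d : K) : Ym φ i j hij c * Ym φ i j hij d = (Ym φ i j hij (c + d) : SLn) := by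
  apply Subtype.ext
  rw [mul_val _ _ (Ym_val φ i j hij hj c) (Ym_val φ i j hij hj d), Ym_val φ i j hij hj]
  simp only [Matrix.add_mul, Matrix.mul_add, Matrix.smul_mul, Matrix.mul_smul, E_mul_E,
    hij.symm, hj, hi.symm, rev_ne_rev hij, if_false, smul_zero, add_zero, map_add]
  module

omit [Fintype K] in
theorem Ym_zero (φ : K →+* K) (i j : Fin n) (hij : i ≠ j) : (Ym φ i j hij 0 : SLn) = 1 := by
  unfold Ym
  rw [map_zero, neg_zero, tv_zero, tv_zero, mul_one]

omit [Fintype K] in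
theorem Ym_inv (φ : K →+* K) (i j : Fin n) (hij : i ≠ j) (hi : i ≠ i.rev) (hj : j ≠ j.rev)
    (c : K) : (Ym φ i j hij c : SLn)⁻¹ = Ym φ i j hij (-c) := by
  apply inv_eq_of_mul_eq_one_right
  rw [Ym_mul φ i j hij hi hj, add_neg_cancel, Ym_zero]

omit [Fintype K] in
theorem Ym_apply_of (φ : K →+* K) {i j : Fin n} (hij : i ≠ j) (hj : j ≠ j.rev) (c : K)
    {a b : Fin n} (hab : a ≠ b) (h1 : ¬ (i = a ∧ j = b)) (h2 : ¬ (j.rev = a ∧ i.rev = b)) :
    (Ym φ i j hij c : SLn).1 a b = 0 := by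
  rw [Ym_val φ i j hij hj, Matrix.add_apply, Matrix.add_apply, Matrix.smul_apply,
    Matrix.smul_apply, E_apply, E_apply, if_neg h1, if_neg h2, smul_zero, smul_zero, add_zero,
    add_zero, Matrix.one_apply_ne hab]

/-- a trivial row forces a trivial column -/
theorem col_of_row {φ : K →+* K} (hφ : ∀ x, φ (φ x) = x) {x : SLn} (hx : IsU φ x) {a : Fin n}
    (h : ∀ k, x.1 a k = (1 : Mn) a k) (b : Fin n) : x.1 b a.rev = (1 : Mn) b a.rev := by
  have h1 := congrFun (congrFun hx a) b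
  rw [Matrix.mul_apply] at h1
  have h2 : ∀ k ∈ Finset.univ, (x.1 * Om : Mn) a k * (x.1.map φ)ᵀ k b =
      (Om : Mn) a k * φ (x.1 b k) := by
    intro k _
    rw [mul_apply_of_row h k, Matrix.transpose_apply, Matrix.map_apply]
  rw [Finset.sum_congr rfl h2, Finset.sum_eq_single a.rev] at h1
  · rw [Om_apply, if_pos rfl, one_mul, Om_apply] at h1
    have h3 : x.1 b a.rev = φ (if b = a.rev then (1 : K) else 0) := by rw [← h1, hφ]
    rw [h3, Matrix.one_apply]
    split_ifs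
    · exact map_one φ
    · exact map_zero φ
  · intro k _ hk
    rw [Om_apply, if_neg hk, zero_mul]
  · intro h3
    exact absurd (Finset.mem_univ _) h3

/-! ### the Siegel radical -/

/-- trivial low columns and trivial high rows -/
def IsQm (x : SLn) : Prop :=
  (∀ b : Fin n, 2 * (b : ℕ) + 1 < n → ∀ k, x.1 k b = (1 : Mn) k b) ∧
    ∀ a : Fin n, n < 2 * (a : ℕ) + 1 → ∀ k, x.1 a k = (1 : Mn) a k

/-- the Siegel radical (not yet intersected with the unitary group) -/
def Qm : Subgroup SLn := ofSubmonoid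
  { carrier := {x | IsQm x}
    mul_mem' := by
      intro x y hx hy
      refine ⟨?_, ?_⟩
      · intro b hb k
        rw [Matrix.SpecialLinearGroup.coe_mul, mul_apply_of_col (hy.1 b hb) k]
        exact hx.1 b hb k
      · intro a ha k
        rw [Matrix.SpecialLinearGroup.coe_mul, mul_apply_of_row (hx.2 a ha) k]
        exact hy.2 a ha k
    one_mem' := ⟨fun b _ k => by rw [Matrix.SpecialLinearGroup.coe_one],
      fun a _ k => by rw [Matrix.SpecialLinearGroup.coe_one]⟩ }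

theorem mem_Qm {x : SLn} : x ∈ (Qm : Subgroup SLn) ↔ IsQm x := Iff.rfl

omit [Fintype K] in
theorem conj_isQm {g v r : SLn} (hgv : g * v = 1)
    (hv1 : ∀ a b : Fin n, 2 * (b : ℕ) + 1 < n → ¬ (2 * (a : ℕ) + 1 < n) → v.1 a b = 0)
    (hg2 : ∀ a b : Fin n, n < 2 * (a : ℕ) + 1 → ¬ (n < 2 * (b : ℕ) + 1) → g.1 a b = 0)
    (hr : IsQm r) : IsQm (g * r * v) := by
  refine ⟨?_, ?_⟩
  · intro b hb k
    have h3 : ∀ l ∈ Finset.univ, (g.1 * r.1) k l * v.1 l b = g.1 k l * v.1 l b := by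
      intro l _
      by_cases hl : 2 * (l : ℕ) + 1 < n
      · rw [mul_apply_of_col (hr.1 l hl) k]
      · rw [hv1 l b hb hl, mul_zero, mul_zero]
    rw [Matrix.SpecialLinearGroup.coe_mul, Matrix.SpecialLinearGroup.coe_mul, Matrix.mul_apply,
      Finset.sum_congr rfl h3, ← Matrix.mul_apply, ← Matrix.SpecialLinearGroup.coe_mul, hgv,
      Matrix.SpecialLinearGroup.coe_one]
  · intro a ha k
    have h3 : ∀ l ∈ Finset.univ, g.1 a l * (r.1 * v.1) l k = g.1 a l * v.1 l k := by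
      intro l _
      by_cases hl : n < 2 * (l : ℕ) + 1
      · rw [mul_apply_of_row (hr.2 l hl) k]
      · rw [hg2 a l ha hl, zero_mul, zero_mul]
    rw [mul_assoc, Matrix.SpecialLinearGroup.coe_mul, Matrix.SpecialLinearGroup.coe_mul,
      Matrix.mul_apply, Finset.sum_congr rfl h3, ← Matrix.mul_apply,
      ← Matrix.SpecialLinearGroup.coe_mul, hgv, Matrix.SpecialLinearGroup.coe_one]

theorem Qm_le_UT : (Qm : Subgroup SLn) ≤ UT := by
  intro x hx
  rw [mem_Qm] at hx
  have hup : ∀ a b : Fin n, b < a → x.1 a b = 0 := by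
    intro a b hab
    rw [Fin.lt_def] at hab
    by_cases hb : 2 * (b : ℕ) + 1 < n
    · rw [hx.1 b hb a, Matrix.one_apply_ne]
      intro h
      rw [h] at hab
      omega
    · rw [hx.2 a (by omega) b, Matrix.one_apply_ne]
      intro h
      rw [h] at hab
      omega
  rw [mem_UT]
  refine ⟨hup, ?_⟩
  intro a
  by_cases ha : 2 * (a : ℕ) + 1 < n
  · rw [hx.1 a ha a, Matrix.one_apply_eq]
  · by_cases ha' : n < 2 * (a : ℕ) + 1
    · rw [hx.2 a ha' a, Matrix.one_apply_eq]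
    · have hdet := x.2
      rw [Matrix.det_of_isUpperTriangular] at hdet
      · rw [Finset.prod_eq_single a] at hdet
        · exact hdet
        · intro b _ hba
          have hne : (b : ℕ) ≠ (a : ℕ) := fun h => hba (Fin.ext h)
          by_cases hb : 2 * (b : ℕ) + 1 < n
          · rw [hx.1 b hb b, Matrix.one_apply_eq]
          · rw [hx.2 b (by omega) b, Matrix.one_apply_eq]
        · intro h
          exact absurd (Finset.mem_univ _) h
      · intro a b hab
        exact hup a b hab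

theorem Qm_conj_UT {u r : SLn} (hu : u ∈ (UT : Subgroup SLn)) (hr : r ∈ (Qm : Subgroup SLn)) :
    u * r * u⁻¹ ∈ (Qm : Subgroup SLn) := by
  rw [mem_Qm] at hr ⊢
  obtain ⟨h1, -⟩ := mem_UT.mp hu
  obtain ⟨h3, -⟩ := mem_UT.mp (UT.inv_mem hu)
  apply conj_isQm (mul_inv_cancel u) _ _ hr
  · intro a b hb ha
    exact h3 a b (by rw [Fin.lt_def]; omega)
  · intro a b ha hb
    exact h1 a b (by rw [Fin.lt_def]; omega)

theorem Zl_mem_Qm {i : Fin n} (hi : 2 * (i : ℕ) + 1 < n) (c : K) :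
    (Zl i (lo_ne_rev hi) c : SLn) ∈ (Qm : Subgroup SLn) := by
  rw [mem_Qm]
  refine ⟨?_, ?_⟩
  · intro b hb k
    unfold Zl
    rw [tv_apply, if_neg, add_zero]
    rintro ⟨-, h2⟩
    have h3 := congrArg Fin.val h2
    rw [Fin.val_rev] at h3
    omega
  · intro a ha k
    unfold Zl
    rw [tv_apply, if_neg, add_zero]
    rintro ⟨h1, -⟩
    rw [h1] at hi
    omega

omit [Fintype K] in
theorem commute_single_of_commute_tv' {i j : Fin n} (h : i ≠ j) {e : K} (he : e ≠ 0) {u : SLn}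
    (hc : tv i j h e * u = u * tv i j h e) : Commute (Matrix.single i j (1 : K)) u.1 := by
  have h1 := congrArg Subtype.val hc
  rw [Matrix.SpecialLinearGroup.coe_mul, Matrix.SpecialLinearGroup.coe_mul, tv_val', add_mul,
    mul_add, one_mul, mul_one] at h1
  have h2 := add_left_cancel h1
  rw [Matrix.smul_mul, Matrix.mul_smul] at h2
  have h4 : (E i j : Mn) * u.1 = u.1 * E i j := by
    have h5 := congrArg (fun M : Mn => e⁻¹ • M) h2
    simp only [smul_smul, inv_mul_cancel₀ he, one_smul] at h5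
    exact h5
  exact h4

/-- the Siegel radical is self-centralizing in the unitriangular group -/
theorem Qm_selfCentralizing {φ : K →+* K} {e : K} (he : e ≠ 0) (hee : φ e = -e) {u : SLn}
    (hu : u ∈ (UT : Subgroup SLn))
    (hc : ∀ r ∈ (Qm ⊓ SUa φ : Subgroup SLn), u * r = r * u) : u ∈ (Qm : Subgroup SLn) := by
  obtain ⟨-, h2⟩ := mem_UT.mp hu
  have hcomm : ∀ i : Fin n, 2 * (i : ℕ) + 1 < n →
      Commute (Matrix.single i i.rev (1 : K)) u.1 := by
    intro i hi
    have hcm := (hc _ (Subgroup.mem_inf.mpr ⟨Zl_mem_Qm hi e, Zl_isU φ i _ e hee⟩)).symm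
    exact commute_single_of_commute_tv' (lo_ne_rev hi) he hcm
  rw [mem_Qm]
  refine ⟨?_, ?_⟩
  · intro b hb k
    by_cases hkb : k = b
    · rw [hkb, h2 b, Matrix.one_apply_eq]
    · rw [Matrix.one_apply_ne hkb]
      exact Matrix.col_eq_zero_of_commute_single (hcomm b hb) hkb
  · intro a ha k
    by_cases hak : a = k
    · rw [← hak, h2 a, Matrix.one_apply_eq]
    · rw [Matrix.one_apply_ne hak]
      have h3 := Matrix.row_eq_zero_of_commute_single (hcomm a.rev ((rev_lo_iff a).mpr ha))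
        (k := k) (by rw [Fin.rev_rev]; exact Ne.symm hak)
      rwa [Fin.rev_rev] at h3

/-- Levi root elements normalize the Siegel radical -/
theorem Qm_conj_Ym (φ : K →+* K) {i j : Fin n} (hij : i ≠ j) (hi : 2 * (i : ℕ) + 1 < n)
    (hj : 2 * (j : ℕ) + 1 < n) (c : K) {r : SLn} (hr : r ∈ (Qm : Subgroup SLn)) :
    Ym φ i j hij c * r * (Ym φ i j hij c)⁻¹ ∈ (Qm : Subgroup SLn) := by
  rw [mem_Qm] at hr ⊢
  have key : ∀ d : K, (∀ a b : Fin n, 2 * (b : ℕ) + 1 < n → ¬ (2 * (a : ℕ) + 1 < n) →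
      (Ym φ i j hij d : SLn).1 a b = 0) ∧
      ∀ a b : Fin n, n < 2 * (a : ℕ) + 1 → ¬ (n < 2 * (b : ℕ) + 1) →
        (Ym φ i j hij d : SLn).1 a b = 0 := by
    intro d
    refine ⟨?_, ?_⟩
    · intro a b hb ha
      apply Ym_apply_of φ hij (lo_ne_rev hj) d
      · intro h
        rw [h] at ha
        exact ha hb
      · rintro ⟨h1, -⟩
        rw [← h1] at ha
        exact ha hi
      · rintro ⟨-, h2⟩
        have h3 := congrArg Fin.val h2
        rw [Fin.val_rev] at h3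
        omega
    · intro a b ha hb
      apply Ym_apply_of φ hij (lo_ne_rev hj) d
      · intro h
        rw [h] at ha
        exact hb ha
      · rintro ⟨h1, -⟩
        rw [← h1] at ha
        omega
      · rintro ⟨-, h2⟩
        have h3 := congrArg Fin.val h2
        rw [Fin.val_rev] at h3
        have := i.2
        omega
  apply conj_isQm (mul_inv_cancel _) _ _ hr
  · rw [Ym_inv φ i j hij (lo_ne_rev hi) (lo_ne_rev hj)]
    exact (key (-c)).1
  · exact (key c).2

/-! ### the Heisenberg radical -/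

/-- trivial outside the first row and the last column -/
def IsQ1 (z : Fin n) (x : SLn) : Prop :=
  (∀ a b : Fin n, a ≠ z → b ≠ z.rev → x.1 a b = (1 : Mn) a b) ∧ x.1 z z = 1 ∧
    x.1 z.rev z.rev = 1

omit [Fintype K] in
theorem IsQ1.colz {z : Fin n} (hz : z ≠ z.rev) {x : SLn} (hx : IsQ1 z x) (k : Fin n) :
    x.1 k z = (1 : Mn) k z := by
  by_cases hk : k = z
  · rw [hk, hx.2.1, Matrix.one_apply_eq]
  · exact hx.1 k z hk hz

omit [Fintype K] in
theorem IsQ1.rowl {z : Fin n} (hz : z ≠ z.rev) {x : SLn} (hx : IsQ1 z x) (k : Fin n) :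
    x.1 z.rev k = (1 : Mn) z.rev k := by
  by_cases hk : k = z.rev
  · rw [hk, hx.2.2, Matrix.one_apply_eq]
  · exact hx.1 z.rev k hz.symm hk

omit [Fintype K] in
theorem conj_isQ1 {z : Fin n} (hz : z ≠ z.rev) {g v r : SLn} (hgv : g * v = 1)
    (hg1 : ∀ a, a ≠ z → g.1 a z = 0) (hg2 : ∀ b, b ≠ z.rev → g.1 z.rev b = 0)
    (hv1 : ∀ a, a ≠ z → v.1 a z = 0) (hv2 : ∀ b, b ≠ z.rev → v.1 z.rev b = 0)
    (hr : IsQ1 z r) : IsQ1 z (g * r * v) := by
  refine ⟨?_, ?_, ?_⟩
  · intro a b ha hb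
    have h1 : ∀ k, k ≠ z.rev → (g.1 * r.1) a k = g.1 a k := by
      intro k hk
      rw [Matrix.mul_apply]
      have h2 : ∀ l ∈ Finset.univ, g.1 a l * r.1 l k = g.1 a l * (1 : Mn) l k := by
        intro l _
        by_cases hl : l = z
        · rw [hl, hg1 a ha, zero_mul, zero_mul]
        · rw [hr.1 l k hl hk]
      rw [Finset.sum_congr rfl h2, ← Matrix.mul_apply, Matrix.mul_one]
    have h3 : ∀ k ∈ Finset.univ, (g.1 * r.1) a k * v.1 k b = g.1 a k * v.1 k b := by
      intro k _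
      by_cases hk : k = z.rev
      · rw [hk, hv2 b hb, mul_zero, mul_zero]
      · rw [h1 k hk]
    rw [Matrix.SpecialLinearGroup.coe_mul, Matrix.SpecialLinearGroup.coe_mul, Matrix.mul_apply,
      Finset.sum_congr rfl h3, ← Matrix.mul_apply, ← Matrix.SpecialLinearGroup.coe_mul, hgv,
      Matrix.SpecialLinearGroup.coe_one]
  · have h1 : ∀ k, (r.1 * v.1) k z = v.1 k z := by
      intro k
      rw [Matrix.mul_apply, Finset.sum_eq_single z]
      · rw [hr.colz hz k]
        by_cases hk : k = z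
        · rw [hk, Matrix.one_apply_eq, one_mul]
        · rw [Matrix.one_apply_ne hk, zero_mul, hv1 k hk]
      · intro l _ hl
        rw [hv1 l hl, mul_zero]
      · intro h
        exact absurd (Finset.mem_univ _) h
    rw [mul_assoc, Matrix.SpecialLinearGroup.coe_mul, Matrix.SpecialLinearGroup.coe_mul,
      Matrix.mul_apply, Finset.sum_congr rfl (fun k _ => by rw [h1 k]), ← Matrix.mul_apply,
      ← Matrix.SpecialLinearGroup.coe_mul, hgv, Matrix.SpecialLinearGroup.coe_one,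
      Matrix.one_apply_eq]
  · have h1 : ∀ k, (g.1 * r.1) z.rev k = g.1 z.rev k := by
      intro k
      rw [Matrix.mul_apply, Finset.sum_eq_single z.rev]
      · rw [hr.rowl hz k]
        by_cases hk : k = z.rev
        · rw [hk, Matrix.one_apply_eq, mul_one]
        · rw [Matrix.one_apply_ne (Ne.symm hk), mul_zero, hg2 k hk]
      · intro l _ hl
        rw [hg2 l hl, zero_mul]
      · intro h
        exact absurd (Finset.mem_univ _) h
    rw [Matrix.SpecialLinearGroup.coe_mul, Matrix.SpecialLinearGroup.coe_mul,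
      Matrix.mul_apply, Finset.sum_congr rfl (fun k _ => by rw [h1 k]), ← Matrix.mul_apply,
      ← Matrix.SpecialLinearGroup.coe_mul, hgv, Matrix.SpecialLinearGroup.coe_one,
      Matrix.one_apply_eq]

/-- the Heisenberg radical (not yet intersected with the unitary group) -/
def Q1 (z : Fin n) (hz : z ≠ z.rev) : Subgroup SLn := ofSubmonoid
  { carrier := {x | IsQ1 z x}
    mul_mem' := by
      intro x y hx hy
      refine ⟨?_, ?_, ?_⟩
      · intro a b ha hb
        rw [Matrix.SpecialLinearGroup.coe_mul, Matrix.mul_apply]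
        have h2 : ∀ k ∈ Finset.univ, x.1 a k * y.1 k b = (1 : Mn) a k * y.1 k b := by
          intro k _
          by_cases hk : k = z.rev
          · rw [hk, IsQ1.rowl hz hy b, Matrix.one_apply_ne (Ne.symm hb), mul_zero, mul_zero]
          · rw [hx.1 a k ha hk]
        rw [Finset.sum_congr rfl h2, ← Matrix.mul_apply, Matrix.one_mul]
        exact hy.1 a b ha hb
      · rw [Matrix.SpecialLinearGroup.coe_mul, mul_apply_of_col (IsQ1.colz hz hy) z]
        exact hx.2.1
      · rw [Matrix.SpecialLinearGroup.coe_mul, mul_apply_of_row (IsQ1.rowl hz hx) z.rev]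
        exact hy.2.2
    one_mem' := ⟨fun a b _ _ => by rw [Matrix.SpecialLinearGroup.coe_one],
      by rw [Matrix.SpecialLinearGroup.coe_one, Matrix.one_apply_eq],
      by rw [Matrix.SpecialLinearGroup.coe_one, Matrix.one_apply_eq]⟩ }

theorem mem_Q1 {z : Fin n} {hz : z ≠ z.rev} {x : SLn} :
    x ∈ (Q1 z hz : Subgroup SLn) ↔ IsQ1 z x := Iff.rfl

theorem Q1_le_UT {z : Fin n} (hz : z ≠ z.rev) (hz0 : (z : ℕ) = 0) :
    (Q1 z hz : Subgroup SLn) ≤ UT := by
  intro x hx
  rw [mem_Q1] at hx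
  rw [mem_UT]
  constructor
  · intro a b hab
    have ha : a ≠ z := by
      intro h
      rw [h, Fin.lt_def] at hab
      omega
    have hb : b ≠ z.rev := by
      intro h
      rw [h, Fin.lt_def, Fin.val_rev] at hab
      have := a.2
      omega
    rw [hx.1 a b ha hb, Matrix.one_apply_ne (ne_of_gt hab)]
  · intro a
    by_cases ha : a = z
    · rw [ha]
      exact hx.2.1
    · by_cases ha' : a = z.rev
      · rw [ha']
        exact hx.2.2
      · rw [hx.1 a a ha ha', Matrix.one_apply_eq]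

theorem Q1_conj_UT {z : Fin n} (hz : z ≠ z.rev) (hz0 : (z : ℕ) = 0) {u r : SLn}
    (hu : u ∈ (UT : Subgroup SLn)) (hr : r ∈ (Q1 z hz : Subgroup SLn)) :
    u * r * u⁻¹ ∈ (Q1 z hz : Subgroup SLn) := by
  rw [mem_Q1] at hr ⊢
  obtain ⟨h1, -⟩ := mem_UT.mp hu
  obtain ⟨h3, -⟩ := mem_UT.mp (UT.inv_mem hu)
  have key1 : ∀ a : Fin n, a ≠ z → z < a := by
    intro a ha
    have h : (a : ℕ) ≠ (z : ℕ) := fun h => ha (Fin.ext h)
    rw [Fin.lt_def]
    omega
  have key2 : ∀ b : Fin n, b ≠ z.rev → b < z.rev := by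
    intro b hb
    have h : (b : ℕ) ≠ (z.rev : ℕ) := fun h => hb (Fin.ext h)
    rw [Fin.val_rev] at h
    rw [Fin.lt_def, Fin.val_rev]
    have := b.2
    omega
  apply conj_isQ1 hz (mul_inv_cancel u) _ _ _ _ hr
  · intro a ha
    exact h1 a z (key1 a ha)
  · intro b hb
    exact h1 z.rev b (key2 b hb)
  · intro a ha
    exact h3 a z (key1 a ha)
  · intro b hb
    exact h3 z.rev b (key2 b hb)

/-- transvections away from the first and last index normalize the Heisenberg radical -/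
theorem Q1_conj_tv {z i j : Fin n} (hz : z ≠ z.rev) (hij : i ≠ j) (hi : i ≠ z.rev) (hj : j ≠ z)
    (c : K) {r : SLn} (hr : r ∈ (Q1 z hz : Subgroup SLn)) :
    tv i j hij c * r * (tv i j hij c)⁻¹ ∈ (Q1 z hz : Subgroup SLn) := by
  rw [mem_Q1] at hr ⊢
  apply conj_isQ1 hz (mul_inv_cancel _) _ _ _ _ hr
  · intro a ha
    rw [tv_apply, Matrix.one_apply_ne ha, zero_add, if_neg]
    intro h
    exact hj h.2
  · intro b hb
    rw [tv_apply, Matrix.one_apply_ne (Ne.symm hb), zero_add, if_neg]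
    intro h
    exact hi h.1
  · intro a ha
    rw [tv_inv, tv_apply, Matrix.one_apply_ne ha, zero_add, if_neg]
    intro h
    exact hj h.2
  · intro b hb
    rw [tv_inv, tv_apply, Matrix.one_apply_ne (Ne.symm hb), zero_add, if_neg]
    intro h
    exact hi h.1

/-- membership in the Heisenberg radical from the nilpotent part -/
theorem mem_Q1_of_nil {z : Fin n} (hz : z ≠ z.rev) {x : SLn} {N : Mn} (hx : x.1 = 1 + N)
    (h1 : ∀ a b : Fin n, a ≠ z → b ≠ z.rev → N a b = 0) (h2 : N z z = 0)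
    (h3 : N z.rev z.rev = 0) : x ∈ (Q1 z hz : Subgroup SLn) := by
  rw [mem_Q1]
  refine ⟨?_, ?_, ?_⟩
  · intro a b ha hb
    rw [hx, Matrix.add_apply, h1 a b ha hb, add_zero]
  · rw [hx, Matrix.add_apply, h2, add_zero, Matrix.one_apply_eq]
  · rw [hx, Matrix.add_apply, h3, add_zero, Matrix.one_apply_eq]

theorem Ym_mem_Q1 (φ : K →+* K) {z j : Fin n} (hz : z ≠ z.rev) (hzj : z ≠ j)
    (hj : j ≠ j.rev) (c : K) : (Ym φ z j hzj c : SLn) ∈ (Q1 z hz : Subgroup SLn) := by
  apply mem_Q1_of_nil hz (Ym_val φ z j hzj hj c)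
  · intro a b ha hb
    rw [Matrix.add_apply, Matrix.smul_apply, Matrix.smul_apply, E_apply, E_apply,
      if_neg (fun h => ha h.1.symm), if_neg (fun h => hb h.2.symm), smul_zero, smul_zero,
      add_zero]
  · rw [Matrix.add_apply, Matrix.smul_apply, Matrix.smul_apply, E_apply, E_apply,
      if_neg (fun h => hzj h.2.symm), if_neg (fun h => hz h.2.symm), smul_zero, smul_zero,
      add_zero]
  · rw [Matrix.add_apply, Matrix.smul_apply, Matrix.smul_apply, E_apply, E_apply,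
      if_neg (fun h => hz h.1), if_neg (fun h => hzj (Fin.rev_inj.mp h.1).symm), smul_zero,
      smul_zero, add_zero]

theorem Wu_mem_Q1 (φ : K →+* K) {z c : Fin n} (hz : z ≠ z.rev) (hzc : z ≠ c) (hcz : c ≠ z.rev)
    (a b : K) : (Wu φ z c hzc hcz hz a b : SLn) ∈ (Q1 z hz : Subgroup SLn) := by
  apply mem_Q1_of_nil hz (Wu_val φ z c hzc hcz hz a b)
  · intro a' b' ha hb
    rw [Matrix.add_apply, Matrix.add_apply, Matrix.smul_apply, Matrix.smul_apply,
      Matrix.smul_apply, E_apply, E_apply, E_apply, if_neg (fun h => ha h.1.symm),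
      if_neg (fun h => hb h.2.symm), if_neg (fun h => ha h.1.symm), smul_zero, smul_zero,
      smul_zero, add_zero, add_zero]
  · rw [Matrix.add_apply, Matrix.add_apply, Matrix.smul_apply, Matrix.smul_apply,
      Matrix.smul_apply, E_apply, E_apply, E_apply, if_neg (fun h => hzc h.2.symm),
      if_neg (fun h => hzc h.1.symm), if_neg (fun h => hz h.2.symm), smul_zero, smul_zero,
      smul_zero, add_zero, add_zero]
  · rw [Matrix.add_apply, Matrix.add_apply, Matrix.smul_apply, Matrix.smul_apply,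
      Matrix.smul_apply, E_apply, E_apply, E_apply, if_neg (fun h => hz h.1),
      if_neg (fun h => hcz h.1), if_neg (fun h => hz h.1), smul_zero, smul_zero,
      smul_zero, add_zero, add_zero]

omit [Fintype K] in
theorem row_extract {u : SLn} {z a c' l' : Fin n} (hza : z ≠ a) (hcl : c' ≠ l') (e : K)
    (hc : u * (tv z a hza 1 * tv c' l' hcl e) = tv z a hza 1 * tv c' l' hcl e * u)
    {b : Fin n} (hb : b ≠ l') (hzc : z ≠ c') (hac : a ≠ c') :
    u.1 a b = if b = a then u.1 z z else 0 := by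
  have h3 := congrArg (fun y : SLn => y.1 z b) hc
  have hL : (u * (tv z a hza 1 * tv c' l' hcl e)).1 z b =
      u.1 z b + if b = a then u.1 z z else 0 := by
    rw [← mul_assoc, mul_tv_apply, if_neg hb, add_zero, mul_tv_apply, one_mul]
  have hR : (tv z a hza 1 * tv c' l' hcl e * u).1 z b = u.1 z b + u.1 a b := by
    rw [mul_assoc, tv_mul_apply, if_pos rfl, one_mul, tv_mul_apply, if_neg hzc, add_zero,
      tv_mul_apply, if_neg hac, add_zero]
  have h4 : u.1 z b + (if b = a then u.1 z z else 0) = u.1 z b + u.1 a b := by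
    rw [← hL, ← hR]
    exact h3
  exact (add_left_cancel h4).symm

omit [Fintype K] in
theorem row_extract3 {u : SLn} {z c : Fin n} (hzc : z ≠ c) (hcz : c ≠ z.rev) (hz : z ≠ z.rev)
    (e b₀ : K)
    (hc : u * (tv c z.rev hcz e * tv z c hzc 1 * tv z z.rev hz b₀) =
      tv c z.rev hcz e * tv z c hzc 1 * tv z z.rev hz b₀ * u)
    {b : Fin n} (hb : b ≠ z.rev) (hlast : u.1 z.rev b = 0) :
    u.1 c b = if b = c then u.1 z z else 0 := by
  have h3 := congrArg (fun y : SLn => y.1 z b) hc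
  have hL : (u * (tv c z.rev hcz e * tv z c hzc 1 * tv z z.rev hz b₀)).1 z b =
      u.1 z b + if b = c then u.1 z z else 0 := by
    rw [← mul_assoc, ← mul_assoc, mul_tv_apply, if_neg hb, add_zero, mul_tv_apply, mul_tv_apply,
      if_neg hb, add_zero, mul_tv_apply, if_neg hz, add_zero, one_mul]
  have hR : (tv c z.rev hcz e * tv z c hzc 1 * tv z z.rev hz b₀ * u).1 z b =
      u.1 z b + u.1 c b := by
    rw [mul_assoc, mul_assoc, tv_mul_apply, if_neg hzc, add_zero, tv_mul_apply, if_pos rfl,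
      tv_mul_apply, if_pos rfl, tv_mul_apply, if_neg hzc.symm, add_zero, hlast, mul_zero,
      add_zero, one_mul]
  have h4 : u.1 z b + (if b = c then u.1 z z else 0) = u.1 z b + u.1 c b := by
    rw [← hL, ← hR]
    exact h3
  exact (add_left_cancel h4).symm

/-- the Heisenberg radical is self-centralizing in the unitriangular group -/
theorem Q1_selfCentralizing {φ : K →+* K} (hF : FD φ) {z : Fin n} (hz : z ≠ z.rev)
    (hz0 : (z : ℕ) = 0) {u : SLn} (hu : u ∈ (UT : Subgroup SLn))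
    (hc : ∀ r ∈ (Q1 z hz ⊓ SUa φ : Subgroup SLn), u * r = r * u) :
    u ∈ (Q1 z hz : Subgroup SLn) := by
  obtain ⟨h1, h2⟩ := mem_UT.mp hu
  obtain ⟨τ, hτ⟩ := hF.exists_tau
  rw [mem_Q1]
  refine ⟨?_, h2 z, h2 z.rev⟩
  intro a b ha hb
  have hlt : b < z.rev := by
    have h : (b : ℕ) ≠ (z.rev : ℕ) := fun h => hb (Fin.ext h)
    rw [Fin.val_rev] at h
    rw [Fin.lt_def, Fin.val_rev]
    have := b.2
    omega
  by_cases hal : a = z.rev
  · rw [hal, h1 z.rev b hlt, Matrix.one_apply_ne (Ne.symm hb)]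
  · have hza : z ≠ a := Ne.symm ha
    have hza' : z ≠ a.rev := fun h => hal (by rw [h, Fin.rev_rev])
    have hfin : u.1 a b = if b = a then u.1 z z else 0 := by
      by_cases hmid : a = a.rev
      · have hb₀ : φ (-τ) = -(-τ) - 1 * φ 1 := by
          rw [map_neg, map_one]
          linear_combination -hτ
        have hmem : Wu φ z a hza hal hz 1 (-τ) ∈ (Q1 z hz ⊓ SUa φ : Subgroup SLn) :=
          Subgroup.mem_inf.mpr ⟨Wu_mem_Q1 φ hz hza hal 1 (-τ),
            Wu_isU φ hF.inv z a hza hal hz hmid.symm 1 (-τ) hb₀⟩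
        exact row_extract3 hza hal hz _ _ (hc _ hmem) hb (h1 z.rev b hlt)
      · have hmem : Ym φ z a hza 1 ∈ (Q1 z hz ⊓ SUa φ : Subgroup SLn) :=
          Subgroup.mem_inf.mpr ⟨Ym_mem_Q1 φ hz hza hmid 1, Ym_isU φ hF.inv z a hza hz hmid 1⟩
        exact row_extract hza _ _ (hc _ hmem) hb hza' hmid
    rw [hfin, h2 z, Matrix.one_apply]
    by_cases hab : a = b
    · rw [if_pos hab, if_pos hab.symm]
    · rw [if_neg hab, if_neg (fun h => hab h.symm)]

end Cfsg.Agent.Lib.Helper2.UFus
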