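import Mathlib
import Cfsg.Agent.Lib.Helper2.UFus2

set_option autoImplicit false

/-! Conjugation identities and torus elements for the unitary group. -/

namespace Cfsg.Agent.Lib.Helper2.UFus

open Matrix Cfsg.Agent.Lib.Helper2.UniTri

section NoFin

variable {K : Type*} [Field K] {n : ℕ}

local notation "SLn" => Matrix.SpecialLinearGroup (Fin n) K
local notation "Mn" => Matrix (Fin n) (Fin n) K

theorem ne_rev_symm {i j : Fin n} (h : i ≠ j.rev) : j ≠ i.rev :=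
  fun h2 => h (by rw [h2, Fin.rev_rev])

theorem Zl_mul (i : Fin n) (h : i ≠ i.rev) (c d : K) :
    Zl i h c * Zl i h d = (Zl i h (c + d) : SLn) := tv_mul_tv _ _ _ _ _

theorem Zl_zero (i : Fin n) (h : i ≠ i.rev) : (Zl i h 0 : SLn) = 1 := tv_zero _ _ _

theorem Zl_inv (i : Fin n) (h : i ≠ i.rev) (c : K) : (Zl i h c : SLn)⁻¹ = Zl i h (-c) :=
  tv_inv _ _ _ _

/-- the Weyl-type conjugation identity for long root elements -/
theorem J1u (φ : K →+* K) {z j : Fin n} (hzj : z ≠ j) (hz : z ≠ z.rev) (hj : j ≠ j.rev)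
    (hzjr : z ≠ j.rev) (d : K) :
    (Ym φ z j hzj (-1) * Ym φ j z hzj.symm 1) * Zl z hz d *
      (Ym φ z j hzj (-1) * Ym φ j z hzj.symm 1)⁻¹ = (Zl j hj d : SLn) := by
  have hjzr : j ≠ z.rev := ne_rev_symm hzjr
  rw [mul_inv_eq_iff_eq_mul]
  apply Subtype.ext
  rw [mul_val _ _ (mul_val _ _ (Ym_val φ z j hzj hj (-1)) (Ym_val φ j z hzj.symm hz 1))
      (Zl_val z hz d),
    mul_val _ _ (Zl_val j hj d)
      (mul_val _ _ (Ym_val φ z j hzj hj (-1)) (Ym_val φ j z hzj.symm hz 1))]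
  simp only [Matrix.add_mul, Matrix.mul_add, Matrix.smul_mul, Matrix.mul_smul, E_mul_E,
    hzj, hzj.symm, hz, hz.symm, hj, hj.symm, hzjr, hzjr.symm, hjzr, hjzr.symm,
    rev_ne_rev hzj, rev_ne_rev hzj.symm, map_neg, map_one, if_false, if_true, eq_self_iff_true,
    smul_zero, add_zero, zero_add]
  module

/-- conjugating a long root element by a Levi root element -/
theorem J2u (φ : K →+* K) {i j : Fin n} (hij : i ≠ j) (hi : i ≠ i.rev) (hj : j ≠ j.rev)
    (hijr : i ≠ j.rev) (c d : K) (hd : φ d = -d) :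
    Ym φ i j hij c * Zl j hj d * (Ym φ i j hij c)⁻¹ =
      (Zl j hj d * Yp φ i j hijr (c * d) * Zl i hi (c * φ c * d) : SLn) := by
  have hjir : j ≠ i.rev := ne_rev_symm hijr
  rw [mul_inv_eq_iff_eq_mul]
  apply Subtype.ext
  rw [mul_val _ _ (Ym_val φ i j hij hj c) (Zl_val j hj d),
    mul_val _ _ (mul_val _ _ (mul_val _ _ (Zl_val j hj d) (Yp_val φ i j hijr hj.symm (c * d)))
      (Zl_val i hi (c * φ c * d))) (Ym_val φ i j hij hj c)]
  simp only [Matrix.add_mul, Matrix.mul_add, Matrix.smul_mul, Matrix.mul_smul, E_mul_E,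
    hij, hij.symm, hi, hi.symm, hj, hj.symm, hijr, hijr.symm, hjir, hjir.symm,
    rev_ne_rev hij, rev_ne_rev hij.symm, map_neg, map_mul, hd, if_false, if_true,
    eq_self_iff_true, smul_zero, add_zero, zero_add]
  module

/-- conjugating a Siegel root element by an opposite long root element -/
theorem J3u (φ : K →+* K) {i j : Fin n} (hij : i ≠ j) (hi : i ≠ i.rev) (hj : j ≠ j.rev)
    (hijr : i ≠ j.rev) (c e : K) (hc : φ c = -c) :
    Zn j hj.symm c * Yp φ i j hijr e * (Zn j hj.symm c)⁻¹ =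
      (Ym φ i j hij (-(c * e)) * Yp φ i j hijr e * Zl i hi (-(c * e * φ e)) : SLn) := by
  have hjir : j ≠ i.rev := ne_rev_symm hijr
  rw [mul_inv_eq_iff_eq_mul]
  apply Subtype.ext
  rw [mul_val _ _ (Zn_val j hj.symm c) (Yp_val φ i j hijr hj.symm e),
    mul_val _ _ (mul_val _ _ (mul_val _ _ (Ym_val φ i j hij hj (-(c * e)))
      (Yp_val φ i j hijr hj.symm e)) (Zl_val i hi (-(c * e * φ e)))) (Zn_val j hj.symm c)]
  simp only [Matrix.add_mul, Matrix.mul_add, Matrix.smul_mul, Matrix.mul_smul, E_mul_E,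
    hij, hij.symm, hi, hi.symm, hj, hj.symm, hijr, hijr.symm, hjir, hjir.symm,
    rev_ne_rev hij, rev_ne_rev hij.symm, map_neg, map_mul, hc, if_false, if_true,
    eq_self_iff_true, smul_zero, add_zero, zero_add]
  module

/-- conjugating a Siegel root element by a lower root element through the middle -/
theorem J8 (φ : K →+* K) (hφ : ∀ x, φ (φ x) = x) {i j c : Fin n} (hij : i ≠ j) (hi : i ≠ i.rev)
    (hj : j ≠ j.rev) (hijr : i ≠ j.rev) (hic : i ≠ c) (hjc : j ≠ c) (hcir : c ≠ i.rev)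
    (hcjr : c ≠ j.rev) (e p r : K) (hr : φ r = -r - p * φ p) :
    Wl φ j c hjc.symm hcjr.symm hj.symm p r * Yp φ i j hijr e *
        (Wl φ j c hjc.symm hcjr.symm hj.symm p r)⁻¹ =
      (Yp φ i j hijr e * Ym φ i j hij (e * φ r) * Wu φ i c hic hcir hi (e * φ p) (e * φ e * r) :
        SLn) := by
  have hjir : j ≠ i.rev := ne_rev_symm hijr
  rw [mul_inv_eq_iff_eq_mul]
  apply Subtype.ext
  rw [mul_val _ _ (Wl_val φ j c hjc.symm hcjr.symm hj.symm p r) (Yp_val φ i j hijr hj.symm e),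
    mul_val _ _ (mul_val _ _ (mul_val _ _ (Yp_val φ i j hijr hj.symm e)
      (Ym_val φ i j hij hj (e * φ r))) (Wu_val φ i c hic hcir hi (e * φ p) (e * φ e * r)))
      (Wl_val φ j c hjc.symm hcjr.symm hj.symm p r)]
  simp only [Matrix.add_mul, Matrix.mul_add, Matrix.smul_mul, Matrix.mul_smul, E_mul_E,
    hij, hij.symm, hi, hi.symm, hj, hj.symm, hijr, hijr.symm, hjir, hjir.symm,
    rev_ne_rev hij, rev_ne_rev hij.symm, hic, hic.symm, hjc, hjc.symm, hcir, hcir.symm,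
    hcjr, hcjr.symm, map_neg, map_mul, map_sub, hφ, hr, if_false, if_true,
    eq_self_iff_true, smul_zero, add_zero, zero_add]
  module

/-- the Weyl-type conjugation identity for root elements through the middle -/
theorem JW (φ : K →+* K) {z j c : Fin n} (hzj : z ≠ j) (hz : z ≠ z.rev) (hj : j ≠ j.rev)
    (hzjr : z ≠ j.rev) (hzc : z ≠ c) (hjc : j ≠ c) (hczr : c ≠ z.rev) (hcjr : c ≠ j.rev)
    (a b : K) :
    (Ym φ z j hzj (-1) * Ym φ j z hzj.symm 1) * Wu φ z c hzc hczr hz a b *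
      (Ym φ z j hzj (-1) * Ym φ j z hzj.symm 1)⁻¹ = (Wu φ j c hjc hcjr hj a b : SLn) := by
  have hjzr : j ≠ z.rev := ne_rev_symm hzjr
  rw [mul_inv_eq_iff_eq_mul]
  apply Subtype.ext
  rw [mul_val _ _ (mul_val _ _ (Ym_val φ z j hzj hj (-1)) (Ym_val φ j z hzj.symm hz 1))
      (Wu_val φ z c hzc hczr hz a b),
    mul_val _ _ (Wu_val φ j c hjc hcjr hj a b)
      (mul_val _ _ (Ym_val φ z j hzj hj (-1)) (Ym_val φ j z hzj.symm hz 1))]
  simp only [Matrix.add_mul, Matrix.mul_add, Matrix.smul_mul, Matrix.mul_smul, E_mul_E,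
    hzj, hzj.symm, hz, hz.symm, hj, hj.symm, hzjr, hzjr.symm, hjzr, hjzr.symm,
    rev_ne_rev hzj, rev_ne_rev hzj.symm, hzc, hzc.symm, hjc, hjc.symm, hczr, hczr.symm,
    hcjr, hcjr.symm, map_neg, map_one, if_false, if_true, eq_self_iff_true,
    smul_zero, add_zero, zero_add]
  module

/-! ### torus elements -/

theorem E_diag_apply (k a : Fin n) : (E k k : Mn) a a = if k = a then 1 else 0 := by
  rw [E_apply]
  by_cases h : k = a
  · rw [if_pos ⟨h, h⟩, if_pos h]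
  · rw [if_neg (fun h2 => h h2.1), if_neg h]

theorem E_diag_apply_ne (k : Fin n) {a b : Fin n} (hab : a ≠ b) : (E k k : Mn) a b = 0 := by
  rw [E_apply, if_neg]
  rintro ⟨h1, h2⟩
  exact hab (h1.symm.trans h2)

/-- short root torus element -/
def hY (φ : K →+* K) (i j : Fin n) (hij : i ≠ j) (s : K) : SLn :=
  Ym φ i j hij (s - 1) * Ym φ j i hij.symm 1 * Ym φ i j hij (s⁻¹ - 1) * Ym φ j i hij.symm (-s)

theorem hY_val (φ : K →+* K) {i j : Fin n} (hij : i ≠ j) (hi : i ≠ i.rev) (hj : j ≠ j.rev)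
    (hijr : i ≠ j.rev) (s : K) (hs : s ≠ 0) :
    (hY φ i j hij s : SLn).1 = 1 + ((s - 1) • E i i + (s⁻¹ - 1) • E j j +
      (φ s - 1) • E j.rev j.rev + ((φ s)⁻¹ - 1) • E i.rev i.rev) := by
  have hjir : j ≠ i.rev := ne_rev_symm hijr
  have hs' : φ s ≠ 0 := (map_ne_zero φ).mpr hs
  unfold hY
  rw [mul_val _ _ (mul_val _ _ (mul_val _ _ (Ym_val φ i j hij hj (s - 1))
    (Ym_val φ j i hij.symm hi 1)) (Ym_val φ i j hij hj (s⁻¹ - 1))) (Ym_val φ j i hij.symm hi (-s))]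
  simp only [Matrix.add_mul, Matrix.mul_add, Matrix.smul_mul, Matrix.mul_smul, E_mul_E,
    hij, hij.symm, hi, hi.symm, hj, hj.symm, hijr, hijr.symm, hjir, hjir.symm,
    rev_ne_rev hij, rev_ne_rev hij.symm, map_neg, map_one, map_sub, map_inv₀, if_false, if_true,
    eq_self_iff_true, smul_zero, add_zero, zero_add]
  match_scalars <;> field_simp <;> ring

theorem hY_conj_Zl (φ : K →+* K) {i j : Fin n} (hij : i ≠ j) (hi : i ≠ i.rev) (hj : j ≠ j.rev)
    (hijr : i ≠ j.rev) (s : K) (hs : s ≠ 0) (c : K) :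
    hY φ i j hij s * Zl i hi c * (hY φ i j hij s)⁻¹ = (Zl i hi (s * φ s * c) : SLn) := by
  have hjir : j ≠ i.rev := ne_rev_symm hijr
  have hs' : φ s ≠ 0 := (map_ne_zero φ).mpr hs
  rw [mul_inv_eq_iff_eq_mul]
  apply Subtype.ext
  rw [mul_val _ _ (hY_val φ hij hi hj hijr s hs) (Zl_val i hi c),
    mul_val _ _ (Zl_val i hi (s * φ s * c)) (hY_val φ hij hi hj hijr s hs)]
  simp only [Matrix.add_mul, Matrix.mul_add, Matrix.smul_mul, Matrix.mul_smul, E_mul_E,
    hij, hij.symm, hi, hi.symm, hj, hj.symm, hijr, hijr.symm, hjir, hjir.symm,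
    rev_ne_rev hij, rev_ne_rev hij.symm, if_false, if_true,
    eq_self_iff_true, smul_zero, add_zero, zero_add]
  match_scalars <;> field_simp <;> ring

theorem hY_apply_self (φ : K →+* K) {i j : Fin n} (hij : i ≠ j) (hi : i ≠ i.rev)
    (hj : j ≠ j.rev) (hijr : i ≠ j.rev) (s : K) (hs : s ≠ 0) :
    (hY φ i j hij s : SLn).1 i i = s := by
  rw [hY_val φ hij hi hj hijr s hs]
  simp only [Matrix.add_apply, Matrix.smul_apply, E_diag_apply, Matrix.one_apply_eq, smul_eq_mul,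
    hij.symm, hijr.symm, hi.symm, if_true, if_false]
  ring

theorem hY_apply_other (φ : K →+* K) {i j : Fin n} (hij : i ≠ j) (hi : i ≠ i.rev)
    (hj : j ≠ j.rev) (hijr : i ≠ j.rev) (s : K) (hs : s ≠ 0) {a : Fin n} (h1 : a ≠ i)
    (h2 : a ≠ j) (h3 : a ≠ j.rev) (h4 : a ≠ i.rev) : (hY φ i j hij s : SLn).1 a a = 1 := by
  rw [hY_val φ hij hi hj hijr s hs]
  simp only [Matrix.add_apply, Matrix.smul_apply, E_diag_apply, Matrix.one_apply_eq, smul_eq_mul]
  rw [if_neg h1.symm, if_neg h2.symm, if_neg h3.symm, if_neg h4.symm]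
  ring

theorem hY_isDiag (φ : K →+* K) {i j : Fin n} (hij : i ≠ j) (hi : i ≠ i.rev) (hj : j ≠ j.rev)
    (hijr : i ≠ j.rev) (s : K) (hs : s ≠ 0) : IsDiag (hY φ i j hij s : SLn) := by
  intro a b hab
  rw [hY_val φ hij hi hj hijr s hs]
  simp only [Matrix.add_apply, Matrix.smul_apply, E_diag_apply_ne _ hab, Matrix.one_apply_ne hab,
    smul_zero, add_zero]

/-- long root torus element, built from unitary factors -/
def hl (i : Fin n) (hi : i ≠ i.rev) (e lam : K) : SLn :=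
  Zl i hi (e * (lam - 1)) * Zn i hi.symm e⁻¹ * Zl i hi (e * (lam⁻¹ - 1)) *
    Zn i hi.symm (-(e⁻¹ * lam))

theorem hl_val (i : Fin n) (hi : i ≠ i.rev) (e lam : K) (he : e ≠ 0) (hlam : lam ≠ 0) :
    (hl i hi e lam : SLn).1 = 1 + ((lam - 1) • E i i + (lam⁻¹ - 1) • E i.rev i.rev) := by
  unfold hl
  rw [mul_val _ _ (mul_val _ _ (mul_val _ _ (Zl_val i hi (e * (lam - 1)))
    (Zn_val i hi.symm e⁻¹)) (Zl_val i hi (e * (lam⁻¹ - 1)))) (Zn_val i hi.symm (-(e⁻¹ * lam)))]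
  simp only [Matrix.add_mul, Matrix.mul_add, Matrix.smul_mul, Matrix.mul_smul, E_mul_E,
    hi, hi.symm, if_false, if_true, eq_self_iff_true, smul_zero, add_zero, zero_add]
  match_scalars <;> field_simp <;> ring

theorem hl_apply_self (i : Fin n) (hi : i ≠ i.rev) (e lam : K) (he : e ≠ 0) (hlam : lam ≠ 0) :
    (hl i hi e lam : SLn).1 i i = lam := by
  rw [hl_val i hi e lam he hlam]
  simp only [Matrix.add_apply, Matrix.smul_apply, E_diag_apply, Matrix.one_apply_eq, smul_eq_mul,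
    hi.symm, if_true, if_false]
  ring

theorem hl_apply_other (i : Fin n) (hi : i ≠ i.rev) (e lam : K) (he : e ≠ 0) (hlam : lam ≠ 0)
    {a : Fin n} (h1 : a ≠ i) (h2 : a ≠ i.rev) : (hl i hi e lam : SLn).1 a a = 1 := by
  rw [hl_val i hi e lam he hlam]
  simp only [Matrix.add_apply, Matrix.smul_apply, E_diag_apply, Matrix.one_apply_eq, smul_eq_mul]
  rw [if_neg h1.symm, if_neg h2.symm]
  ring

theorem hl_isDiag (i : Fin n) (hi : i ≠ i.rev) (e lam : K) (he : e ≠ 0) (hlam : lam ≠ 0) :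
    IsDiag (hl i hi e lam : SLn) := by
  intro a b hab
  rw [hl_val i hi e lam he hlam]
  simp only [Matrix.add_apply, Matrix.smul_apply, E_diag_apply_ne _ hab, Matrix.one_apply_ne hab,
    smul_zero, add_zero]

/-- the Weyl element of the three-dimensional unitary group through the middle index -/
def nW (φ : K →+* K) (i c : Fin n) (hic : i ≠ c) (hci : c ≠ i.rev) (hi : i ≠ i.rev) (a b : K) :
    SLn :=
  Wu φ i c hic hci hi a b * Wl φ i c hic.symm hci.symm hi.symm (φ a / φ b) (φ b)⁻¹ *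
    Wu φ i c hic hci hi (a * φ b / b) b

theorem nW_val (φ : K →+* K) (hφ : ∀ x, φ (φ x) = x) (i c : Fin n) (hic : i ≠ c)
    (hci : c ≠ i.rev) (hi : i ≠ i.rev) (a b : K) (hb : φ b = -b - a * φ a) (hb0 : b ≠ 0) :
    (nW φ i c hic hci hi a b : SLn).1 = 1 + ((-1 : K) • E i i + (-1 : K) • E i.rev i.rev +
      b • E i i.rev + (-(φ b) / b - 1) • E c c + (φ b)⁻¹ • E i.rev i) := by
  have hb1 : φ b ≠ 0 := (map_ne_zero φ).mpr hb0
  unfold nW
  rw [mul_val _ _ (mul_val _ _ (Wu_val φ i c hic hci hi a b)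
    (Wl_val φ i c hic.symm hci.symm hi.symm (φ a / φ b) (φ b)⁻¹))
    (Wu_val φ i c hic hci hi (a * φ b / b) b)]
  simp only [Matrix.add_mul, Matrix.mul_add, Matrix.smul_mul, Matrix.mul_smul, E_mul_E,
    hic, hic.symm, hci, hci.symm, hi, hi.symm, map_div₀, map_mul, map_inv₀, map_neg, hφ,
    if_false, if_true, eq_self_iff_true, smul_zero, add_zero, zero_add]
  generalize φ b = β at hb hb1 ⊢
  have hbeq : b = -β - a * φ a := by linear_combination hb
  match_scalars <;> field_simp <;> (try rw [hbeq]) <;> ring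

/-- the torus element of the three-dimensional unitary group through the middle index -/
theorem hm_val (φ : K →+* K) (hφ : ∀ x, φ (φ x) = x) (i c : Fin n) (hic : i ≠ c)
    (hci : c ≠ i.rev) (hi : i ≠ i.rev) (a b e : K) (hb : φ b = -b - a * φ a) (hb0 : b ≠ 0)
    (he : e ≠ 0) (hee : φ e = -e) :
    (nW φ i c hic hci hi a b * nW φ i c hic hci hi 0 (-e) : SLn).1 =
      1 + ((b / e - 1) • E i i + (-(φ b) / b - 1) • E c c +
        (-(e / φ b) - 1) • E i.rev i.rev) := by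
  have hb1 : φ b ≠ 0 := (map_ne_zero φ).mpr hb0
  have he' : φ (-e) = -(-e) - 0 * φ 0 := by
    rw [map_neg, hee, map_zero]
    ring
  have hne : -e ≠ 0 := neg_ne_zero.mpr he
  rw [mul_val _ _ (nW_val φ hφ i c hic hci hi a b hb hb0)
    (nW_val φ hφ i c hic hci hi 0 (-e) he' hne)]
  simp only [Matrix.add_mul, Matrix.mul_add, Matrix.smul_mul, Matrix.mul_smul, E_mul_E,
    hic, hic.symm, hci, hci.symm, hi, hi.symm, map_neg, hee, neg_neg,
    if_false, if_true, eq_self_iff_true, smul_zero, add_zero, zero_add]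
  match_scalars <;> field_simp <;> ring

theorem hm_apply_self (φ : K →+* K) (hφ : ∀ x, φ (φ x) = x) (i c : Fin n) (hic : i ≠ c)
    (hci : c ≠ i.rev) (hi : i ≠ i.rev) (a b e : K) (hb : φ b = -b - a * φ a) (hb0 : b ≠ 0)
    (he : e ≠ 0) (hee : φ e = -e) :
    (nW φ i c hic hci hi a b * nW φ i c hic hci hi 0 (-e) : SLn).1 i i = b / e := by
  rw [hm_val φ hφ i c hic hci hi a b e hb hb0 he hee]
  simp only [Matrix.add_apply, Matrix.smul_apply, E_diag_apply, Matrix.one_apply_eq, smul_eq_mul,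
    hic.symm, hi.symm, if_true, if_false]
  ring

theorem hm_apply_other (φ : K →+* K) (hφ : ∀ x, φ (φ x) = x) (i c : Fin n) (hic : i ≠ c)
    (hci : c ≠ i.rev) (hi : i ≠ i.rev) (a b e : K) (hb : φ b = -b - a * φ a) (hb0 : b ≠ 0)
    (he : e ≠ 0) (hee : φ e = -e) {k : Fin n} (h1 : k ≠ i) (h2 : k ≠ c) (h3 : k ≠ i.rev) :
    (nW φ i c hic hci hi a b * nW φ i c hic hci hi 0 (-e) : SLn).1 k k = 1 := by
  rw [hm_val φ hφ i c hic hci hi a b e hb hb0 he hee]
  simp only [Matrix.add_apply, Matrix.smul_apply, E_diag_apply, Matrix.one_apply_eq, smul_eq_mul]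
  rw [if_neg h1.symm, if_neg h2.symm, if_neg h3.symm]
  ring

theorem hm_isDiag (φ : K →+* K) (hφ : ∀ x, φ (φ x) = x) (i c : Fin n) (hic : i ≠ c)
    (hci : c ≠ i.rev) (hi : i ≠ i.rev) (a b e : K) (hb : φ b = -b - a * φ a) (hb0 : b ≠ 0)
    (he : e ≠ 0) (hee : φ e = -e) :
    IsDiag (nW φ i c hic hci hi a b * nW φ i c hic hci hi 0 (-e) : SLn) := by
  intro k l hkl
  rw [hm_val φ hφ i c hic hci hi a b e hb hb0 he hee]
  simp only [Matrix.add_apply, Matrix.smul_apply, E_diag_apply_ne _ hkl, Matrix.one_apply_ne hkl,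
    smul_zero, add_zero]

end NoFin

section Fin

variable {K : Type*} [Field K] [Fintype K] {n : ℕ}

local notation "SLn" => Matrix.SpecialLinearGroup (Fin n) K

theorem hY_mem_SUa {φ : K →+* K} (hφ : ∀ x, φ (φ x) = x) {i j : Fin n} (hij : i ≠ j)
    (hi : i ≠ i.rev) (hj : j ≠ j.rev) (s : K) :
    (hY φ i j hij s : SLn) ∈ (SUa φ : Subgroup SLn) := by
  unfold hY
  exact Subgroup.mul_mem _ (Subgroup.mul_mem _ (Subgroup.mul_mem _
    (Ym_isU φ hφ i j hij hi hj _) (Ym_isU φ hφ j i hij.symm hj hi _))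
    (Ym_isU φ hφ i j hij hi hj _)) (Ym_isU φ hφ j i hij.symm hj hi _)

theorem hl_mem_SUa {φ : K →+* K} (i : Fin n) (hi : i ≠ i.rev) {e lam : K} (hee : φ e = -e)
    (hlam : φ lam = lam) : (hl i hi e lam : SLn) ∈ (SUa φ : Subgroup SLn) := by
  unfold hl
  refine Subgroup.mul_mem _ (Subgroup.mul_mem _ (Subgroup.mul_mem _
    (Zl_isU φ i hi _ ?_) (Zn_isU φ i hi.symm _ ?_)) (Zl_isU φ i hi _ ?_))
    (Zn_isU φ i hi.symm _ ?_)
  · rw [map_mul, map_sub, map_one, hee, hlam]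
    ring
  · rw [map_inv₀, hee, inv_neg]
  · rw [map_mul, map_sub, map_one, map_inv₀, hee, hlam]
    ring
  · rw [map_neg, map_mul, map_inv₀, hee, hlam, inv_neg]
    ring

theorem nW_mem_SUa {φ : K →+* K} (hφ : ∀ x, φ (φ x) = x) (i c : Fin n) (hic : i ≠ c)
    (hci : c ≠ i.rev) (hi : i ≠ i.rev) (hc : c.rev = c) (a b : K) (hb : φ b = -b - a * φ a)
    (hb0 : b ≠ 0) : (nW φ i c hic hci hi a b : SLn) ∈ (SUa φ : Subgroup SLn) := by
  have hb1 : φ b ≠ 0 := (map_ne_zero φ).mpr hb0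
  unfold nW
  refine Subgroup.mul_mem _ (Subgroup.mul_mem _ (Wu_isU φ hφ i c hic hci hi hc a b hb)
    (Wl_isU φ hφ i c hic.symm hci.symm hi.symm hc _ _ ?_)) (Wu_isU φ hφ i c hic hci hi hc _ b ?_)
  · rw [map_inv₀, map_div₀, hφ, hφ]
    generalize φ b = β at hb hb1 ⊢
    have hbeq : b = -β - a * φ a := by linear_combination hb
    field_simp
    rw [hbeq]
    ring
  · rw [map_div₀, map_mul, hφ]
    generalize φ b = β at hb hb1 ⊢
    have hbeq : b = -β - a * φ a := by linear_combination hb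
    field_simp
    rw [hbeq]
    ring

end Fin

end Cfsg.Agent.Lib.Helper2.UFus
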