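import Mathlib
import Cfsg.Agent.Lib.Helper2.UFus3

set_option autoImplicit false

/-! Normalizer of the unitriangular unitary group and generation of the torus. -/

namespace Cfsg.Agent.Lib.Helper2.UFus

open Matrix Cfsg.Agent.Lib.Helper2.UniTri

variable {K : Type*} [Field K] [Fintype K] {n : ℕ}

local notation "SLn" => Matrix.SpecialLinearGroup (Fin n) K
local notation "Mn" => Matrix (Fin n) (Fin n) K

/-- elements conjugating the unitriangular unitary group into itself are upper triangular -/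
theorem upper_of_conj {φ : K →+* K} (hF : FD φ) {x : SLn}
    (hx : ∀ u ∈ (UU φ : Subgroup SLn), x⁻¹ * u * x ∈ (UU φ : Subgroup SLn)) :
    ∀ a b : Fin n, b < a → x.1 a b = 0 := by
  obtain ⟨e, he0, hee⟩ := hF.exists_eps
  obtain ⟨τ, hτ⟩ := hF.exists_tau
  have hb₀ : φ (-τ) = -(-τ) - 1 * φ 1 := by
    rw [map_neg, map_one]
    linear_combination -hτ
  have key : ∀ k : ℕ, ∀ a b : Fin n, (b : ℕ) = k → b < a → x.1 a b = 0 := by
    intro k
    induction k using Nat.strong_induction_on with
    | _ k ih =>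
      intro a b hbk hba
      have hsum : ∀ w ∈ (UU φ : Subgroup SLn), (w * x).1 b b = x.1 b b := by
        intro w hwU
        have hu : x⁻¹ * w * x ∈ (UU φ : Subgroup SLn) := hx w hwU
        obtain ⟨u, hudef⟩ : ∃ u : SLn, u = x⁻¹ * w * x := ⟨_, rfl⟩
        rw [← hudef] at hu
        have huT := (mem_UU.mp hu).1
        have he : w * x = x * u := by rw [hudef]; group
        rw [he, Matrix.SpecialLinearGroup.coe_mul, Matrix.mul_apply, Finset.sum_eq_single b]
        · rw [(mem_UT.mp huT).2 b, mul_one]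
        · intro l _ hlb
          rcases lt_or_gt_of_ne hlb with h | h
          · rw [ih (l : ℕ) (by rw [← hbk]; exact h) b l rfl h, zero_mul]
          · rw [(mem_UT.mp huT).1 l b h, mul_zero]
        · intro h
          exact absurd (Finset.mem_univ b) h
      have hopp : b < b.rev → x.1 b.rev b = 0 := by
        intro hlt
        have hw : (Zl b (ne_of_lt hlt) e : SLn) ∈ (UU φ : Subgroup SLn) :=
          mem_UU.mpr ⟨tv_mem_UT hlt e, Zl_isU φ b (ne_of_lt hlt) e hee⟩
        have h1 := hsum _ hw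
        unfold Zl at h1
        rw [tv_mul_apply, if_pos rfl] at h1
        have h2 : e * x.1 b.rev b = 0 := by linear_combination h1
        rcases mul_eq_zero.mp h2 with h3 | h3
        · exact absurd h3 he0
        · exact h3
      by_cases har : a = b.rev
      · rw [har]
        apply hopp
        rw [← har]
        exact hba
      have hbar : b ≠ a.rev := ne_rev_symm har
      have hab : a ≠ b := ne_of_gt hba
      by_cases hbm : b = b.rev
      · obtain ⟨j, hj⟩ : ∃ j : Fin n, j.rev = a := ⟨a.rev, Fin.rev_rev a⟩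
        subst hj
        have hjb : j < b := by
          have h3 : b.rev < j.rev := by
            rw [← hbm]
            exact hba
          exact Fin.rev_lt_rev.mp h3
        have hjj : j < j.rev := lt_trans hjb hba
        have hbj : b ≠ j := ne_of_gt hjb
        have hjrj : j.rev ≠ j := ne_of_gt hjj
        have hw : (Wu φ j b (ne_of_lt hjb) (ne_of_lt hba) (ne_of_lt hjj) 1 (-τ) : SLn) ∈
            (UU φ : Subgroup SLn) :=
          mem_UU.mpr ⟨Subgroup.mul_mem _ (Subgroup.mul_mem _ (tv_mem_UT hba _)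
            (tv_mem_UT hjb _)) (tv_mem_UT hjj _),
            Wu_isU φ hF.inv j b _ _ _ hbm.symm 1 (-τ) hb₀⟩
        have h1 := hsum _ hw
        unfold Wu at h1
        rw [mul_assoc, mul_assoc] at h1
        simp only [tv_mul_apply, if_true, hbj, hjrj, if_false, add_zero, map_one] at h1
        linear_combination -h1
      by_cases ham : a = a.rev
      · have hab' : a < b.rev := by
          have h3 : a.rev < b.rev := Fin.rev_lt_rev.mpr hba
          rwa [← ham] at h3
        have hbb : b < b.rev := lt_trans hba hab'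
        have hw : (Wu φ b a (ne_of_lt hba) (ne_of_lt hab') (ne_of_lt hbb) 1 (-τ) : SLn) ∈
            (UU φ : Subgroup SLn) :=
          mem_UU.mpr ⟨Subgroup.mul_mem _ (Subgroup.mul_mem _ (tv_mem_UT hab' _)
            (tv_mem_UT hba _)) (tv_mem_UT hbb _),
            Wu_isU φ hF.inv b a _ _ _ ham.symm 1 (-τ) hb₀⟩
        have h1 := hsum _ hw
        unfold Wu at h1
        rw [mul_assoc, mul_assoc] at h1
        simp only [tv_mul_apply, if_true, hab, hab.symm, if_false, add_zero, hopp hbb, mul_zero,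
          one_mul] at h1
        linear_combination h1
      · have hw : (Ym φ b a (ne_of_lt hba) 1 : SLn) ∈ (UU φ : Subgroup SLn) :=
          mem_UU.mpr ⟨Ym_mem_UT φ hba 1, Ym_isU φ hF.inv b a _ hbm ham 1⟩
        have h1 := hsum _ hw
        unfold Ym at h1
        rw [mul_assoc] at h1
        simp only [tv_mul_apply, if_true, hab, hbar, ham, if_false, add_zero, one_mul] at h1
        linear_combination h1
  intro a b hba
  exact key _ a b rfl hba

theorem diag_mul_diag {φ : K →+* K} {x : SLn} (hx : IsU φ x)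
    (hup : ∀ a b : Fin n, b < a → x.1 a b = 0) (a : Fin n) :
    x.1 a a * φ (x.1 a.rev a.rev) = 1 := by
  have h1 := congrFun (congrFun hx a) a.rev
  rw [form_apply, Om_apply, if_pos rfl, Finset.sum_eq_single a.rev] at h1
  · rw [Fin.rev_rev, Matrix.map_apply] at h1
    exact h1
  · intro k _ hk
    have hne : k.rev ≠ a := fun h => hk (by rw [← h, Fin.rev_rev])
    rcases lt_or_gt_of_ne hne with h | h
    · rw [hup a k.rev h, zero_mul]
    · have h' : k < a.rev := by
        have h3 := Fin.rev_lt_rev.mpr h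
        rwa [Fin.rev_rev] at h3
      rw [Matrix.map_apply, hup a.rev k h', map_zero, mul_zero]
  · intro h
    exact absurd (Finset.mem_univ _) h

/-- the decomposition of upper triangular unitary elements -/
theorem decomp_of_upper {φ : K →+* K} {x : SLn} (hxS : x ∈ (SUa φ : Subgroup SLn))
    (hup : ∀ a b : Fin n, b < a → x.1 a b = 0) :
    ∃ d ∈ (DD ⊓ SUa φ : Subgroup SLn), ∃ u ∈ (UU φ : Subgroup SLn), x = d * u := by
  have hdet : ∏ a, x.1 a a = 1 := by
    have h1 := x.2
    rw [Matrix.det_of_isUpperTriangular] at h1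
    · exact h1
    · intro a b hab
      exact hup a b hab
  have hne : ∀ a, x.1 a a ≠ 0 := by
    intro a h
    rw [Finset.prod_eq_zero (f := fun b => x.1 b b) (Finset.mem_univ a) h] at hdet
    exact zero_ne_one hdet
  obtain ⟨e, hedef⟩ : ∃ e : SLn, e = ⟨Matrix.diagonal (fun a => (x.1 a a)⁻¹), by
      rw [Matrix.det_diagonal, Finset.prod_inv_distrib, hdet, inv_one]⟩ := ⟨_, rfl⟩
  have heval : e.1 = Matrix.diagonal (fun a => (x.1 a a)⁻¹) := by rw [hedef]
  have heD : e ∈ (DD : Subgroup SLn) := by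
    rw [mem_DD]
    intro a b hab
    rw [heval, Matrix.diagonal_apply_ne _ hab]
  have heS : e ∈ (SUa φ : Subgroup SLn) := by
    rw [mem_SUa]
    unfold IsU
    ext a b
    rw [form_apply, Finset.sum_eq_single a.rev]
    · rw [Fin.rev_rev, Matrix.map_apply, heval, Matrix.diagonal_apply_eq, Om_apply,
        Matrix.diagonal_apply]
      by_cases hb : b = a.rev
      · rw [if_pos hb, if_pos hb]
        subst hb
        have h2 := diag_mul_diag (mem_SUa.mp hxS) hup a
        rw [map_inv₀, ← mul_inv, h2, inv_one]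
      · rw [if_neg hb, if_neg hb, map_zero, mul_zero]
    · intro k _ hk
      have hne' : a ≠ k.rev := fun h => hk (by rw [h, Fin.rev_rev])
      rw [heval, Matrix.diagonal_apply_ne _ hne', zero_mul]
    · intro h
      exact absurd (Finset.mem_univ _) h
  have heu : e * x ∈ (UT : Subgroup SLn) := by
    rw [mem_UT]
    constructor
    · intro a b hab
      rw [(mem_DD.mp heD).mul_apply, hup a b hab, mul_zero]
    · intro a
      rw [(mem_DD.mp heD).mul_apply, heval, Matrix.diagonal_apply_eq, inv_mul_cancel₀ (hne a)]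
  refine ⟨e⁻¹, Subgroup.inv_mem _ (Subgroup.mem_inf.mpr ⟨heD, heS⟩), e * x,
    mem_UU.mpr ⟨heu, Subgroup.mul_mem _ heS hxS⟩, ?_⟩
  group

/-- a diagonal unitary element that is trivial on the low indices is trivial -/
theorem diag_eq_one {φ : K →+* K} {d : SLn} (hdD : IsDiag d) (hdS : IsU φ d)
    (h : ∀ i : Fin n, 2 * (i : ℕ) + 1 < n → d.1 i i = 1) : d = 1 := by
  have hup : ∀ a b : Fin n, b < a → d.1 a b = 0 := fun a b hab => hdD a b (ne_of_gt hab)
  have hhi : ∀ a : Fin n, n < 2 * (a : ℕ) + 1 → d.1 a a = 1 := by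
    intro a ha
    have h1 := diag_mul_diag hdS hup a
    rw [h a.rev ((rev_lo_iff a).mpr ha), map_one, mul_one] at h1
    exact h1
  have hall : ∀ a : Fin n, d.1 a a = 1 := by
    intro a
    by_cases ha : 2 * (a : ℕ) + 1 < n
    · exact h a ha
    · by_cases ha' : n < 2 * (a : ℕ) + 1
      · exact hhi a ha'
      · have hprod := hdD.prod_eq_one
        rw [Finset.prod_eq_single a] at hprod
        · exact hprod
        · intro b _ hba
          have hne : (b : ℕ) ≠ (a : ℕ) := fun h2 => hba (Fin.ext h2)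
          by_cases hb : 2 * (b : ℕ) + 1 < n
          · exact h b hb
          · exact hhi b (by omega)
        · intro h2
          exact absurd (Finset.mem_univ _) h2
  apply Subtype.ext
  ext a b
  rw [Matrix.SpecialLinearGroup.coe_one]
  by_cases hab : a = b
  · rw [← hab, hall a, Matrix.one_apply_eq]
  · rw [hdD a b hab, Matrix.one_apply_ne hab]

/-- generators of the torus -/
def torusY (φ : K →+* K) (o : Fin n) (ho : o ≠ o.rev) (e : K) : Set SLn :=
  {y | (∃ (i : Fin n) (hio : i ≠ o), 2 * (i : ℕ) + 1 < n ∧ ∃ s : K, s ≠ 0 ∧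
      y = hY φ i o hio s) ∨
    (∃ lam : K, lam ≠ 0 ∧ φ lam = lam ∧ y = hl o ho e lam) ∨
    ∃ (c : Fin n) (hoc : o ≠ c) (hco : c ≠ o.rev), c.rev = c ∧ ∃ a b : K,
      φ b = -b - a * φ a ∧ b ≠ 0 ∧
        y = nW φ o c hoc hco ho a b * nW φ o c hoc hco ho 0 (-e)}

theorem mem_torusY {φ : K →+* K} {o : Fin n} {ho : o ≠ o.rev} {e : K} {y : SLn} :
    y ∈ torusY φ o ho e ↔
      (∃ (i : Fin n) (hio : i ≠ o), 2 * (i : ℕ) + 1 < n ∧ ∃ s : K, s ≠ 0 ∧
        y = hY φ i o hio s) ∨
      (∃ lam : K, lam ≠ 0 ∧ φ lam = lam ∧ y = hl o ho e lam) ∨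
      ∃ (c : Fin n) (hoc : o ≠ c) (hco : c ≠ o.rev), c.rev = c ∧ ∃ a b : K,
        φ b = -b - a * φ a ∧ b ≠ 0 ∧
          y = nW φ o c hoc hco ho a b * nW φ o c hoc hco ho 0 (-e) := Iff.rfl

/-- the torus is generated by the torus generators -/
theorem HH_le_closure {φ : K →+* K} (hF : FD φ) {o : Fin n} (ho : 2 * (o : ℕ) + 1 < n)
    {e : K} (he : e ≠ 0) (hee : φ e = -e) :
    (DD ⊓ SUa φ : Subgroup SLn) ≤ Subgroup.closure (torusY φ o (lo_ne_rev ho) e) := by
  have hoo := lo_ne_rev ho
  have base : ∀ d ∈ (DD ⊓ SUa φ : Subgroup SLn),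
      (∀ i : Fin n, 2 * (i : ℕ) + 1 < n → i ≠ o → d.1 i i = 1) →
      d ∈ Subgroup.closure (torusY φ o hoo e) := by
    intro d hd h
    obtain ⟨hdD, hdS⟩ := Subgroup.mem_inf.mp hd
    have hdD' : IsDiag d := mem_DD.mp hdD
    have hdS' : IsU φ d := mem_SUa.mp hdS
    have hup : ∀ a b : Fin n, b < a → d.1 a b = 0 := fun a b hab => hdD' a b (ne_of_gt hab)
    have hs0 : d.1 o o ≠ 0 := hdD'.ne_zero o
    have hex : ∃ g ∈ torusY φ o hoo e, g ∈ (DD ⊓ SUa φ : Subgroup SLn) ∧
        g.1 o o = (d.1 o o)⁻¹ ∧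
        ∀ i : Fin n, 2 * (i : ℕ) + 1 < n → i ≠ o → g.1 i i = 1 := by
      by_cases hodd : ∃ c : Fin n, 2 * (c : ℕ) + 1 = n
      · obtain ⟨c, hc⟩ := hodd
        have hoc : o ≠ c := ne_of_lt (lo_lt_mid ho hc)
        have hco : c ≠ o.rev := ne_of_lt (mid_lt_rev ho hc)
        have hcc : c.rev = c := mid_rev hc
        obtain ⟨b, hbdef⟩ : ∃ b : K, b = (d.1 o o)⁻¹ * e := ⟨_, rfl⟩
        have hb0 : b ≠ 0 := by
          rw [hbdef]
          exact mul_ne_zero (inv_ne_zero hs0) he
        have hl : φ (-(b + φ b)) = -(b + φ b) := by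
          rw [map_neg, map_add, hF.inv]
          ring
        obtain ⟨a, ha⟩ := hF.norm _ hl
        have hb : φ b = -b - a * φ a := by linear_combination ha
        have he' : φ (-e) = -(-e) - 0 * φ 0 := by
          rw [map_neg, hee, map_zero]
          ring
        refine ⟨nW φ o c hoc hco hoo a b * nW φ o c hoc hco hoo 0 (-e),
          mem_torusY.mpr (Or.inr (Or.inr ⟨c, hoc, hco, hcc, a, b, hb, hb0, rfl⟩)), ?_, ?_, ?_⟩
        · exact Subgroup.mem_inf.mpr
            ⟨mem_DD.mpr (hm_isDiag φ hF.inv o c hoc hco hoo a b e hb hb0 he hee),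
            Subgroup.mul_mem _ (nW_mem_SUa hF.inv o c hoc hco hoo hcc a b hb hb0)
              (nW_mem_SUa hF.inv o c hoc hco hoo hcc 0 (-e) he' (neg_ne_zero.mpr he))⟩
        · rw [hm_apply_self φ hF.inv o c hoc hco hoo a b e hb hb0 he hee, hbdef]
          field_simp
        · intro i hi hio
          exact hm_apply_other φ hF.inv o c hoc hco hoo a b e hb hb0 he hee hio
            (ne_of_lt (lo_lt_mid hi hc)) (lo_ne_rev' hi ho)
      · have hmid : ∀ a : Fin n, ¬ 2 * (a : ℕ) + 1 < n → n < 2 * (a : ℕ) + 1 := by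
          intro a ha
          by_contra h2
          exact hodd ⟨a, by omega⟩
        have hother : ∀ a : Fin n, a ≠ o → a ≠ o.rev → d.1 a a = 1 := by
          intro a ha1 ha2
          by_cases ha : 2 * (a : ℕ) + 1 < n
          · exact h a ha ha1
          · have ha' := hmid a ha
            have h1 := diag_mul_diag hdS' hup a
            rw [h a.rev ((rev_lo_iff a).mpr ha')
              (fun h2 => ha2 (by rw [← h2, Fin.rev_rev])), map_one, mul_one] at h1
            exact h1
        have hprod := hdD'.prod_eq_one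
        rw [Finset.prod_eq_mul o o.rev hoo (fun a _ ha => hother a ha.1 ha.2)
          (fun h2 => absurd (Finset.mem_univ _) h2)
          (fun h2 => absurd (Finset.mem_univ _) h2)] at hprod
        have h1 := diag_mul_diag hdS' hup o
        have h3 : d.1 o.rev o.rev = (d.1 o o)⁻¹ := eq_inv_of_mul_eq_one_right hprod
        have h4 : φ (d.1 o.rev o.rev) = (d.1 o o)⁻¹ := eq_inv_of_mul_eq_one_right h1
        rw [h3] at h4
        have hl0 : (d.1 o o)⁻¹ ≠ 0 := inv_ne_zero hs0
        refine ⟨hl o hoo e (d.1 o o)⁻¹,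
          mem_torusY.mpr (Or.inr (Or.inl ⟨_, hl0, h4, rfl⟩)),
          Subgroup.mem_inf.mpr ⟨mem_DD.mpr (hl_isDiag o hoo e _ he hl0),
            hl_mem_SUa o hoo hee h4⟩, hl_apply_self o hoo e _ he hl0, ?_⟩
        intro i hi hio
        exact hl_apply_other o hoo e _ he hl0 hio (lo_ne_rev' hi ho)
    obtain ⟨g, hgY, hgH, hgo, hgi⟩ := hex
    obtain ⟨hgD, hgS⟩ := Subgroup.mem_inf.mp hgH
    have hdg : d * g = 1 := by
      apply diag_eq_one (φ := φ) (mem_DD.mp (Subgroup.mul_mem _ hdD hgD))
        (mem_SUa.mp (Subgroup.mul_mem _ hdS hgS))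
      intro i hi
      rw [hdD'.mul_apply]
      by_cases hio : i = o
      · rw [hio, hgo, mul_inv_cancel₀ hs0]
      · rw [h i hi hio, hgi i hi hio, mul_one]
    have hd2 : d = g⁻¹ := eq_inv_of_mul_eq_one_left hdg
    rw [hd2]
    exact Subgroup.inv_mem _ (Subgroup.subset_closure hgY)
  have main : ∀ k : ℕ, ∀ d ∈ (DD ⊓ SUa φ : Subgroup SLn),
      (∀ i : Fin n, 2 * (i : ℕ) + 1 < n → i ≠ o → k ≤ (i : ℕ) → d.1 i i = 1) →
      d ∈ Subgroup.closure (torusY φ o hoo e) := by
    intro k
    induction k with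
    | zero =>
      intro d hd h
      exact base d hd (fun i hi hio => h i hi hio (Nat.zero_le _))
    | succ k ih =>
      intro d hd h
      obtain ⟨hdD, hdS⟩ := Subgroup.mem_inf.mp hd
      by_cases hr : ∃ r : Fin n, (r : ℕ) = k ∧ 2 * (r : ℕ) + 1 < n ∧ r ≠ o
      · obtain ⟨r, hrk, hrl, hro⟩ := hr
        have hs0 : d.1 r r ≠ 0 := (mem_DD.mp hdD).ne_zero r
        have hs0' : (d.1 r r)⁻¹ ≠ 0 := inv_ne_zero hs0
        have hrr := lo_ne_rev hrl
        have hror : r ≠ o.rev := lo_ne_rev' hrl ho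
        have hyY : hY φ r o hro (d.1 r r)⁻¹ ∈ torusY φ o hoo e :=
          mem_torusY.mpr (Or.inl ⟨r, hro, hrl, _, hs0', rfl⟩)
        have hy := Subgroup.subset_closure hyY
        have hyH : hY φ r o hro (d.1 r r)⁻¹ ∈ (DD ⊓ SUa φ : Subgroup SLn) :=
          Subgroup.mem_inf.mpr ⟨mem_DD.mpr (hY_isDiag φ hro hrr hoo hror _ hs0'),
            hY_mem_SUa hF.inv hro hrr hoo _⟩
        have hd' : d * hY φ r o hro (d.1 r r)⁻¹ ∈ Subgroup.closure (torusY φ o hoo e) := by
          apply ih _ (Subgroup.mul_mem _ hd hyH)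
          intro i hi hio hki
          rw [(mem_DD.mp hdD).mul_apply]
          by_cases hir : i = r
          · rw [hir, hY_apply_self φ hro hrr hoo hror _ hs0', mul_inv_cancel₀ hs0]
          · rw [hY_apply_other φ hro hrr hoo hror _ hs0' hir hio (lo_ne_rev' hi ho)
              (lo_ne_rev' hi hrl), mul_one]
            apply h i hi hio
            have : (i : ℕ) ≠ (r : ℕ) := fun h2 => hir (Fin.ext h2)
            omega
        have he2 : d = d * hY φ r o hro (d.1 r r)⁻¹ * (hY φ r o hro (d.1 r r)⁻¹)⁻¹ := by group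
        rw [he2]
        exact Subgroup.mul_mem _ hd' (Subgroup.inv_mem _ hy)
      · apply ih d hd
        intro i hi hio hki
        apply h i hi hio
        by_contra hlt
        apply hr
        exact ⟨i, by omega, hi, hio⟩
  intro d hd
  exact main n d hd (fun i _ _ hk => absurd i.2 (by omega))

end Cfsg.Agent.Lib.Helper2.UFus
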