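import Mathlib
import Cfsg.Agent.Lib.Helper2.UFus4

set_option autoImplicit false

/-! Generation of the unitriangular unitary group by root elements. -/

namespace Cfsg.Agent.Lib.Helper2.UFus

open Matrix Cfsg.Agent.Lib.Helper2.UniTri

variable {K : Type*} [Field K] [Fintype K] {n : ℕ}

local notation "SLn" => Matrix.SpecialLinearGroup (Fin n) K
local notation "Mn" => Matrix (Fin n) (Fin n) K

/-- a unitriangular unitary element with trivial low rows is trivial -/
theorem eq_one_of_low_rows {φ : K →+* K} (hφ : ∀ x, φ (φ x) = x) {x : SLn}
    (hx : x ∈ (UU φ : Subgroup SLn))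
    (hrows : ∀ a b : Fin n, 2 * (a : ℕ) + 1 < n → x.1 a b = (1 : Mn) a b) : x = 1 := by
  have hxT := (mem_UU.mp hx).1
  have hxS : IsU φ x := (mem_UU.mp hx).2
  apply Subtype.ext
  ext a b
  rw [Matrix.SpecialLinearGroup.coe_one]
  by_cases ha : 2 * (a : ℕ) + 1 < n
  · exact hrows a b ha
  · by_cases hb : 2 * (b : ℕ) + 1 < n
    · have hba : b < a := by rw [Fin.lt_def]; omega
      rw [(mem_UT.mp hxT).1 a b hba, Matrix.one_apply_ne (ne_of_gt hba)]
    · by_cases hbh : n < 2 * (b : ℕ) + 1
      · have h1 := col_of_row hφ hxS (a := b.rev)
          (fun k' => hrows b.rev k' ((rev_lo_iff b).mpr hbh)) a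
        rwa [Fin.rev_rev] at h1
      · by_cases hab : a = b
        · rw [hab, (mem_UT.mp hxT).2 b, Matrix.one_apply_eq]
        · have hba : b < a := by
            have hne : (a : ℕ) ≠ (b : ℕ) := fun h => hab (Fin.ext h)
            rw [Fin.lt_def]
            omega
          rw [(mem_UT.mp hxT).1 a b hba, Matrix.one_apply_ne hab]

/-- the unitriangular unitary group is generated by its root elements -/
theorem UU_le_of_roots {φ : K →+* K} (hF : FD φ) (C : Subgroup SLn)
    (hZ : ∀ (i : Fin n) (hi : 2 * (i : ℕ) + 1 < n) (c : K), φ c = -c →
      (Zl i (lo_ne_rev hi) c : SLn) ∈ C)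
    (hM : ∀ (i j : Fin n) (hij : i < j), 2 * (j : ℕ) + 1 < n →
      ∀ c : K, (Ym φ i j (ne_of_lt hij) c : SLn) ∈ C)
    (hP : ∀ (i j : Fin n) (hi : 2 * (i : ℕ) + 1 < n) (hj : 2 * (j : ℕ) + 1 < n), i < j →
      ∀ c : K, (Yp φ i j (lo_ne_rev' hi hj) c : SLn) ∈ C)
    (hW : ∀ (i c : Fin n) (hi : 2 * (i : ℕ) + 1 < n) (hc : 2 * (c : ℕ) + 1 = n) (a b : K),
      φ b = -b - a * φ a →
      (Wu φ i c (ne_of_lt (lo_lt_mid hi hc)) (ne_of_lt (mid_lt_rev hi hc)) (lo_ne_rev hi) a b :
        SLn) ∈ C) :
    (UU φ : Subgroup SLn) ≤ C := by
  obtain ⟨τ, hτ⟩ := hF.exists_tau
  have main : ∀ d k : ℕ, k + d = n → ∀ x ∈ (UU φ : Subgroup SLn),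
      (∀ a b : Fin n, (a : ℕ) < k → x.1 a b = (1 : Mn) a b) → x ∈ C := by
    intro d
    induction d with
    | zero =>
      intro k hk x hx hrows
      have hx1 : x = 1 := eq_one_of_low_rows hF.inv hx
        (fun a b _ => hrows a b (by have := a.2; omega))
      rw [hx1]
      exact C.one_mem
    | succ d ih =>
      intro k hk x hx hrows
      have hkn : k < n := by omega
      obtain ⟨r, hr⟩ : ∃ r : Fin n, (r : ℕ) = k := ⟨⟨k, hkn⟩, rfl⟩
      by_cases hrl : 2 * (r : ℕ) + 1 < n
      swap
      · have hx1 : x = 1 := eq_one_of_low_rows hF.inv hx
          (fun a b ha => hrows a b (by omega))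
        rw [hx1]
        exact C.one_mem
      have hrr := lo_ne_rev hrl
      have inner : ∀ t : ℕ, t ≤ n → ∃ v ∈ C, v ∈ (UU φ : Subgroup SLn) ∧
          (∀ a b : Fin n, (a : ℕ) < k → (x * v).1 a b = (1 : Mn) a b) ∧
          ∀ b : Fin n, r < b → (b : ℕ) < t → (x * v).1 r b = 0 := by
        intro t
        induction t with
        | zero =>
          intro _
          refine ⟨1, C.one_mem, Subgroup.one_mem _, ?_, ?_⟩
          · rw [mul_one]
            exact hrows
          · intro b _ h
            exact absurd h (Nat.not_lt_zero _)
        | succ t iht =>
          intro ht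
          obtain ⟨v, hvC, hvU, hrows', hclr⟩ := iht (by omega)
          obtain ⟨c, hc⟩ : ∃ c : Fin n, (c : ℕ) = t := ⟨⟨t, by omega⟩, rfl⟩
          have hxvU : x * v ∈ (UU φ : Subgroup SLn) := Subgroup.mul_mem _ hx hvU
          have hxvT := (mem_UU.mp hxvU).1
          have hxvS : IsU φ (x * v) := (mem_UU.mp hxvU).2
          have hrr1 : (x * v).1 r r = 1 := (mem_UT.mp hxvT).2 r
          have hrowr : ∀ a : Fin n, (a : ℕ) < k → (x * v).1 a r = 0 := by
            intro a ha
            rw [hrows' a r ha, Matrix.one_apply_ne]
            intro h
            rw [h] at ha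
            omega
          by_cases hcr : r < c
          swap
          · refine ⟨v, hvC, hvU, hrows', ?_⟩
            intro b hrb hbt
            exfalso
            rw [Fin.lt_def] at hrb hcr
            omega
          have hcr_nat : (r : ℕ) < (c : ℕ) := by rw [Fin.lt_def] at hcr; exact hcr
          obtain ⟨y, hy⟩ : ∃ y : K, y = (x * v).1 r c := ⟨_, rfl⟩
          by_cases hcrev : c = r.rev
          · have hyy : φ y = -y := by
              have h1 := congrFun (congrFun hxvS r) r
              rw [form_apply, Om_apply, if_neg hrr, Finset.sum_eq_add r r.rev hrr] at h1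
              · rw [Fin.rev_rev, Matrix.map_apply, Matrix.map_apply, hrr1, map_one, mul_one,
                  one_mul, ← hcrev, ← hy] at h1
                linear_combination h1
              · intro k' _ hk'
                rcases lt_trichotomy k' r with h | h | h
                · rw [Matrix.map_apply, (mem_UT.mp hxvT).1 r k' h, map_zero, mul_zero]
                · exact absurd h hk'.1
                · by_cases hk2 : k' < r.rev
                  · have hk3 : (k' : ℕ) < t := by
                      rw [← hcrev, Fin.lt_def] at hk2
                      omega
                    rw [Matrix.map_apply, hclr k' h hk3, map_zero, mul_zero]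
                  · have h2 : r.rev < k' := lt_of_le_of_ne (not_lt.mp hk2) (Ne.symm hk'.2)
                    have h3 : k'.rev < r := by
                      have h4 := Fin.rev_lt_rev.mpr h2
                      rwa [Fin.rev_rev] at h4
                    rw [(mem_UT.mp hxvT).1 r k'.rev h3, zero_mul]
              · intro h
                exact absurd (Finset.mem_univ _) h
              · intro h
                exact absurd (Finset.mem_univ _) h
            have hyy' : φ (-y) = -(-y) := by rw [map_neg, hyy]
            refine ⟨v * Zl r hrr (-y), Subgroup.mul_mem _ hvC (hZ r hrl _ hyy'),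
              Subgroup.mul_mem _ hvU (Zl_mem_UU hrl _ hyy'), ?_, ?_⟩
            · intro a b ha
              unfold Zl
              rw [← mul_assoc, mul_tv_apply, hrowr a ha, mul_zero, ite_self, add_zero]
              exact hrows' a b ha
            · intro b hrb hbt
              unfold Zl
              rw [← mul_assoc, mul_tv_apply, hrr1, mul_one]
              by_cases hbc : b = c
              · rw [hbc, if_pos hcrev, ← hy]
                ring
              · rw [if_neg (fun h => hbc (h.trans hcrev.symm)), add_zero]
                apply hclr b hrb
                have : (b : ℕ) ≠ (c : ℕ) := fun h => hbc (Fin.ext h)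
                omega
          by_cases hcl : 2 * (c : ℕ) + 1 < n
          · have e1 : x * (v * Ym φ r c (ne_of_lt hcr) (-y)) =
                x * v * tv r c (ne_of_lt hcr) (-y) *
                  tv c.rev r.rev (rev_ne_rev (ne_of_lt hcr).symm) (-φ (-y)) := by
              unfold Ym
              simp only [mul_assoc]
            refine ⟨v * Ym φ r c (ne_of_lt hcr) (-y), Subgroup.mul_mem _ hvC (hM r c hcr hcl _),
              Subgroup.mul_mem _ hvU (Ym_mem_UU hF.inv hcr hcl _), ?_, ?_⟩
            · intro a b ha
              have hac : a ≠ c.rev := by
                intro h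
                have h2 := congrArg Fin.val h
                rw [Fin.val_rev] at h2
                omega
              rw [e1]
              simp only [mul_tv_apply, hrowr a ha, mul_zero, ite_self, add_zero,
                hrows' a c.rev ha, Matrix.one_apply_ne hac]
              exact hrows' a b ha
            · intro b hrb hbt
              have hbr : b ≠ r.rev := by
                intro h
                have h2 := congrArg Fin.val h
                rw [Fin.val_rev] at h2
                omega
              rw [e1, mul_tv_apply, if_neg hbr, add_zero, mul_tv_apply, hrr1, mul_one]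
              by_cases hbc : b = c
              · rw [hbc, if_pos rfl, ← hy]
                ring
              · rw [if_neg hbc, add_zero]
                apply hclr b hrb
                have : (b : ℕ) ≠ (c : ℕ) := fun h => hbc (Fin.ext h)
                omega
          by_cases hcm : 2 * (c : ℕ) + 1 = n
          · have hrc : r ≠ c := ne_of_lt hcr
            have hb₀ : φ (-(y * φ y * τ)) = -(-(y * φ y * τ)) - -y * φ (-y) := by
              rw [map_neg, map_mul, map_mul, hF.inv, map_neg]
              linear_combination (-(y * φ y)) * hτ
            have e1 : x * (v * Wu φ r c (ne_of_lt (lo_lt_mid hrl hcm))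
                (ne_of_lt (mid_lt_rev hrl hcm)) hrr (-y) (-(y * φ y * τ))) =
                x * v * tv c r.rev (ne_of_lt (mid_lt_rev hrl hcm)) (-φ (-y)) *
                  tv r c (ne_of_lt (lo_lt_mid hrl hcm)) (-y) * tv r r.rev hrr (-(y * φ y * τ)) := by
              unfold Wu
              simp only [mul_assoc]
            refine ⟨v * Wu φ r c (ne_of_lt (lo_lt_mid hrl hcm))
                (ne_of_lt (mid_lt_rev hrl hcm)) hrr (-y) (-(y * φ y * τ)),
              Subgroup.mul_mem _ hvC (hW r c hrl hcm _ _ hb₀),
              Subgroup.mul_mem _ hvU (Wu_mem_UU hF.inv hrl hcm _ _ hb₀), ?_, ?_⟩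
            · intro a b ha
              have hac : a ≠ c := by
                intro h
                rw [h] at ha
                omega
              rw [e1]
              simp only [mul_tv_apply, hrowr a ha, hrows' a c ha, Matrix.one_apply_ne hac,
                mul_zero, ite_self, add_zero]
              exact hrows' a b ha
            · intro b hrb hbt
              have hbr : b ≠ r.rev := by
                intro h
                have h2 := congrArg Fin.val h
                rw [Fin.val_rev] at h2
                omega
              rw [e1]
              simp only [mul_tv_apply, hbr, hrr, if_false, add_zero, hrr1, mul_one]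
              by_cases hbc : b = c
              · rw [hbc, if_pos rfl, ← hy]
                ring
              · rw [if_neg hbc, add_zero]
                apply hclr b hrb
                have : (b : ℕ) ≠ (c : ℕ) := fun h => hbc (Fin.ext h)
                omega
          by_cases hclt : c < r.rev
          · obtain ⟨j, hj⟩ : ∃ j : Fin n, j.rev = c := ⟨c.rev, Fin.rev_rev c⟩
            subst hj
            have hjl : 2 * (j : ℕ) + 1 < n := by
              rw [Fin.val_rev] at hcl hcm
              have := j.2
              omega
            have hrj : r < j := Fin.rev_lt_rev.mp hclt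
            have hrj_nat : (r : ℕ) < (j : ℕ) := by rw [Fin.lt_def] at hrj; exact hrj
            have e1 : x * (v * Yp φ r j (lo_ne_rev' hrl hjl) (-y)) =
                x * v * tv r j.rev (lo_ne_rev' hrl hjl) (-y) *
                  tv j r.rev (ne_rev_symm (lo_ne_rev' hrl hjl)) (-φ (-y)) := by
              unfold Yp
              simp only [mul_assoc]
            refine ⟨v * Yp φ r j (lo_ne_rev' hrl hjl) (-y),
              Subgroup.mul_mem _ hvC (hP r j hrl hjl hrj _),
              Subgroup.mul_mem _ hvU (Yp_mem_UU hF.inv hrl hjl _), ?_, ?_⟩
            · intro a b ha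
              have haj : a ≠ j := by
                intro h
                rw [h] at ha
                omega
              rw [e1]
              simp only [mul_tv_apply, hrowr a ha, mul_zero, ite_self, add_zero,
                hrows' a j ha, Matrix.one_apply_ne haj]
              exact hrows' a b ha
            · intro b hrb hbt
              have hbr : b ≠ r.rev := by
                intro h
                have h2 := congrArg Fin.val h
                rw [Fin.val_rev] at h2 hc
                omega
              rw [e1, mul_tv_apply, if_neg hbr, add_zero, mul_tv_apply, hrr1, mul_one]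
              by_cases hbc : b = j.rev
              · rw [hbc, if_pos rfl, ← hy]
                ring
              · rw [if_neg hbc, add_zero]
                apply hclr b hrb
                have : (b : ℕ) ≠ (j.rev : ℕ) := fun h => hbc (Fin.ext h)
                omega
          · refine ⟨v, hvC, hvU, hrows', ?_⟩
            intro b hrb hbt
            by_cases hbc : b = c
            · rw [hbc]
              have hlt : r.rev < c := lt_of_le_of_ne (not_lt.mp hclt) (Ne.symm hcrev)
              have hck : (c.rev : ℕ) < k := by
                rw [Fin.lt_def, Fin.val_rev] at hlt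
                rw [Fin.val_rev]
                have := c.2
                omega
              have h1 := col_of_row hF.inv hxvS (a := c.rev) (fun k' => hrows' c.rev k' hck) r
              rw [Fin.rev_rev] at h1
              rw [h1, Matrix.one_apply_ne (ne_of_lt hcr)]
            · apply hclr b hrb
              have : (b : ℕ) ≠ (c : ℕ) := fun h => hbc (Fin.ext h)
              omega
      obtain ⟨v, hvC, hvU, hrows', hclr⟩ := inner n le_rfl
      have hxvU : x * v ∈ (UU φ : Subgroup SLn) := Subgroup.mul_mem _ hx hvU
      have hxv : x * v ∈ C := by
        apply ih (k + 1) (by omega) (x * v) hxvU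
        intro a b ha
        by_cases hak : (a : ℕ) < k
        · exact hrows' a b hak
        · have har : a = r := Fin.ext (by omega)
          rw [har]
          rcases lt_trichotomy b r with h | h | h
          · rw [(mem_UT.mp (mem_UU.mp hxvU).1).1 r b h, Matrix.one_apply_ne (ne_of_gt h)]
          · rw [h, (mem_UT.mp (mem_UU.mp hxvU).1).2 r, Matrix.one_apply_eq]
          · rw [hclr b h b.2, Matrix.one_apply_ne (ne_of_lt h)]
      have he : x = x * v * v⁻¹ := by group
      rw [he]
      exact Subgroup.mul_mem _ hxv (Subgroup.inv_mem _ hvC)
  intro x hx
  exact main n 0 (by omega) x hx (fun a b ha => absurd ha (Nat.not_lt_zero _))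

end Cfsg.Agent.Lib.Helper2.UFus
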