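import Mathlib
import Cfsg.Agent.Lib.Helper2.UFus5
import Cfsg.Agent.Lib.Helper2.SpFus6

set_option autoImplicit false

/-! A nontrivial strongly closed subgroup of the unitriangular unitary group is everything. -/

namespace Cfsg.Agent.Lib.Helper2.UFus

open Matrix Cfsg.Agent.Lib.Helper2.UniTri

variable {K : Type*} [Field K] [Fintype K] {n : ℕ}

local notation "SLn" => Matrix.SpecialLinearGroup (Fin n) K
local notation "Mn" => Matrix (Fin n) (Fin n) K

/-- the shape of a central element of the unitriangular unitary group -/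
theorem central_form {φ : K →+* K} (hF : FD φ) {z : Fin n} (hz : (z : ℕ) = 0)
    (hzl : 2 * (z : ℕ) + 1 < n) {t : SLn} (ht : t ∈ (UU φ : Subgroup SLn))
    (hcen : ∀ u ∈ (UU φ : Subgroup SLn), u * t = t * u) :
    ∃ c₀ : K, φ c₀ = -c₀ ∧ t = Zl z (lo_ne_rev hzl) c₀ := by
  have hzz := lo_ne_rev hzl
  obtain ⟨e, he0, hee⟩ := hF.exists_eps
  obtain ⟨τ, hτ⟩ := hF.exists_tau
  obtain ⟨t₀, ht₀⟩ := hF.ne
  have hsub : φ t₀ - t₀ ≠ 0 := sub_ne_zero.mpr ht₀
  obtain ⟨htT, htS⟩ := mem_UU.mp ht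
  have htS' : IsU φ t := htS
  have hQm : IsQm t := mem_Qm.mp (Qm_selfCentralizing he0 hee htT (fun r hr =>
    (hcen r (mem_UU.mpr ⟨Qm_le_UT (Subgroup.mem_inf.mp hr).1,
      (Subgroup.mem_inf.mp hr).2⟩)).symm))
  have hQ1 : IsQ1 z t := mem_Q1.mp (Q1_selfCentralizing hF hzz hz htT (fun r hr =>
    (hcen r (mem_UU.mpr ⟨Q1_le_UT hzz hz (Subgroup.mem_inf.mp hr).1,
      (Subgroup.mem_inf.mp hr).2⟩)).symm))
  have hzlt : ∀ j : Fin n, z ≠ j → z < j := by
    intro j hj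
    rw [Fin.lt_def, hz]
    have : (j : ℕ) ≠ 0 := fun h => hj (Fin.ext (by rw [hz, h]))
    omega
  have elim : ∀ X Y : K, (∀ s : K, s * X = -φ s * Y) → X = 0 ∧ Y = 0 := by
    intro X Y hrel
    have h1 := hrel 1
    rw [map_one] at h1
    have h2 := hrel t₀
    have h3 : (φ t₀ - t₀) * Y = 0 := by linear_combination h2 - t₀ * h1
    rcases mul_eq_zero.mp h3 with h | h
    · exact absurd h hsub
    · exact ⟨by linear_combination h1 - h, h⟩
  have hkey : ∀ j : Fin n, 2 * (j : ℕ) + 1 < n → z ≠ j →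
      t.1 j z.rev = 0 ∧ t.1 z j.rev = 0 := by
    intro j hjl hzj
    have hjj := lo_ne_rev hjl
    have hzjr : z ≠ j.rev := lo_ne_rev' hzl hjl
    have hjzr : j ≠ z.rev := lo_ne_rev' hjl hzl
    apply elim
    intro s
    have hmem : Ym φ z j hzj s ∈ (UU φ : Subgroup SLn) := Ym_mem_UU hF.inv (hzlt j hzj) hjl s
    have hcm := hcen _ hmem
    have h3 := congrArg (fun y : SLn => y.1 z z.rev) hcm
    have hL : (Ym φ z j hzj s * t).1 z z.rev = t.1 z z.rev + s * t.1 j z.rev := by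
      unfold Ym
      rw [mul_assoc]
      simp only [tv_mul_apply, if_true, hzjr, hjj, if_false, add_zero]
    have hR : (t * Ym φ z j hzj s).1 z z.rev = t.1 z z.rev + -φ s * t.1 z j.rev := by
      unfold Ym
      rw [← mul_assoc]
      simp only [mul_tv_apply, if_true, hjzr.symm, hjj.symm, if_false, add_zero]
    have h4 : t.1 z z.rev + s * t.1 j z.rev = t.1 z z.rev + -φ s * t.1 z j.rev := by
      rw [← hL, ← hR]
      exact h3
    linear_combination h4
  have hmid : ∀ c : Fin n, 2 * (c : ℕ) + 1 = n → t.1 c z.rev = 0 ∧ t.1 z c = 0 := by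
    intro c hc
    have hzc : z ≠ c := ne_of_lt (lo_lt_mid hzl hc)
    have hczr : c ≠ z.rev := ne_of_lt (mid_lt_rev hzl hc)
    apply elim
    intro a
    have hb : φ (-(a * φ a * τ)) = -(-(a * φ a * τ)) - a * φ a := by
      rw [map_neg, map_mul, map_mul, hF.inv]
      linear_combination (-(a * φ a)) * hτ
    have hmem := Wu_mem_UU hF.inv hzl hc a (-(a * φ a * τ)) hb
    have hcm := hcen _ hmem
    have h3 := congrArg (fun y : SLn => y.1 z z.rev) hcm
    have hL : (Wu φ z c (ne_of_lt (lo_lt_mid hzl hc)) (ne_of_lt (mid_lt_rev hzl hc))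
        (lo_ne_rev hzl) a (-(a * φ a * τ)) * t).1 z z.rev =
        t.1 z z.rev + -(a * φ a * τ) * t.1 z.rev z.rev + a * t.1 c z.rev := by
      unfold Wu
      rw [mul_assoc, mul_assoc]
      simp only [tv_mul_apply, if_true, hzc, hzc.symm, if_false, add_zero]
    have hR : (t * Wu φ z c (ne_of_lt (lo_lt_mid hzl hc)) (ne_of_lt (mid_lt_rev hzl hc))
        (lo_ne_rev hzl) a (-(a * φ a * τ))).1 z z.rev =
        t.1 z z.rev + -φ a * t.1 z c + -(a * φ a * τ) * t.1 z z := by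
      unfold Wu
      rw [← mul_assoc, ← mul_assoc]
      simp only [mul_tv_apply, if_true, hczr, hczr.symm, hzc, hzz, if_false, add_zero]
    have h4 : t.1 z z.rev + -(a * φ a * τ) * t.1 z.rev z.rev + a * t.1 c z.rev =
        t.1 z z.rev + -φ a * t.1 z c + -(a * φ a * τ) * t.1 z z := by
      rw [← hL, ← hR]
      exact h3
    rw [(mem_UT.mp htT).2 z, (mem_UT.mp htT).2 z.rev] at h4
    linear_combination h4
  have hrowz : ∀ s : Fin n, s ≠ z.rev → t.1 z s = (1 : Mn) z s := by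
    intro s hs
    by_cases hsl : 2 * (s : ℕ) + 1 < n
    · exact hQm.1 s hsl z
    · by_cases hsh : n < 2 * (s : ℕ) + 1
      · obtain ⟨j, hj⟩ : ∃ j : Fin n, j.rev = s := ⟨s.rev, Fin.rev_rev s⟩
        subst hj
        have hjl : 2 * (j : ℕ) + 1 < n := by
          have h5 := (rev_lo_iff j.rev).mpr hsh
          rwa [Fin.rev_rev] at h5
        have hzj : z ≠ j := fun h => hs (by rw [h])
        rw [(hkey j hjl hzj).2, Matrix.one_apply_ne (lo_ne_rev' hzl hjl)]
      · have hsm : 2 * (s : ℕ) + 1 = n := by omega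
        rw [(hmid s hsm).2, Matrix.one_apply_ne (ne_of_lt (lo_lt_mid hzl hsm))]
  have hcolz : ∀ r : Fin n, r ≠ z → t.1 r z.rev = (1 : Mn) r z.rev := by
    intro r hr
    by_cases hrh : n < 2 * (r : ℕ) + 1
    · exact hQm.2 r hrh z.rev
    · by_cases hrl : 2 * (r : ℕ) + 1 < n
      · rw [(hkey r hrl (Ne.symm hr)).1, Matrix.one_apply_ne (lo_ne_rev' hrl hzl)]
      · have hrm : 2 * (r : ℕ) + 1 = n := by omega
        rw [(hmid r hrm).1, Matrix.one_apply_ne (ne_of_lt (mid_lt_rev hzl hrm))]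
  have hc₀ : φ (t.1 z z.rev) = -t.1 z z.rev := by
    have h1 := congrFun (congrFun htS' z) z
    rw [form_apply, Om_apply, if_neg hzz, Finset.sum_eq_add z z.rev hzz] at h1
    · rw [Fin.rev_rev, Matrix.map_apply, Matrix.map_apply, (mem_UT.mp htT).2 z, map_one, mul_one,
        one_mul] at h1
      linear_combination h1
    · intro k' _ hk'
      rw [Matrix.map_apply, hrowz k' hk'.2, Matrix.one_apply_ne (Ne.symm hk'.1), map_zero,
        mul_zero]
    · intro h
      exact absurd (Finset.mem_univ _) h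
    · intro h
      exact absurd (Finset.mem_univ _) h
  refine ⟨t.1 z z.rev, hc₀, ?_⟩
  apply Subtype.ext
  ext r s
  unfold Zl
  rw [tv_apply]
  by_cases hrz : r = z
  · rw [hrz]
    by_cases hs : s = z.rev
    · rw [hs, if_pos ⟨rfl, rfl⟩, Matrix.one_apply_ne hzz, zero_add]
    · rw [if_neg (fun h => hs h.2.symm), add_zero]
      exact hrowz s hs
  · rw [if_neg (fun h => hrz h.1.symm), add_zero]
    by_cases hs : s = z.rev
    · rw [hs]
      exact hcolz r hrz
    · exact hQ1.1 r s hrz hs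

theorem UU_closed_eq {φ : K →+* K} (hF : FD φ) (p : ℕ) [Fact p.Prime] [CharP K p]
    (hn : 4 ≤ n) (T : Subgroup SLn) (hTU : T ≤ UU φ) (hT1 : T ≠ ⊥)
    (hcl : ∀ t ∈ T, ∀ x ∈ (SUa φ : Subgroup SLn), x * t * x⁻¹ ∈ (UU φ : Subgroup SLn) →
      x * t * x⁻¹ ∈ T) :
    T = UU φ := by
  haveI : NeZero n := ⟨by omega⟩
  have hUp : IsPGroup p ↥(UU φ : Subgroup SLn) := (UT_isPGroup p).to_le inf_le_left
  haveI : Group.IsNilpotent ↥(UU φ : Subgroup SLn) := hUp.isNilpotent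
  have hclU : ∀ t ∈ T, ∀ u ∈ (UU φ : Subgroup SLn), u * t * u⁻¹ ∈ T := by
    intro t ht u hu
    exact hcl t ht u (mem_UU.mp hu).2
      (Subgroup.mul_mem _ (Subgroup.mul_mem _ hu (hTU ht)) (Subgroup.inv_mem _ hu))
  haveI hnorm : (T.subgroupOf (UU φ : Subgroup SLn)).Normal := by
    constructor
    intro t ht u
    rw [Subgroup.mem_subgroupOf] at ht ⊢
    exact hclU t.1 ht u.1 u.2
  have hne : T.subgroupOf (UU φ : Subgroup SLn) ≠ ⊥ := by
    intro h0
    apply hT1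
    rw [Subgroup.eq_bot_iff_forall]
    intro t ht
    have h2 : (⟨t, hTU ht⟩ : ↥(UU φ : Subgroup SLn)) ∈ T.subgroupOf (UU φ : Subgroup SLn) := by
      rw [Subgroup.mem_subgroupOf]
      exact ht
    rw [h0, Subgroup.mem_bot] at h2
    exact congrArg Subtype.val h2
  have h1 := Cfsg.Agent.Lib.Helper1.normal_inf_center_ne_bot
    (T.subgroupOf (UU φ : Subgroup SLn)) hne
  have hex' : ∃ t ∈ T, t ≠ 1 ∧ ∀ u ∈ (UU φ : Subgroup SLn), u * t = t * u := by
    by_contra hno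
    apply h1
    rw [Subgroup.eq_bot_iff_forall]
    intro w hw
    obtain ⟨hwT, hwZ⟩ := Subgroup.mem_inf.mp hw
    by_contra hw1
    apply hno
    refine ⟨w.1, Subgroup.mem_subgroupOf.mp hwT, fun h => hw1 (Subtype.ext h), ?_⟩
    intro u hu
    have h2 := Subgroup.mem_center_iff.mp hwZ ⟨u, hu⟩
    exact congrArg Subtype.val h2
  obtain ⟨t₀, ht₀T, ht₀1, hcen⟩ := hex'
  obtain ⟨z, hzdef⟩ : ∃ z : Fin n, z = ⟨0, by omega⟩ := ⟨_, rfl⟩
  obtain ⟨o, hodef⟩ : ∃ o : Fin n, o = ⟨1, by omega⟩ := ⟨_, rfl⟩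
  have hz : (z : ℕ) = 0 := by rw [hzdef]
  have ho : (o : ℕ) = 1 := by rw [hodef]
  have hzl : 2 * (z : ℕ) + 1 < n := by omega
  have hol : 2 * (o : ℕ) + 1 < n := by omega
  have hzz := lo_ne_rev hzl
  have hoo := lo_ne_rev hol
  have hzo : z ≠ o := by
    intro h
    rw [h] at hz
    omega
  have hzo' : z < o := by rw [Fin.lt_def]; omega
  have hzor : z ≠ o.rev := lo_ne_rev' hzl hol
  obtain ⟨e, he0, hee⟩ := hF.exists_eps
  obtain ⟨c₀, hc₀, ht0⟩ := central_form hF hz hzl (hTU ht₀T) hcen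
  have hc₀0 : c₀ ≠ 0 := by
    intro h
    apply ht₀1
    rw [ht0, h, Zl_zero]
  -- long root elements at the first index
  have hZz : ∀ d : K, φ d = -d → (Zl z hzz d : SLn) ∈ T := by
    intro d hd
    by_cases hd0 : d = 0
    · rw [hd0, Zl_zero]
      exact T.one_mem
    · have hl : φ (d / c₀) = d / c₀ := by rw [map_div₀, hd, hc₀, neg_div_neg_eq]
      obtain ⟨s, hs⟩ := hF.norm _ hl
      have hs0 : s ≠ 0 := by
        intro h
        rw [h, zero_mul] at hs
        rcases div_eq_zero_iff.mp hs.symm with h5 | h5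
        · exact hd0 h5
        · exact hc₀0 h5
      have hJ := hY_conj_Zl φ hzo hzz hoo hzor s hs0 c₀
      have hval : s * φ s * c₀ = d := by rw [hs, div_mul_cancel₀ d hc₀0]
      rw [hval, ← ht0] at hJ
      rw [← hJ]
      apply hcl _ ht₀T _ (hY_mem_SUa hF.inv hzo hzz hoo s)
      rw [hJ]
      exact Zl_mem_UU hzl d hd
  have hZ : ∀ (j : Fin n) (hj : 2 * (j : ℕ) + 1 < n) (d : K), φ d = -d →
      (Zl j (lo_ne_rev hj) d : SLn) ∈ T := by
    intro j hj d hd
    by_cases hzj : z = j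
    · subst hzj
      exact hZz d hd
    · have hjj := lo_ne_rev hj
      have hJ := J1u φ hzj hzz hjj (lo_ne_rev' hzl hj) d
      rw [← hJ]
      apply hcl _ (hZz d hd) _ (Subgroup.mul_mem _ (Ym_isU φ hF.inv z j hzj hzz hjj (-1))
        (Ym_isU φ hF.inv j z (Ne.symm hzj) hjj hzz 1))
      rw [hJ]
      exact Zl_mem_UU hj d hd
  have hP : ∀ (i j : Fin n) (hi : 2 * (i : ℕ) + 1 < n) (hj : 2 * (j : ℕ) + 1 < n), i < j →
      ∀ c : K, (Yp φ i j (lo_ne_rev' hi hj) c : SLn) ∈ T := by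
    intro i j hi hj hij c
    have hJ := J2u φ (ne_of_lt hij) (lo_ne_rev hi) (lo_ne_rev hj) (lo_ne_rev' hi hj) (c / e) e hee
    have hce : c / e * e = c := div_mul_cancel₀ c he0
    rw [hce] at hJ
    have hd2 : φ (c / e * φ (c / e) * e) = -(c / e * φ (c / e) * e) := by
      rw [map_mul, map_mul, hF.inv, hee]
      ring
    have h1 : Ym φ i j (ne_of_lt hij) (c / e) * Zl j (lo_ne_rev hj) e *
        (Ym φ i j (ne_of_lt hij) (c / e))⁻¹ ∈ T :=
      hclU _ (hZ j hj e hee) _ (Ym_mem_UU hF.inv hij hj _)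
    rw [hJ] at h1
    have h2 := Subgroup.mul_mem _ h1 (Subgroup.inv_mem _ (hZ i hi _ hd2))
    rw [mul_inv_cancel_right] at h2
    have h3 := Subgroup.mul_mem _ (Subgroup.inv_mem _ (hZ j hj e hee)) h2
    rw [inv_mul_cancel_left] at h3
    exact h3
  have hM : ∀ (i j : Fin n) (hij : i < j), 2 * (j : ℕ) + 1 < n →
      ∀ c : K, (Ym φ i j (ne_of_lt hij) c : SLn) ∈ T := by
    intro i j hij hj c
    have hi : 2 * (i : ℕ) + 1 < n := by
      rw [Fin.lt_def] at hij
      omega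
    have hJ := J3u φ (ne_of_lt hij) (lo_ne_rev hi) (lo_ne_rev hj) (lo_ne_rev' hi hj) e (-c / e) hee
    have hce : -(e * (-c / e)) = c := by
      field_simp
    rw [hce] at hJ
    have hd2 : φ (-(e * (-c / e) * φ (-c / e))) = -(-(e * (-c / e) * φ (-c / e))) := by
      rw [map_neg, map_mul, map_mul, hF.inv, hee]
      ring
    have h1 : Zn j (lo_ne_rev hj).symm e * Yp φ i j (lo_ne_rev' hi hj) (-c / e) *
        (Zn j (lo_ne_rev hj).symm e)⁻¹ ∈ T := by
      apply hcl _ (hP i j hi hj hij _) _ (Zn_isU φ j (lo_ne_rev hj).symm e hee)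
      rw [hJ]
      exact Subgroup.mul_mem _ (Subgroup.mul_mem _ (Ym_mem_UU hF.inv hij hj c)
        (Yp_mem_UU hF.inv hi hj _)) (Zl_mem_UU hi _ hd2)
    rw [hJ] at h1
    have h2 := Subgroup.mul_mem _ h1 (Subgroup.inv_mem _ (hZ i hi _ hd2))
    rw [mul_inv_cancel_right] at h2
    have h3 := Subgroup.mul_mem _ h2 (Subgroup.inv_mem _ (hP i j hi hj hij (-c / e)))
    rw [mul_inv_cancel_right] at h3
    exact h3
  have hWz : ∀ (c : Fin n) (hc : 2 * (c : ℕ) + 1 = n) (a b : K), φ b = -b - a * φ a →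
      (Wu φ z c (ne_of_lt (lo_lt_mid hzl hc)) (ne_of_lt (mid_lt_rev hzl hc)) hzz a b : SLn) ∈ T := by
    intro c hc a b hb
    have hzc : z ≠ c := ne_of_lt (lo_lt_mid hzl hc)
    have hoc : o ≠ c := ne_of_lt (lo_lt_mid hol hc)
    have hczr : c ≠ z.rev := ne_of_lt (mid_lt_rev hzl hc)
    have hcor : c ≠ o.rev := ne_of_lt (mid_lt_rev hol hc)
    have hr : φ b = -b - φ a * φ (φ a) := by
      rw [hF.inv]
      linear_combination hb
    have hJ := J8 φ hF.inv hzo hzz hoo hzor hzc hoc hczr hcor 1 (φ a) b hr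
    have e1 : (1 : K) * φ (φ a) = a := by rw [hF.inv, one_mul]
    have e2 : (1 : K) * φ 1 * b = b := by rw [map_one, one_mul, one_mul]
    rw [e1, e2] at hJ
    have hUW : (Wu φ z c hzc hczr hzz a b : SLn) ∈ (UU φ : Subgroup SLn) :=
      Wu_mem_UU hF.inv hzl hc a b hb
    have h1 : Wl φ o c hoc.symm hcor.symm hoo.symm (φ a) b * Yp φ z o hzor 1 *
        (Wl φ o c hoc.symm hcor.symm hoo.symm (φ a) b)⁻¹ ∈ T := by
      apply hcl _ (hP z o hzl hol hzo' 1) _
        (Wl_isU φ hF.inv o c hoc.symm hcor.symm hoo.symm (mid_rev hc) (φ a) b hr)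
      rw [hJ]
      exact Subgroup.mul_mem _ (Subgroup.mul_mem _ (Yp_mem_UU hF.inv hzl hol 1)
        (Ym_mem_UU hF.inv hzo' hol _)) hUW
    rw [hJ] at h1
    have h2 := Subgroup.mul_mem _ (Subgroup.inv_mem _ (Subgroup.mul_mem _
      (hP z o hzl hol hzo' 1) (hM z o hzo' hol (1 * φ b)))) h1
    rw [inv_mul_cancel_left] at h2
    exact h2
  have hW : ∀ (i c : Fin n) (hi : 2 * (i : ℕ) + 1 < n) (hc : 2 * (c : ℕ) + 1 = n) (a b : K),
      φ b = -b - a * φ a →
      (Wu φ i c (ne_of_lt (lo_lt_mid hi hc)) (ne_of_lt (mid_lt_rev hi hc)) (lo_ne_rev hi) a b :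
        SLn) ∈ T := by
    intro i c hi hc a b hb
    by_cases hzi : z = i
    · subst hzi
      exact hWz c hc a b hb
    · have hii := lo_ne_rev hi
      have hJ := JW φ hzi hzz hii (lo_ne_rev' hzl hi) (ne_of_lt (lo_lt_mid hzl hc))
        (ne_of_lt (lo_lt_mid hi hc)) (ne_of_lt (mid_lt_rev hzl hc))
        (ne_of_lt (mid_lt_rev hi hc)) a b
      rw [← hJ]
      apply hcl _ (hWz c hc a b hb) _ (Subgroup.mul_mem _ (Ym_isU φ hF.inv z i hzi hzz hii (-1))
        (Ym_isU φ hF.inv i z (Ne.symm hzi) hii hzz 1))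
      rw [hJ]
      exact Wu_mem_UU hF.inv hi hc a b hb
  exact le_antisymm hTU (UU_le_of_roots hF T hZ hM hP hW)

end Cfsg.Agent.Lib.Helper2.UFus
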