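import Mathlib
import Cfsg.Agent.Lib.Helper2.UFus6
import Cfsg.Agent.Lib.Helper2.SU3Fus2
import Cfsg.Agent.Lib.Helper2.SpFus7

set_option autoImplicit false

/-! Comparison of the unitary group of the antidiagonal form with the unitary group of the
standard form, and central elements. -/

namespace Cfsg.Agent.Lib.Helper2.UFus

open Matrix Cfsg.Agent.Lib.Helper2.UniTri

variable {K : Type*} [Field K] [Fintype K] {n : ℕ}

local notation "SLn" => Matrix.SpecialLinearGroup (Fin n) K
local notation "Mn" => Matrix (Fin n) (Fin n) K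

theorem mem_SU_iff' (q : ℕ) (φ : K →+* K) (hφ : ∀ x, φ x = x ^ q) (X : SLn) :
    X ∈ Cfsg.SU n K q ↔ X.1 * (X.1.map φ)ᵀ = 1 := by
  have h0 : X ∈ Cfsg.SU n K q ↔ X.1ᵀ * X.1.map φ = 1 := by
    constructor
    · intro hX
      have hX' : ∀ u v : Fin n → K,
          Cfsg.hermForm n K q (X.1 *ᵥ u) (X.1 *ᵥ v) = Cfsg.hermForm n K q u v := hX
      ext j k
      have h1 := hX' (Pi.single j 1) (Pi.single k 1)
      have e2 : φ ∘ (Pi.single k (1 : K) : Fin n → K) = Pi.single k 1 := by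
        ext i
        simp [Pi.single_apply, apply_ite φ]
      rw [SU3Fus.herm_mulVec q φ hφ, SU3Fus.herm_eq q φ hφ, e2, single_one_dotProduct,
        single_one_dotProduct, Matrix.mulVec_single_one] at h1
      rw [Matrix.one_apply, ← Pi.single_apply]
      exact h1
    · intro hX
      have hX' : ∀ u v : Fin n → K,
          Cfsg.hermForm n K q (X.1 *ᵥ u) (X.1 *ᵥ v) = Cfsg.hermForm n K q u v := by
        intro u v
        rw [SU3Fus.herm_mulVec q φ hφ, hX, Matrix.one_mulVec, SU3Fus.herm_eq q φ hφ]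
      exact hX'
  rw [h0]
  constructor
  · intro h
    have h1 : (X.1ᵀ * X.1.map φ)ᵀ = 1 := by rw [h, Matrix.transpose_one]
    rw [Matrix.transpose_mul, Matrix.transpose_transpose] at h1
    exact mul_eq_one_comm.mp h1
  · intro h
    have h1 := mul_eq_one_comm.mp h
    have h2 : ((X.1.map φ)ᵀ * X.1)ᵀ = 1 := by rw [h1, Matrix.transpose_one]
    rw [Matrix.transpose_mul, Matrix.transpose_transpose] at h2
    exact h2

/-! ### the change of basis -/

/-- the change of basis matrix: its rows form a hyperbolic basis for the standard form -/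
def Pm (φ : K →+* K) (α τ : K) : Mn := fun a b =>
  if 2 * (a : ℕ) + 1 < n then (if b = a then α else if b = a.rev then 1 else 0)
  else if n < 2 * (a : ℕ) + 1 then (if b = a then φ τ else if b = a.rev then -(τ * α) else 0)
  else (if b = a then 1 else 0)

theorem Pm_apply (φ : K →+* K) (α τ : K) (a b : Fin n) : (Pm φ α τ : Mn) a b =
    if 2 * (a : ℕ) + 1 < n then (if b = a then α else if b = a.rev then 1 else 0)
    else if n < 2 * (a : ℕ) + 1 then (if b = a then φ τ else if b = a.rev then -(τ * α) else 0)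
    else (if b = a then 1 else 0) := rfl

theorem Pm_apply_of_ne (φ : K →+* K) (α τ : K) {a b : Fin n} (h1 : b ≠ a) (h2 : b ≠ a.rev) :
    (Pm φ α τ : Mn) a b = 0 := by
  rw [Pm_apply]
  simp only [h1, h2, if_false, ite_self]

theorem hi_rev_ne {a : Fin n} (ha : n < 2 * (a : ℕ) + 1) : a.rev ≠ a := by
  intro h
  have h1 := congrArg Fin.val h
  rw [Fin.val_rev] at h1
  omega

theorem Pm_lo_self (φ : K →+* K) (α τ : K) {a : Fin n} (ha : 2 * (a : ℕ) + 1 < n) :
    (Pm φ α τ : Mn) a a = α := by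
  rw [Pm_apply, if_pos ha, if_pos rfl]

theorem Pm_lo_rev (φ : K →+* K) (α τ : K) {a : Fin n} (ha : 2 * (a : ℕ) + 1 < n) :
    (Pm φ α τ : Mn) a a.rev = 1 := by
  rw [Pm_apply, if_pos ha, if_neg (lo_ne_rev ha).symm, if_pos rfl]

theorem Pm_hi_self (φ : K →+* K) (α τ : K) {a : Fin n} (ha : n < 2 * (a : ℕ) + 1) :
    (Pm φ α τ : Mn) a a = φ τ := by
  have hnl : ¬ 2 * (a : ℕ) + 1 < n := by omega
  rw [Pm_apply, if_neg hnl, if_pos ha, if_pos rfl]

theorem Pm_hi_rev (φ : K →+* K) (α τ : K) {a : Fin n} (ha : n < 2 * (a : ℕ) + 1) :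
    (Pm φ α τ : Mn) a a.rev = -(τ * α) := by
  have hnl : ¬ 2 * (a : ℕ) + 1 < n := by omega
  rw [Pm_apply, if_neg hnl, if_pos ha, if_neg (hi_rev_ne ha), if_pos rfl]

theorem Pm_mid_self (φ : K →+* K) (α τ : K) {a : Fin n} (h1 : ¬ 2 * (a : ℕ) + 1 < n)
    (h2 : ¬ n < 2 * (a : ℕ) + 1) : (Pm φ α τ : Mn) a a = 1 := by
  rw [Pm_apply, if_neg h1, if_neg h2, if_pos rfl]

theorem Pm_form {φ : K →+* K} (hφ : ∀ x, φ (φ x) = x) {α τ : K} (hα : α * φ α = -1)
    (hτ : τ + φ τ = 1) : (Pm φ α τ : Mn) * ((Pm φ α τ : Mn).map φ)ᵀ = Om := by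
  ext a b
  rw [Matrix.mul_apply, Om_apply]
  have hterm : ∀ k ∈ Finset.univ, (Pm φ α τ : Mn) a k * ((Pm φ α τ : Mn).map φ)ᵀ k b =
      (Pm φ α τ : Mn) a k * φ ((Pm φ α τ : Mn) b k) := by
    intro k _
    rw [Matrix.transpose_apply, Matrix.map_apply]
  rw [Finset.sum_congr rfl hterm]
  by_cases ham : a = a.rev
  · have hnl : ¬ 2 * (a : ℕ) + 1 < n := fun h => lo_ne_rev h ham
    have hnh : ¬ n < 2 * (a : ℕ) + 1 := fun h => hi_rev_ne h ham.symm
    rw [Finset.sum_eq_single a]
    · rw [Pm_mid_self φ α τ hnl hnh, one_mul]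
      by_cases hb : b = a
      · rw [hb, Pm_mid_self φ α τ hnl hnh, map_one, if_pos ham]
      · have hab2 : a ≠ b.rev := by
          intro h
          apply hb
          calc b = b.rev.rev := (Fin.rev_rev b).symm
            _ = a.rev := by rw [← h]
            _ = a := ham.symm
        rw [Pm_apply_of_ne φ α τ (Ne.symm hb) hab2, map_zero, if_neg]
        intro h
        exact hb (h.trans ham.symm)
    · intro k _ hk
      rw [Pm_apply_of_ne φ α τ hk (fun h => hk (h.trans ham.symm)), zero_mul]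
    · intro h
      exact absurd (Finset.mem_univ _) h
  · have hlh : ¬ 2 * (a : ℕ) + 1 < n → n < 2 * (a : ℕ) + 1 := by
      intro hal
      by_contra h
      apply ham
      apply Fin.ext
      rw [Fin.val_rev]
      omega
    rw [Finset.sum_eq_add a a.rev ham]
    · by_cases hba : b = a
      · rw [hba, if_neg ham]
        by_cases hal : 2 * (a : ℕ) + 1 < n
        · rw [Pm_lo_self φ α τ hal, Pm_lo_rev φ α τ hal, map_one]
          linear_combination hα
        · have hah := hlh hal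
          rw [Pm_hi_self φ α τ hah, Pm_hi_rev φ α τ hah, hφ, map_neg, map_mul]
          linear_combination (τ * φ τ) * hα
      · by_cases hbr : b = a.rev
        · rw [hbr, if_pos rfl]
          by_cases hal : 2 * (a : ℕ) + 1 < n
          · have hrh : n < 2 * ((a.rev : Fin n) : ℕ) + 1 := by
              rw [Fin.val_rev]
              omega
            have h1 : (Pm φ α τ : Mn) a.rev a = -(τ * α) := by
              have h2 := Pm_hi_rev φ α τ hrh
              rwa [Fin.rev_rev] at h2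
            rw [Pm_lo_self φ α τ hal, Pm_lo_rev φ α τ hal, h1, Pm_hi_self φ α τ hrh, hφ,
              map_neg, map_mul]
            linear_combination (-φ τ) * hα + hτ
          · have hah := hlh hal
            have hrl : 2 * ((a.rev : Fin n) : ℕ) + 1 < n := (rev_lo_iff a).mpr hah
            have h1 : (Pm φ α τ : Mn) a.rev a = 1 := by
              have h2 := Pm_lo_rev φ α τ hrl
              rwa [Fin.rev_rev] at h2
            rw [Pm_hi_self φ α τ hah, Pm_hi_rev φ α τ hah, h1, Pm_lo_self φ α τ hrl, map_one]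
            linear_combination (-τ) * hα + hτ
        · have h1 : a ≠ b.rev := fun h => hbr (by rw [h, Fin.rev_rev])
          rw [Pm_apply_of_ne φ α τ (Ne.symm hba) h1,
            Pm_apply_of_ne φ α τ (Ne.symm hbr) (rev_ne_rev (Ne.symm hba)), map_zero, mul_zero,
            mul_zero, add_zero, if_neg hbr]
    · intro k _ hk
      rw [Pm_apply_of_ne φ α τ hk.1 hk.2, zero_mul]
    · intro h
      exact absurd (Finset.mem_univ _) h
    · intro h
      exact absurd (Finset.mem_univ _) h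

theorem Om_mul_Om : (Om : Mn) * Om = 1 := by
  ext a b
  rw [mul_Om_apply, Om_apply, Matrix.one_apply]
  by_cases h : a = b
  · rw [h, if_pos rfl, if_pos rfl]
  · rw [if_neg (fun h2 => h (Fin.rev_inj.mp h2).symm), if_neg h]

/-- conjugation by an invertible matrix, on the special linear group -/
def conjSL (P P' : Mn) (h1 : P * P' = 1) (h2 : P' * P = 1) : SLn →* SLn where
  toFun X := ⟨P' * X.1 * P, by
    rw [Matrix.det_mul, Matrix.det_mul, X.2, mul_one, ← Matrix.det_mul, h2, Matrix.det_one]⟩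
  map_one' := by
    apply Subtype.ext
    show P' * (1 : SLn).1 * P = (1 : SLn).1
    rw [Matrix.SpecialLinearGroup.coe_one, Matrix.mul_one, h2]
  map_mul' X Y := by
    apply Subtype.ext
    show P' * (X * Y).1 * P = P' * X.1 * P * (P' * Y.1 * P)
    rw [Matrix.SpecialLinearGroup.coe_mul]
    have h : P' * X.1 * P * (P' * Y.1 * P) = P' * X.1 * (P * P') * Y.1 * P := by
      simp only [Matrix.mul_assoc]
    rw [h, h1, Matrix.mul_one]
    simp only [Matrix.mul_assoc]

theorem conjSL_val (P P' : Mn) (h1 : P * P' = 1) (h2 : P' * P = 1) (X : SLn) :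
    (conjSL P P' h1 h2 X).1 = P' * X.1 * P := rfl

theorem conjSL_conjSL (P P' : Mn) (h1 : P * P' = 1) (h2 : P' * P = 1) (X : SLn) :
    conjSL P' P h2 h1 (conjSL P P' h1 h2 X) = X := by
  apply Subtype.ext
  show P * (P' * X.1 * P) * P' = X.1
  calc P * (P' * X.1 * P) * P' = (P * P') * X.1 * (P * P') := by simp only [Matrix.mul_assoc]
    _ = X.1 := by rw [h1, Matrix.one_mul, Matrix.mul_one]

theorem preserve_conj (φ : K →+* K) {Q Q' : Mn} (h : Q' * Q = 1) {M X : Mn}
    (hX : X * M * (X.map φ)ᵀ = M) :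
    (Q * X * Q') * (Q * M * (Q.map φ)ᵀ) * ((Q * X * Q').map φ)ᵀ = Q * M * (Q.map φ)ᵀ := by
  have h3 : (Q.map φ)ᵀ * (Q'.map φ)ᵀ = 1 := by
    rw [← Matrix.transpose_mul, ← Matrix.map_mul, h, one_map, Matrix.transpose_one]
  rw [Matrix.map_mul, Matrix.map_mul, Matrix.transpose_mul, Matrix.transpose_mul]
  calc _ = Q * X * (Q' * Q) * M * ((Q.map φ)ᵀ * (Q'.map φ)ᵀ) * (X.map φ)ᵀ * (Q.map φ)ᵀ := by
        simp only [Matrix.mul_assoc]
    _ = Q * (X * M * (X.map φ)ᵀ) * (Q.map φ)ᵀ := by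
        rw [h, h3]
        simp only [Matrix.mul_one, Matrix.mul_assoc]
    _ = Q * M * (Q.map φ)ᵀ := by rw [hX]

/-- the unitary group of the antidiagonal form is isomorphic to the standard unitary group -/
theorem exists_iso (q : ℕ) (φ : K →+* K) (hφq : ∀ x, φ x = x ^ q) (hF : FD φ) :
    ∃ θ : ↥(SUa φ : Subgroup SLn) →* ↥(Cfsg.SU n K q),
      Function.Injective θ ∧ Function.Surjective θ := by
  obtain ⟨τ, hτ⟩ := hF.exists_tau
  obtain ⟨α, hα⟩ := hF.norm (-1) (by rw [map_neg, map_one])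
  obtain ⟨P, hPdef⟩ : ∃ P : Mn, P = Pm φ α τ := ⟨_, rfl⟩
  have hP : P * (P.map φ)ᵀ = Om := by
    rw [hPdef]
    exact Pm_form hF.inv hα hτ
  obtain ⟨P', hP'def⟩ : ∃ P' : Mn, P' = (P.map φ)ᵀ * Om := ⟨_, rfl⟩
  have h1 : P * P' = 1 := by rw [hP'def, ← Matrix.mul_assoc, hP, Om_mul_Om]
  have h2 : P' * P = 1 := mul_eq_one_comm.mp h1
  have h3 : (P.map φ)ᵀ * (P'.map φ)ᵀ = 1 := by
    rw [← Matrix.transpose_mul, ← Matrix.map_mul, h2, one_map, Matrix.transpose_one]
  have hP'form : P' * Om * (P'.map φ)ᵀ = 1 := by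
    calc P' * Om * (P'.map φ)ᵀ = P' * (P * (P.map φ)ᵀ) * (P'.map φ)ᵀ := by rw [hP]
      _ = (P' * P) * ((P.map φ)ᵀ * (P'.map φ)ᵀ) := by simp only [Matrix.mul_assoc]
      _ = 1 := by rw [h2, h3, Matrix.one_mul]
  have hfwd : ∀ Y : SLn, Y ∈ (SUa φ : Subgroup SLn) →
      conjSL P P' h1 h2 Y ∈ Cfsg.SU n K q := by
    intro Y hY
    rw [mem_SU_iff' q φ hφq, conjSL_val]
    have hY' : Y.1 * Om * (Y.1.map φ)ᵀ = Om := mem_SUa.mp hY
    have h4 := preserve_conj φ h1 hY'
    rw [hP'form, Matrix.mul_one] at h4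
    exact h4
  have hbwd : ∀ X : SLn, X ∈ Cfsg.SU n K q →
      conjSL P' P h2 h1 X ∈ (SUa φ : Subgroup SLn) := by
    intro X hX
    rw [mem_SUa]
    unfold IsU
    rw [conjSL_val]
    have h5 : X.1 * 1 * (X.1.map φ)ᵀ = 1 := by
      rw [Matrix.mul_one]
      exact (mem_SU_iff' q φ hφq X).mp hX
    have h4 := preserve_conj φ h2 h5
    rw [Matrix.mul_one, hP] at h4
    exact h4
  refine ⟨((conjSL P P' h1 h2).comp (SUa φ : Subgroup SLn).subtype).codRestrict
    (Cfsg.SU n K q) (fun Y => hfwd Y.1 Y.2), ?_, ?_⟩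
  · intro Y Z hYZ
    have h6 : conjSL P P' h1 h2 Y.1 = conjSL P P' h1 h2 Z.1 := congrArg Subtype.val hYZ
    have h7 := congrArg (conjSL P' P h2 h1) h6
    rw [conjSL_conjSL, conjSL_conjSL] at h7
    exact Subtype.ext h7
  · intro X
    refine ⟨⟨conjSL P' P h2 h1 X.1, hbwd X.1 X.2⟩, ?_⟩
    apply Subtype.ext
    show conjSL P P' h1 h2 (conjSL P' P h2 h1 X.1) = X.1
    exact conjSL_conjSL P' P h2 h1 X.1

/-- a central element of `p`-power order in the unitary group is trivial -/
theorem central_p_trivial {φ : K →+* K} (hF : FD φ) (p : ℕ) [Fact p.Prime] [CharP K p]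
    {z : SLn} (hc : ∀ g ∈ (SUa φ : Subgroup SLn), g * z = z * g) (k : ℕ)
    (hk : z ^ p ^ k = 1) : z = 1 := by
  obtain ⟨e, he0, hee⟩ := hF.exists_eps
  have hd : z ∈ (DD : Subgroup SLn) := by
    rw [mem_DD]
    intro a b hab
    by_cases hb : b = b.rev
    · have ha : a.rev ≠ a := by
        intro h
        apply hab
        have h1 := congrArg Fin.val h
        have h2 := congrArg Fin.val hb
        rw [Fin.val_rev] at h1 h2
        exact Fin.ext (by omega)
      have h1 := hc _ (Zn_isU φ a ha e hee)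
      have h2 := commute_single_of_commute_tv' ha he0 h1
      exact Matrix.row_eq_zero_of_commute_single h2 (Ne.symm hab)
    · have h1 := hc _ (Zl_isU φ b hb e hee)
      have h2 := commute_single_of_commute_tv' hb he0 h1
      exact Matrix.col_eq_zero_of_commute_single h2 hab
  exact SpFus.eq_one_of_pow_eq_one p hk (DD_pow hd)

end Cfsg.Agent.Lib.Helper2.UFus
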