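import Cfsg.Agent.Lib.Helper2.SpFus8
import Cfsg.Agent.Lib.Helper2.UFus7

set_option autoImplicit false

/-! The fusion system of `PSU_n(q)` in the defining characteristic is simple, for `n ≥ 4`. -/

namespace Cfsg.Agent.Lib.Helper2.UFus

open Matrix Cfsg Cfsg.Agent.Lib.Helper2.UniTri Cfsg.Agent.Lib.Helper2.SimpCrit2
open scoped Pointwise

variable {K : Type*} [Field K] [Fintype K] {n : ℕ}

local notation "SLn" => Matrix.SpecialLinearGroup (Fin n) K
local notation "Mn" => Matrix (Fin n) (Fin n) K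

theorem hl_mem_of {φ : K →+* K} (C : Subgroup SLn) (i : Fin n) (hi : i ≠ i.rev)
    (hZl : ∀ c : K, φ c = -c → (Zl i hi c : SLn) ∈ C)
    (hZn : ∀ c : K, φ c = -c → (Zn i hi.symm c : SLn) ∈ C) {e lam : K} (hee : φ e = -e)
    (hlam : φ lam = lam) : (hl i hi e lam : SLn) ∈ C := by
  unfold hl
  refine Subgroup.mul_mem _ (Subgroup.mul_mem _ (Subgroup.mul_mem _
    (hZl _ ?_) (hZn _ ?_)) (hZl _ ?_)) (hZn _ ?_)
  · rw [map_mul, map_sub, map_one, hee, hlam]
    ring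
  · rw [map_inv₀, hee, inv_neg]
  · rw [map_mul, map_sub, map_one, map_inv₀, hee, hlam]
    ring
  · rw [map_neg, map_mul, map_inv₀, hee, hlam, inv_neg]
    ring

theorem nW_mem_of {φ : K →+* K} (hφ : ∀ x, φ (φ x) = x) (C : Subgroup SLn) (i c : Fin n)
    (hic : i ≠ c) (hci : c ≠ i.rev) (hi : i ≠ i.rev)
    (hWu : ∀ a b : K, φ b = -b - a * φ a → (Wu φ i c hic hci hi a b : SLn) ∈ C)
    (hWl : ∀ p r : K, φ r = -r - p * φ p →
      (Wl φ i c hic.symm hci.symm hi.symm p r : SLn) ∈ C)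
    (a b : K) (hb : φ b = -b - a * φ a) (hb0 : b ≠ 0) :
    (nW φ i c hic hci hi a b : SLn) ∈ C := by
  have hb1 : φ b ≠ 0 := (map_ne_zero φ).mpr hb0
  unfold nW
  refine Subgroup.mul_mem _ (Subgroup.mul_mem _ (hWu a b hb) (hWl _ _ ?_)) (hWu _ b ?_)
  · rw [map_inv₀, map_div₀, hφ, hφ]
    generalize φ b = β at hb hb1 ⊢
    have hbeq : b = -β - a * φ a := by linear_combination hb
    field_simp
    rw [hbeq]
    ring
  · rw [map_div₀, map_mul, hφ]
    generalize φ b = β at hb hb1 ⊢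
    have hbeq : b = -β - a * φ a := by linear_combination hb
    field_simp
    rw [hbeq]
    ring

theorem conj_mem_of_three {R : Subgroup SLn} {t1 t2 t3 : SLn}
    (h1 : ∀ r ∈ R, t1 * r * t1⁻¹ ∈ R) (h2 : ∀ r ∈ R, t2 * r * t2⁻¹ ∈ R)
    (h3 : ∀ r ∈ R, t3 * r * t3⁻¹ ∈ R) :
    ∀ r ∈ R, (t1 * t2 * t3) * r * (t1 * t2 * t3)⁻¹ ∈ R := by
  intro r hr
  have e : (t1 * t2 * t3) * r * (t1 * t2 * t3)⁻¹ =
      t1 * (t2 * (t3 * r * t3⁻¹) * t2⁻¹) * t1⁻¹ := by group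
  rw [e]
  exact h1 _ (h2 _ (h3 _ hr))

theorem Ym_pow (p : ℕ) [Fact p.Prime] [CharP K p] [NeZero n] (φ : K →+* K) {i j : Fin n}
    (hij : i ≠ j) (hi : i ≠ i.rev) (hj : j ≠ j.rev) (c : K) :
    (Ym φ i j hij c : SLn) ^ p ^ 2 = 1 := by
  apply pow_of_nil p _ _ (Ym_val φ i j hij hj c)
  simp only [Matrix.add_mul, Matrix.mul_add, Matrix.smul_mul, Matrix.mul_smul, E_mul_E,
    hij.symm, hj, hi.symm, rev_ne_rev hij, if_false, smul_zero, add_zero, Matrix.zero_mul]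

theorem Wu_pow (p : ℕ) [Fact p.Prime] [CharP K p] [NeZero n] (φ : K →+* K) {i c : Fin n}
    (hic : i ≠ c) (hci : c ≠ i.rev) (hi : i ≠ i.rev) (a b : K) :
    (Wu φ i c hic hci hi a b : SLn) ^ p ^ 2 = 1 := by
  apply pow_of_nil p _ _ (Wu_val φ i c hic hci hi a b)
  simp only [Matrix.add_mul, Matrix.mul_add, Matrix.smul_mul, Matrix.mul_smul, E_mul_E,
    hic, hic.symm, hci, hci.symm, hi, hi.symm, if_false, if_true, smul_zero, add_zero, zero_add,
    Matrix.zero_mul]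

theorem Wl_pow (p : ℕ) [Fact p.Prime] [CharP K p] [NeZero n] (φ : K →+* K) {j c : Fin n}
    (hcj : c ≠ j) (hjc : j.rev ≠ c) (hj : j.rev ≠ j) (a b : K) :
    (Wl φ j c hcj hjc hj a b : SLn) ^ p ^ 2 = 1 := by
  apply pow_of_nil p _ _ (Wl_val φ j c hcj hjc hj a b)
  simp only [Matrix.add_mul, Matrix.mul_add, Matrix.smul_mul, Matrix.mul_smul, E_mul_E,
    hcj, hcj.symm, hjc, hjc.symm, hj, hj.symm, if_false, if_true, smul_zero, add_zero, zero_add,
    Matrix.zero_mul]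

theorem psu_simple (p q : ℕ) [Fact p.Prime] [CharP K p] (hK : Fintype.card K = q ^ 2)
    (hn : 4 ≤ n) (S : Sylow p (Cfsg.PSU n K q)) :
    (groupFusionSystem (S : Subgroup (Cfsg.PSU n K q))).IsSimple p := by
  haveI : NeZero n := ⟨by omega⟩
  have hp : p.Prime := Fact.out
  obtain ⟨φ, hφq⟩ := SU3Fus.exists_frob q hK
  have hF : FD φ := FD_of_card q hK φ hφq
  obtain ⟨e, he0, hee⟩ := hF.exists_eps
  obtain ⟨z, hzdef⟩ : ∃ z : Fin n, z = ⟨0, by omega⟩ := ⟨_, rfl⟩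
  obtain ⟨o, hodef⟩ : ∃ o : Fin n, o = ⟨1, by omega⟩ := ⟨_, rfl⟩
  have hz : (z : ℕ) = 0 := by rw [hzdef]
  have ho : (o : ℕ) = 1 := by rw [hodef]
  have hzl : 2 * (z : ℕ) + 1 < n := by omega
  have hol : 2 * (o : ℕ) + 1 < n := by omega
  have hzz := lo_ne_rev hzl
  have hoo := lo_ne_rev hol
  have hzo : z ≠ o := by
    intro h
    rw [h] at hz
    omega
  have hozr : o ≠ z.rev := lo_ne_rev' hol hzl
  have horz : o.rev ≠ z := (lo_ne_rev' hzl hol).symm
  -- the covering map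
  obtain ⟨θ, hθi, hθs⟩ := exists_iso (n := n) q φ hφq hF
  obtain ⟨π, hπdef⟩ : ∃ π : ↥(SUa φ : Subgroup SLn) →* Cfsg.PSU n K q,
      π = (QuotientGroup.mk' (Subgroup.center ↥(Cfsg.SU n K q))).comp θ := ⟨_, rfl⟩
  have hπsurj : Function.Surjective π := by
    rw [hπdef]
    exact (QuotientGroup.mk'_surjective _).comp hθs
  have hπker : ∀ x : ↥(SUa φ : Subgroup SLn), x ∈ π.ker →
      ∀ g ∈ (SUa φ : Subgroup SLn), g * x.1 = x.1 * g := by
    intro x hx g hg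
    rw [hπdef, MonoidHom.mem_ker, MonoidHom.comp_apply, QuotientGroup.mk'_apply,
      QuotientGroup.eq_one_iff] at hx
    have h1 := Subgroup.mem_center_iff.mp hx (θ ⟨g, hg⟩)
    rw [← map_mul, ← map_mul] at h1
    have h2 := hθi h1
    exact congrArg Subtype.val h2
  have hkc : π.ker ≤ Subgroup.center ↥(SUa φ : Subgroup SLn) := by
    intro x hx
    rw [Subgroup.mem_center_iff]
    intro g
    apply Subtype.ext
    exact hπker x hx g.1 g.2
  have hkp : ∀ x ∈ π.ker, ∀ k : ℕ, x ^ p ^ k = 1 → x = 1 := by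
    intro x hx k hk
    apply Subtype.ext
    show x.1 = 1
    apply central_p_trivial hF p (hπker x hx) k
    have h1 := congrArg Subtype.val hk
    rw [Subgroup.coe_pow] at h1
    exact h1
  have hUp : IsPGroup p ↥(UU φ : Subgroup SLn) := (UT_isPGroup p).to_le inf_le_left
  have hUK : (UU φ : Subgroup SLn) ≤ SUa φ := inf_le_right
  have hUp' : IsPGroup p ↥((UU φ : Subgroup SLn).subgroupOf (SUa φ)) := hUp.comap_subtype
  -- the image of the unitriangular group is a Sylow subgroup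
  obtain ⟨Q, hQ⟩ : ∃ Q : Sylow p (Cfsg.PSU n K q),
      (Q : Subgroup (Cfsg.PSU n K q)) = ((UU φ : Subgroup SLn).subgroupOf (SUa φ)).map π := by
    apply exists_sylow_eq _ (hUp'.map π)
    intro xb hxb hxp
    obtain ⟨x, rfl⟩ := hπsurj xb
    have hxN := lift_mem_normalizer π hkc hkp _ hUp' hxb
    have h2 : ∀ u ∈ (UU φ : Subgroup SLn),
        (x : SLn)⁻¹ * u * (x : SLn) ∈ (UU φ : Subgroup SLn) := by
      intro u hu
      have h6 := (Subgroup.mem_normalizer_iff.mp (Subgroup.inv_mem _ hxN) ⟨u, hUK hu⟩).mp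
        (Subgroup.mem_subgroupOf.mpr hu)
      have h7 := Subgroup.mem_subgroupOf.mp h6
      simpa using h7
    obtain ⟨d, hd, u, hu, hxdu⟩ := decomp_of_upper x.2 (upper_of_conj hF h2)
    obtain ⟨hdD, hdS⟩ := Subgroup.mem_inf.mp hd
    obtain ⟨d', hd'def⟩ : ∃ d' : ↥(SUa φ : Subgroup SLn), d' = ⟨d, hdS⟩ := ⟨_, rfl⟩
    obtain ⟨u', hu'def⟩ : ∃ u' : ↥(SUa φ : Subgroup SLn), u' = ⟨u, hUK hu⟩ := ⟨_, rfl⟩
    have hx' : x = d' * u' := by
      apply Subtype.ext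
      rw [hd'def, hu'def]
      exact hxdu
    have hu'U : u' ∈ (UU φ : Subgroup SLn).subgroupOf (SUa φ) := by
      rw [hu'def]
      exact Subgroup.mem_subgroupOf.mpr hu
    have hd'pow : d' ^ (Fintype.card K - 1) = 1 := by
      apply Subtype.ext
      rw [Subgroup.coe_pow, hd'def]
      exact DD_pow hdD
    obtain ⟨k, hk⟩ := hxp
    rw [hx'] at hk hxb ⊢
    have hPz : IsPGroup p (Subgroup.zpowers (π (d' * u'))) := by
      rintro ⟨y, hy⟩
      obtain ⟨i, rfl⟩ := Subgroup.mem_zpowers_iff.mp hy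
      refine ⟨k, Subtype.ext ?_⟩
      rw [Subgroup.coe_pow, Subgroup.coe_one]
      show (π (d' * u') ^ i) ^ p ^ k = 1
      rw [← zpow_natCast, ← _root_.zpow_mul, mul_comm i, _root_.zpow_mul, zpow_natCast, hk,
        _root_.one_zpow]
    have hPsup := IsPGroup.to_sup_of_normal_right' hPz (hUp'.map π)
      (Subgroup.zpowers_le.mpr hxb)
    have hdmem : π d' ∈ Subgroup.zpowers (π (d' * u')) ⊔
        ((UU φ : Subgroup SLn).subgroupOf (SUa φ)).map π := by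
      have h1 : π d' = π (d' * u') * (π u')⁻¹ := by rw [map_mul, mul_inv_cancel_right]
      rw [h1]
      exact Subgroup.mul_mem _ (Subgroup.mem_sup_left (Subgroup.mem_zpowers _))
        (Subgroup.inv_mem _ (Subgroup.mem_sup_right (Subgroup.mem_map_of_mem π hu'U)))
    obtain ⟨j, hj⟩ := hPsup ⟨π d', hdmem⟩
    have hj' : (π d') ^ p ^ j = 1 := by
      have h2 := congrArg Subtype.val hj
      simpa using h2
    have hq' : (π d') ^ (Fintype.card K - 1) = 1 := by rw [← map_pow, hd'pow, map_one]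
    have hd1 : π d' = 1 := SpFus.eq_one_of_pow_eq_one (K := K) p hj' hq'
    rw [map_mul, hd1, one_mul]
    exact Subgroup.mem_map_of_mem π hu'U
  -- an arbitrary Sylow subgroup is a conjugate
  obtain ⟨g, hg⟩ := MulAction.exists_smul_eq (Cfsg.PSU n K q) Q S
  obtain ⟨ψ, hψdef⟩ : ∃ ψ : ↥(SUa φ : Subgroup SLn) →* Cfsg.PSU n K q,
      ψ = (MulAut.conj g).toMonoidHom.comp π := ⟨_, rfl⟩
  have hψker : ψ.ker = π.ker := by
    ext x
    rw [MonoidHom.mem_ker, MonoidHom.mem_ker, hψdef, MonoidHom.comp_apply]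
    exact (MulAut.conj g).map_eq_one_iff
  have hψsurj : Function.Surjective ψ := by
    rw [hψdef]
    exact (MulAut.conj g).surjective.comp hπsurj
  have hSU : (S : Subgroup (Cfsg.PSU n K q)) =
      ((UU φ : Subgroup SLn).subgroupOf (SUa φ)).map ψ := by
    rw [← hg, Sylow.coe_subgroup_smul, hψdef, ← Subgroup.map_map, ← hQ]
    rfl
  have hkcψ : ψ.ker ≤ Subgroup.center ↥(SUa φ : Subgroup SLn) := by
    rw [hψker]
    exact hkc
  have hkpψ : ∀ x ∈ ψ.ker, ∀ k : ℕ, x ^ p ^ k = 1 → x = 1 := by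
    intro x hx k hk
    rw [hψker] at hx
    exact hkp x hx k hk
  have hU1 : (UU φ : Subgroup SLn) ≠ ⊥ := by
    intro h
    have h1 : (Zl z hzz e : SLn) ∈ (UU φ : Subgroup SLn) := Zl_mem_UU hzl e hee
    rw [h, Subgroup.mem_bot] at h1
    have h2 : (Zl z hzz e : SLn).1 z z.rev = (1 : SLn).1 z z.rev := by rw [h1]
    unfold Zl at h2
    rw [tv_apply, if_pos ⟨rfl, rfl⟩, Matrix.SpecialLinearGroup.coe_one,
      Matrix.one_apply_ne hzz, zero_add] at h2
    exact he0 h2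
  have h𝓡 : ∀ R ∈ ({Q1 z hzz ⊓ SUa φ, Qm ⊓ SUa φ} : Set (Subgroup SLn)), R ≤ UU φ ∧
      (∀ u ∈ (UU φ : Subgroup SLn), ∀ r ∈ R, u * r * u⁻¹ ∈ R) ∧
      ∀ u ∈ (UU φ : Subgroup SLn), (∀ r ∈ R, u * r = r * u) → u ∈ R := by
    intro R hR
    rcases hR with rfl | hR
    · refine ⟨?_, ?_, ?_⟩
      · intro x hx
        exact mem_UU.mpr ⟨Q1_le_UT hzz hz (Subgroup.mem_inf.mp hx).1, (Subgroup.mem_inf.mp hx).2⟩
      · intro u hu r hr
        exact Subgroup.mem_inf.mpr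
          ⟨Q1_conj_UT hzz hz (mem_UU.mp hu).1 (Subgroup.mem_inf.mp hr).1,
          Subgroup.mul_mem _ (Subgroup.mul_mem _ (mem_UU.mp hu).2 (Subgroup.mem_inf.mp hr).2)
            (Subgroup.inv_mem _ (mem_UU.mp hu).2)⟩
      · intro u hu hc
        exact Subgroup.mem_inf.mpr ⟨Q1_selfCentralizing hF hzz hz (mem_UU.mp hu).1 hc,
          (mem_UU.mp hu).2⟩
    · rw [Set.mem_singleton_iff] at hR
      subst hR
      refine ⟨?_, ?_, ?_⟩
      · intro x hx
        exact mem_UU.mpr ⟨Qm_le_UT (Subgroup.mem_inf.mp hx).1, (Subgroup.mem_inf.mp hx).2⟩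
      · intro u hu r hr
        exact Subgroup.mem_inf.mpr ⟨Qm_conj_UT (mem_UU.mp hu).1 (Subgroup.mem_inf.mp hr).1,
          Subgroup.mul_mem _ (Subgroup.mul_mem _ (mem_UU.mp hu).2 (Subgroup.mem_inf.mp hr).2)
            (Subgroup.inv_mem _ (mem_UU.mp hu).2)⟩
      · intro u hu hc
        exact Subgroup.mem_inf.mpr ⟨Qm_selfCentralizing he0 hee (mem_UU.mp hu).1 hc,
          (mem_UU.mp hu).2⟩
  have hDnorm : ∀ d ∈ (DD ⊓ SUa φ : Subgroup SLn), ∀ u ∈ (UU φ : Subgroup SLn),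
      d * u * d⁻¹ ∈ (UU φ : Subgroup SLn) := by
    intro d hd u hu
    obtain ⟨hdD, hdS⟩ := Subgroup.mem_inf.mp hd
    exact mem_UU.mpr ⟨(Subgroup.mem_normalizer_iff.mp (DD_le_normalizer hdD) u).mp
      (mem_UU.mp hu).1, Subgroup.mul_mem _ (Subgroup.mul_mem _ hdS (mem_UU.mp hu).2)
        (Subgroup.inv_mem _ hdS)⟩
  -- conjugation by unitary elements preserves the intersections with the unitary group
  have hinf : ∀ (R₀ : Subgroup SLn) (w : SLn), w ∈ (SUa φ : Subgroup SLn) →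
      (∀ r ∈ R₀, w * r * w⁻¹ ∈ R₀) →
      ∀ r ∈ (R₀ ⊓ SUa φ : Subgroup SLn), w * r * w⁻¹ ∈ (R₀ ⊓ SUa φ : Subgroup SLn) := by
    intro R₀ w hw hwR r hr
    exact Subgroup.mem_inf.mpr ⟨hwR r (Subgroup.mem_inf.mp hr).1,
      Subgroup.mul_mem _ (Subgroup.mul_mem _ hw (Subgroup.mem_inf.mp hr).2)
        (Subgroup.inv_mem _ hw)⟩
  have hYp : ∀ y ∈ torusY φ o hoo e, y ∈ (SUa φ : Subgroup SLn) ∧
      (∀ u ∈ (UU φ : Subgroup SLn), y * u * y⁻¹ ∈ (UU φ : Subgroup SLn)) ∧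
      ∃ R ∈ ({Q1 z hzz ⊓ SUa φ, Qm ⊓ SUa φ} : Set (Subgroup SLn)),
        y ∈ Subgroup.closure {w : SLn | w ∈ (SUa φ : Subgroup SLn) ∧
          (∀ r ∈ R, w * r * w⁻¹ ∈ R) ∧ ∃ k : ℕ, w ^ p ^ k = 1} := by
    intro y hy
    rcases mem_torusY.mp hy with ⟨i, hio, hil, s, hs, rfl⟩ | ⟨lam, hlam0, hlam, rfl⟩ |
      ⟨c, hoc, hco, hcc, a, b, hb, hb0, rfl⟩
    · have hii := lo_ne_rev hil
      have hior : i ≠ o.rev := lo_ne_rev' hil hol
      refine ⟨hY_mem_SUa hF.inv hio hii hoo s, hDnorm _ (Subgroup.mem_inf.mpr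
        ⟨mem_DD.mpr (hY_isDiag φ hio hii hoo hior s hs), hY_mem_SUa hF.inv hio hii hoo s⟩),
        Qm ⊓ SUa φ, Set.mem_insert_of_mem _ (Set.mem_singleton _), ?_⟩
      have h1 : ∀ (a b : Fin n) (hab : a ≠ b), 2 * (a : ℕ) + 1 < n → 2 * (b : ℕ) + 1 < n →
          ∀ c : K, Ym φ a b hab c ∈ Subgroup.closure
          {w : SLn | w ∈ (SUa φ : Subgroup SLn) ∧
            (∀ r ∈ (Qm ⊓ SUa φ : Subgroup SLn), w * r * w⁻¹ ∈ (Qm ⊓ SUa φ : Subgroup SLn)) ∧
            ∃ k : ℕ, w ^ p ^ k = 1} := by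
        intro a b hab ha hb c
        apply Subgroup.subset_closure
        have hmem : Ym φ a b hab c ∈ (SUa φ : Subgroup SLn) :=
          Ym_isU φ hF.inv a b hab (lo_ne_rev ha) (lo_ne_rev hb) c
        refine ⟨hmem, hinf Qm _ hmem (fun r hr => Qm_conj_Ym φ hab ha hb c hr), 2,
          Ym_pow p φ hab (lo_ne_rev ha) (lo_ne_rev hb) c⟩
      unfold hY
      exact Subgroup.mul_mem _ (Subgroup.mul_mem _ (Subgroup.mul_mem _ (h1 i o hio hil hol _)
        (h1 o i hio.symm hol hil _)) (h1 i o hio hil hol _)) (h1 o i hio.symm hol hil _)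
    · have hmem : hl o hoo e lam ∈ (SUa φ : Subgroup SLn) := hl_mem_SUa o hoo hee hlam
      refine ⟨hmem, hDnorm _ (Subgroup.mem_inf.mpr
        ⟨mem_DD.mpr (hl_isDiag o hoo e lam he0 hlam0), hmem⟩),
        Q1 z hzz ⊓ SUa φ, Set.mem_insert _ _, ?_⟩
      apply hl_mem_of (φ := φ) _ o hoo _ _ hee hlam
      · intro c hc
        apply Subgroup.subset_closure
        have hm2 : Zl o hoo c ∈ (SUa φ : Subgroup SLn) := Zl_isU φ o hoo c hc
        refine ⟨hm2, hinf (Q1 z hzz) _ hm2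
          (fun r hr => Q1_conj_tv hzz hoo hozr horz c hr), 1, ?_⟩
        rw [pow_one]
        exact tv_pow_char p o o.rev _ c
      · intro c hc
        apply Subgroup.subset_closure
        have hm2 : Zn o hoo.symm c ∈ (SUa φ : Subgroup SLn) := Zn_isU φ o hoo.symm c hc
        refine ⟨hm2, hinf (Q1 z hzz) _ hm2
          (fun r hr => Q1_conj_tv hzz hoo.symm (rev_ne_rev hzo.symm) hzo.symm c hr), 1, ?_⟩
        rw [pow_one]
        exact tv_pow_char p o.rev o _ c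
    · have he' : φ (-e) = -(-e) - 0 * φ 0 := by
        rw [map_neg, hee, map_zero]
        ring
      have hne : -e ≠ 0 := neg_ne_zero.mpr he0
      have hcz : c ≠ z := by
        intro h
        have h1 := congrArg Fin.val (congrArg Fin.rev h)
        rw [hcc] at h1
        rw [h, Fin.val_rev] at h1
        omega
      have hczr : c ≠ z.rev := by
        intro h
        apply hcz
        rw [← hcc, h, Fin.rev_rev]
      have hmem : nW φ o c hoc hco hoo a b * nW φ o c hoc hco hoo 0 (-e) ∈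
          (SUa φ : Subgroup SLn) :=
        Subgroup.mul_mem _ (nW_mem_SUa hF.inv o c hoc hco hoo hcc a b hb hb0)
          (nW_mem_SUa hF.inv o c hoc hco hoo hcc 0 (-e) he' hne)
      refine ⟨hmem, hDnorm _ (Subgroup.mem_inf.mpr
        ⟨mem_DD.mpr (hm_isDiag φ hF.inv o c hoc hco hoo a b e hb hb0 he0 hee), hmem⟩),
        Q1 z hzz ⊓ SUa φ, Set.mem_insert _ _, ?_⟩
      have hWu : ∀ a' b' : K, φ b' = -b' - a' * φ a' →
          (Wu φ o c hoc hco hoo a' b' : SLn) ∈ Subgroup.closure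
          {w : SLn | w ∈ (SUa φ : Subgroup SLn) ∧
            (∀ r ∈ (Q1 z hzz ⊓ SUa φ : Subgroup SLn),
              w * r * w⁻¹ ∈ (Q1 z hzz ⊓ SUa φ : Subgroup SLn)) ∧
            ∃ k : ℕ, w ^ p ^ k = 1} := by
        intro a' b' hb'
        apply Subgroup.subset_closure
        have hm2 : Wu φ o c hoc hco hoo a' b' ∈ (SUa φ : Subgroup SLn) :=
          Wu_isU φ hF.inv o c hoc hco hoo hcc a' b' hb'
        refine ⟨hm2, hinf (Q1 z hzz) _ hm2 ?_, 2, Wu_pow p φ hoc hco hoo a' b'⟩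
        unfold Wu
        exact conj_mem_of_three
          (fun r hr => Q1_conj_tv hzz hco hczr horz _ hr)
          (fun r hr => Q1_conj_tv hzz hoc hozr hcz _ hr)
          (fun r hr => Q1_conj_tv hzz hoo hozr horz _ hr)
      have hWl : ∀ p' r' : K, φ r' = -r' - p' * φ p' →
          (Wl φ o c hoc.symm hco.symm hoo.symm p' r' : SLn) ∈ Subgroup.closure
          {w : SLn | w ∈ (SUa φ : Subgroup SLn) ∧
            (∀ r ∈ (Q1 z hzz ⊓ SUa φ : Subgroup SLn),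
              w * r * w⁻¹ ∈ (Q1 z hzz ⊓ SUa φ : Subgroup SLn)) ∧
            ∃ k : ℕ, w ^ p ^ k = 1} := by
        intro p' r' hr'
        apply Subgroup.subset_closure
        have hm2 : Wl φ o c hoc.symm hco.symm hoo.symm p' r' ∈ (SUa φ : Subgroup SLn) :=
          Wl_isU φ hF.inv o c hoc.symm hco.symm hoo.symm hcc p' r' hr'
        refine ⟨hm2, hinf (Q1 z hzz) _ hm2 ?_, 2, Wl_pow p φ hoc.symm hco.symm hoo.symm p' r'⟩
        unfold Wl
        exact conj_mem_of_three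
          (fun r hr => Q1_conj_tv hzz hoc.symm hczr hzo.symm _ hr)
          (fun r hr => Q1_conj_tv hzz hco.symm (rev_ne_rev hzo.symm) hcz _ hr)
          (fun r hr => Q1_conj_tv hzz hoo.symm (rev_ne_rev hzo.symm) hzo.symm _ hr)
      exact Subgroup.mul_mem _
        (nW_mem_of hF.inv _ o c hoc hco hoo hWu hWl a b hb hb0)
        (nW_mem_of hF.inv _ o c hoc hco hoo hWu hWl 0 (-e) he' hne)
  have hNp : ∀ g ∈ (SUa φ : Subgroup SLn),
      (∀ u ∈ (UU φ : Subgroup SLn), g * u * g⁻¹ ∈ (UU φ : Subgroup SLn)) →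
      (∀ u ∈ (UU φ : Subgroup SLn), g⁻¹ * u * g ∈ (UU φ : Subgroup SLn)) →
      g ∈ Subgroup.closure (torusY φ o hoo e ∪ ((UU φ : Subgroup SLn) : Set SLn)) := by
    intro g hgS _ h2
    obtain ⟨d, hd, u, hu, hgdu⟩ := decomp_of_upper hgS (upper_of_conj hF h2)
    rw [hgdu]
    apply Subgroup.mul_mem
    · exact Subgroup.closure_mono Set.subset_union_left (HH_le_closure hF hol he0 hee hd)
    · exact Subgroup.subset_closure (Set.mem_union_right _ hu)
  exact SpFus.simple_of_cover_sub (SUa φ) ψ hψsurj hkcψ hkpψ (UU φ) hUK hUp hU1 S hSU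
    (fun T h1 h2 h3 => UU_closed_eq hF p hn T h1 h2 h3)
    {Q1 z hzz ⊓ SUa φ, Qm ⊓ SUa φ} h𝓡 (torusY φ o hoo e) hYp hNp

end Cfsg.Agent.Lib.Helper2.UFus
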