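import Mathlib

/-!
# Generic half of unit UOmega (support for S5388, helper9)

`O` a finite group of order `2N`, `Ω = [O, O]`, `|Ω / Z(Ω)| = N`, `P` a group of order `N` and
`ψ₁ : P →* Ω` injective modulo `Z(Ω)`.  Then `ψ₁` is bijective (so `P ≃* Ω`).
-/

set_option autoImplicit false
set_option linter.style.haveILetI false

namespace Cfsg.Agent.Lib.Helper2.UOmegaUnit

theorem card_commutator_of_card {O P : Type*} [Group O] [Finite O] [Group P]
    (N : ℕ) (hN : 0 < N) (hO : Nat.card O = 2 * N) (hP : Nat.card P = N)
    (hPO : Nat.card (commutator O ⧸ Subgroup.center (commutator O)) = N)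
    (ψ1 : P →* commutator O) (hinj1 : Function.Injective ψ1) :
    Nat.card (commutator O) = N := by
  classical
  have h1 : Nat.card (commutator O) = N * Nat.card (Subgroup.center (commutator O)) := by
    rw [← hPO]; exact Subgroup.card_eq_card_quotient_mul_card_subgroup _
  have h2 : Nat.card (commutator O) ∣ 2 * N := by
    rw [← hO]; exact Subgroup.card_subgroup_dvd_card _
  have h3 : Nat.card (Subgroup.center (commutator O)) ∣ 2 := by
    rw [h1, mul_comm 2 N] at h2
    exact Nat.dvd_of_mul_dvd_mul_left hN h2
  rcases (Nat.dvd_prime Nat.prime_two).mp h3 with h | h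
  · rw [h1, h, mul_one]
  · exfalso
    have hΩc : Nat.card (commutator O) = 2 * N := by rw [h1, h, mul_comm]
    have htop : commutator O = ⊤ := Subgroup.eq_top_of_card_eq _ (by rw [hΩc, hO])
    let S' : Subgroup O := (ψ1.range).map (commutator O).subtype
    have hS' : Nat.card S' = N := by
      have e1 : Nat.card S' = Nat.card ψ1.range :=
        Nat.card_congr ((ψ1.range).equivMapOfInjective _
          (Subgroup.subtype_injective _)).symm.toEquiv
      rw [e1, ← hP]
      exact Nat.card_congr (MonoidHom.ofInjective hinj1).symm.toEquiv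
    have hidx : S'.index = 2 := by
      have h5 := Subgroup.card_mul_index S'
      rw [hS', hO] at h5
      exact Nat.eq_of_mul_eq_mul_left hN (by rw [h5, mul_comm])
    haveI : S'.Normal := Subgroup.normal_of_index_eq_two hidx
    have hq : Nat.card (O ⧸ S') = 2 := hidx
    haveI : Fact (Nat.Prime 2) := ⟨Nat.prime_two⟩
    haveI : IsCyclic (O ⧸ S') := isCyclic_of_prime_card hq
    have hle : commutator O ≤ S' := by
      rw [commutator_def, Subgroup.commutator_le]
      intro a _ b _
      rw [← QuotientGroup.eq_one_iff (N := S')]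
      have hc : ((a : O ⧸ S')) * (b : O ⧸ S') = (b : O ⧸ S') * (a : O ⧸ S') :=
        (IsCyclic.commGroup (α := O ⧸ S')).mul_comm _ _
      rw [commutatorElement_def, QuotientGroup.mk_mul, QuotientGroup.mk_mul, QuotientGroup.mk_mul,
        QuotientGroup.mk_inv, QuotientGroup.mk_inv, hc]
      group
    have h6 : S' = ⊤ := top_le_iff.mp (htop ▸ hle)
    have h7 : S'.index = 1 := by rw [h6]; exact Subgroup.index_top
    omega

/-- Generic half of UOmega. -/
theorem bijective_of_card {O P : Type*} [Group O] [Finite O] [Group P]
    (N : ℕ) (hN : 0 < N) (hO : Nat.card O = 2 * N) (hP : Nat.card P = N)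
    (hPO : Nat.card (commutator O ⧸ Subgroup.center (commutator O)) = N)
    (ψ1 : P →* commutator O)
    (hinj : Function.Injective
      ((QuotientGroup.mk' (Subgroup.center (commutator O))).comp ψ1)) :
    Function.Bijective ψ1 := by
  haveI : Finite P := Nat.finite_of_card_ne_zero (by omega)
  have hinj1 : Function.Injective ψ1 := by
    intro a b hab
    apply hinj
    simp only [MonoidHom.coe_comp, Function.comp_apply, hab]
  have hcard := card_commutator_of_card N hN hO hP hPO ψ1 hinj1
  exact (Nat.bijective_iff_injective_and_card ψ1).mpr ⟨hinj1, by rw [hP, hcard]⟩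

end Cfsg.Agent.Lib.Helper2.UOmegaUnit
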