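import Mathlib
import Cfsg.Prelude
import Cfsg.Agent.Lib.Helper5.HermPerp
import Cfsg.Agent.Lib.Helper5.HermEich
set_option autoImplicit false
set_option maxHeartbeats 1000000
set_option linter.unusedVariables false
set_option linter.unusedSectionVars false
set_option linter.style.longLine false
set_option linter.unusedSimpArgs false
set_option linter.deprecated false
set_option linter.style.haveILetI false

/-! Unitary groups and pairs of complementary totally singular subspaces (part A): eigenspaces
of isometries stabilizing or interchanging the two subspaces. -/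

namespace Cfsg.Agent.Lib.Helper2.Upp

open Module Cfsg Cfsg.Agent.Lib.Helper5.Herm Cfsg.Agent.Lib.Helper5.HermBridge
  Cfsg.Agent.Lib.Helper5.HermPair Cfsg.Agent.Lib.Helper5.HermPerp
  Cfsg.Agent.Lib.Helper5.SUSingularMax Cfsg.Agent.Lib.Helper5.HermEich

variable {F : Type*} [Field F] [Fintype F] {q : ℕ} (hF : Fintype.card F = q ^ 2) {n : ℕ}

/-- a pair of complementary totally singular subspaces -/
structure PolarPair (q : ℕ) (U W : Submodule F (Fin n → F)) : Prop where
  tsU : ∀ u ∈ U, ∀ u' ∈ U, hermForm n F q u u' = 0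
  tsW : ∀ w ∈ W, ∀ w' ∈ W, hermForm n F q w w' = 0
  compl : IsCompl U W

theorem PolarPair.symm {U W : Submodule F (Fin n → F)} (h : PolarPair q U W) :
    PolarPair q W U := ⟨h.tsW, h.tsU, h.compl.symm⟩

theorem hsub_left (u u' v : Fin n → F) :
    hermForm n F q (u - u') v = hermForm n F q u v - hermForm n F q u' v := by
  have h1 := hermForm_add_left n q (u - u') u' v
  rw [sub_add_cancel] at h1
  rw [h1, add_sub_cancel_right]

include hF in
theorem hsub_right (u v v' : Fin n → F) :
    hermForm n F q u (v - v') = hermForm n F q u v - hermForm n F q u v' := by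
  have h1 := hermForm_add_right hF n u (v - v') v'
  rw [sub_add_cancel] at h1
  rw [h1, add_sub_cancel_right]

include hF in
/-- a totally singular subspace has dimension at most `n / 2` -/
theorem ts_finrank_le (U : Submodule F (Fin n → F))
    (hU : ∀ u ∈ U, ∀ u' ∈ U, hermForm n F q u u' = 0) : 2 * finrank F U ≤ n := by
  have h1 : U ≤ perpS hF U := by
    intro u hu
    rw [mem_perpS]
    intro w hw
    exact hU w hw u hu
  have h2 := Submodule.finrank_mono h1
  have h3 := finrank_perpS hF U
  omega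

include hF in
theorem PolarPair.finrank_left {U W : Submodule F (Fin n → F)} (h : PolarPair q U W) :
    2 * finrank F U = n := by
  have h1 := ts_finrank_le hF U h.tsU
  have h2 := ts_finrank_le hF W h.tsW
  have h3 := Submodule.finrank_add_eq_of_isCompl h.compl
  rw [Module.finrank_fintype_fun_eq_card, Fintype.card_fin] at h3
  omega

include hF in
theorem PolarPair.finrank_right {U W : Submodule F (Fin n → F)} (h : PolarPair q U W) :
    2 * finrank F W = n := h.symm.finrank_left hF

theorem mem_ker_sub_smul (Y : Module.End F (Fin n → F)) (lam : F) (v : Fin n → F) :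
    v ∈ LinearMap.ker (Y - lam • 1) ↔ Y v = lam • v := by
  rw [LinearMap.mem_ker, LinearMap.sub_apply, LinearMap.smul_apply, Module.End.one_apply,
    sub_eq_zero]

include hF in
/-- the key inequality between the two halves of an eigenspace -/
theorem finrank_ker_inf_le {U W : Submodule F (Fin n → F)} (hP : PolarPair q U W)
    (Y : Module.End F (Fin n → F))
    (hY : ∀ u v, hermForm n F q (Y u) (Y v) = hermForm n F q u v)
    (hYU : ∀ u ∈ U, Y u ∈ U) (lam : F) (hlam : lam * lam ^ q = 1) :
    finrank F ↥(LinearMap.ker (Y - lam • 1) ⊓ W) ≤ finrank F ↥(LinearMap.ker (Y - lam • 1) ⊓ U) := by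
  classical
  have hlam0 : lam ≠ 0 := by
    rintro rfl
    rw [zero_mul] at hlam
    exact zero_ne_one hlam
  obtain ⟨K, hK⟩ : ∃ K : Submodule F (Fin n → F), K = LinearMap.ker (Y - lam • 1) := ⟨_, rfl⟩
  rw [← hK]
  have memK : ∀ v, v ∈ K ↔ Y v = lam • v := by
    intro v
    rw [hK]
    exact mem_ker_sub_smul Y lam v
  obtain ⟨A, hA⟩ : ∃ A : Submodule F (Fin n → F), A = U.map (Y - lam • 1) := ⟨_, rfl⟩
  have hAU : A ≤ U := by
    rw [hA]
    rintro _ ⟨u, hu, rfl⟩
    rw [LinearMap.sub_apply, LinearMap.smul_apply, Module.End.one_apply]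
    exact U.sub_mem (hYU u hu) (U.smul_mem _ hu)
  -- rank-nullity on `U`
  have hrn : finrank F A + finrank F ↥(K ⊓ U) = finrank F U := by
    have h1 := LinearMap.finrank_range_add_finrank_ker ((Y - lam • 1).domRestrict U)
    rw [LinearMap.range_domRestrict, LinearMap.ker_domRestrict, ← hA, ← hK] at h1
    rw [← Submodule.finrank_map_subtype_eq U (Submodule.comap U.subtype K),
      Submodule.map_comap_subtype, inf_comm] at h1
    exact h1
  -- the perp of `A`
  obtain ⟨P, hPdef⟩ : ∃ P : Submodule F (Fin n → F), P = perpS hF A := ⟨_, rfl⟩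
  have hUP : U ≤ P := by
    intro u hu
    rw [hPdef, mem_perpS]
    intro a ha
    exact hP.tsU a (hAU ha) u hu
  have hfinP : finrank F P + finrank F A = n := by
    rw [hPdef]
    exact finrank_perpS hF A
  have hsup : U ⊔ W ⊓ P = P := by
    rw [← sup_inf_assoc_of_le W hUP, hP.compl.sup_eq_top, top_inf_eq]
  have hinf : U ⊓ (W ⊓ P) = ⊥ := by
    rw [← inf_assoc, hP.compl.inf_eq_bot, bot_inf_eq]
  have hdim : finrank F P = finrank F U + finrank F ↥(W ⊓ P) := by
    have h1 := Submodule.finrank_sup_add_finrank_inf_eq U (W ⊓ P)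
    rw [hsup, hinf, finrank_bot, add_zero] at h1
    exact h1
  -- `K ⊓ W` lies in `W ⊓ P`
  have hle : K ⊓ W ≤ W ⊓ P := by
    intro w hw
    rw [Submodule.mem_inf] at hw
    obtain ⟨hwK, hwW⟩ := hw
    rw [Submodule.mem_inf]
    refine ⟨hwW, ?_⟩
    show w ∈ P
    rw [hPdef, mem_perpS]
    intro a ha
    rw [hA] at ha
    obtain ⟨u, hu, rfl⟩ := ha
    rw [memK] at hwK
    -- `h((Y-λ)u, Yw) = -λ h(u, (Y-λ)w) = 0`
    have h1 : hermForm n F q ((Y - lam • 1) u) (Y w) = 0 := by
      rw [LinearMap.sub_apply, LinearMap.smul_apply, Module.End.one_apply, hsub_left, hY,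
        hermForm_smul_left, hwK, hermForm_smul_right, ← mul_assoc, hlam, one_mul, sub_self]
    rw [hwK, hermForm_smul_right] at h1
    rcases mul_eq_zero.mp h1 with h2 | h2
    · exact absurd (pow_eq_zero_iff (q_ne_zero hF) |>.mp h2) hlam0
    · exact h2
  have h2 := Submodule.finrank_mono hle
  have h3 := hP.finrank_left hF
  omega

include hF in
/-- an isometry stabilizing both members of a polar pair has even-dimensional eigenspaces for
eigenvalues of norm one -/
theorem even_finrank_ker {U W : Submodule F (Fin n → F)} (hP : PolarPair q U W)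
    (Y : Module.End F (Fin n → F))
    (hY : ∀ u v, hermForm n F q (Y u) (Y v) = hermForm n F q u v)
    (hYU : ∀ u ∈ U, Y u ∈ U) (hYW : ∀ w ∈ W, Y w ∈ W) (lam : F) (hlam : lam * lam ^ q = 1) :
    Even (finrank F (LinearMap.ker (Y - lam • 1))) := by
  obtain ⟨K, hK⟩ : ∃ K : Submodule F (Fin n → F), K = LinearMap.ker (Y - lam • 1) := ⟨_, rfl⟩
  have h1 := finrank_ker_inf_le hF hP Y hY hYU lam hlam
  have h2 := finrank_ker_inf_le hF hP.symm Y hY hYW lam hlam
  rw [← hK] at h1 h2 ⊢
  have memK : ∀ v, v ∈ K ↔ Y v = lam • v := by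
    intro v
    rw [hK]
    exact mem_ker_sub_smul Y lam v
  have hsup : (K ⊓ U) ⊔ (K ⊓ W) = K := by
    apply le_antisymm
    · exact sup_le inf_le_left inf_le_left
    · intro v hv
      have hv' : v ∈ U ⊔ W := by
        rw [hP.compl.sup_eq_top]
        exact Submodule.mem_top
      obtain ⟨u, hu, w, hw, rfl⟩ := Submodule.mem_sup.mp hv'
      rw [memK, map_add, smul_add] at hv
      have h3 : Y u - lam • u = -(Y w - lam • w) := by
        rw [neg_sub, sub_eq_sub_iff_add_eq_add, add_comm (lam • w)]
        exact hv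
      have h4 : Y u - lam • u ∈ U ⊓ W := by
        refine ⟨U.sub_mem (hYU u hu) (U.smul_mem _ hu), ?_⟩
        rw [h3]
        exact W.neg_mem (W.sub_mem (hYW w hw) (W.smul_mem _ hw))
      rw [hP.compl.inf_eq_bot, Submodule.mem_bot] at h4
      have h5 : Y w - lam • w = 0 := by
        rw [h4] at h3
        exact neg_eq_zero.mp h3.symm
      apply Submodule.add_mem
      · exact Submodule.mem_sup_left ⟨(memK u).mpr (sub_eq_zero.mp h4), hu⟩
      · exact Submodule.mem_sup_right ⟨(memK w).mpr (sub_eq_zero.mp h5), hw⟩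
  have hinf : (K ⊓ U) ⊓ (K ⊓ W) = ⊥ := by
    rw [eq_bot_iff]
    intro v hv
    have h3 : v ∈ U ⊓ W := ⟨hv.1.2, hv.2.2⟩
    rw [hP.compl.inf_eq_bot] at h3
    exact h3
  have h3 := Submodule.finrank_sup_add_finrank_inf_eq (K ⊓ U) (K ⊓ W)
  rw [hsup, hinf, finrank_bot, add_zero] at h3
  exact ⟨finrank F ↥(K ⊓ U), by omega⟩

include hF in
/-- an injective map interchanging the members of a polar pair has small eigenspaces -/
theorem finrank_ker_le_of_swap {U W : Submodule F (Fin n → F)} (hP : PolarPair q U W)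
    (Y : Module.End F (Fin n → F)) (hinj : Function.Injective Y)
    (hYU : ∀ u ∈ U, Y u ∈ W) (mu : F) :
    2 * finrank F (LinearMap.ker (Y - mu • 1)) ≤ n := by
  have hdisj : Disjoint (LinearMap.ker (Y - mu • 1)) U := by
    rw [Submodule.disjoint_def]
    intro v hvK hvU
    rw [mem_ker_sub_smul] at hvK
    have h1 : Y v ∈ U ⊓ W := ⟨by rw [hvK]; exact U.smul_mem _ hvU, hYU v hvU⟩
    rw [hP.compl.inf_eq_bot, Submodule.mem_bot] at h1
    apply hinj
    rw [h1, map_zero]
  have h1 := Submodule.finrank_add_finrank_le_of_disjoint hdisj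
  rw [Module.finrank_fintype_fun_eq_card, Fintype.card_fin] at h1
  have h2 := hP.finrank_left hF
  omega

/-- an element of odd order cannot interchange the members of a polar pair -/
theorem not_swap_of_odd {U W : Submodule F (Fin n → F)} (hP : PolarPair q U W) (hU0 : U ≠ ⊥)
    (Y : Module.End F (Fin n → F)) (hYU : ∀ u ∈ U, Y u ∈ W) (hYW : ∀ w ∈ W, Y w ∈ U)
    (r : ℕ) (hr : Odd r) (hYr : Y ^ r = 1) : False := by
  have h1 : ∀ j : ℕ, ∀ u ∈ U, (Y ^ (2 * j + 1)) u ∈ W := by
    intro j
    induction j with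
    | zero =>
      intro u hu
      rw [Nat.mul_zero, zero_add, pow_one]
      exact hYU u hu
    | succ j ih =>
      intro u hu
      have h2 : 2 * (j + 1) + 1 = 2 + (2 * j + 1) := by ring
      rw [h2, pow_add, Module.End.mul_apply, pow_two, Module.End.mul_apply]
      exact hYU _ (hYW _ (ih u hu))
  obtain ⟨j, hj⟩ := hr
  obtain ⟨u, hu, hu0⟩ := Submodule.exists_mem_ne_zero_of_ne_bot hU0
  have h2 := h1 j u hu
  rw [← hj, hYr, Module.End.one_apply] at h2
  have h3 : u ∈ U ⊓ W := ⟨hu, h2⟩
  rw [hP.compl.inf_eq_bot, Submodule.mem_bot] at h3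
  exact hu0 h3

end Cfsg.Agent.Lib.Helper2.Upp
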