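import Mathlib
import Cfsg.Prelude
import Cfsg.Agent.Lib.Helper2.UppA
import Cfsg.Agent.Lib.Helper5.SUPairMax
set_option autoImplicit false
set_option maxHeartbeats 1000000
set_option linter.unusedVariables false
set_option linter.unusedSectionVars false
set_option linter.style.longLine false
set_option linter.unusedSimpArgs false
set_option linter.deprecated false
set_option linter.style.haveILetI false

/-! Unitary groups and pairs of complementary totally singular subspaces (part B): isometries from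
Gram matrices, dual frames, transitivity on polar pairs, conjugates in the stabilizer. -/

namespace Cfsg.Agent.Lib.Helper2.Upp

open Module Matrix Cfsg Cfsg.Agent.Lib.Helper5.Herm Cfsg.Agent.Lib.Helper5.HermBridge
  Cfsg.Agent.Lib.Helper5.HermPair Cfsg.Agent.Lib.Helper5.HermPerp
  Cfsg.Agent.Lib.Helper5.SUSingularMax Cfsg.Agent.Lib.Helper5.HermEich
  Cfsg.Agent.Lib.Helper5.SUPairMax

variable {F : Type*} [Field F] [Fintype F] {q : ℕ} (hF : Fintype.card F = q ^ 2) {n : ℕ}

theorem mem_GU_iff' (g : GL (Fin n) F) :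
    g ∈ Cfsg.GU n F q ↔
      ∀ u v, hermForm n F q (g.val *ᵥ u) (g.val *ᵥ v) = hermForm n F q u v := Iff.rfl

theorem mul_mulVec (a b : GL (Fin n) F) (v : Fin n → F) :
    (a * b).val *ᵥ v = a.val *ᵥ (b.val *ᵥ v) := by
  rw [Units.val_mul, Matrix.mulVec_mulVec]

theorem inv_mulVec_mulVec (a : GL (Fin n) F) (v : Fin n → F) :
    (a⁻¹ : GL (Fin n) F).val *ᵥ (a.val *ᵥ v) = v := by
  rw [Matrix.mulVec_mulVec, ← Units.val_mul, inv_mul_cancel, Units.val_one, Matrix.one_mulVec]

theorem mulVec_inv_mulVec (a : GL (Fin n) F) (v : Fin n → F) :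
    a.val *ᵥ ((a⁻¹ : GL (Fin n) F).val *ᵥ v) = v := by
  rw [Matrix.mulVec_mulVec, ← Units.val_mul, mul_inv_cancel, Units.val_one, Matrix.one_mulVec]

include hF in
/-- a linear map preserving the Gram matrix of a basis is an isometry -/
theorem gram_ext {ι : Type*} (b : Basis ι F (Fin n → F))
    (g : (Fin n → F) →ₗ[F] (Fin n → F))
    (hg : ∀ a c, hermForm n F q (g (b a)) (g (b c)) = hermForm n F q (b a) (b c))
    (u v : Fin n → F) : hermForm n F q (g u) (g v) = hermForm n F q u v := by
  have key : ((hermSesq hF n).comp g).compl₂ g = hermSesq hF n := by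
    apply LinearMap.ext_basis b b
    intro a c
    rw [LinearMap.compl₂_apply, LinearMap.comp_apply, hermSesq_apply, hermSesq_apply]
    exact hg c a
  have := LinearMap.congr_fun (LinearMap.congr_fun key v) u
  rwa [LinearMap.compl₂_apply, LinearMap.comp_apply, hermSesq_apply, hermSesq_apply] at this

include hF in
theorem injective_of_isometry (g : (Fin n → F) →ₗ[F] (Fin n → F))
    (hg : ∀ u v, hermForm n F q (g u) (g v) = hermForm n F q u v) : Function.Injective g := by
  rw [← LinearMap.ker_eq_bot, eq_bot_iff]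
  intro x hx
  rw [LinearMap.mem_ker] at hx
  rw [Submodule.mem_bot]
  apply (hermSesq_nondegenerate hF n).1 x
  intro y
  rw [hermSesq_apply, ← hg, hx, hermForm_zero_right hF]

include hF in
/-- a family with the Gram matrix of a basis is the image of the basis under a unitary matrix -/
theorem exists_GU_of_gram {ι : Type*} (b : Basis ι F (Fin n → F)) (b' : ι → (Fin n → F))
    (hg : ∀ a c, hermForm n F q (b' a) (b' c) = hermForm n F q (b a) (b c)) :
    ∃ A : GL (Fin n) F, A ∈ Cfsg.GU n F q ∧ ∀ a, A.val *ᵥ (b a) = b' a := by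
  obtain ⟨g₀, hg₀⟩ : ∃ g₀ : (Fin n → F) →ₗ[F] (Fin n → F), g₀ = b.constr F b' := ⟨_, rfl⟩
  have hgb : ∀ a, g₀ (b a) = b' a := by
    intro a
    rw [hg₀, Basis.constr_basis]
  have hiso₀ := gram_ext hF b g₀ (by
    intro a c
    rw [hgb, hgb]
    exact hg a c)
  have hinj := injective_of_isometry hF g₀ hiso₀
  obtain ⟨A, hA⟩ := exists_GU_of_isometry n (LinearEquiv.ofInjectiveEndo g₀ hinj) (by
    intro u w
    rw [LinearEquiv.coe_ofInjectiveEndo]
    exact hiso₀ u w)
  refine ⟨A.1, A.2, fun a => ?_⟩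
  rw [hA, LinearEquiv.coe_ofInjectiveEndo, hgb]

/-- the basis of the whole space made of bases of two complementary subspaces -/
noncomputable def frameBasis {ι κ : Type*} {U W : Submodule F (Fin n → F)} (hc : IsCompl U W)
    (bU : Basis ι F U) (bW : Basis κ F W) : Basis (ι ⊕ κ) F (Fin n → F) :=
  (bU.prod bW).map (Submodule.prodEquivOfIsCompl U W hc)

theorem frameBasis_inl {ι κ : Type*} {U W : Submodule F (Fin n → F)} (hc : IsCompl U W)
    (bU : Basis ι F U) (bW : Basis κ F W) (i : ι) :
    frameBasis hc bU bW (Sum.inl i) = (bU i : Fin n → F) := by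
  show (Submodule.prodEquivOfIsCompl U W hc) ((bU.prod bW) (Sum.inl i)) = _
  rw [Submodule.coe_prodEquivOfIsCompl', Basis.prod_apply_inl_fst,
    Basis.prod_apply_inl_snd, Submodule.coe_zero, add_zero]

theorem frameBasis_inr {ι κ : Type*} {U W : Submodule F (Fin n → F)} (hc : IsCompl U W)
    (bU : Basis ι F U) (bW : Basis κ F W) (j : κ) :
    frameBasis hc bU bW (Sum.inr j) = (bW j : Fin n → F) := by
  show (Submodule.prodEquivOfIsCompl U W hc) ((bU.prod bW) (Sum.inr j)) = _
  rw [Submodule.coe_prodEquivOfIsCompl', Basis.prod_apply_inr_fst,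
    Basis.prod_apply_inr_snd, Submodule.coe_zero, zero_add]

/-- the Gram matrix of a dual frame -/
def gramStd (F : Type*) [Field F] (k : ℕ) : Fin k ⊕ Fin k → Fin k ⊕ Fin k → F
  | Sum.inl _, Sum.inl _ => 0
  | Sum.inl i, Sum.inr j => if i = j then 1 else 0
  | Sum.inr i, Sum.inl j => if i = j then 1 else 0
  | Sum.inr _, Sum.inr _ => 0

include hF in
theorem dual_symm {k : ℕ} {U W : Submodule F (Fin n → F)}
    (bU : Basis (Fin k) F U) (bW : Basis (Fin k) F W)
    (hd : ∀ i j, hermForm n F q (bU i : Fin n → F) (bW j : Fin n → F) = if i = j then 1 else 0)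
    (i j : Fin k) :
    hermForm n F q (bW i : Fin n → F) (bU j : Fin n → F) = if i = j then 1 else 0 := by
  rw [← hermForm_conj hF, hd]
  by_cases hij : j = i
  · rw [if_pos hij, if_pos hij.symm, one_pow]
  · rw [if_neg hij, if_neg (fun h => hij h.symm), zero_pow (q_ne_zero hF)]

include hF in
theorem frame_gram {k : ℕ} {U W : Submodule F (Fin n → F)} (hP : PolarPair q U W)
    (bU : Basis (Fin k) F U) (bW : Basis (Fin k) F W)
    (hd : ∀ i j, hermForm n F q (bU i : Fin n → F) (bW j : Fin n → F) = if i = j then 1 else 0)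
    (a c : Fin k ⊕ Fin k) :
    hermForm n F q (frameBasis hP.compl bU bW a) (frameBasis hP.compl bU bW c) =
      gramStd F k a c := by
  rcases a with i | i <;> rcases c with j | j
  · rw [frameBasis_inl, frameBasis_inl]
    exact hP.tsU _ (bU i).2 _ (bU j).2
  · rw [frameBasis_inl, frameBasis_inr, hd]
    rfl
  · rw [frameBasis_inr, frameBasis_inl, dual_symm hF bU bW hd]
    rfl
  · rw [frameBasis_inr, frameBasis_inr]
    exact hP.tsW _ (bW i).2 _ (bW j).2

include hF in
/-- the unitary group is transitive on dual frames -/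
theorem exists_GU_frame {k : ℕ} {U W U' W' : Submodule F (Fin n → F)}
    (hP : PolarPair q U W) (hP' : PolarPair q U' W')
    (bU : Basis (Fin k) F U) (bW : Basis (Fin k) F W)
    (hd : ∀ i j, hermForm n F q (bU i : Fin n → F) (bW j : Fin n → F) = if i = j then 1 else 0)
    (bU' : Basis (Fin k) F U') (bW' : Basis (Fin k) F W')
    (hd' : ∀ i j, hermForm n F q (bU' i : Fin n → F) (bW' j : Fin n → F) =
      if i = j then 1 else 0) :
    ∃ A : GL (Fin n) F, A ∈ Cfsg.GU n F q ∧
      (∀ i, A.val *ᵥ (bU i : Fin n → F) = (bU' i : Fin n → F)) ∧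
      (∀ j, A.val *ᵥ (bW j : Fin n → F) = (bW' j : Fin n → F)) := by
  obtain ⟨A, hA, hAb⟩ := exists_GU_of_gram hF (frameBasis hP.compl bU bW)
    (fun a => frameBasis hP'.compl bU' bW' a) (by
      intro a c
      rw [frame_gram hF hP bU bW hd, frame_gram hF hP' bU' bW' hd'])
  refine ⟨A, hA, fun i => ?_, fun j => ?_⟩
  · have := hAb (Sum.inl i)
    rwa [frameBasis_inl, frameBasis_inl] at this
  · have := hAb (Sum.inr j)
    rwa [frameBasis_inr, frameBasis_inr] at this

/-- a linear map sending a basis of `U` into `U'` maps `U` into `U'` -/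
theorem mapsInto_of_basis {ι : Type*} [Fintype ι] {U U' : Submodule F (Fin n → F)}
    (bU : Basis ι F U) (g : (Fin n → F) →ₗ[F] (Fin n → F))
    (h : ∀ i, g (bU i : Fin n → F) ∈ U') : ∀ u ∈ U, g u ∈ U' := by
  intro u hu
  have h1 := bU.sum_repr ⟨u, hu⟩
  have h2 : u = ∑ i, bU.repr ⟨u, hu⟩ i • (bU i : Fin n → F) := by
    have := congrArg Subtype.val h1
    rw [Submodule.coe_sum] at this
    simp only [Submodule.coe_smul] at this
    exact this.symm
  rw [h2, map_sum]
  apply Submodule.sum_mem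
  intro i _
  rw [map_smul]
  exact U'.smul_mem _ (h i)

theorem mapsInto_of_basis' {ι : Type*} [Fintype ι] {U U' : Submodule F (Fin n → F)}
    (bU : Basis ι F U) (A : Matrix (Fin n) (Fin n) F)
    (h : ∀ i, A *ᵥ (bU i : Fin n → F) ∈ U') : ∀ u ∈ U, A *ᵥ u ∈ U' := by
  intro u hu
  have := mapsInto_of_basis bU (Matrix.toLin' A) (by
    intro i
    rw [Matrix.toLin'_apply]
    exact h i) u hu
  rwa [Matrix.toLin'_apply] at this

/-- the inverse of a matrix mapping `U` into `U'` of the same dimension maps `U'` into `U` -/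
theorem inv_mapsInto (g : GL (Fin n) F) (U U' : Submodule F (Fin n → F))
    (hfr : finrank F U = finrank F U') (h : ∀ u ∈ U, g.val *ᵥ u ∈ U') :
    ∀ u' ∈ U', (g⁻¹ : GL (Fin n) F).val *ᵥ u' ∈ U := by
  have hmap : U.map (Matrix.toLin' g.val) = U' := by
    apply Submodule.eq_of_le_of_finrank_eq
    · rintro _ ⟨u, hu, rfl⟩
      rw [Matrix.toLin'_apply]
      exact h u hu
    · rw [← (Submodule.equivMapOfInjective _ (gl_injective g) U).finrank_eq, hfr]
  intro u' hu'
  rw [← hmap] at hu'
  obtain ⟨u, hu, rfl⟩ := hu'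
  rw [Matrix.toLin'_apply, inv_mulVec_mulVec]
  exact hu

/-- the image of a polar pair under a unitary matrix -/
theorem PolarPair.map {U W : Submodule F (Fin n → F)} (hP : PolarPair q U W)
    (g : GL (Fin n) F) (hg : g ∈ Cfsg.GU n F q) :
    PolarPair q (U.map (Matrix.toLin' g.val)) (W.map (Matrix.toLin' g.val)) where
  tsU := by
    rintro _ ⟨u, hu, rfl⟩ _ ⟨u', hu', rfl⟩
    rw [Matrix.toLin'_apply, Matrix.toLin'_apply, (mem_GU_iff' g).mp hg]
    exact hP.tsU u hu u' hu'
  tsW := by
    rintro _ ⟨u, hu, rfl⟩ _ ⟨u', hu', rfl⟩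
    rw [Matrix.toLin'_apply, Matrix.toLin'_apply, (mem_GU_iff' g).mp hg]
    exact hP.tsW u hu u' hu'
  compl := by
    constructor
    · rw [Submodule.disjoint_def]
      rintro _ ⟨u, hu, rfl⟩ ⟨w, hw, hwu⟩
      have h1 : w = u := gl_injective g hwu
      have h2 : u ∈ U ⊓ W := ⟨hu, h1 ▸ hw⟩
      rw [hP.compl.inf_eq_bot, Submodule.mem_bot] at h2
      rw [h2, map_zero]
    · rw [codisjoint_iff, eq_top_iff]
      intro z _
      have hz : (g⁻¹ : GL (Fin n) F).val *ᵥ z ∈ U ⊔ W := by
        rw [hP.compl.sup_eq_top]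
        exact Submodule.mem_top
      obtain ⟨u, hu, w, hw, huw⟩ := Submodule.mem_sup.mp hz
      have h3 : z = Matrix.toLin' g.val u + Matrix.toLin' g.val w := by
        rw [← map_add, huw, Matrix.toLin'_apply, mulVec_inv_mulVec]
      rw [h3]
      exact Submodule.add_mem_sup ⟨u, hu, rfl⟩ ⟨w, hw, rfl⟩

/-- the two members of a decomposition into totally singular subspaces form a polar pair -/
theorem polarPair_of_decomp {D : Fin 2 → Submodule F (Fin n → F)} {k : ℕ}
    (hD : Cfsg.Geo.IsMDecomposition k D)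
    (hDs : ∀ i, Cfsg.Geo.IsTotallySingularFor (hermForm n F q) (D i)) :
    PolarPair q (D 0) (D 1) where
  tsU := hDs 0
  tsW := hDs 1
  compl := by
    constructor
    · exact (iSupIndep_pair (i := (0 : Fin 2)) (j := 1) (by decide) (by decide)).mp hD.indep
    · rw [codisjoint_iff, eq_top_iff, ← hD.iSup_eq_top]
      apply iSup_le
      intro i
      fin_cases i
      · exact le_sup_left
      · exact le_sup_right

include hF in
/-- a polar pair is a decomposition -/
theorem isMDecomposition_of_polarPair {U W : Submodule F (Fin n → F)} (hP : PolarPair q U W)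
    {k : ℕ} (hk : 2 * k = n) (hk0 : 0 < k) : Cfsg.Geo.IsMDecomposition k ![U, W] where
  two_le := le_refl 2
  pos := hk0
  finrank_eq := by
    intro i
    fin_cases i
    · show finrank F U = k
      have := hP.finrank_left hF
      omega
    · show finrank F W = k
      have := hP.finrank_right hF
      omega
  indep := by
    rw [iSupIndep_pair (i := (0 : Fin 2)) (j := 1) (by decide) (by decide)]
    exact hP.compl.disjoint
  iSup_eq_top := by
    rw [eq_top_iff, ← hP.compl.sup_eq_top]
    exact sup_le (le_iSup ![U, W] 0) (le_iSup ![U, W] 1)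

include hF in
/-- dual bases of a polar pair -/
theorem PolarPair.exists_dual_bases {U W : Submodule F (Fin n → F)} (hP : PolarPair q U W)
    {k : ℕ} (hk : 2 * k = n) (hk0 : 0 < k) :
    ∃ (bU : Basis (Fin k) F U) (bW : Basis (Fin k) F W),
      ∀ i j, hermForm n F q (bU i : Fin n → F) (bW j : Fin n → F) = if i = j then 1 else 0 := by
  have hD := isMDecomposition_of_polarPair hF hP hk hk0
  have hts : ∀ i, Cfsg.Geo.IsTotallySingularFor (hermForm n F q) (![U, W] i) := by
    intro i
    fin_cases i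
    · exact hP.tsU
    · exact hP.tsW
  exact Cfsg.Agent.Lib.Helper5.SUPairMax.exists_dual_bases hF hD hts

include hF in
/-- if a conjugate of `x` by a unitary matrix lies in the stabilizer, then `x` fixes or
interchanges the members of a polar pair -/
theorem stab_conj_cases {D : Fin 2 → Submodule F (Fin n → F)} {k : ℕ}
    (hD : Cfsg.Geo.IsMDecomposition k D)
    (hDs : ∀ i, Cfsg.Geo.IsTotallySingularFor (hermForm n F q) (D i))
    (x g : GL (Fin n) F) (hg : g ∈ Cfsg.GU n F q)
    (hy : g⁻¹ * x * g ∈ Cfsg.Geo.decompositionStabilizer D) :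
    ∃ U' W' : Submodule F (Fin n → F), PolarPair q U' W' ∧
      (((∀ u ∈ U', x.val *ᵥ u ∈ U') ∧ (∀ w ∈ W', x.val *ᵥ w ∈ W')) ∨
        ((∀ u ∈ U', x.val *ᵥ u ∈ W') ∧ (∀ w ∈ W', x.val *ᵥ w ∈ U'))) := by
  have hP := polarPair_of_decomp hD hDs
  refine ⟨_, _, hP.map g hg, ?_⟩
  have key : ∀ v, x.val *ᵥ (g.val *ᵥ v) = g.val *ᵥ ((g⁻¹ * x * g).val *ᵥ v) := by
    intro v
    rw [← mul_mulVec, ← mul_mulVec]
    congr 2
    group
  rcases stab_cases _ hy with ⟨h0, h1⟩ | ⟨h0, h1⟩
  · left
    constructor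
    · rintro _ ⟨u, hu, rfl⟩
      rw [Matrix.toLin'_apply, key]
      exact ⟨_, h0 u hu, Matrix.toLin'_apply _ _⟩
    · rintro _ ⟨u, hu, rfl⟩
      rw [Matrix.toLin'_apply, key]
      exact ⟨_, h1 u hu, Matrix.toLin'_apply _ _⟩
  · right
    constructor
    · rintro _ ⟨u, hu, rfl⟩
      rw [Matrix.toLin'_apply, key]
      exact ⟨_, h0 u hu, Matrix.toLin'_apply _ _⟩
    · rintro _ ⟨u, hu, rfl⟩
      rw [Matrix.toLin'_apply, key]
      exact ⟨_, h1 u hu, Matrix.toLin'_apply _ _⟩

end Cfsg.Agent.Lib.Helper2.Upp
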