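import Mathlib
import Cfsg.Prelude
import Cfsg.Agent.Lib.Helper2.UppB
import Cfsg.Agent.Lib.Helper5.HermTv
import Cfsg.Agent.Lib.Helper5.HermGen
import Cfsg.Agent.Lib.Helper5.HermCard
import Cfsg.Agent.Lib.Helper5.HermCount
set_option autoImplicit false
set_option maxHeartbeats 1000000
set_option linter.unusedVariables false
set_option linter.unusedSectionVars false
set_option linter.style.longLine false
set_option linter.unusedSimpArgs false
set_option linter.deprecated false
set_option linter.style.haveILetI false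

/-! Unitary groups and pairs of complementary totally singular subspaces (part D): elements of
prime order with no conjugate in the stabilizer. -/

namespace Cfsg.Agent.Lib.Helper2.Upp

open Module Matrix Cfsg Cfsg.Agent.Lib.Helper5.Herm Cfsg.Agent.Lib.Helper5.HermBridge
  Cfsg.Agent.Lib.Helper5.HermPair Cfsg.Agent.Lib.Helper5.HermPerp
  Cfsg.Agent.Lib.Helper5.SUSingularMax Cfsg.Agent.Lib.Helper5.HermEich
  Cfsg.Agent.Lib.Helper5.SUPairMax Cfsg.Agent.Lib.Helper5.HermCount

variable {F : Type*} [Field F] [Fintype F] {q : ℕ} (hF : Fintype.card F = q ^ 2) {n : ℕ}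

section abstract

theorem finrank_ker_functional (f : (Fin n → F) →ₗ[F] F) (hf : f ≠ 0) :
    finrank F (LinearMap.ker f) + 1 = n := by
  have h1 := LinearMap.finrank_range_add_finrank_ker f
  rw [Module.finrank_fintype_fun_eq_card, Fintype.card_fin] at h1
  have h2 : LinearMap.range f = ⊤ := by
    rw [LinearMap.range_eq_top]
    obtain ⟨v, hv⟩ : ∃ v, f v ≠ 0 := by
      by_contra hcon
      push Not at hcon
      exact hf (LinearMap.ext hcon)
    intro a
    refine ⟨(a / f v) • v, ?_⟩
    rw [map_smul, smul_eq_mul, div_mul_cancel₀ a hv]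
  rw [h2, finrank_top, Module.finrank_self] at h1
  omega

theorem toLin'_isometry (x : GL (Fin n) F) (hx : x ∈ Cfsg.GU n F q) (u v : Fin n → F) :
    hermForm n F q (Matrix.toLin' x.val u) (Matrix.toLin' x.val v) = hermForm n F q u v := by
  rw [Matrix.toLin'_apply, Matrix.toLin'_apply]
  exact (mem_GU_iff' x).mp hx u v

include hF in
/-- an element with an eigenspace of codimension one for an eigenvalue of norm one has no
conjugate in the stabilizer -/
theorem no_conj_hyperplane (hn : 4 ≤ n) (he : Even n)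
    {D : Fin 2 → Submodule F (Fin n → F)} {k : ℕ}
    (hD : Cfsg.Geo.IsMDecomposition k D)
    (hDs : ∀ i, Cfsg.Geo.IsTotallySingularFor (hermForm n F q) (D i))
    (x : GL (Fin n) F) (hx : x ∈ Cfsg.GU n F q)
    (hns : ∀ z : F, x.val ≠ z • (1 : Matrix (Fin n) (Fin n) F))
    (lam : F) (hlam : lam * lam ^ q = 1)
    (f : (Fin n → F) →ₗ[F] F) (hf : f ≠ 0) (hfx : ∀ v, f v = 0 → x.val *ᵥ v = lam • v)
    (g : GL (Fin n) F) (hg : g ∈ Cfsg.GU n F q)
    (hy : g⁻¹ * x * g ∈ Cfsg.Geo.decompositionStabilizer D) : False := by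
  obtain ⟨X, hX⟩ : ∃ X : Module.End F (Fin n → F), X = Matrix.toLin' x.val := ⟨_, rfl⟩
  have hXa : ∀ v, X v = x.val *ᵥ v := by
    intro v
    rw [hX, Matrix.toLin'_apply]
  have hXiso : ∀ u v, hermForm n F q (X u) (X v) = hermForm n F q u v := by
    intro u v
    rw [hX]
    exact toLin'_isometry x hx u v
  have hle : LinearMap.ker f ≤ LinearMap.ker (X - lam • 1) := by
    intro v hv
    rw [LinearMap.mem_ker] at hv
    rw [mem_ker_sub_smul, hXa]
    exact hfx v hv
  have h1 := Submodule.finrank_mono hle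
  have h2 := finrank_ker_functional f hf
  have h3 : finrank F (LinearMap.ker (X - lam • 1)) < n := by
    by_contra hcon
    push Not at hcon
    have h4 : LinearMap.ker (X - lam • 1) = ⊤ := by
      apply Submodule.eq_top_of_finrank_eq
      rw [Module.finrank_fintype_fun_eq_card, Fintype.card_fin]
      have := Submodule.finrank_le (LinearMap.ker (X - lam • 1))
      rw [Module.finrank_fintype_fun_eq_card, Fintype.card_fin] at this
      omega
    apply hns lam
    rw [Matrix.ext_iff_mulVec]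
    intro v
    have hv : v ∈ LinearMap.ker (X - lam • 1) := by
      rw [h4]
      exact Submodule.mem_top
    rw [mem_ker_sub_smul, hXa] at hv
    rw [hv, Matrix.smul_mulVec, Matrix.one_mulVec]
  obtain ⟨U', W', hP', hcases⟩ := stab_conj_cases hF hD hDs x g hg hy
  rcases hcases with ⟨h0, h1'⟩ | ⟨h0, h1'⟩
  · have h5 := even_finrank_ker hF hP' X hXiso (by
      intro u hu
      rw [hXa]
      exact h0 u hu) (by
      intro u hu
      rw [hXa]
      exact h1' u hu) lam hlam
    obtain ⟨a, ha⟩ := he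
    obtain ⟨b, hb⟩ := h5
    omega
  · have h5 := finrank_ker_le_of_swap hF hP' X (by
      rw [hX]
      exact gl_injective x) (by
      intro u hu
      rw [hXa]
      exact h0 u hu) lam
    omega

include hF in
/-- an element of odd order with an eigenspace of odd dimension for an eigenvalue of norm one has
no conjugate in the stabilizer -/
theorem no_conj_odd (hn : 0 < n)
    {D : Fin 2 → Submodule F (Fin n → F)} {k : ℕ}
    (hD : Cfsg.Geo.IsMDecomposition k D)
    (hDs : ∀ i, Cfsg.Geo.IsTotallySingularFor (hermForm n F q) (D i))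
    (x : GL (Fin n) F) (hx : x ∈ Cfsg.GU n F q) (r : ℕ) (hr : Odd r) (hxr : x ^ r = 1)
    (lam : F) (hlam : lam * lam ^ q = 1)
    (hodd : Odd (finrank F (LinearMap.ker (Matrix.toLin' x.val - lam • 1))))
    (g : GL (Fin n) F) (hg : g ∈ Cfsg.GU n F q)
    (hy : g⁻¹ * x * g ∈ Cfsg.Geo.decompositionStabilizer D) : False := by
  obtain ⟨X, hX⟩ : ∃ X : Module.End F (Fin n → F), X = Matrix.toLin' x.val := ⟨_, rfl⟩
  rw [← hX] at hodd
  have hXa : ∀ v, X v = x.val *ᵥ v := by
    intro v
    rw [hX, Matrix.toLin'_apply]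
  have hXiso : ∀ u v, hermForm n F q (X u) (X v) = hermForm n F q u v := by
    intro u v
    rw [hX]
    exact toLin'_isometry x hx u v
  obtain ⟨U', W', hP', hcases⟩ := stab_conj_cases hF hD hDs x g hg hy
  rcases hcases with ⟨h0, h1'⟩ | ⟨h0, h1'⟩
  · have h5 := even_finrank_ker hF hP' X hXiso (by
      intro u hu
      rw [hXa]
      exact h0 u hu) (by
      intro u hu
      rw [hXa]
      exact h1' u hu) lam hlam
    exact (Nat.not_even_iff_odd.mpr hodd) h5
  · have hU0 : U' ≠ ⊥ := by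
      intro h
      have h6 := hP'.finrank_left hF
      rw [h, finrank_bot] at h6
      omega
    have hXr : X ^ r = 1 := by
      rw [hX, ← Matrix.toLin'_pow, ← Units.val_pow_eq_pow_val, hxr, Units.val_one,
        Matrix.toLin'_one]
      rfl
    exact not_swap_of_odd hP' hU0 X (by
      intro u hu
      rw [hXa]
      exact h0 u hu) (by
      intro u hu
      rw [hXa]
      exact h1' u hu) r hr hXr

end abstract

section diag

/-- the dimension of the kernel of a diagonal matrix -/
theorem finrank_ker_diagonal (w : Fin n → F) :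
    finrank F (LinearMap.ker (Matrix.toLin' (Matrix.diagonal w))) =
      Nat.card {i : Fin n // w i = 0} := by
  classical
  rw [Nat.card_eq_fintype_card]
  have h1 := LinearMap.finrank_range_add_finrank_ker (Matrix.toLin' (Matrix.diagonal w))
  rw [Module.finrank_fintype_fun_eq_card, Fintype.card_fin] at h1
  have h2 : finrank F (LinearMap.range (Matrix.toLin' (Matrix.diagonal w))) =
      Fintype.card {i : Fin n // w i ≠ 0} := by
    rw [← Matrix.rank_diagonal w, Matrix.toLin'_apply']
    rfl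
  have h3 := Fintype.card_subtype_compl (fun i : Fin n => w i = 0)
  have h4 := Fintype.card_subtype_le (fun i : Fin n => w i = 0)
  rw [Fintype.card_fin] at h3 h4
  rw [h2] at h1
  have h5 : Fintype.card {i : Fin n // w i ≠ 0} = Fintype.card {i : Fin n // ¬ w i = 0} := rfl
  omega

/-- a diagonal matrix with non-zero entries as an invertible matrix -/
noncomputable def diagGL (d : Fin n → F) (hd : ∀ i, d i ≠ 0) : GL (Fin n) F :=
  ⟨Matrix.diagonal d, Matrix.diagonal (fun i => (d i)⁻¹),
    by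
      rw [Matrix.diagonal_mul_diagonal, ← Matrix.diagonal_one]
      congr 1
      funext i
      exact mul_inv_cancel₀ (hd i),
    by
      rw [Matrix.diagonal_mul_diagonal, ← Matrix.diagonal_one]
      congr 1
      funext i
      exact inv_mul_cancel₀ (hd i)⟩

theorem diagGL_val (d : Fin n → F) (hd : ∀ i, d i ≠ 0) :
    (diagGL d hd).val = Matrix.diagonal d := rfl

theorem diagGL_mulVec (d : Fin n → F) (hd : ∀ i, d i ≠ 0) (v : Fin n → F) (i : Fin n) :
    ((diagGL d hd).val *ᵥ v) i = d i * v i := by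
  rw [diagGL_val, Matrix.mulVec_diagonal]

theorem diagGL_mem_GU (d : Fin n → F) (hd : ∀ i, d i ≠ 0) (hdq : ∀ i, d i * d i ^ q = 1) :
    diagGL d hd ∈ Cfsg.GU n F q := by
  rw [mem_GU_iff']
  intro u v
  unfold hermForm
  apply Finset.sum_congr rfl
  intro i _
  rw [diagGL_mulVec, diagGL_mulVec, mul_pow]
  calc d i * u i * (d i ^ q * v i ^ q) = (d i * d i ^ q) * (u i * v i ^ q) := by ring
    _ = u i * v i ^ q := by rw [hdq, one_mul]

theorem diagGL_mem_SL (d : Fin n → F) (hd : ∀ i, d i ≠ 0) (hdet : ∏ i, d i = 1) :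
    diagGL d hd ∈ Cfsg.Geo.specialLinear (Fin n) F := by
  show Matrix.GeneralLinearGroup.det (diagGL d hd) = 1
  apply Units.ext
  rw [Matrix.GeneralLinearGroup.val_det_apply, Units.val_one, diagGL_val, Matrix.det_diagonal, hdet]

theorem diagGL_pow_val (d : Fin n → F) (hd : ∀ i, d i ≠ 0) (j : ℕ) :
    ((diagGL d hd) ^ j).val = Matrix.diagonal (fun i => d i ^ j) := by
  rw [Units.val_pow_eq_pow_val, diagGL_val, Matrix.diagonal_pow]
  congr 1

theorem diagGL_ker (d : Fin n → F) (hd : ∀ i, d i ≠ 0) (lam : F) :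
    finrank F (LinearMap.ker (Matrix.toLin' (diagGL d hd).val - lam • 1)) =
      Nat.card {i : Fin n // d i = lam} := by
  classical
  have h1 : Matrix.toLin' (diagGL d hd).val - lam • 1 =
      Matrix.toLin' (Matrix.diagonal (fun i => d i - lam)) := by
    apply LinearMap.ext
    intro v
    funext i
    rw [LinearMap.sub_apply, LinearMap.smul_apply, Module.End.one_apply, Matrix.toLin'_apply,
      Matrix.toLin'_apply, Pi.sub_apply, diagGL_mulVec, Matrix.mulVec_diagonal, Pi.smul_apply,
      smul_eq_mul]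
    ring
  rw [h1, finrank_ker_diagonal]
  apply Nat.card_congr
  exact Equiv.subtypeEquivRight (fun i => sub_eq_zero)

end diag

section transvection

open Cfsg.Agent.Lib.Helper5.HermTv

include hF in
/-- a transvection has no conjugate in the stabilizer -/
theorem exists_bad_transvection (hn : 4 ≤ n) (he : Even n)
    {D : Fin 2 → Submodule F (Fin n → F)} {k : ℕ}
    (hD : Cfsg.Geo.IsMDecomposition k D)
    (hDs : ∀ i, Cfsg.Geo.IsTotallySingularFor (hermForm n F q) (D i))
    (p : ℕ) [Fact p.Prime] [CharP F p] :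
    ∃ x : GL (Fin n) F, x ∈ Cfsg.GU n F q ⊓ Cfsg.Geo.specialLinear (Fin n) F ∧
      (∃ z : F, ((x ^ p : GL (Fin n) F) : Matrix (Fin n) (Fin n) F) =
        z • (1 : Matrix (Fin n) (Fin n) F)) ∧
      (∀ z : F, (x : Matrix (Fin n) (Fin n) F) ≠ z • (1 : Matrix (Fin n) (Fin n) F)) ∧
      ∀ g ∈ Cfsg.GU n F q, g⁻¹ * x * g ∉ Cfsg.Geo.decompositionStabilizer D := by
  have hpos : 0 < finrank F (D 0) := by
    rw [hD.finrank_eq]
    exact hD.pos
  obtain ⟨u, hu, hu0⟩ : ∃ u ∈ D 0, u ≠ 0 := by
    have : D 0 ≠ ⊥ := by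
      intro h
      rw [h, finrank_bot] at hpos
      omega
    exact Submodule.exists_mem_ne_zero_of_ne_bot this
  have huu : hermForm n F q u u = 0 := hDs 0 u hu u hu
  obtain ⟨c, hc0, hc⟩ := exists_trace_zero hF
  have hQ : QCond n q u c := (qcond_iso n huu c).mpr hc
  obtain ⟨x, hxdef⟩ : ∃ x : GL (Fin n) F, x = (qtv hF n u c hQ).1 := ⟨_, rfl⟩
  have hxval : x.val = unitaryTransvection n q u c := by
    rw [hxdef]
    rfl
  have hxact : ∀ v, x.val *ᵥ v = v + (c * hermForm n F q v u) • u := by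
    intro v
    rw [hxval]
    exact unitaryTransvection_mulVec n q u c v
  have hxGU : x ∈ Cfsg.GU n F q := by
    rw [hxdef]
    exact (qtv hF n u c hQ).2
  have hnd : ∀ w : Fin n → F, (∀ v, hermForm n F q v w = 0) → w = 0 := by
    intro w hw
    apply (hermSesq_nondegenerate hF n).1 w
    intro y
    rw [hermSesq_apply]
    exact hw y
  have hns : ∀ z : F, x.val ≠ z • (1 : Matrix (Fin n) (Fin n) F) := by
    intro z hz
    have h1 : x.val *ᵥ u = z • u := by
      rw [hz, Matrix.smul_mulVec, Matrix.one_mulVec]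
    rw [hxact, huu, mul_zero, zero_smul, add_zero] at h1
    have h2 : (1 - z) • u = 0 := by
      rw [sub_smul, one_smul, ← h1, sub_self]
    have hz1 : z = 1 := by
      rcases smul_eq_zero.mp h2 with h3 | h3
      · exact (sub_eq_zero.mp h3).symm
      · exact absurd h3 hu0
    apply hu0
    apply hnd
    intro v
    have h3 : x.val *ᵥ v = v := by
      rw [hz, hz1, one_smul, Matrix.one_mulVec]
    rw [hxact] at h3
    have h4 : (c * hermForm n F q v u) • u = 0 := by
      have := congrArg (fun y => y - v) h3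
      simpa using this
    rcases smul_eq_zero.mp h4 with h5 | h5
    · rcases mul_eq_zero.mp h5 with h6 | h6
      · exact absurd h6 hc0
      · exact h6
    · exact absurd h5 hu0
  refine ⟨x, ?_, ?_, hns, ?_⟩
  · rw [Subgroup.mem_inf]
    refine ⟨hxGU, ?_⟩
    show Matrix.GeneralLinearGroup.det x = 1
    apply Units.ext
    rw [Matrix.GeneralLinearGroup.val_det_apply, Units.val_one, hxval,
      Cfsg.Agent.Lib.Helper5.HermGen.det_tv, huu, mul_zero, add_zero]
  · refine ⟨1, ?_⟩
    have hpow : ∀ j : ℕ, (unitaryTransvection n q u c) ^ j =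
        unitaryTransvection n q u (j • c) := by
      intro j
      induction j with
      | zero => rw [pow_zero, zero_smul, tv_zero]
      | succ j ih =>
        rw [pow_succ, ih, tv_mul, huu, mul_zero, add_zero, succ_nsmul]
    rw [Units.val_pow_eq_pow_val, hxval, hpow, one_smul, nsmul_eq_mul, CharP.cast_eq_zero F p,
      zero_mul, tv_zero]
  · intro g hg hy
    refine no_conj_hyperplane hF hn he hD hDs x hxGU hns 1 (by rw [one_pow, mul_one])
      (hermSesq hF n u) ?_ ?_ g hg hy
    · intro h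
      apply hu0
      apply hnd
      intro v
      have := LinearMap.congr_fun h v
      rwa [hermSesq_apply] at this
    · intro v hv
      rw [hermSesq_apply] at hv
      rw [hxact, hv, mul_zero, zero_smul, add_zero, one_smul]

end transvection

section involution

include hF in
theorem two_ne_zero_of_odd (hq : Odd q) : (2 : F) ≠ 0 := by
  intro h2
  have h1 := FiniteField.cast_card_eq_zero F
  rw [hF] at h1
  obtain ⟨t, ht⟩ := hq
  have h3 : q ^ 2 = 2 * (2 * t ^ 2 + 2 * t) + 1 := by
    rw [ht]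
    ring
  rw [h3] at h1
  push_cast at h1
  rw [h2, zero_mul, zero_add] at h1
  exact one_ne_zero h1

include hF in
/-- an element of `Fˣ` of order `d` for `d` dividing `q + 1` -/
theorem exists_orderOf_eq (d : ℕ) (hd : d ∣ q + 1) : ∃ γ : Fˣ, orderOf γ = d := by
  obtain ⟨γ₀, hγ₀⟩ := IsCyclic.exists_ofOrder_eq_natCard (α := Fˣ)
  have hcard : Nat.card Fˣ = (q + 1) * (q - 1) := card_units hF
  have hq := two_le_q hF
  have hcpos : 0 < Nat.card Fˣ := by
    rw [hcard]
    exact Nat.mul_pos (by omega) (by omega)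
  have hdvd : d ∣ Nat.card Fˣ := by
    rw [hcard]
    exact Dvd.dvd.mul_right hd _
  have hd0 : 0 < d := Nat.pos_of_dvd_of_pos hdvd hcpos
  obtain ⟨e, he⟩ := hdvd
  have he0 : e ≠ 0 := by
    rintro rfl
    rw [mul_zero] at he
    omega
  refine ⟨γ₀ ^ e, ?_⟩
  rw [orderOf_pow_of_dvd he0 (by rw [hγ₀, he]; exact Dvd.intro_left _ rfl), hγ₀, he,
    Nat.mul_div_cancel _ (Nat.pos_of_ne_zero he0)]

include hF in
/-- if the 2-part of `q + 1` exceeds that of `n`, a suitable scalar multiple of a reflection has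
no conjugate in the stabilizer -/
theorem exists_bad_involution (hn : 4 ≤ n) (he : Even n)
    {D : Fin 2 → Submodule F (Fin n → F)} {k : ℕ}
    (hD : Cfsg.Geo.IsMDecomposition k D)
    (hDs : ∀ i, Cfsg.Geo.IsTotallySingularFor (hermForm n F q) (D i))
    (hq : Odd q) (hv : padicValNat 2 n < padicValNat 2 (q + 1)) :
    ∃ x : GL (Fin n) F, x ∈ Cfsg.GU n F q ⊓ Cfsg.Geo.specialLinear (Fin n) F ∧
      (∃ z : F, ((x ^ 2 : GL (Fin n) F) : Matrix (Fin n) (Fin n) F) =
        z • (1 : Matrix (Fin n) (Fin n) F)) ∧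
      (∀ z : F, (x : Matrix (Fin n) (Fin n) F) ≠ z • (1 : Matrix (Fin n) (Fin n) F)) ∧
      ∀ g ∈ Cfsg.GU n F q, g⁻¹ * x * g ∉ Cfsg.Geo.decompositionStabilizer D := by
  classical
  have h2F := two_ne_zero_of_odd hF hq
  obtain ⟨a, m, hm, hnam⟩ := Nat.exists_eq_two_pow_mul_odd (n := n) (by omega)
  have ha : a ≤ padicValNat 2 n := (padicValNat_dvd_iff_le (by omega)).mp ⟨m, hnam⟩
  have h2a1 : 2 ^ (a + 1) ∣ q + 1 := (padicValNat_dvd_iff_le (by omega)).mpr (by omega)
  obtain ⟨γ, hγ⟩ := exists_orderOf_eq hF (2 ^ (a + 1)) h2a1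
  obtain ⟨lam, hlamdef⟩ : ∃ lam : F, lam = (γ : F) := ⟨_, rfl⟩
  have hlam0 : lam ≠ 0 := by
    rw [hlamdef]
    exact Units.ne_zero γ
  have hpowu : ∀ j : ℕ, lam ^ j = ((γ ^ j : Fˣ) : F) := by
    intro j
    rw [hlamdef, Units.val_pow_eq_pow_val]
  have hlam_pow : lam ^ (2 ^ (a + 1)) = 1 := by
    rw [hpowu, ← hγ, pow_orderOf_eq_one, Units.val_one]
  have hlam_half : lam ^ (2 ^ a) ≠ 1 := by
    intro h
    have h1 : γ ^ (2 ^ a) = 1 := by
      apply Units.ext
      rw [← hpowu, h, Units.val_one]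
    have h2 := orderOf_dvd_of_pow_eq_one h1
    rw [hγ] at h2
    have h3 := Nat.le_of_dvd (by positivity) h2
    have h4 : 2 ^ a < 2 ^ (a + 1) := Nat.pow_lt_pow_right (by norm_num) (by omega)
    omega
  have heps : lam ^ (2 ^ a) = -1 := by
    have h1 : (lam ^ (2 ^ a) - 1) * (lam ^ (2 ^ a) + 1) = 0 := by
      have : lam ^ (2 ^ (a + 1)) = lam ^ (2 ^ a) * lam ^ (2 ^ a) := by
        rw [← pow_add]
        congr 1
        ring
      rw [this] at hlam_pow
      linear_combination hlam_pow
    rcases mul_eq_zero.mp h1 with h2 | h2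
    · exact absurd (sub_eq_zero.mp h2) hlam_half
    · exact eq_neg_of_add_eq_zero_left h2
  have hlamn : lam ^ n = -1 := by
    rw [hnam, pow_mul, heps, Odd.neg_one_pow hm]
  have hlamq : lam * lam ^ q = 1 := by
    obtain ⟨t, ht⟩ := h2a1
    rw [← pow_succ', ht, pow_mul, hlam_pow, one_pow]
  obtain ⟨i0, hi0⟩ : ∃ i0 : Fin n, i0 = ⟨0, by omega⟩ := ⟨_, rfl⟩
  obtain ⟨i1, hi1⟩ : ∃ i1 : Fin n, i1 = ⟨1, by omega⟩ := ⟨_, rfl⟩
  have hi01 : i1 ≠ i0 := by
    rw [hi0, hi1]
    intro h
    have := congrArg Fin.val h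
    simp at this
  obtain ⟨d, hddef⟩ : ∃ d : Fin n → F, d = fun i => if i = i0 then -lam else lam := ⟨_, rfl⟩
  have hd0' : d i0 = -lam := by
    rw [hddef]
    simp
  have hd1 : ∀ i, i ≠ i0 → d i = lam := by
    intro i hi
    rw [hddef]
    simp [hi]
  have hd : ∀ i, d i ≠ 0 := by
    intro i
    by_cases hi : i = i0
    · rw [hi, hd0']
      exact neg_ne_zero.mpr hlam0
    · rw [hd1 i hi]
      exact hlam0
  have hdq : ∀ i, d i * d i ^ q = 1 := by
    intro i
    by_cases hi : i = i0
    · rw [hi, hd0', pow_q_neg hF, neg_mul_neg]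
      exact hlamq
    · rw [hd1 i hi]
      exact hlamq
  have hdet : ∏ i, d i = 1 := by
    have h1 : ∀ i, d i = lam * (if i = i0 then (-1 : F) else 1) := by
      intro i
      by_cases hi : i = i0
      · rw [hi, hd0', if_pos rfl, mul_neg_one]
      · rw [hd1 i hi, if_neg hi, mul_one]
    rw [Finset.prod_congr rfl (fun i _ => h1 i), Finset.prod_mul_distrib, Finset.prod_const,
      Finset.card_univ, Fintype.card_fin, hlamn, Finset.prod_ite_eq' Finset.univ i0 (fun _ => (-1 : F)),
      if_pos (Finset.mem_univ _), neg_mul_neg, one_mul]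
  have hns : ∀ z : F, (diagGL d hd).val ≠ z • (1 : Matrix (Fin n) (Fin n) F) := by
    intro z hz
    rw [diagGL_val] at hz
    have h0 := congrFun (congrFun hz i0) i0
    have h1 := congrFun (congrFun hz i1) i1
    rw [Matrix.diagonal_apply_eq, Matrix.smul_apply, Matrix.one_apply_eq, smul_eq_mul, mul_one]
      at h0 h1
    rw [hd0'] at h0
    rw [hd1 i1 hi01] at h1
    have h3 : (2 : F) * lam = 0 := by
      rw [two_mul]
      nth_rw 1 [h1]
      rw [← h0, neg_add_cancel]
    rcases mul_eq_zero.mp h3 with h4 | h4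
    · exact h2F h4
    · exact hlam0 h4
  refine ⟨diagGL d hd, ?_, ?_, hns, ?_⟩
  · rw [Subgroup.mem_inf]
    exact ⟨diagGL_mem_GU d hd hdq, diagGL_mem_SL d hd hdet⟩
  · refine ⟨lam * lam, ?_⟩
    rw [diagGL_pow_val, Matrix.smul_one_eq_diagonal]
    congr 1
    funext i
    by_cases hi : i = i0
    · rw [hi, hd0', pow_two, neg_mul_neg]
    · rw [hd1 i hi, pow_two]
  · intro g hg hy
    refine no_conj_hyperplane hF hn he hD hDs (diagGL d hd) (diagGL_mem_GU d hd hdq) hns lam hlamq
      (LinearMap.proj i0) ?_ ?_ g hg hy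
    · intro h
      have := LinearMap.congr_fun h (Pi.single i0 1)
      simp at this
    · intro v hv
      rw [LinearMap.proj_apply] at hv
      funext i
      rw [diagGL_mulVec, Pi.smul_apply, smul_eq_mul]
      by_cases hi : i = i0
      · rw [hi, hv, mul_zero, mul_zero]
      · rw [hd1 i hi]

end involution

section oddDiag

include hF in
/-- if `r` divides `q + 1`, a diagonal element of order `r` has no conjugate in the stabilizer -/
theorem exists_bad_diag (hn : 4 ≤ n)
    {D : Fin 2 → Submodule F (Fin n → F)} {k : ℕ}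
    (hD : Cfsg.Geo.IsMDecomposition k D)
    (hDs : ∀ i, Cfsg.Geo.IsTotallySingularFor (hermForm n F q) (D i))
    (r : ℕ) [Fact r.Prime] (hr2 : r ≠ 2) (hrq : r ∣ q + 1) :
    ∃ x : GL (Fin n) F, x ∈ Cfsg.GU n F q ⊓ Cfsg.Geo.specialLinear (Fin n) F ∧
      (∃ z : F, ((x ^ r : GL (Fin n) F) : Matrix (Fin n) (Fin n) F) =
        z • (1 : Matrix (Fin n) (Fin n) F)) ∧
      (∀ z : F, (x : Matrix (Fin n) (Fin n) F) ≠ z • (1 : Matrix (Fin n) (Fin n) F)) ∧
      ∀ g ∈ Cfsg.GU n F q, g⁻¹ * x * g ∉ Cfsg.Geo.decompositionStabilizer D := by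
  classical
  have hrp : r.Prime := Fact.out
  have hrodd : Odd r := hrp.odd_of_ne_two hr2
  obtain ⟨γ, hγ⟩ := exists_orderOf_eq hF r hrq
  obtain ⟨lam, hlamdef⟩ : ∃ lam : F, lam = (γ : F) := ⟨_, rfl⟩
  have hlam0 : lam ≠ 0 := by
    rw [hlamdef]
    exact Units.ne_zero γ
  have hpowu : ∀ j : ℕ, lam ^ j = ((γ ^ j : Fˣ) : F) := by
    intro j
    rw [hlamdef, Units.val_pow_eq_pow_val]
  have hlamr : lam ^ r = 1 := by
    rw [hpowu, ← hγ, pow_orderOf_eq_one, Units.val_one]
  have hlam1 : lam ≠ 1 := by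
    intro h
    have h1 : γ = 1 := by
      apply Units.ext
      rw [← hlamdef, h, Units.val_one]
    rw [h1, orderOf_one] at hγ
    exact hrp.one_lt.ne hγ
  have hlam2 : lam * lam ≠ 1 := by
    intro h
    have h1 : γ ^ 2 = 1 := by
      apply Units.ext
      rw [← hpowu, pow_two, h, Units.val_one]
    have h2 := orderOf_dvd_of_pow_eq_one h1
    rw [hγ] at h2
    rcases (Nat.dvd_prime Nat.prime_two).mp h2 with h3 | h3
    · exact hrp.one_lt.ne h3.symm
    · exact hr2 h3
  have hlamq : lam * lam ^ q = 1 := by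
    obtain ⟨t, ht⟩ := hrq
    rw [← pow_succ', ht, pow_mul, hlamr, one_pow]
  have hlaminv : lam⁻¹ ≠ lam := by
    intro h
    apply hlam2
    nth_rw 1 [← h]
    exact inv_mul_cancel₀ hlam0
  obtain ⟨i0, hi0⟩ : ∃ i0 : Fin n, i0 = ⟨0, by omega⟩ := ⟨_, rfl⟩
  obtain ⟨i1, hi1⟩ : ∃ i1 : Fin n, i1 = ⟨1, by omega⟩ := ⟨_, rfl⟩
  have hi01 : i1 ≠ i0 := by
    rw [hi0, hi1]
    intro h
    have := congrArg Fin.val h
    simp at this
  obtain ⟨d, hddef⟩ : ∃ d : Fin n → F,
      d = fun i => if i = i0 then lam else if i = i1 then lam⁻¹ else 1 := ⟨_, rfl⟩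
  have hd0' : d i0 = lam := by
    rw [hddef]
    simp
  have hd1' : d i1 = lam⁻¹ := by
    rw [hddef]
    simp [hi01]
  have hd2 : ∀ i, i ≠ i0 → i ≠ i1 → d i = 1 := by
    intro i h0 h1
    rw [hddef]
    simp [h0, h1]
  have hd : ∀ i, d i ≠ 0 := by
    intro i
    by_cases h0 : i = i0
    · rw [h0, hd0']
      exact hlam0
    · by_cases h1 : i = i1
      · rw [h1, hd1']
        exact inv_ne_zero hlam0
      · rw [hd2 i h0 h1]
        exact one_ne_zero
  have hdq : ∀ i, d i * d i ^ q = 1 := by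
    intro i
    by_cases h0 : i = i0
    · rw [h0, hd0']
      exact hlamq
    · by_cases h1 : i = i1
      · rw [h1, hd1', inv_pow, ← mul_inv, hlamq, inv_one]
      · rw [hd2 i h0 h1, one_pow, mul_one]
  have hdet : ∏ i, d i = 1 := by
    rw [Fintype.prod_eq_mul i0 i1 (fun h => hi01 h.symm) (fun i hi => hd2 i hi.1 hi.2), hd0', hd1',
      mul_inv_cancel₀ hlam0]
  have hdr : ∀ i, d i ^ r = 1 := by
    intro i
    by_cases h0 : i = i0
    · rw [h0, hd0']
      exact hlamr
    · by_cases h1 : i = i1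
      · rw [h1, hd1', inv_pow, hlamr, inv_one]
      · rw [hd2 i h0 h1, one_pow]
  have hns : ∀ z : F, (diagGL d hd).val ≠ z • (1 : Matrix (Fin n) (Fin n) F) := by
    intro z hz
    rw [diagGL_val] at hz
    have h0 := congrFun (congrFun hz i0) i0
    have h1 := congrFun (congrFun hz i1) i1
    rw [Matrix.diagonal_apply_eq, Matrix.smul_apply, Matrix.one_apply_eq, smul_eq_mul, mul_one]
      at h0 h1
    rw [hd0'] at h0
    rw [hd1'] at h1
    exact hlaminv (h1.trans h0.symm)
  have hxr : (diagGL d hd) ^ r = 1 := by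
    apply Units.ext
    rw [diagGL_pow_val, Units.val_one, ← Matrix.diagonal_one]
    congr 1
    funext i
    exact hdr i
  refine ⟨diagGL d hd, ?_, ?_, hns, ?_⟩
  · rw [Subgroup.mem_inf]
    exact ⟨diagGL_mem_GU d hd hdq, diagGL_mem_SL d hd hdet⟩
  · refine ⟨1, ?_⟩
    rw [hxr, Units.val_one, one_smul]
  · intro g hg hy
    refine no_conj_odd hF (by omega) hD hDs (diagGL d hd) (diagGL_mem_GU d hd hdq) r hrodd hxr
      lam hlamq ?_ g hg hy
    rw [diagGL_ker]
    have h1 : Nat.card {i : Fin n // d i = lam} = Nat.card {i : Fin n // i = i0} := by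
      apply Nat.card_congr
      apply Equiv.subtypeEquivRight
      intro i
      constructor
      · intro hi
        by_contra h0
        by_cases h1 : i = i1
        · rw [h1, hd1'] at hi
          exact hlaminv hi
        · rw [hd2 i h0 h1] at hi
          exact hlam1 hi.symm
      · intro hi
        rw [hi, hd0']
    rw [h1, Nat.card_eq_fintype_card, Fintype.card_subtype_eq]
    exact odd_one

end oddDiag

section oddBlock

open Cfsg.Agent.Lib.Helper5.HermBlock

theorem blockDiag_mulVec_castAdd (c l : ℕ) (A : Matrix (Fin c) (Fin c) F)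
    (B : Matrix (Fin l) (Fin l) F) (v : Fin (c + l) → F) (i : Fin c) :
    (Cfsg.Agent.Lib.Helper5.HermBlock.blockDiag c l A B *ᵥ v) (Fin.castAdd l i) =
      (A *ᵥ (fun i' => v (Fin.castAdd l i'))) i := by
  unfold Cfsg.Agent.Lib.Helper5.HermBlock.blockDiag
  rw [Matrix.submatrix_mulVec_equiv, Function.comp_apply, finSumFinEquiv_symm_apply_castAdd,
    Matrix.fromBlocks_mulVec, Sum.elim_inl, Matrix.zero_mulVec, add_zero]
  congr 1

theorem blockDiag_mulVec_natAdd (c l : ℕ) (A : Matrix (Fin c) (Fin c) F)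
    (B : Matrix (Fin l) (Fin l) F) (v : Fin (c + l) → F) (j : Fin l) :
    (Cfsg.Agent.Lib.Helper5.HermBlock.blockDiag c l A B *ᵥ v) (Fin.natAdd c j) =
      (B *ᵥ (fun j' => v (Fin.natAdd c j'))) j := by
  unfold Cfsg.Agent.Lib.Helper5.HermBlock.blockDiag
  rw [Matrix.submatrix_mulVec_equiv, Function.comp_apply, finSumFinEquiv_symm_apply_natAdd,
    Matrix.fromBlocks_mulVec, Sum.elim_inr, Matrix.zero_mulVec, zero_add]
  congr 1

include hF in
/-- a matrix of prime order `r` over the field of order `q ^ 2`, of size the order of `q ^ 2`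
modulo `r`, has no non-zero fixed vector -/
theorem fixed_eq_zero (c r : ℕ) [Fact r.Prime] (hrq : ¬ r ∣ q)
    (hord : ∀ j, r ∣ (q ^ 2) ^ j - 1 → c ∣ j)
    (A : Matrix (Fin c) (Fin c) F) (hAr : A ^ r = 1) (hA1 : A ≠ 1) (v : Fin c → F)
    (hv : A *ᵥ v = v) : v = 0 := by
  classical
  have hrp : r.Prime := Fact.out
  obtain ⟨K, hK⟩ : ∃ K : Submodule F (Fin c → F), K = LinearMap.ker (Matrix.toLin' A - 1) :=
    ⟨_, rfl⟩
  have memK : ∀ w, w ∈ K ↔ A *ᵥ w = w := by
    intro w
    rw [hK, LinearMap.mem_ker, LinearMap.sub_apply, Module.End.one_apply, Matrix.toLin'_apply,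
      sub_eq_zero]
  obtain ⟨f, hf⟩ : ∃ f : Function.End (Fin c → F), f = fun w => A *ᵥ w := ⟨_, rfl⟩
  have hfpow : ∀ (j : ℕ) (w : Fin c → F), (f ^ j) w = (A ^ j) *ᵥ w := by
    intro j
    induction j with
    | zero =>
      intro w
      rw [pow_zero, pow_zero, Matrix.one_mulVec]
      rfl
    | succ j ih =>
      intro w
      rw [pow_succ]
      show (f ^ j) (f w) = _
      rw [ih, hf]
      show A ^ j *ᵥ (A *ᵥ w) = _
      rw [Matrix.mulVec_mulVec, pow_succ]
  have hfr : f ^ r ^ 1 = 1 := by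
    funext w
    rw [pow_one, hfpow, hAr, Matrix.one_mulVec]
    rfl
  have hmod := Equiv.Perm.card_fixedPoints_modEq (f := f) (p := r) (n := 1) hfr
  rw [Fintype.card_eq_nat_card, Fintype.card_eq_nat_card] at hmod
  have hcardV : Nat.card (Fin c → F) = (q ^ 2) ^ c := by
    rw [Nat.card_eq_fintype_card, Fintype.card_fun, Fintype.card_fin, hF]
  have hcardK : Nat.card ↑(Function.fixedPoints f) = (q ^ 2) ^ finrank F K := by
    rw [← hF, ← Nat.card_eq_fintype_card (α := F),
      ← Module.natCard_eq_pow_finrank (K := F) (V := K)]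
    apply Nat.card_congr
    apply Equiv.subtypeEquivRight
    intro w
    show f w = w ↔ w ∈ K
    rw [memK, hf]
  rw [hcardV, hcardK] at hmod
  have hdle : finrank F K ≤ c := by
    have := Submodule.finrank_le K
    rwa [Module.finrank_fintype_fun_eq_card, Fintype.card_fin] at this
  have hq1 : 1 ≤ q ^ 2 := by
    have := two_le_q hF
    nlinarith
  have hple : (q ^ 2) ^ finrank F K ≤ (q ^ 2) ^ c := Nat.pow_le_pow_right hq1 hdle
  have h1 : r ∣ (q ^ 2) ^ c - (q ^ 2) ^ finrank F K := (Nat.modEq_iff_dvd' hple).mp hmod.symm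
  have h2 : (q ^ 2) ^ c - (q ^ 2) ^ finrank F K =
      (q ^ 2) ^ finrank F K * ((q ^ 2) ^ (c - finrank F K) - 1) := by
    rw [Nat.mul_sub, mul_one, ← pow_add]
    congr 2
    omega
  rw [h2] at h1
  have h3 : r ∣ (q ^ 2) ^ (c - finrank F K) - 1 := by
    rcases (Nat.Prime.dvd_mul hrp).mp h1 with h4 | h4
    · exact absurd (hrp.dvd_of_dvd_pow (hrp.dvd_of_dvd_pow h4)) hrq
    · exact h4
  have h4 := hord _ h3
  by_cases hd : finrank F K = c
  · exfalso
    apply hA1
    have hKtop : K = ⊤ := by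
      apply Submodule.eq_top_of_finrank_eq
      rw [Module.finrank_fintype_fun_eq_card, Fintype.card_fin, hd]
    rw [Matrix.ext_iff_mulVec]
    intro w
    rw [Matrix.one_mulVec]
    rw [← memK, hKtop]
    exact Submodule.mem_top
  · have h5 : 0 < c - finrank F K := by omega
    have h6 := Nat.le_of_dvd h5 h4
    have h7 : finrank F K = 0 := by omega
    rw [Submodule.finrank_eq_zero] at h7
    have h8 : v ∈ K := (memK v).mpr hv
    rw [h7, Submodule.mem_bot] at h8
    exact h8

/-- the parameter `c`: the order of `q ^ 2` modulo `r` -/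
theorem exists_order_param (r : ℕ) [Fact r.Prime] (hr2 : r ≠ 2) (q c₀ : ℕ) (hq : 1 ≤ q)
    (hc₀ : Odd c₀) (h : r ∣ q ^ c₀ + 1) :
    ∃ c, c ∣ c₀ ∧ r ∣ q ^ c + 1 ∧ ∀ j, r ∣ (q ^ 2) ^ j - 1 → c ∣ j := by
  have hrp : r.Prime := Fact.out
  haveI : Fact (2 < r) := ⟨by
    have := hrp.two_le
    omega⟩
  obtain ⟨a, ha⟩ : ∃ a : ZMod r, a = (q : ZMod r) := ⟨_, rfl⟩
  have h1 : a ^ c₀ = -1 := by
    have := (ZMod.natCast_eq_zero_iff (q ^ c₀ + 1) r).mpr h
    push_cast at this
    rw [← ha] at this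
    exact eq_neg_of_add_eq_zero_left this
  have h2 : (a ^ 2) ^ c₀ = 1 := by
    rw [← pow_mul, mul_comm, pow_mul, h1, neg_one_sq]
  refine ⟨orderOf (a ^ 2), orderOf_dvd_of_pow_eq_one h2, ?_, ?_⟩
  · have h3 : (a ^ orderOf (a ^ 2)) ^ 2 = 1 := by
      rw [← pow_mul, mul_comm, pow_mul, pow_orderOf_eq_one]
    rcases sq_eq_one_iff.mp h3 with h4 | h4
    · exfalso
      obtain ⟨t, ht⟩ := orderOf_dvd_of_pow_eq_one h2
      rw [ht, pow_mul, h4, one_pow] at h1
      exact ZMod.neg_one_ne_one h1.symm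
    · rw [← ZMod.natCast_eq_zero_iff]
      push_cast
      rw [← ha, h4, neg_add_cancel]
  · intro j hj
    apply orderOf_dvd_of_pow_eq_one
    have h5 : 1 ≤ (q ^ 2) ^ j := Nat.one_le_pow _ _ (by positivity)
    have := (ZMod.natCast_eq_zero_iff ((q ^ 2) ^ j - 1) r).mpr hj
    rw [Nat.cast_sub h5] at this
    push_cast at this
    rw [← ha] at this
    exact sub_eq_zero.mp this

include hF in
/-- a block element of order `r` with fixed space of odd dimension has no conjugate in the
stabilizer -/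
theorem exists_bad_block (c l : ℕ) (hc : Odd c) (hl : Odd l)
    {D : Fin 2 → Submodule F (Fin (c + l) → F)} {k : ℕ}
    (hD : Cfsg.Geo.IsMDecomposition k D)
    (hDs : ∀ i, Cfsg.Geo.IsTotallySingularFor (hermForm (c + l) F q) (D i))
    (r : ℕ) [Fact r.Prime] (hr2 : r ≠ 2) (hrq : ¬ r ∣ q) (hrq1 : ¬ r ∣ q + 1)
    (hrc : r ∣ q ^ c + 1) (hord : ∀ j, r ∣ (q ^ 2) ^ j - 1 → c ∣ j) :
    ∃ x : GL (Fin (c + l)) F,
      x ∈ Cfsg.GU (c + l) F q ⊓ Cfsg.Geo.specialLinear (Fin (c + l)) F ∧
      (∃ z : F, ((x ^ r : GL (Fin (c + l)) F) : Matrix (Fin (c + l)) (Fin (c + l)) F) =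
        z • (1 : Matrix (Fin (c + l)) (Fin (c + l)) F)) ∧
      (∀ z : F, (x : Matrix (Fin (c + l)) (Fin (c + l)) F) ≠
        z • (1 : Matrix (Fin (c + l)) (Fin (c + l)) F)) ∧
      ∀ g ∈ Cfsg.GU (c + l) F q, g⁻¹ * x * g ∉ Cfsg.Geo.decompositionStabilizer D := by
  classical
  have hrp : r.Prime := Fact.out
  have hrodd : Odd r := hrp.odd_of_ne_two hr2
  have hc1 : 1 ≤ c := by
    obtain ⟨t, ht⟩ := hc
    omega
  have hl1 : 1 ≤ l := by
    obtain ⟨t, ht⟩ := hl
    omega
  have h1 : r ∣ Nat.card ↥(Cfsg.GU c F q) := by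
    rw [Cfsg.Agent.Lib.Helper5.HermCard.card_GU hF c]
    apply Dvd.dvd.mul_left
    have hmem : c - 1 ∈ Finset.range c := by
      rw [Finset.mem_range]
      omega
    have h2 := Finset.dvd_prod_of_mem
      (fun i => if Even i then q ^ (i + 1) + 1 else q ^ (i + 1) - 1) hmem
    refine dvd_trans ?_ h2
    have h3 : Even (c - 1) := by
      obtain ⟨t, ht⟩ := hc
      exact ⟨t, by omega⟩
    show r ∣ (if Even (c - 1) then q ^ (c - 1 + 1) + 1 else q ^ (c - 1 + 1) - 1)
    rw [if_pos h3, Nat.sub_add_cancel hc1]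
    exact hrc
  obtain ⟨g, hg⟩ := exists_prime_orderOf_dvd_card' r h1
  obtain ⟨A, hA⟩ : ∃ A : Matrix (Fin c) (Fin c) F, A = g.1.val := ⟨_, rfl⟩
  have hgr : g.1 ^ r = 1 := by
    have h2 := pow_orderOf_eq_one g
    rw [hg] at h2
    have h3 := congrArg Subtype.val h2
    rwa [Subgroup.coe_pow, Subgroup.coe_one] at h3
  have hAr : A ^ r = 1 := by
    rw [hA, ← Units.val_pow_eq_pow_val, hgr, Units.val_one]
  have hA1 : A ≠ 1 := by
    intro h
    have h2 : g = 1 := by
      apply Subtype.ext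
      apply Units.ext
      rw [← hA, h]
      rfl
    rw [h2, orderOf_one] at hg
    exact hrp.one_lt.ne hg
  have hfix := fixed_eq_zero hF c r hrq hord A hAr hA1
  have hdetA : A.det = 1 := by
    have h2 : A.det ^ r = 1 := by
      rw [← Matrix.det_pow, hAr, Matrix.det_one]
    have h3 : A.det ^ (q + 1) = 1 := by
      have h4 := Cfsg.Agent.Lib.Helper5.HermCard.detGU_mem_ker hF g
      rw [MonoidHom.mem_ker] at h4
      have h5 : (Cfsg.Agent.Lib.Helper5.HermCard.detGU F q c g) ^ (q + 1) = 1 := h4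
      have h6 := congrArg Units.val h5
      rwa [Units.val_pow_eq_pow_val, Cfsg.Agent.Lib.Helper5.HermCard.detGU_val, Units.val_one,
        ← hA] at h6
    have h5 : A.det ^ (Nat.gcd r (q + 1)) = 1 := pow_gcd_eq_one.mpr ⟨h2, h3⟩
    have h6 : Nat.gcd r (q + 1) = 1 := (Nat.Prime.coprime_iff_not_dvd hrp).mpr hrq1
    rwa [h6, pow_one] at h5
  obtain ⟨y, hydef⟩ : ∃ y : GL (Fin (c + l)) F, y = blockGL c l (g.1, 1) := ⟨_, rfl⟩
  have hyval : y.val = Cfsg.Agent.Lib.Helper5.HermBlock.blockDiag c l A 1 := by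
    rw [hydef, blockGL_val, hA]
    rfl
  have hyGU : y ∈ Cfsg.GU (c + l) F q := by
    rw [hydef]
    exact blockGL_mem_GU hF c l (g.1, 1) g.2 (Subgroup.one_mem _)
  have hyr : y ^ r = 1 := by
    rw [hydef, ← map_pow, Prod.pow_mk, hgr, one_pow, ← Prod.one_eq_mk, map_one]
  have hydet : y.val.det = 1 := by
    rw [hyval]
    unfold Cfsg.Agent.Lib.Helper5.HermBlock.blockDiag
    rw [Matrix.det_submatrix_equiv_self, Matrix.det_fromBlocks_zero₁₂, hdetA, Matrix.det_one,
      one_mul]
  have hact1 : ∀ (v : Fin (c + l) → F) (i : Fin c),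
      (y.val *ᵥ v) (Fin.castAdd l i) = (A *ᵥ fun i' => v (Fin.castAdd l i')) i := by
    intro v i
    rw [hyval]
    exact blockDiag_mulVec_castAdd c l A 1 v i
  have hact2 : ∀ (v : Fin (c + l) → F) (j : Fin l),
      (y.val *ᵥ v) (Fin.natAdd c j) = v (Fin.natAdd c j) := by
    intro v j
    rw [hyval, blockDiag_mulVec_natAdd, Matrix.one_mulVec]
  have hsplit : ∀ i : Fin (c + l), (∃ i' : Fin c, i = Fin.castAdd l i') ∨
      (∃ j : Fin l, i = Fin.natAdd c j) := by
    intro i
    by_cases hi : i.val < c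
    · left
      exact ⟨⟨i.val, hi⟩, Fin.ext rfl⟩
    · right
      refine ⟨⟨i.val - c, by have := i.2; omega⟩, Fin.ext ?_⟩
      rw [Fin.natAdd_mk]
      show i.val = c + (i.val - c)
      omega
  obtain ⟨w, hw⟩ : ∃ w : Fin (c + l) → F, w = fun i => if i.val < c then 1 else 0 := ⟨_, rfl⟩
  have hw0 : ∀ i, w i = 0 ↔ c ≤ i.val := by
    intro i
    rw [hw]
    by_cases hi : i.val < c
    · simp [hi]
    · simp [hi]
      omega
  have hker : LinearMap.ker (Matrix.toLin' y.val - (1 : F) • 1) =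
      LinearMap.ker (Matrix.toLin' (Matrix.diagonal w)) := by
    ext v
    rw [mem_ker_sub_smul, LinearMap.mem_ker, Matrix.toLin'_apply, Matrix.toLin'_apply, one_smul]
    constructor
    · intro hv
      have ha : (fun i' => v (Fin.castAdd l i')) = 0 := by
        apply hfix
        funext i
        rw [← hact1, hv]
      funext i
      rw [Matrix.mulVec_diagonal, Pi.zero_apply]
      by_cases hi : i.val < c
      · have h2 : i = Fin.castAdd l ⟨i.val, hi⟩ := Fin.ext rfl
        have h3 := congrFun ha ⟨i.val, hi⟩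
        rw [Pi.zero_apply] at h3
        rw [h2, h3, mul_zero]
      · have h2 : w i = 0 := (hw0 i).mpr (by omega)
        rw [h2, zero_mul]
    · intro hv
      have ha : ∀ i' : Fin c, v (Fin.castAdd l i') = 0 := by
        intro i'
        have h2 := congrFun hv (Fin.castAdd l i')
        rw [Matrix.mulVec_diagonal, Pi.zero_apply] at h2
        rcases mul_eq_zero.mp h2 with h3 | h3
        · have h4 := (hw0 _).mp h3
          rw [Fin.val_castAdd] at h4
          have := i'.2
          omega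
        · exact h3
      funext i
      rcases hsplit i with ⟨i', rfl⟩ | ⟨j, rfl⟩
      · have h2 : (fun i'' => v (Fin.castAdd l i'')) = 0 := funext ha
        rw [hact1, ha i', h2, Matrix.mulVec_zero]
        rfl
      · rw [hact2]
  have hfin : finrank F (LinearMap.ker (Matrix.toLin' y.val - (1 : F) • 1)) = l := by
    rw [hker, finrank_ker_diagonal]
    have h2 : Nat.card {i : Fin (c + l) // w i = 0} = Nat.card (Fin l) := by
      apply Nat.card_congr
      exact
        { toFun := fun i => ⟨i.1.val - c, by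
            have h3 := (hw0 i.1).mp i.2
            have h4 := i.1.2
            omega⟩
          invFun := fun j => ⟨Fin.natAdd c j, by
            rw [hw0, Fin.val_natAdd]
            omega⟩
          left_inv := by
            intro i
            apply Subtype.ext
            apply Fin.ext
            have h3 := (hw0 i.1).mp i.2
            show c + (i.1.val - c) = i.1.val
            omega
          right_inv := by
            intro j
            apply Fin.ext
            show c + j.val - c = j.val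
            omega }
    rw [h2, Nat.card_eq_fintype_card, Fintype.card_fin]
  have hns : ∀ z : F, y.val ≠ z • (1 : Matrix (Fin (c + l)) (Fin (c + l)) F) := by
    intro z hz
    have h2 : Matrix.toLin' y.val - (1 : F) • 1 =
        (z - 1) • (1 : Module.End F (Fin (c + l) → F)) := by
      apply LinearMap.ext
      intro v
      rw [LinearMap.sub_apply, Matrix.toLin'_apply, hz, Matrix.smul_mulVec, Matrix.one_mulVec,
        LinearMap.smul_apply, LinearMap.smul_apply, Module.End.one_apply, sub_smul]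
    rw [h2] at hfin
    by_cases hz1 : z = 1
    · rw [hz1, sub_self, zero_smul, LinearMap.ker_zero, finrank_top,
        Module.finrank_fintype_fun_eq_card, Fintype.card_fin] at hfin
      omega
    · rw [LinearMap.ker_smul _ _ (sub_ne_zero.mpr hz1), Module.End.one_eq_id, LinearMap.ker_id,
        finrank_bot] at hfin
      omega
  refine ⟨y, ?_, ?_, hns, ?_⟩
  · rw [Subgroup.mem_inf]
    refine ⟨hyGU, ?_⟩
    show Matrix.GeneralLinearGroup.det y = 1
    apply Units.ext
    rw [Matrix.GeneralLinearGroup.val_det_apply, Units.val_one, hydet]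
  · refine ⟨1, ?_⟩
    rw [hyr, Units.val_one, one_smul]
  · intro g' hg' hy
    refine no_conj_odd hF (by omega) hD hDs y hyGU r hrodd hyr 1 (by rw [one_pow, mul_one]) ?_
      g' hg' hy
    rw [hfin]
    exact hl

end oddBlock

end Cfsg.Agent.Lib.Helper2.Upp
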