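import Mathlib
import Cfsg.Prelude
import Cfsg.Agent.Lib.Helper2.UppD
import Cfsg.Agent.Lib.Helper5.HermParabolicDet
import Cfsg.Agent.Lib.Helper5.HermBasis
import Cfsg.Agent.Lib.Helper5.HermFrames
set_option autoImplicit false
set_option maxHeartbeats 1000000
set_option linter.unusedVariables false
set_option linter.unusedSectionVars false
set_option linter.style.longLine false
set_option linter.unusedSimpArgs false
set_option linter.deprecated false
set_option linter.style.haveILetI false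

/-! Unitary groups and pairs of complementary totally singular subspaces (part E): elements
stabilizing a polar pair are conjugate into the stabilizer; involutions modulo scalars. -/

namespace Cfsg.Agent.Lib.Helper2.Upp

open Module Matrix Cfsg Cfsg.Agent.Lib.Helper5.Herm Cfsg.Agent.Lib.Helper5.HermBridge
  Cfsg.Agent.Lib.Helper5.HermPair Cfsg.Agent.Lib.Helper5.HermPerp
  Cfsg.Agent.Lib.Helper5.SUSingularMax Cfsg.Agent.Lib.Helper5.HermEich
  Cfsg.Agent.Lib.Helper5.SUPairMax Cfsg.Agent.Lib.Helper5.HermCount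
  Cfsg.Agent.Lib.Helper5.HermParabolicDet

variable {F : Type*} [Field F] [Fintype F] {q : ℕ} (hF : Fintype.card F = q ^ 2) {n : ℕ}

section conj

include hF in
theorem det_mul_det_pow (A : GL (Fin n) F) (hA : A ∈ Cfsg.GU n F q) :
    A.val.det * A.val.det ^ q = 1 := by
  have h4 := Cfsg.Agent.Lib.Helper5.HermCard.detGU_mem_ker hF (⟨A, hA⟩ : ↥(Cfsg.GU n F q))
  rw [MonoidHom.mem_ker] at h4
  have h5 : (Cfsg.Agent.Lib.Helper5.HermCard.detGU F q n ⟨A, hA⟩) ^ (q + 1) = 1 := h4
  have h6 := congrArg Units.val h5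
  rw [Units.val_pow_eq_pow_val, Cfsg.Agent.Lib.Helper5.HermCard.detGU_val, Units.val_one] at h6
  rw [← pow_succ']
  exact h6

include hF in
/-- an element stabilizing both members of a polar pair has a conjugate, under the special
unitary group, in the stabilizer of the given decomposition -/
theorem exists_conj_of_stable {D : Fin 2 → Submodule F (Fin n → F)} {k : ℕ}
    (hk : 2 * k = n) (hD : Cfsg.Geo.IsMDecomposition k D)
    (hDs : ∀ i, Cfsg.Geo.IsTotallySingularFor (hermForm n F q) (D i))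
    (x : GL (Fin n) F) {U' W' : Submodule F (Fin n → F)} (hP' : PolarPair q U' W')
    (hxU : ∀ u ∈ U', x.val *ᵥ u ∈ U') (hxW : ∀ w ∈ W', x.val *ᵥ w ∈ W') :
    ∃ g ∈ Cfsg.GU n F q ⊓ Cfsg.Geo.specialLinear (Fin n) F,
      g⁻¹ * x * g ∈ Cfsg.Geo.decompositionStabilizer D := by
  classical
  have hP := polarPair_of_decomp hD hDs
  obtain ⟨bU, bW, hd⟩ := Cfsg.Agent.Lib.Helper5.SUPairMax.exists_dual_bases hF hD hDs
  obtain ⟨bU', bW', hd'⟩ := hP'.exists_dual_bases hF hk hD.pos
  obtain ⟨A, hAGU, hAU, hAW⟩ := exists_GU_frame hF hP hP' bU bW hd bU' bW' hd'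
  have hAU' : ∀ u ∈ D 0, A.val *ᵥ u ∈ U' := mapsInto_of_basis' bU A.val (by
    intro i
    rw [hAU]
    exact (bU' i).2)
  have hAW' : ∀ w ∈ D 1, A.val *ᵥ w ∈ W' := mapsInto_of_basis' bW A.val (by
    intro i
    rw [hAW]
    exact (bW' i).2)
  have hfrU : finrank F (D 0) = finrank F U' := by
    have h1 := hP.finrank_left hF
    have h2 := hP'.finrank_left hF
    omega
  have hfrW : finrank F (D 1) = finrank F W' := by
    have h1 := hP.finrank_right hF
    have h2 := hP'.finrank_right hF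
    omega
  have hAiU := inv_mapsInto A (D 0) U' hfrU hAU'
  have hAiW := inv_mapsInto A (D 1) W' hfrW hAW'
  -- the determinant correction
  have hdd := det_mul_det_pow hF A hAGU
  obtain ⟨μ, hμ0, hμ⟩ := exists_div_pow_eq hF A.val.det hdd
  obtain ⟨i₀, -⟩ : ∃ i₀ : Fin k, i₀ = ⟨0, hD.pos⟩ := ⟨_, rfl⟩
  obtain ⟨w, hwdef⟩ : ∃ w : Fin n → F, w = (bU i₀ : Fin n → F) := ⟨_, rfl⟩
  obtain ⟨w', hw'def⟩ : ∃ w' : Fin n → F, w' = (bW i₀ : Fin n → F) := ⟨_, rfl⟩
  have hwU : w ∈ D 0 := by
    rw [hwdef]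
    exact (bU i₀).2
  have hw'W : w' ∈ D 1 := by
    rw [hw'def]
    exact (bW i₀).2
  have hww : hermForm n F q w w = 0 := hDs 0 w hwU w hwU
  have hw'w' : hermForm n F q w' w' = 0 := hDs 1 w' hw'W w' hw'W
  have hww' : hermForm n F q w w' = 1 := by
    rw [hwdef, hw'def, hd, if_pos rfl]
  have hw'w : hermForm n F q w' w = 1 := by
    rw [← hermForm_conj hF, hww', one_pow]
  have hμq0 : μ ^ q ≠ 0 := pow_ne_zero _ hμ0
  have e1 : μ ^ q * (μ⁻¹) ^ q = 1 := by
    rw [← mul_pow, mul_inv_cancel₀ hμ0, one_pow]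
  have hdet : (hyp n q w w' (μ ^ q) μ⁻¹).det = μ ^ q * μ⁻¹ := det_hyp n q w w' _ _ hww' hw'w
  have hdet0 : (hyp n q w w' (μ ^ q) μ⁻¹).det ≠ 0 := by
    rw [hdet]
    exact mul_ne_zero hμq0 (inv_ne_zero hμ0)
  obtain ⟨s, hsdef⟩ : ∃ s : GL (Fin n) F,
      s = Matrix.GeneralLinearGroup.mkOfDetNeZero (hyp n q w w' (μ ^ q) μ⁻¹) hdet0 := ⟨_, rfl⟩
  have hsval : s.val = hyp n q w w' (μ ^ q) μ⁻¹ := by
    rw [hsdef]
    rfl
  have hsGU : s ∈ Cfsg.GU n F q := by
    rw [mem_GU_iff']
    intro u v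
    rw [hsval]
    exact hyp_isometry hF n w w' _ _ hww hw'w' hww' e1 u v
  have hsact : ∀ v, s.val *ᵥ v = v + ((μ ^ q - 1) * hermForm n F q v w') • w +
      ((μ⁻¹ - 1) * hermForm n F q v w) • w' := by
    intro v
    rw [hsval]
    exact hyp_mulVec n q w w' _ _ hw'w' v
  have hsU : ∀ u ∈ D 0, s.val *ᵥ u ∈ D 0 := by
    intro u hu
    rw [hsact, hDs 0 u hu w hwU, mul_zero, zero_smul, add_zero]
    exact (D 0).add_mem hu ((D 0).smul_mem _ hwU)
  have hsW : ∀ u ∈ D 1, s.val *ᵥ u ∈ D 1 := by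
    intro u hu
    rw [hsact, hDs 1 u hu w' hw'W, mul_zero, zero_smul, add_zero]
    exact (D 1).add_mem hu ((D 1).smul_mem _ hw'W)
  have hsiU := inv_mapsInto s (D 0) (D 0) rfl hsU
  have hsiW := inv_mapsInto s (D 1) (D 1) rfl hsW
  refine ⟨A * s, ?_, ?_⟩
  · rw [Subgroup.mem_inf]
    refine ⟨Subgroup.mul_mem _ hAGU hsGU, ?_⟩
    show Matrix.GeneralLinearGroup.det (A * s) = 1
    apply Units.ext
    rw [Matrix.GeneralLinearGroup.val_det_apply, Units.val_one, Units.val_mul, Matrix.det_mul,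
      hsval, hdet]
    calc A.val.det * (μ ^ q * μ⁻¹) = (A.val.det * μ ^ q) * μ⁻¹ := by ring
      _ = 1 := by rw [hμ, mul_inv_cancel₀ hμ0]
  · have hact : ∀ v, ((A * s)⁻¹ * x * (A * s)).val *ᵥ v =
        (s⁻¹ : GL (Fin n) F).val *ᵥ ((A⁻¹ : GL (Fin n) F).val *ᵥ
          (x.val *ᵥ (A.val *ᵥ (s.val *ᵥ v)))) := by
      intro v
      rw [_root_.mul_inv_rev, mul_mulVec, mul_mulVec, mul_mulVec, mul_mulVec]
    apply mem_stab_of_fix hD
    · intro u hu
      rw [hact]
      exact hsiU _ (hAiU _ (hxU _ (hAU' _ (hsU u hu))))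
    · intro u hu
      rw [hact]
      exact hsiW _ (hAiW _ (hxW _ (hAW' _ (hsW u hu))))

end conj

section sup

include hF in
/-- two totally singular subspaces spanning the whole space form a polar pair -/
theorem polarPair_of_sup {U W : Submodule F (Fin n → F)}
    (hU : ∀ u ∈ U, ∀ u' ∈ U, hermForm n F q u u' = 0)
    (hW : ∀ w ∈ W, ∀ w' ∈ W, hermForm n F q w w' = 0) (hsup : U ⊔ W = ⊤) :
    PolarPair q U W where
  tsU := hU
  tsW := hW
  compl := by
    constructor
    · rw [disjoint_iff]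
      have h1 := Submodule.finrank_sup_add_finrank_inf_eq U W
      rw [hsup, finrank_top, Module.finrank_fintype_fun_eq_card, Fintype.card_fin] at h1
      have h2 := ts_finrank_le hF U hU
      have h3 := ts_finrank_le hF W hW
      have h4 : finrank F ↥(U ⊓ W) = 0 := by omega
      rwa [Submodule.finrank_eq_zero] at h4
    · rw [codisjoint_iff]
      exact hsup

end sup

section arith

/-- an element of norm one whose `n`-th power is `-1` forces the 2-part of `q + 1` to exceed
that of `n` -/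
theorem no_neg_one (hn : n ≠ 0) (h2 : (2 : F) ≠ 0) (lam : F) (hlam : lam * lam ^ q = 1)
    (hlamn : lam ^ n = -1) (hv : padicValNat 2 (q + 1) ≤ padicValNat 2 n) : False := by
  have h1 : lam ^ (q + 1) = 1 := by
    rw [pow_succ']
    exact hlam
  have h3 : lam ^ (2 * n) = 1 := by
    rw [mul_comm, pow_mul, hlamn, neg_one_sq]
  have ho1 : orderOf lam ∣ q + 1 := orderOf_dvd_of_pow_eq_one h1
  have ho2 : orderOf lam ∣ 2 * n := orderOf_dvd_of_pow_eq_one h3
  have ho0 : orderOf lam ≠ 0 := by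
    intro h
    rw [h] at ho1
    have := Nat.eq_zero_of_zero_dvd ho1
    omega
  obtain ⟨e, m, hm, ho⟩ := Nat.exists_eq_two_pow_mul_odd ho0
  have h4 : 2 ^ e ∣ q + 1 := dvd_trans ⟨m, ho⟩ ho1
  have h5 : e ≤ padicValNat 2 (q + 1) := (padicValNat_dvd_iff_le (by omega)).mp h4
  have h6 : 2 ^ e ∣ n := (padicValNat_dvd_iff_le hn).mpr (by omega)
  have h7 : m ∣ 2 * n := dvd_trans ⟨2 ^ e, by rw [ho]; ring⟩ ho2
  have h8 : Nat.Coprime m 2 := Nat.Coprime.symm (Nat.coprime_two_left.mpr hm)
  have h9 : m ∣ n := Nat.Coprime.dvd_of_dvd_mul_left h8 h7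
  have h10 : Nat.Coprime (2 ^ e) m := Nat.Coprime.pow_left e (Nat.coprime_two_left.mpr hm)
  have h11 : orderOf lam ∣ n := by
    rw [ho]
    exact Nat.Coprime.mul_dvd_of_dvd_of_dvd h10 h6 h9
  have h12 : lam ^ n = 1 := orderOf_dvd_iff_pow_eq_one.mp h11
  rw [h12] at hlamn
  apply h2
  have : (1 : F) + 1 = 0 := by
    nth_rw 1 [hlamn]
    exact neg_add_cancel 1
  rw [← one_add_one_eq_two]
  exact this

end arith

section split

include hF in
/-- orthonormal bases of non-degenerate subspaces -/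
theorem exists_orthonormal_of_nondeg (M : Submodule F (Fin n → F))
    (hM : ∀ m ∈ M, (∀ m' ∈ M, hermForm n F q m' m = 0) → m = 0) :
    ∃ b : Basis (Fin (finrank F M)) F M, ∀ i j,
      hermForm n F q (b i : Fin n → F) (b j : Fin n → F) = if i = j then 1 else 0 := by
  obtain ⟨B', hB'⟩ : ∃ B' : M →ₛₗ[Cfsg.Agent.Lib.Helper5.HermBridge.sigma hF] M →ₗ[F] F,
      B' = (hermSesq hF n).domRestrict₁₂ M M := ⟨_, rfl⟩
  have hB'a : ∀ x y : M, B' x y = hermForm n F q (y : Fin n → F) (x : Fin n → F) := by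
    intro x y
    rw [hB']
    rfl
  have hS' : B'.IsSymm := by
    rw [hB']
    exact (hermSesq_isSymm hF n).domRestrict M
  have hsepL : B'.SeparatingLeft := by
    intro x hx
    apply Subtype.ext
    apply hM x.1 x.2
    intro m' hm'
    have := hx ⟨m', hm'⟩
    rwa [hB'a] at this
  have hsepR : B'.SeparatingRight := by
    intro y hy
    apply hsepL y
    intro x
    rw [← hS'.eq x y, hy x, map_zero]
  obtain ⟨b, hb⟩ := Cfsg.Agent.Lib.Helper5.HermBasis.exists_orthonormal_basis (sigma_ne_id hF)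
    (sigma_sigma hF) B' hS' ⟨hsepL, hsepR⟩
  refine ⟨b, fun i j => ?_⟩
  have := hb j i
  rw [hB'a] at this
  rw [this]
  simp only [eq_comm]

include hF in
/-- a non-degenerate subspace of even dimension is the sum of two totally singular subspaces -/
theorem split_nondeg (h2 : (2 : F) ≠ 0) (M : Submodule F (Fin n → F)) {d : ℕ}
    (b : Basis (Fin d) F M)
    (hb : ∀ i j, hermForm n F q (b i : Fin n → F) (b j : Fin n → F) = if i = j then 1 else 0)
    (hd : Even d) :
    ∃ E Fs : Submodule F (Fin n → F), E ≤ M ∧ Fs ≤ M ∧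
      (∀ u ∈ E, ∀ u' ∈ E, hermForm n F q u u' = 0) ∧
      (∀ u ∈ Fs, ∀ u' ∈ Fs, hermForm n F q u u' = 0) ∧ M ≤ E ⊔ Fs := by
  classical
  obtain ⟨a, ha⟩ := hd
  obtain ⟨ζ, hζ⟩ := exists_norm_eq hF (-1 : F) (neg_ne_zero.mpr one_ne_zero) (pow_q_neg_one hF)
  have hζq : ζ * ζ ^ q = -1 := by
    rw [← pow_succ']
    exact hζ
  have hζ0 : ζ ≠ 0 := by
    rintro rfl
    rw [zero_mul] at hζq
    exact neg_ne_zero.mpr one_ne_zero hζq.symm
  obtain ⟨i0, hi0⟩ : ∃ i0 : Fin a → Fin d, i0 = fun j => ⟨2 * j.val, by omega⟩ := ⟨_, rfl⟩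
  obtain ⟨i1, hi1⟩ : ∃ i1 : Fin a → Fin d, i1 = fun j => ⟨2 * j.val + 1, by omega⟩ := ⟨_, rfl⟩
  have hi00 : ∀ j j', i0 j = i0 j' ↔ j = j' := by
    intro j j'
    rw [hi0]
    constructor
    · intro h
      have := congrArg Fin.val h
      apply Fin.ext
      simp only at this
      omega
    · intro h
      rw [h]
  have hi11 : ∀ j j', i1 j = i1 j' ↔ j = j' := by
    intro j j'
    rw [hi1]
    constructor
    · intro h
      have := congrArg Fin.val h
      apply Fin.ext
      simp only at this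
      omega
    · intro h
      rw [h]
  have hi01 : ∀ j j', i0 j ≠ i1 j' := by
    intro j j' h
    rw [hi0, hi1] at h
    have := congrArg Fin.val h
    simp only at this
    omega
  obtain ⟨bv, hbv⟩ : ∃ bv : Fin d → (Fin n → F), bv = fun i => (b i : Fin n → F) := ⟨_, rfl⟩
  have hbvM : ∀ i, bv i ∈ M := by
    intro i
    rw [hbv]
    exact (b i).2
  have hbb : ∀ i j, hermForm n F q (bv i) (bv j) = if i = j then 1 else 0 := by
    intro i j
    rw [hbv]
    exact hb i j
  have hcomp : ∀ (s t : F) (j j' : Fin a),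
      hermForm n F q (bv (i0 j) + s • bv (i1 j)) (bv (i0 j') + t • bv (i1 j')) =
        if j = j' then 1 + s * t ^ q else 0 := by
    intro s t j j'
    rw [hermForm_add_left, hermForm_add_right hF, hermForm_add_right hF, hermForm_smul_left,
      hermForm_smul_left, hermForm_smul_right, hermForm_smul_right, hbb, hbb, hbb, hbb,
      if_neg (hi01 j j'), if_neg (show ¬ i1 j = i0 j' from fun h => hi01 j' j h.symm)]
    by_cases hjj : j = j'
    · rw [if_pos ((hi00 j j').mpr hjj), if_pos ((hi11 j j').mpr hjj), if_pos hjj]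
      ring
    · rw [if_neg (show ¬ i0 j = i0 j' from fun h => hjj ((hi00 j j').mp h)),
        if_neg (show ¬ i1 j = i1 j' from fun h => hjj ((hi11 j j').mp h)), if_neg hjj]
      ring
  obtain ⟨e, he⟩ : ∃ e : Fin a → (Fin n → F), e = fun j => bv (i0 j) + ζ • bv (i1 j) := ⟨_, rfl⟩
  obtain ⟨f, hf⟩ : ∃ f : Fin a → (Fin n → F), f = fun j => bv (i0 j) + (-ζ) • bv (i1 j) :=
    ⟨_, rfl⟩
  have hee : ∀ j j', hermForm n F q (e j) (e j') = 0 := by
    intro j j'
    rw [he]
    show hermForm n F q (bv (i0 j) + ζ • bv (i1 j)) (bv (i0 j') + ζ • bv (i1 j')) = 0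
    rw [hcomp, hζq, add_neg_cancel, ite_self]
  have hff : ∀ j j', hermForm n F q (f j) (f j') = 0 := by
    intro j j'
    rw [hf]
    show hermForm n F q (bv (i0 j) + (-ζ) • bv (i1 j)) (bv (i0 j') + (-ζ) • bv (i1 j')) = 0
    rw [hcomp, pow_q_neg hF, neg_mul_neg, hζq, add_neg_cancel, ite_self]
  have heM : ∀ j, e j ∈ M := by
    intro j
    rw [he]
    exact M.add_mem (hbvM _) (M.smul_mem _ (hbvM _))
  have hfM : ∀ j, f j ∈ M := by
    intro j
    rw [hf]
    exact M.add_mem (hbvM _) (M.smul_mem _ (hbvM _))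
  refine ⟨Submodule.span F (Set.range e), Submodule.span F (Set.range f), ?_, ?_, ?_, ?_, ?_⟩
  · rw [Submodule.span_le]
    rintro _ ⟨j, rfl⟩
    exact heM j
  · rw [Submodule.span_le]
    rintro _ ⟨j, rfl⟩
    exact hfM j
  · exact Cfsg.Agent.Lib.Helper5.HermFrames.span_isotropic hF n e hee
  · exact Cfsg.Agent.Lib.Helper5.HermFrames.span_isotropic hF n f hff
  · intro m hm
    have key : ∀ i, (LinearMap.id : (Fin n → F) →ₗ[F] (Fin n → F)) (b i : Fin n → F) ∈
        Submodule.span F (Set.range e) ⊔ Submodule.span F (Set.range f) := by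
      intro i
      rw [LinearMap.id_apply]
      have hjlt : i.val / 2 < a := by
        have := i.2
        omega
      have hej : e ⟨i.val / 2, hjlt⟩ ∈
          Submodule.span F (Set.range e) ⊔ Submodule.span F (Set.range f) :=
        Submodule.mem_sup_left (Submodule.subset_span ⟨_, rfl⟩)
      have hfj : f ⟨i.val / 2, hjlt⟩ ∈
          Submodule.span F (Set.range e) ⊔ Submodule.span F (Set.range f) :=
        Submodule.mem_sup_right (Submodule.subset_span ⟨_, rfl⟩)
      rcases Nat.mod_two_eq_zero_or_one i.val with hpar | hpar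
      · have hi : i = i0 ⟨i.val / 2, hjlt⟩ := by
          rw [hi0]
          apply Fin.ext
          show i.val = 2 * (i.val / 2)
          omega
        have h3 : (b i : Fin n → F) =
            (2 : F)⁻¹ • (e ⟨i.val / 2, hjlt⟩ + f ⟨i.val / 2, hjlt⟩) := by
          have h4 : e ⟨i.val / 2, hjlt⟩ + f ⟨i.val / 2, hjlt⟩ = (2 : F) • bv i := by
            rw [he, hf]
            show bv (i0 ⟨i.val / 2, hjlt⟩) + ζ • bv (i1 ⟨i.val / 2, hjlt⟩) +
              (bv (i0 ⟨i.val / 2, hjlt⟩) + (-ζ) • bv (i1 ⟨i.val / 2, hjlt⟩)) = _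
            rw [← hi]
            module
          rw [h4, smul_smul, inv_mul_cancel₀ h2, one_smul, hbv]
        rw [h3]
        exact Submodule.smul_mem _ _ (Submodule.add_mem _ hej hfj)
      · have hi : i = i1 ⟨i.val / 2, hjlt⟩ := by
          rw [hi1]
          apply Fin.ext
          show i.val = 2 * (i.val / 2) + 1
          omega
        have h3 : (b i : Fin n → F) =
            (2 * ζ)⁻¹ • (e ⟨i.val / 2, hjlt⟩ - f ⟨i.val / 2, hjlt⟩) := by
          have h4 : e ⟨i.val / 2, hjlt⟩ - f ⟨i.val / 2, hjlt⟩ = (2 * ζ) • bv i := by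
            rw [he, hf]
            show bv (i0 ⟨i.val / 2, hjlt⟩) + ζ • bv (i1 ⟨i.val / 2, hjlt⟩) -
              (bv (i0 ⟨i.val / 2, hjlt⟩) + (-ζ) • bv (i1 ⟨i.val / 2, hjlt⟩)) = _
            rw [← hi]
            module
          rw [h4, smul_smul, inv_mul_cancel₀ (mul_ne_zero h2 hζ0), one_smul, hbv]
        rw [h3]
        exact Submodule.smul_mem _ _ (Submodule.sub_mem _ hej hfj)
    have := mapsInto_of_basis b LinearMap.id key m hm
    rwa [LinearMap.id_apply] at this

end split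

section stable

include hF in
/-- an element of the special unitary group whose square is scalar stabilizes both members of a
polar pair, provided `q` is odd and the 2-part of `q + 1` is at most that of `n` -/
theorem exists_stable_pair (hn : 0 < n) (he : Even n) (hq : Odd q)
    (hv : padicValNat 2 (q + 1) ≤ padicValNat 2 n)
    (x : GL (Fin n) F) (hxGU : x ∈ Cfsg.GU n F q) (hxdet : x.val.det = 1) (z : F)
    (hz : x.val * x.val = z • (1 : Matrix (Fin n) (Fin n) F)) :
    ∃ U' W' : Submodule F (Fin n → F), PolarPair q U' W' ∧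
      (∀ u ∈ U', x.val *ᵥ u ∈ U') ∧ (∀ w ∈ W', x.val *ᵥ w ∈ W') := by
  classical
  have h2 := two_ne_zero_of_odd hF hq
  have hxx : ∀ v, x.val *ᵥ (x.val *ᵥ v) = z • v := by
    intro v
    rw [Matrix.mulVec_mulVec, hz, Matrix.smul_mulVec, Matrix.one_mulVec]
  have hiso := (mem_GU_iff' x).mp hxGU
  have hnd : ∀ w : Fin n → F, (∀ v, hermForm n F q v w = 0) → w = 0 := by
    intro w hw
    apply (hermSesq_nondegenerate hF n).1 w
    intro y
    rw [hermSesq_apply]
    exact hw y
  have hzz : z * z ^ q = 1 := by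
    have h1 := hiso (x.val *ᵥ Pi.single (⟨0, hn⟩ : Fin n) 1) (x.val *ᵥ Pi.single (⟨0, hn⟩ : Fin n) 1)
    rw [hxx, hiso, hermForm_smul_left, hermForm_smul_right, hermForm_single_left,
      Pi.single_eq_same, one_pow, mul_one] at h1
    exact h1
  have hz0 : z ≠ 0 := by
    rintro rfl
    rw [zero_mul] at hzz
    exact zero_ne_one hzz
  have hchar : ringChar F ≠ 2 := by
    intro h
    apply h2
    have h1 := CharP.cast_eq_zero F (ringChar F)
    rw [h] at h1
    exact_mod_cast h1
  have hsq : IsSquare z := by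
    rw [FiniteField.isSquare_iff hchar hz0, hF]
    obtain ⟨t, ht⟩ := hq
    have h1 : q ^ 2 / 2 = (q + 1) * t := by
      have h3 : q ^ 2 = 2 * ((q + 1) * t) + 1 := by
        rw [ht]
        ring
      rw [h3]
      omega
    rw [h1, pow_mul, pow_succ', hzz, one_pow]
  obtain ⟨lam, hlam⟩ := hsq
  have hlam0 : lam ≠ 0 := by
    rintro rfl
    rw [mul_zero] at hlam
    exact hz0 hlam
  have heps : (lam * lam ^ q) * (lam * lam ^ q) = 1 := by
    calc (lam * lam ^ q) * (lam * lam ^ q) = (lam * lam) * (lam * lam) ^ q := by ring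
      _ = 1 := by rw [← hlam, hzz]
  have hcases : lam * lam ^ q = 1 ∨ lam * lam ^ q = -1 := by
    have h1 : (lam * lam ^ q - 1) * (lam * lam ^ q + 1) = 0 := by linear_combination heps
    rcases mul_eq_zero.mp h1 with h3 | h3
    · left
      exact sub_eq_zero.mp h3
    · right
      exact eq_neg_of_add_eq_zero_left h3
  obtain ⟨X, hX⟩ : ∃ X : Module.End F (Fin n → F), X = Matrix.toLin' x.val := ⟨_, rfl⟩
  obtain ⟨Vp, hVp⟩ : ∃ Vp : Submodule F (Fin n → F), Vp = LinearMap.ker (X - lam • 1) := ⟨_, rfl⟩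
  obtain ⟨Vm, hVm⟩ : ∃ Vm : Submodule F (Fin n → F), Vm = LinearMap.ker (X - (-lam) • 1) :=
    ⟨_, rfl⟩
  have memVp : ∀ v, v ∈ Vp ↔ x.val *ᵥ v = lam • v := by
    intro v
    rw [hVp, mem_ker_sub_smul, hX, Matrix.toLin'_apply]
  have memVm : ∀ v, v ∈ Vm ↔ x.val *ᵥ v = (-lam) • v := by
    intro v
    rw [hVm, mem_ker_sub_smul, hX, Matrix.toLin'_apply]
  have hsupV : Vp ⊔ Vm = ⊤ := by
    rw [eq_top_iff]
    intro v _
    have hp : lam • v + x.val *ᵥ v ∈ Vp := by
      rw [memVp, Matrix.mulVec_add, Matrix.mulVec_smul, hxx, hlam, smul_add, smul_smul, add_comm]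
    have hm : lam • v - x.val *ᵥ v ∈ Vm := by
      rw [memVm, Matrix.mulVec_sub, Matrix.mulVec_smul, hxx, hlam]
      module
    have h1 : v = (2 * lam)⁻¹ • (lam • v + x.val *ᵥ v) + (2 * lam)⁻¹ • (lam • v - x.val *ᵥ v) := by
      rw [← smul_add]
      have h3 : (lam • v + x.val *ᵥ v) + (lam • v - x.val *ᵥ v) = (2 * lam) • v := by
        module
      rw [h3, smul_smul, inv_mul_cancel₀ (mul_ne_zero h2 hlam0), one_smul]
    rw [h1]
    exact Submodule.add_mem_sup (Submodule.smul_mem _ _ hp) (Submodule.smul_mem _ _ hm)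
  have hstab : ∀ E₁ E₂ : Submodule F (Fin n → F), E₁ ≤ Vp → E₂ ≤ Vm →
      ∀ u ∈ E₁ ⊔ E₂, x.val *ᵥ u ∈ E₁ ⊔ E₂ := by
    intro E₁ E₂ h1 h3 u hu
    obtain ⟨u₁, hu₁, u₂, hu₂, rfl⟩ := Submodule.mem_sup.mp hu
    rw [Matrix.mulVec_add, (memVp u₁).mp (h1 hu₁), (memVm u₂).mp (h3 hu₂)]
    exact Submodule.add_mem_sup (Submodule.smul_mem _ _ hu₁) (Submodule.smul_mem _ _ hu₂)
  rcases hcases with hε | hε
  · -- the eigenspaces are orthogonal and non-degenerate
    have orth : ∀ u ∈ Vp, ∀ v ∈ Vm, hermForm n F q u v = 0 := by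
      intro u hu v hv
      have h1 := hiso u v
      rw [(memVp u).mp hu, (memVm v).mp hv, hermForm_smul_left, hermForm_smul_right,
        pow_q_neg hF] at h1
      have h3 : (2 : F) * hermForm n F q u v = 0 := by
        linear_combination (-1 : F) * h1 - hermForm n F q u v * hε
      rcases mul_eq_zero.mp h3 with h4 | h4
      · exact absurd h4 h2
      · exact h4
    have orth' : ∀ v ∈ Vm, ∀ u ∈ Vp, hermForm n F q v u = 0 := by
      intro v hv u hu
      exact herm_symm_zero hF n (orth u hu v hv)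
    have hinf : Vp ⊓ Vm = ⊥ := by
      rw [eq_bot_iff]
      intro v hv
      rw [Submodule.mem_inf] at hv
      have h1 : (2 * lam) • v = 0 := by
        have h3 := (memVp v).mp hv.1
        rw [(memVm v).mp hv.2] at h3
        have h4 : lam • v - (-lam) • v = 0 := by
          rw [h3, sub_self]
        rw [← h4]
        module
      rcases smul_eq_zero.mp h1 with h3 | h3
      · exact absurd h3 (mul_ne_zero h2 hlam0)
      · rw [Submodule.mem_bot]
        exact h3
    have hcompl : IsCompl Vp Vm := ⟨disjoint_iff.mpr hinf, codisjoint_iff.mpr hsupV⟩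
    have hMp : ∀ m ∈ Vp, (∀ m' ∈ Vp, hermForm n F q m' m = 0) → m = 0 := by
      intro m hm hmm
      apply hnd
      intro v
      have hvtop : v ∈ Vp ⊔ Vm := by
        rw [hsupV]
        exact Submodule.mem_top
      obtain ⟨u, hu, w, hw, rfl⟩ := Submodule.mem_sup.mp hvtop
      rw [hermForm_add_left, hmm u hu, orth' w hw m hm, add_zero]
    have hMm : ∀ m ∈ Vm, (∀ m' ∈ Vm, hermForm n F q m' m = 0) → m = 0 := by
      intro m hm hmm
      apply hnd
      intro v
      have hvtop : v ∈ Vp ⊔ Vm := by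
        rw [hsupV]
        exact Submodule.mem_top
      obtain ⟨u, hu, w, hw, rfl⟩ := Submodule.mem_sup.mp hvtop
      rw [hermForm_add_left, hmm w hw, orth u hu m hm, add_zero]
    obtain ⟨bp, hbp⟩ := exists_orthonormal_of_nondeg hF Vp hMp
    obtain ⟨bm, hbm⟩ := exists_orthonormal_of_nondeg hF Vm hMm
    have hdim : finrank F Vp + finrank F Vm = n := by
      have h1 := Submodule.finrank_add_eq_of_isCompl hcompl
      rwa [Module.finrank_fintype_fun_eq_card, Fintype.card_fin] at h1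
    -- the determinant
    have hdet : lam ^ finrank F Vp * (-lam) ^ finrank F Vm = 1 := by
      obtain ⟨Bc, hBc⟩ : ∃ Bc : Basis (Fin (finrank F Vp) ⊕ Fin (finrank F Vm)) F (Fin n → F),
          Bc = frameBasis hcompl bp bm := ⟨_, rfl⟩
      have hmat : LinearMap.toMatrix Bc Bc X =
          Matrix.diagonal (Sum.elim (fun _ => lam) (fun _ => -lam)) := by
        ext a c
        rw [LinearMap.toMatrix_apply]
        rcases c with j | j
        · have h1 : X (Bc (Sum.inl j)) = lam • Bc (Sum.inl j) := by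
            rw [hBc, frameBasis_inl, hX, Matrix.toLin'_apply]
            exact (memVp _).mp (bp j).2
          rw [h1, map_smul, Basis.repr_self, Finsupp.smul_single, smul_eq_mul, mul_one,
            Finsupp.single_apply, Matrix.diagonal_apply]
          by_cases hac : a = Sum.inl j
          · rw [if_pos hac.symm, if_pos hac, hac, Sum.elim_inl]
          · rw [if_neg (fun h => hac h.symm), if_neg hac]
        · have h1 : X (Bc (Sum.inr j)) = (-lam) • Bc (Sum.inr j) := by
            rw [hBc, frameBasis_inr, hX, Matrix.toLin'_apply]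
            exact (memVm _).mp (bm j).2
          rw [h1, map_smul, Basis.repr_self, Finsupp.smul_single, smul_eq_mul, mul_one,
            Finsupp.single_apply, Matrix.diagonal_apply]
          by_cases hac : a = Sum.inr j
          · rw [if_pos hac.symm, if_pos hac, hac, Sum.elim_inr]
          · rw [if_neg (fun h => hac h.symm), if_neg hac]
      have h1 : x.val.det = LinearMap.det X := by
        rw [hX, LinearMap.det_toLin']
      rw [← hxdet, h1, ← LinearMap.det_toMatrix Bc, hmat, Matrix.det_diagonal,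
        Fintype.prod_sum_type]
      simp only [Sum.elim_inl, Sum.elim_inr, Finset.prod_const, Finset.card_univ, Fintype.card_fin]
    have hevenm : Even (finrank F Vm) := by
      by_contra hodd
      rw [Nat.not_even_iff_odd] at hodd
      have h1 : lam ^ n = -1 := by
        have h3 : (-lam) ^ finrank F Vm = -(lam ^ finrank F Vm) := Odd.neg_pow hodd lam
        rw [h3, mul_neg, ← pow_add, hdim] at hdet
        exact neg_eq_iff_eq_neg.mp hdet
      exact no_neg_one (by omega) h2 lam hε h1 hv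
    have hevenp : Even (finrank F Vp) := by
      obtain ⟨a, ha⟩ := he
      obtain ⟨b, hb⟩ := hevenm
      exact ⟨a - b, by omega⟩
    obtain ⟨Ep, Fp, hEp, hFp, htsEp, htsFp, hsupp⟩ := split_nondeg hF h2 Vp bp hbp hevenp
    obtain ⟨Em, Fm, hEm, hFm, htsEm, htsFm, hsupm⟩ := split_nondeg hF h2 Vm bm hbm hevenm
    have hts : ∀ E₁ E₂ : Submodule F (Fin n → F), E₁ ≤ Vp → E₂ ≤ Vm →
        (∀ u ∈ E₁, ∀ u' ∈ E₁, hermForm n F q u u' = 0) →
        (∀ u ∈ E₂, ∀ u' ∈ E₂, hermForm n F q u u' = 0) →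
        ∀ u ∈ E₁ ⊔ E₂, ∀ u' ∈ E₁ ⊔ E₂, hermForm n F q u u' = 0 := by
      intro E₁ E₂ h1 h3 h4 h5 u hu u' hu'
      obtain ⟨u₁, hu₁, u₂, hu₂, rfl⟩ := Submodule.mem_sup.mp hu
      obtain ⟨u₁', hu₁', u₂', hu₂', rfl⟩ := Submodule.mem_sup.mp hu'
      rw [hermForm_add_left, hermForm_add_right hF, hermForm_add_right hF, h4 u₁ hu₁ u₁' hu₁',
        orth u₁ (h1 hu₁) u₂' (h3 hu₂'), orth' u₂ (h3 hu₂) u₁' (h1 hu₁'), h5 u₂ hu₂ u₂' hu₂']
      ring
    refine ⟨Ep ⊔ Em, Fp ⊔ Fm, ?_, hstab Ep Em hEp hEm, hstab Fp Fm hFp hFm⟩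
    apply polarPair_of_sup hF (hts Ep Em hEp hEm htsEp htsEm) (hts Fp Fm hFp hFm htsFp htsFm)
    rw [eq_top_iff, ← hsupV, sup_sup_sup_comm]
    exact sup_le_sup hsupp hsupm
  · -- the eigenspaces are totally singular
    have tsp : ∀ u ∈ Vp, ∀ u' ∈ Vp, hermForm n F q u u' = 0 := by
      intro u hu u' hu'
      have h1 := hiso u u'
      rw [(memVp u).mp hu, (memVp u').mp hu', hermForm_smul_left, hermForm_smul_right] at h1
      have h3 : (2 : F) * hermForm n F q u u' = 0 := by
        linear_combination (-1 : F) * h1 + hermForm n F q u u' * hε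
      rcases mul_eq_zero.mp h3 with h4 | h4
      · exact absurd h4 h2
      · exact h4
    have tsm : ∀ u ∈ Vm, ∀ u' ∈ Vm, hermForm n F q u u' = 0 := by
      intro u hu u' hu'
      have h1 := hiso u u'
      rw [(memVm u).mp hu, (memVm u').mp hu', hermForm_smul_left, hermForm_smul_right,
        pow_q_neg hF] at h1
      have h3 : (2 : F) * hermForm n F q u u' = 0 := by
        linear_combination (-1 : F) * h1 + hermForm n F q u u' * hε
      rcases mul_eq_zero.mp h3 with h4 | h4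
      · exact absurd h4 h2
      · exact h4
    refine ⟨Vp, Vm, polarPair_of_sup hF tsp tsm hsupV, ?_, ?_⟩
    · intro u hu
      rw [(memVp u).mp hu]
      exact Vp.smul_mem _ hu
    · intro u hu
      rw [(memVm u).mp hu]
      exact Vm.smul_mem _ hu

end stable

end Cfsg.Agent.Lib.Helper2.Upp
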