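import Mathlib
import Cfsg.Agent.Lib.Helper2.SpTiD
set_option autoImplicit false
set_option maxHeartbeats 1000000
set_option linter.unusedVariables false
set_option linter.unusedSectionVars false
set_option linter.style.longLine false
set_option linter.unusedSimpArgs false
set_option linter.deprecated false
set_option linter.style.haveILetI false

/-! Totally isotropic subspaces of unitary spaces (part A): orthogonal complements, totally
isotropic and nondegenerate subspaces for a reflexive sesquilinear form. -/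

namespace Cfsg.Agent.Lib.Helper2.Uti

open Module Cfsg.Agent.Lib.Helper2

universe u v

section Basic

variable {F : Type u} [Field F] {σ : F →+* F} {V : Type v} [AddCommGroup V] [Module F V]
variable (B : V →ₛₗ[σ] V →ₗ[F] F)

/-- the orthogonal complement of a subspace -/
def perp (W : Submodule F V) : Submodule F V where
  carrier := {v | ∀ w ∈ W, B w v = 0}
  add_mem' := by
    intro a b ha hb w hw
    rw [map_add, ha w hw, hb w hw, add_zero]
  zero_mem' := by
    intro w hw
    rw [map_zero]
  smul_mem' := by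
    intro c a ha w hw
    rw [map_smul, ha w hw, smul_zero]

theorem mem_perp {W : Submodule F V} {v : V} : v ∈ perp B W ↔ ∀ w ∈ W, B w v = 0 := Iff.rfl

theorem perp_anti {W W' : Submodule F V} (h : W ≤ W') : perp B W' ≤ perp B W :=
  fun v hv w hw => hv w (h hw)

/-- totally isotropic subspace -/
def TI (W : Submodule F V) : Prop := ∀ u ∈ W, ∀ v ∈ W, B u v = 0

/-- nondegenerate subspace -/
def ND (W : Submodule F V) : Prop := Disjoint W (perp B W)

/-- mutually orthogonal subspaces -/
def Orth (X Y : Submodule F V) : Prop := ∀ u ∈ X, ∀ v ∈ Y, B u v = 0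

theorem swap_zero (hS : B.IsSymm) {u v : V} (h : B u v = 0) : B v u = 0 :=
  hS.isRefl u v h

theorem Orth.symm {B : V →ₛₗ[σ] V →ₗ[F] F} (hS : B.IsSymm) {X Y : Submodule F V}
    (h : Orth B X Y) : Orth B Y X :=
  fun u hu v hv => swap_zero B hS (h v hv u hu)

theorem orth_iff_le_perp {X Y : Submodule F V} : Orth B X Y ↔ Y ≤ perp B X :=
  ⟨fun h v hv => (mem_perp B).mpr (fun w hw => h w hw v hv),
    fun h u hu v hv => (mem_perp B).mp (h hv) u hu⟩

theorem ti_bot : TI B (⊥ : Submodule F V) := by
  intro u hu v _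
  rw [(Submodule.mem_bot F).mp hu, map_zero, LinearMap.zero_apply]

theorem TI.mono {B : V →ₛₗ[σ] V →ₗ[F] F} {W W' : Submodule F V} (h : TI B W) (hle : W' ≤ W) :
    TI B W' :=
  fun u hu v hv => h u (hle hu) v (hle hv)

theorem ti_le_perp {W : Submodule F V} (h : TI B W) : W ≤ perp B W :=
  fun v hv => (mem_perp B).mpr (fun w hw => h w hw v hv)

theorem ti_of_le_perp {W : Submodule F V} (h : W ≤ perp B W) : TI B W :=
  fun u hu v hv => (mem_perp B).mp (h hv) u hu

theorem nd_iff (hS : B.IsSymm) {W : Submodule F V} :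
    ND B W ↔ ∀ u ∈ W, (∀ v ∈ W, B u v = 0) → u = 0 := by
  unfold ND
  rw [Submodule.disjoint_def]
  constructor
  · intro h u hu huv
    exact h u hu ((mem_perp B).mpr (fun w hw => swap_zero B hS (huv w hw)))
  · intro h u hu hu2
    exact h u hu (fun v hv => swap_zero B hS ((mem_perp B).mp hu2 v hv))

theorem nd_iff' (hS : B.IsSymm) {W : Submodule F V} :
    ND B W ↔ ∀ u ∈ W, u ≠ 0 → ∃ v ∈ W, B u v ≠ 0 := by
  rw [nd_iff B hS]
  constructor
  · intro h u hu hu0
    by_contra hcon
    push Not at hcon
    exact hu0 (h u hu hcon)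
  · intro h u hu huv
    by_contra hu0
    obtain ⟨v, hv, hne⟩ := h u hu hu0
    exact hne (huv v hv)

theorem nd_bot : ND B (⊥ : Submodule F V) := disjoint_bot_left

theorem ti_sup (hS : B.IsSymm) {X Y : Submodule F V} (hX : TI B X) (hY : TI B Y)
    (hXY : Orth B X Y) : TI B (X ⊔ Y) := by
  intro u hu v hv
  obtain ⟨x, hx, y, hy, rfl⟩ := Submodule.mem_sup.mp hu
  obtain ⟨x', hx', y', hy', rfl⟩ := Submodule.mem_sup.mp hv
  rw [map_add, map_add, LinearMap.add_apply, LinearMap.add_apply, hX x hx x' hx', hY y hy y' hy',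
    hXY x hx y' hy', swap_zero B hS (hXY x' hx' y hy)]
  simp

theorem orth_span {ι κ : Type*} (s : ι → V) (t : κ → V) (h : ∀ a b, B (s a) (t b) = 0) :
    Orth B (Submodule.span F (Set.range s)) (Submodule.span F (Set.range t)) := by
  intro u hu v hv
  induction hu using Submodule.span_induction with
  | mem x hx =>
    obtain ⟨a, rfl⟩ := hx
    induction hv using Submodule.span_induction with
    | mem y hy =>
      obtain ⟨b, rfl⟩ := hy
      exact h a b
    | zero => rw [map_zero]
    | add y y' _ _ ihy ihy' => rw [map_add, ihy, ihy', add_zero]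
    | smul c y _ ihy => rw [map_smul, ihy, smul_zero]
  | zero => rw [map_zero, LinearMap.zero_apply]
  | add x x' _ _ ihx ihx' => rw [map_add, LinearMap.add_apply, ihx, ihx', add_zero]
  | smul c x _ ihx => rw [map_smulₛₗ, LinearMap.smul_apply, ihx, smul_zero]

theorem ti_span {ι : Type*} (s : ι → V) (h : ∀ a b, B (s a) (s b) = 0) :
    TI B (Submodule.span F (Set.range s)) :=
  orth_span B s s h

end Basic

section FinDim

variable {F : Type u} [Field F] {σ : F →+* F} {V : Type v} [AddCommGroup V] [Module F V]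
  [FiniteDimensional F V]
variable (B : V →ₛₗ[σ] V →ₗ[F] F)

/-- dimension of the orthogonal complement for a nondegenerate form -/
theorem finrank_perp (hσ2 : ∀ a, σ (σ a) = a) (hB : B.Nondegenerate) (W : Submodule F V) :
    finrank F (perp B W) + finrank F W = finrank F V := by
  classical
  let b := Module.finBasis F W
  let Φ : Submodule F (Module.Dual F V) :=
    Submodule.span F (Set.range (fun i => (B (b i : V) : Module.Dual F V)))
  have hperp : perp B W = Φ.dualCoannihilator := by
    ext v
    rw [mem_perp, Submodule.mem_dualCoannihilator]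
    constructor
    · intro h φ hφ
      induction hφ using Submodule.span_induction with
      | mem x hx =>
        obtain ⟨i, rfl⟩ := hx
        exact h _ (b i).2
      | zero => rfl
      | add x y _ _ hx hy => rw [LinearMap.add_apply, hx, hy, add_zero]
      | smul c x _ hx => rw [LinearMap.smul_apply, hx, smul_zero]
    · intro h w hw
      have h1 : (⟨w, hw⟩ : W) = ∑ i, b.repr ⟨w, hw⟩ i • b i := (b.sum_repr _).symm
      have h2 : w = ∑ i, b.repr ⟨w, hw⟩ i • (b i : V) := by
        have h3 := congrArg (Subtype.val) h1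
        rw [Submodule.coe_sum] at h3
        exact h3
      rw [h2, map_sum, LinearMap.sum_apply]
      refine Finset.sum_eq_zero fun i _ => ?_
      rw [map_smulₛₗ, LinearMap.smul_apply]
      rw [h _ (Submodule.subset_span ⟨i, rfl⟩), smul_zero]
  have hli : LinearIndependent F (fun i => (B (b i : V) : Module.Dual F V)) := by
    rw [Fintype.linearIndependent_iff]
    intro c hc i
    have h1 : B (∑ j, σ (c j) • (b j : V)) = 0 := by
      rw [map_sum, ← hc]
      refine Finset.sum_congr rfl fun j _ => ?_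
      rw [map_smulₛₗ, hσ2]
    have h2 : ∑ j, σ (c j) • (b j : V) = 0 := by
      apply hB.1
      intro y
      rw [h1, LinearMap.zero_apply]
    have h3 : ∑ j, σ (c j) • b j = 0 := by
      apply Subtype.ext
      simpa using h2
    have h4 := Fintype.linearIndependent_iff.mp b.linearIndependent _ h3 i
    rw [← hσ2 (c i), h4, map_zero]
  have hΦ : finrank F Φ = finrank F W := by
    rw [finrank_span_eq_card hli, Fintype.card_fin]
  have := Subspace.finrank_add_finrank_dualCoannihilator_eq Φ
  rw [hperp]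
  omega

theorem perp_top (hB : B.Nondegenerate) : perp B (⊤ : Submodule F V) = ⊥ := by
  rw [eq_bot_iff]
  intro v hv
  rw [Submodule.mem_bot]
  apply hB.2
  intro w
  exact hv w Submodule.mem_top

theorem nd_top (hB : B.Nondegenerate) : ND B (⊤ : Submodule F V) := by
  unfold ND
  rw [perp_top B hB]
  exact disjoint_bot_right

theorem nd_isCompl (hσ2 : ∀ a, σ (σ a) = a) (hB : B.Nondegenerate) {W : Submodule F V}
    (h : ND B W) : IsCompl W (perp B W) := by
  refine ⟨h, ?_⟩
  rw [codisjoint_iff]
  apply Submodule.eq_top_of_finrank_eq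
  rw [Elus.finrank_sup_of_disjoint h]
  have := finrank_perp B hσ2 hB W
  omega

theorem le_perp_perp (hS : B.IsSymm) (W : Submodule F V) : W ≤ perp B (perp B W) :=
  fun w hw v hv => swap_zero B hS (hv w hw)

theorem perp_perp (hσ2 : ∀ a, σ (σ a) = a) (hS : B.IsSymm) (hB : B.Nondegenerate)
    (W : Submodule F V) : perp B (perp B W) = W := by
  symm
  apply Submodule.eq_of_le_of_finrank_eq (le_perp_perp B hS W)
  have h1 := finrank_perp B hσ2 hB W
  have h2 := finrank_perp B hσ2 hB (perp B W)
  omega

theorem nd_rel (hσ2 : ∀ a, σ (σ a) = a) (hB : B.Nondegenerate) {D W : Submodule F V}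
    (hD : ND B D) (hDW : D ≤ W) :
    Disjoint D (W ⊓ perp B D) ∧ D ⊔ (W ⊓ perp B D) = W := by
  have hc := nd_isCompl B hσ2 hB hD
  refine ⟨hc.disjoint.mono_right inf_le_right, ?_⟩
  apply le_antisymm (sup_le hDW inf_le_left)
  intro w hw
  have h1 : w ∈ D ⊔ perp B D := by
    rw [hc.sup_eq_top]
    trivial
  obtain ⟨d, hd, q, hq, rfl⟩ := Submodule.mem_sup.mp h1
  refine Submodule.mem_sup.mpr ⟨d, hd, q, ⟨?_, hq⟩, rfl⟩
  have h2 := W.sub_mem hw (hDW hd)
  rwa [add_sub_cancel_left] at h2

theorem nd_perp_in (hσ2 : ∀ a, σ (σ a) = a) (hS : B.IsSymm) (hB : B.Nondegenerate)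
    {D W : Submodule F V} (hW : ND B W) (hD : ND B D) (hDW : D ≤ W) : ND B (W ⊓ perp B D) := by
  rw [nd_iff B hS]
  intro x hx hx2
  apply (nd_iff B hS).mp hW x hx.1
  intro v hv
  obtain ⟨-, hsup⟩ := nd_rel B hσ2 hB hD hDW
  rw [← hsup] at hv
  obtain ⟨d, hd, q, hq, rfl⟩ := Submodule.mem_sup.mp hv
  rw [map_add, hx2 q hq, add_zero]
  exact swap_zero B hS ((mem_perp B).mp hx.2 d hd)

theorem nd_sup (hS : B.IsSymm) {X Y : Submodule F V} (hX : ND B X) (hY : ND B Y)
    (hXY : Orth B X Y) : ND B (X ⊔ Y) := by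
  rw [nd_iff B hS]
  intro w hw hw2
  obtain ⟨x, hx, y, hy, rfl⟩ := Submodule.mem_sup.mp hw
  have hx0 : x = 0 := by
    apply (nd_iff B hS).mp hX x hx
    intro v hv
    have h1 := hw2 v (Submodule.mem_sup_left hv)
    rw [map_add, LinearMap.add_apply, swap_zero B hS (hXY v hv y hy), add_zero] at h1
    exact h1
  have hy0 : y = 0 := by
    apply (nd_iff B hS).mp hY y hy
    intro v hv
    have h1 := hw2 v (Submodule.mem_sup_right hv)
    rw [map_add, LinearMap.add_apply, hXY x hx v hv, zero_add] at h1
    exact h1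
  rw [hx0, hy0, add_zero]

theorem finrank_perp_in (hσ2 : ∀ a, σ (σ a) = a) (hB : B.Nondegenerate) {N U : Submodule F V}
    (hN : ND B N) (hUN : U ≤ N) :
    finrank F (N ⊓ perp B U : Submodule F V) = finrank F N - finrank F U := by
  have hc := nd_isCompl B hσ2 hB hN
  have h1 : perp B N ≤ perp B U := perp_anti B hUN
  have h2 : (N ⊓ perp B U) ⊔ perp B N = perp B U := by
    apply le_antisymm (sup_le inf_le_right h1)
    intro v hv
    have h3 : v ∈ N ⊔ perp B N := by
      rw [hc.sup_eq_top]
      trivial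
    obtain ⟨n, hn, n', hn', rfl⟩ := Submodule.mem_sup.mp h3
    refine Submodule.mem_sup.mpr ⟨n, ⟨hn, ?_⟩, n', hn', rfl⟩
    have h4 := (perp B U).sub_mem hv (h1 hn')
    rwa [add_sub_cancel_right] at h4
  have h3 : Disjoint (N ⊓ perp B U) (perp B N) := hc.disjoint.mono_left inf_le_left
  have h4 := Elus.finrank_sup_of_disjoint h3
  rw [h2] at h4
  have h7 := finrank_perp B hσ2 hB U
  have h8 := finrank_perp B hσ2 hB N
  have h5 := Submodule.finrank_le N
  have h6 := Submodule.finrank_mono hUN
  omega

theorem ti_finrank_le (hσ2 : ∀ a, σ (σ a) = a) (hB : B.Nondegenerate) {W N : Submodule F V}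
    (hW : TI B W) (hWN : W ≤ N) (hN : ND B N) : 2 * finrank F W ≤ finrank F N := by
  have h1 : W ≤ N ⊓ perp B W := le_inf hWN (ti_le_perp B hW)
  have h2 := Submodule.finrank_mono h1
  rw [finrank_perp_in B hσ2 hB hN hWN] at h2
  have h3 := Submodule.finrank_mono hWN
  omega

end FinDim

end Cfsg.Agent.Lib.Helper2.Uti
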