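import Mathlib
import Cfsg.Agent.Lib.Helper2.UtiA
import Cfsg.Agent.Lib.Helper5.HermBasis
import Cfsg.Agent.Lib.Helper5.HermBridge
import Cfsg.Agent.Lib.Helper5.HermCount
import Cfsg.Agent.Lib.Helper5.HermPerp
set_option autoImplicit false
set_option maxHeartbeats 1000000
set_option linter.unusedVariables false
set_option linter.unusedSectionVars false
set_option linter.style.longLine false
set_option linter.unusedSimpArgs false
set_option linter.deprecated false
set_option linter.style.haveILetI false

/-! Totally isotropic subspaces of unitary spaces (part B): hermitian forms over a finite field: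
orthonormal bases of nondegenerate subspaces, existence of totally isotropic subspaces, the number
of vectors of norm one. -/

namespace Cfsg.Agent.Lib.Helper2.Uti

open Module Cfsg Cfsg.Agent.Lib.Helper2 Cfsg.Agent.Lib.Helper5

universe u v

section Herm

variable {F : Type u} [Field F] [Fintype F] {q : ℕ} (hF : Fintype.card F = q ^ 2)
variable {V : Type v} [AddCommGroup V] [Module F V] [FiniteDimensional F V]
variable (B : V →ₛₗ[HermBridge.sigma hF] V →ₗ[F] F)

/-- the form restricted to a subspace -/
def resForm (Z : Submodule F V) : ↥Z →ₛₗ[HermBridge.sigma hF] ↥Z →ₗ[F] F := B.domRestrict₁₂ Z Z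

theorem resForm_apply (Z : Submodule F V) (x y : Z) : resForm hF B Z x y = B (x : V) (y : V) := rfl

theorem resForm_isSymm (hS : B.IsSymm) (Z : Submodule F V) : (resForm hF B Z).IsSymm :=
  ⟨fun x y => hS.eq (x : V) (y : V)⟩

theorem resForm_nondeg (hS : B.IsSymm) {Z : Submodule F V} (hZ : ND B Z) :
    (resForm hF B Z).Nondegenerate := by
  constructor
  · intro x hx
    apply Subtype.ext
    apply (nd_iff B hS).mp hZ x x.2
    intro v hv
    exact hx ⟨v, hv⟩
  · intro y hy
    apply Subtype.ext
    apply (nd_iff B hS).mp hZ y y.2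
    intro v hv
    exact swap_zero B hS (hy ⟨v, hv⟩)

/-- orthonormal bases of nondegenerate subspaces -/
theorem exists_orthonormal (hS : B.IsSymm) {Z : Submodule F V} (hZ : ND B Z) :
    ∃ b : Basis (Fin (finrank F Z)) F Z,
      ∀ i j, B (b i : V) (b j : V) = if i = j then 1 else 0 :=
  Cfsg.Agent.Lib.Helper5.HermBasis.exists_orthonormal_basis (HermBridge.sigma_ne_id hF) (HermBridge.sigma_sigma hF)
    (resForm hF B Z) (resForm_isSymm hF B hS Z) (resForm_nondeg hF B hS hZ)

/-- an element of norm `-1` -/
theorem exists_norm_neg_one : ∃ a : F, a * HermBridge.sigma hF a = -1 := by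
  apply Cfsg.Agent.Lib.Helper5.HermBasis.exists_norm (HermBridge.sigma_ne_id hF) (HermBridge.sigma_sigma hF) (-1)
    (neg_ne_zero.mpr one_ne_zero)
  rw [map_neg, map_one]

/-- totally isotropic subspaces of all dimensions up to half the dimension -/
theorem exists_ti (hS : B.IsSymm) {Z : Submodule F V} (hZ : ND B Z) (j : ℕ)
    (hj : 2 * j ≤ finrank F Z) : ∃ W : Submodule F V, W ≤ Z ∧ TI B W ∧ finrank F W = j := by
  classical
  obtain ⟨b, hb⟩ := exists_orthonormal hF B hS hZ
  obtain ⟨a, ha⟩ := exists_norm_neg_one hF
  let i0 : Fin j → Fin (finrank F Z) := fun k => ⟨2 * (k : ℕ), by have := k.2; omega⟩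
  let i1 : Fin j → Fin (finrank F Z) := fun k => ⟨2 * (k : ℕ) + 1, by have := k.2; omega⟩
  have h00 : ∀ k l, i0 k = i0 l ↔ k = l := by
    intro k l
    constructor
    · intro h
      have := congrArg Fin.val h
      simp only [i0] at this
      exact Fin.ext (by omega)
    · rintro rfl
      rfl
  have h11 : ∀ k l, i1 k = i1 l ↔ k = l := by
    intro k l
    constructor
    · intro h
      have := congrArg Fin.val h
      simp only [i1] at this
      exact Fin.ext (by omega)
    · rintro rfl
      rfl
  have h01 : ∀ k l, i0 k ≠ i1 l := by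
    intro k l h
    have := congrArg Fin.val h
    simp only [i0, i1] at this
    omega
  let s : Fin j → V := fun k => (b (i0 k) : V) + a • (b (i1 k) : V)
  have hsZ : ∀ k, s k ∈ Z := fun k => Z.add_mem (b (i0 k)).2 (Z.smul_mem a (b (i1 k)).2)
  have e00 : ∀ k l, B (b (i0 k) : V) (b (i0 l) : V) = if k = l then 1 else 0 := by
    intro k l
    rw [hb]
    by_cases h : k = l
    · rw [if_pos h, if_pos ((h00 k l).mpr h)]
    · rw [if_neg h, if_neg (fun h' => h ((h00 k l).mp h'))]
  have e11 : ∀ k l, B (b (i1 k) : V) (b (i1 l) : V) = if k = l then 1 else 0 := by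
    intro k l
    rw [hb]
    by_cases h : k = l
    · rw [if_pos h, if_pos ((h11 k l).mpr h)]
    · rw [if_neg h, if_neg (fun h' => h ((h11 k l).mp h'))]
  have e01 : ∀ k l, B (b (i0 k) : V) (b (i1 l) : V) = 0 := by
    intro k l
    rw [hb, if_neg (h01 k l)]
  have e10 : ∀ k l, B (b (i1 k) : V) (b (i0 l) : V) = 0 := by
    intro k l
    rw [hb, if_neg (fun h => h01 l k h.symm)]
  have hss : ∀ k l, B (s k) (s l) = 0 := by
    intro k l
    simp only [s, map_add, LinearMap.add_apply, map_smulₛₗ, LinearMap.smul_apply, map_smul,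
      e00, e11, e01, e10, smul_eq_mul, RingHom.id_apply]
    by_cases hkl : k = l
    · rw [if_pos hkl]
      have : HermBridge.sigma hF a * a = -1 := by rw [mul_comm]; exact ha
      linear_combination this
    · rw [if_neg hkl]
      ring
  have hes : ∀ k l, B (b (i0 k) : V) (s l) = if k = l then 1 else 0 := by
    intro k l
    simp only [s, map_add, map_smul, e00, e01, smul_eq_mul, mul_zero, add_zero]
  have hli : LinearIndependent F s := by
    rw [Fintype.linearIndependent_iff]
    intro c hc k
    have h1 := congrArg (fun v => B (b (i0 k) : V) v) hc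
    simp only [map_sum, map_smul, hes, map_zero, smul_eq_mul, mul_ite, mul_one, mul_zero,
      Finset.sum_ite_eq, Finset.mem_univ, if_true] at h1
    exact h1
  refine ⟨Submodule.span F (Set.range s), ?_, ti_span B s hss, ?_⟩
  · rw [Submodule.span_le]
    rintro _ ⟨k, rfl⟩
    exact hsZ k
  · rw [finrank_span_eq_card hli, Fintype.card_fin]

/-- the number of vectors of norm one in a nondegenerate subspace -/
theorem card_norm_one_nd (hS : B.IsSymm) {Z : Submodule F V} (hZ : ND B Z) :
    Nat.card {v : Z // B (v : V) (v : V) = 1} =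
      Cfsg.Agent.Lib.Helper5.HermCount.A F q (finrank F Z) 1 := by
  classical
  obtain ⟨b, hb⟩ := exists_orthonormal hF B hS hZ
  unfold Cfsg.Agent.Lib.Helper5.HermCount.A
  have key : ∀ v : Z, B (v : V) (v : V) = hermForm (finrank F Z) F q (b.equivFun v) (b.equivFun v) := by
    intro v
    have h1 : (v : V) = ∑ i, b.equivFun v i • (b i : V) := by
      have h2 := congrArg Subtype.val (b.sum_equivFun v)
      rw [Submodule.coe_sum] at h2
      exact h2.symm
    conv_lhs => rw [h1]
    simp only [map_sum, LinearMap.sum_apply, map_smulₛₗ, LinearMap.smul_apply, map_smul, hb,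
      smul_eq_mul, mul_ite, mul_one, mul_zero, Finset.sum_ite_eq', Finset.sum_ite_eq,
      Finset.mem_univ, if_true]
    unfold hermForm
    refine Finset.sum_congr rfl fun i _ => ?_
    simp only [HermBridge.sigma_apply, RingHom.id_apply, mul_comm]
  apply Nat.card_congr
  refine Equiv.subtypeEquiv b.equivFun.toEquiv ?_
  intro v
  rw [key v]
  rfl

end Herm

end Cfsg.Agent.Lib.Helper2.Uti
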