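import Mathlib
import Cfsg.Agent.Lib.Helper2.UtiB
set_option autoImplicit false
set_option maxHeartbeats 1000000
set_option linter.unusedVariables false
set_option linter.unusedSectionVars false
set_option linter.style.longLine false
set_option linter.unusedSimpArgs false
set_option linter.deprecated false
set_option linter.style.haveILetI false

/-! Totally isotropic subspaces of unitary spaces (part C): isometries of order `r`, adjoints,
the Frobenius twist, and the divisibility of the dimension of the moving part. -/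

namespace Cfsg.Agent.Lib.Helper2.Uti

open Module Polynomial Cfsg Cfsg.Agent.Lib.Helper2 Cfsg.Agent.Lib.Helper5

universe u v

section IsoSec

variable {F : Type u} [Field F] {σ : F →+* F} {V : Type v} [AddCommGroup V] [Module F V]
  [FiniteDimensional F V]
variable (B : V →ₛₗ[σ] V →ₗ[F] F)

/-- isometries of the form `B` -/
def IsIsom (y : Module.End F V) : Prop := ∀ u v, B (y u) (y v) = B u v

theorem isIsom_one : IsIsom B (1 : Module.End F V) := fun u v => rfl

theorem IsIsom.pow {B : V →ₛₗ[σ] V →ₗ[F] F} {y : Module.End F V} (hy : IsIsom B y) (j : ℕ) :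
    IsIsom B (y ^ j) := by
  induction j with
  | zero =>
    intro u v
    rw [pow_zero]
    rfl
  | succ j ih =>
    intro u v
    rw [pow_succ, Module.End.mul_apply, Module.End.mul_apply, ih, hy]

theorem IsIsom.mul {B : V →ₛₗ[σ] V →ₗ[F] F} {y z : Module.End F V} (hy : IsIsom B y)
    (hz : IsIsom B z) : IsIsom B (y * z) := by
  intro u v
  rw [Module.End.mul_apply, Module.End.mul_apply, hy, hz]

/-- invariance of the orthogonal complement, with an explicit inverse -/
theorem inv_perp_gen {y yi : Module.End F V} (hyB : IsIsom B y) (hyi : ∀ w, y (yi w) = w)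
    {W : Submodule F V} (hW : Elus.Inv yi W) : Elus.Inv y (perp B W) := by
  intro v hv
  rw [mem_perp] at hv ⊢
  intro w hw
  have h := hyB (yi w) v
  rw [hyi w] at h
  rw [h]
  exact hv _ (hW w hw)

theorem adj_one {y : Module.End F V} (hyB : IsIsom B y) {r : ℕ} (hr : 0 < r) (hy : y ^ r = 1)
    (u v : V) : B u (y v) = B ((y ^ (r - 1)) u) v := by
  have h := hyB ((y ^ (r - 1)) u) v
  rw [SpImp.pow_pred_apply hr hy u] at h
  exact h

theorem adj_one' {y : Module.End F V} (hyB : IsIsom B y) {r : ℕ} (hr : 0 < r) (hy : y ^ r = 1)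
    (u v : V) : B (y u) v = B u ((y ^ (r - 1)) v) := by
  have h := hyB u ((y ^ (r - 1)) v)
  rw [SpImp.pow_pred_apply hr hy v] at h
  exact h

theorem inv_perp {y : Module.End F V} (hyB : IsIsom B y) {r : ℕ} (hr : 0 < r) (hy : y ^ r = 1)
    {W : Submodule F V} (hW : Elus.Inv y W) : Elus.Inv y (perp B W) :=
  inv_perp_gen B hyB (SpImp.pow_pred_apply hr hy) (Imp.inv_pow' hW (r - 1))

theorem adj_pow {y : Module.End F V} (hyB : IsIsom B y) {r : ℕ} (hr : 0 < r) (hy : y ^ r = 1)
    (n : ℕ) : ∀ u v : V, B u ((y ^ n) v) = B (((y ^ (r - 1)) ^ n) u) v := by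
  induction n with
  | zero =>
    intro u v
    rw [pow_zero, pow_zero]
    rfl
  | succ n ih =>
    intro u v
    rw [pow_succ, Module.End.mul_apply, ih, adj_one B hyB hr hy, pow_succ' _ n,
      Module.End.mul_apply]

theorem adj_aeval (hσ2 : ∀ a, σ (σ a) = a) {y : Module.End F V} (hyB : IsIsom B y) {r : ℕ}
    (hr : 0 < r) (hy : y ^ r = 1) (f : F[X]) (u v : V) :
    B u (aeval y f v) = B (aeval (y ^ (r - 1)) (f.map σ) u) v := by
  induction f using Polynomial.induction_on' with
  | add p q hp hq =>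
    simp only [Polynomial.map_add, map_add, LinearMap.add_apply, hp, hq]
  | monomial n a =>
    simp only [Polynomial.map_monomial, aeval_monomial, Module.End.mul_apply,
      Module.algebraMap_end_apply, map_smul, map_smulₛₗ, LinearMap.smul_apply, hσ2,
      adj_pow B hyB hr hy n u v]

/-- nondegeneracy of the fixed part of a nondegenerate invariant subspace -/
theorem nd_fix (hS : B.IsSymm) {y : Module.End F V} (hyB : IsIsom B y) {r : ℕ}
    (hrF : (r : F) ≠ 0) (hy : y ^ r = 1) {W : Submodule F V} (hW : ND B W)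
    (hWi : Elus.Inv y W) : ND B (W ⊓ LinearMap.ker (y - 1)) := by
  rw [nd_iff B hS]
  intro u hu hu2
  apply (nd_iff B hS).mp hW u hu.1
  intro w hw
  have hTw : (∑ j ∈ Finset.range r, y ^ j) w ∈ W ⊓ LinearMap.ker (y - 1) := by
    refine ⟨?_, Imp.geom_ker hy w⟩
    rw [LinearMap.sum_apply]
    exact Submodule.sum_mem _ (fun j _ => Imp.inv_pow' hWi j w hw)
  have h1 := hu2 _ hTw
  rw [LinearMap.sum_apply, map_sum] at h1
  have h2 : ∀ j ∈ Finset.range r, B u ((y ^ j) w) = B u w := by
    intro j _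
    have h3 := hyB.pow j u w
    rw [Imp.pow_fix (Elus.mem_ker_sub_one.mp hu.2) j] at h3
    exact h3
  rw [Finset.sum_congr rfl h2, Finset.sum_const, Finset.card_range, nsmul_eq_mul] at h1
  exact (mul_eq_zero.mp h1).resolve_left hrF

/-- the moving part of a nondegenerate invariant subspace -/
theorem moving_part (hσ2 : ∀ a, σ (σ a) = a) (hS : B.IsSymm) (hB : B.Nondegenerate)
    {y : Module.End F V} (hyB : IsIsom B y)
    {r : ℕ} (hr : 0 < r) (hrF : (r : F) ≠ 0) (hy : y ^ r = 1) {W : Submodule F V} (hW : ND B W)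
    (hWi : Elus.Inv y W) :
    ∃ WN : Submodule F V, WN ≤ W ∧ ND B WN ∧ Elus.Inv y WN ∧ WN ⊓ LinearMap.ker (y - 1) = ⊥ ∧
      finrank F WN = finrank F W - finrank F (W ⊓ LinearMap.ker (y - 1) : Submodule F V) ∧
      Orth B (W ⊓ LinearMap.ker (y - 1)) WN ∧ Disjoint (W ⊓ LinearMap.ker (y - 1)) WN := by
  have hC := nd_fix B hS hyB hrF hy hW hWi
  have hCi : Elus.Inv y (W ⊓ LinearMap.ker (y - 1)) :=
    SpImp.inv_inf' hWi (Elus.inv_of_le_ker le_rfl)
  refine ⟨W ⊓ perp B (W ⊓ LinearMap.ker (y - 1)), inf_le_left,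
    nd_perp_in B hσ2 hS hB hW hC inf_le_left, SpImp.inv_inf' hWi (inv_perp B hyB hr hy hCi), ?_,
    finrank_perp_in B hσ2 hB hW inf_le_left, ?_, ?_⟩
  · rw [eq_bot_iff]
    intro x hx
    have h1 : x ∈ (W ⊓ LinearMap.ker (y - 1)) ⊓ perp B (W ⊓ LinearMap.ker (y - 1)) :=
      ⟨⟨hx.1.1, hx.2⟩, hx.1.2⟩
    rw [hC.eq_bot] at h1
    exact h1
  · rw [orth_iff_le_perp]
    exact inf_le_right
  · exact (nd_rel B hσ2 hB hC inf_le_left).1

end IsoSec

section Fin

variable {F : Type u} [Field F] [Fintype F] {q : ℕ} (hF : Fintype.card F = q ^ 2)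
variable {V : Type v} [AddCommGroup V] [Module F V] [FiniteDimensional F V]
variable (B : V →ₛₗ[HermBridge.sigma hF] V →ₗ[F] F)

include hF in
/-- `q` is a power of the characteristic -/
theorem q_eq_pow {p : ℕ} [hp : Fact p.Prime] [CharP F p] : ∃ k : ℕ, q = p ^ k := by
  obtain ⟨n, -, hn⟩ := FiniteField.card F p
  rw [hF] at hn
  have h1 : q ∣ p ^ (n : ℕ) := by
    rw [← hn]
    exact Dvd.intro_left (q ^ 1) (by ring)
  obtain ⟨k, -, hk⟩ := (Nat.dvd_prime_pow hp.out).mp h1
  exact ⟨k, hk⟩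

/-- the `q`-th power of a polynomial is the expansion of its Frobenius twist -/
theorem pow_q_expand {p : ℕ} [hp : Fact p.Prime] [CharP F p] (f : F[X]) :
    f ^ q = expand F q (f.map (HermBridge.sigma hF)) := by
  obtain ⟨k, hk⟩ := q_eq_pow hF (p := p)
  induction f using Polynomial.induction_on' with
  | add f g hf hg =>
    rw [Polynomial.map_add, map_add, ← hf, ← hg]
    conv_lhs => rw [hk]
    rw [add_pow_char_pow, ← hk]
  | monomial n a =>
    rw [monomial_pow, Polynomial.map_monomial, expand_monomial, HermBridge.sigma_apply]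

/-- the Frobenius twist: if `q ^ (2 e + 1) ≡ -1` modulo `r`, kernels of polynomials in `y` are
kernels of the twisted polynomials in `y⁻¹` -/
theorem sd_ker {p : ℕ} [hp : Fact p.Prime] [CharP F p] (r : ℕ) [hr : Fact r.Prime] (e : ℕ)
    (hdvd : r ∣ q ^ (2 * e + 1) + 1) {y : Module.End F V} (hy : y ^ r = 1) (f : F[X]) (v : V)
    (h : aeval y f v = 0) : aeval (y ^ (r - 1)) (f.map (HermBridge.sigma hF)) v = 0 := by
  have hr0 : 0 < r := hr.out.pos
  have hq0 : 0 < q := by
    rcases Nat.eq_zero_or_pos q with h0 | h0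
    · rw [h0] at hF
      have := Fintype.card_pos (α := F)
      omega
    · exact h0
  have hN : q ^ (2 * e + 1) = Fintype.card F ^ e * q := by
    rw [hF, ← pow_mul, pow_succ]
  have h3 : y ^ (q ^ (2 * e + 1) + 1) = 1 := by
    obtain ⟨k, hk⟩ := hdvd
    rw [hk, pow_mul, hy, one_pow]
  have hyy : y * y ^ (r - 1) = 1 := by rw [← pow_succ', Nat.sub_add_cancel hr0, hy]
  have h4 : y ^ (q ^ (2 * e + 1)) = y ^ (r - 1) := by
    calc y ^ (q ^ (2 * e + 1)) = y ^ (q ^ (2 * e + 1)) * (y * y ^ (r - 1)) := by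
          rw [hyy, mul_one]
      _ = y ^ (q ^ (2 * e + 1) + 1) * y ^ (r - 1) := by
          rw [pow_succ y (q ^ (2 * e + 1)), mul_assoc]
      _ = y ^ (r - 1) := by rw [h3, one_mul]
  have hQ : 0 < q ^ (2 * e + 1) := pow_pos hq0 _
  rw [← h4, ← expand_aeval, hN, expand_mul, ← pow_q_expand hF (p := p), SpImp.expand_card_pow,
    ← pow_mul, map_pow]
  obtain ⟨Q', hQ'⟩ : ∃ Q', q * Fintype.card F ^ e = Q' + 1 :=
    ⟨q * Fintype.card F ^ e - 1, by
      have : 0 < q * Fintype.card F ^ e := Nat.mul_pos hq0 (pow_pos Fintype.card_pos e)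
      omega⟩
  rw [hQ', pow_succ, Module.End.mul_apply, h, map_zero]

/-- the number of vectors of norm one is congruent to the number of fixed ones -/
theorem card_norm_one_modEq {y : Module.End F V} (hyB : IsIsom B y) (r : ℕ) [hr : Fact r.Prime]
    (hy : y ^ r = 1) {W : Submodule F V} (hWi : Elus.Inv y W) :
    Nat.card {v : W // B (v : V) (v : V) = 1} ≡
      Nat.card {v : ↥(W ⊓ LinearMap.ker (y - 1)) // B (v : V) (v : V) = 1} [MOD r] := by
  classical
  haveI : Finite V := Module.finite_of_finite F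
  haveI : Fintype {v : W // B (v : V) (v : V) = 1} := Fintype.ofFinite _
  let f : Function.End {v : W // B (v : V) (v : V) = 1} :=
    fun v => ⟨⟨y (v.1 : V), hWi _ v.1.2⟩, by
      show B (y (v.1 : V)) (y (v.1 : V)) = 1
      rw [hyB]
      exact v.2⟩
  have hfpow : ∀ (k : ℕ) (v : {v : W // B (v : V) (v : V) = 1}),
      (((f ^ k) v).1 : V) = (y ^ k) (v.1 : V) := by
    intro k
    induction k with
    | zero =>
      intro v
      rw [pow_zero, pow_zero]
      rfl
    | succ k ih =>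
      intro v
      rw [pow_succ', pow_succ']
      show y (((f ^ k) v).1 : V) = _
      rw [ih v, Module.End.mul_apply]
  have hf : f ^ r ^ 1 = 1 := by
    funext v
    apply Subtype.ext
    apply Subtype.ext
    rw [pow_one, hfpow r v, hy]
    rfl
  have h1 := Equiv.Perm.card_fixedPoints_modEq (p := r) (n := 1) hf
  rw [← Nat.card_eq_fintype_card, ← Nat.card_eq_fintype_card] at h1
  refine h1.trans ?_
  suffices hsuff : Nat.card (Function.fixedPoints f) =
      Nat.card {v : ↥(W ⊓ LinearMap.ker (y - 1)) // B (v : V) (v : V) = 1} by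
    rw [hsuff]
  apply Nat.card_congr
  refine ⟨fun v => ⟨⟨(v.1.1 : V), v.1.1.2, ?_⟩, v.1.2⟩,
    fun v => ⟨⟨⟨(v.1 : V), v.1.2.1⟩, v.2⟩, ?_⟩, ?_, ?_⟩
  · apply Elus.mem_ker_sub_one.mpr
    have h2 := v.2
    have h3 : f v.1 = v.1 := h2
    have h4 := congrArg (fun w : {v : W // B (v : V) (v : V) = 1} => ((w.1 : W) : V)) h3
    exact h4
  · show f _ = _
    apply Subtype.ext
    apply Subtype.ext
    show y (v.1 : V) = (v.1 : V)
    exact Elus.mem_ker_sub_one.mp v.1.2.2
  · intro v
    rfl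
  · intro v
    rfl

/-- the key divisibility: the moving part of a nondegenerate invariant subspace has dimension
divisible by the order of `-q` modulo `r` -/
theorem herm_mod (hS : B.IsSymm) (hB : B.Nondegenerate) {y : Module.End F V} (hyB : IsIsom B y)
    (r : ℕ) [hr : Fact r.Prime] (hrF : (r : F) ≠ 0) (hrq : ¬ r ∣ q) (hy : y ^ r = 1)
    {W : Submodule F V} (hW : ND B W) (hWi : Elus.Inv y W) :
    orderOf (-(q : ZMod r)) ∣
      finrank F W - finrank F (W ⊓ LinearMap.ker (y - 1) : Submodule F V) := by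
  have hrq' : ¬ r ∣ Fintype.card F := by
    rw [hF]
    intro h
    exact hrq (hr.out.dvd_of_dvd_pow h)
  have h1 := Elus.mod_inf_of_inv y r hy hrq' W hWi
  have hle : finrank F (W ⊓ LinearMap.ker (y - 1) : Submodule F V) ≤ finrank F W :=
    Submodule.finrank_mono inf_le_left
  have hW₀ := nd_fix B hS hyB hrF hy hW hWi
  have h2 := card_norm_one_modEq hF B hyB r hy hWi
  rw [card_norm_one_nd hF B hS hW, card_norm_one_nd hF B hS hW₀] at h2
  generalize finrank F W = d at *
  generalize finrank F (W ⊓ LinearMap.ker (y - 1) : Submodule F V) = d₀ at *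
  have hz := HermCount.A_one_int hF d
  have hz₀ := HermCount.A_one_int hF d₀
  have hc := congrArg (Int.cast : ℤ → ZMod r) hz
  have hc₀ := congrArg (Int.cast : ℤ → ZMod r) hz₀
  push_cast at hc hc₀
  have h3 : ((HermCount.A F q d 1 : ℕ) : ZMod r) = ((HermCount.A F q d₀ 1 : ℕ) : ZMod r) :=
    (ZMod.natCast_eq_natCast_iff _ _ _).mpr h2
  set t : ZMod r := -(q : ZMod r) with ht
  have hq2 : ((Fintype.card F : ℕ) : ZMod r) = t ^ 2 := by
    rw [hF, ht]
    push_cast
    ring
  have h4 : t ^ (2 * (d - d₀)) = 1 := by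
    rw [pow_mul, ← hq2]
    obtain ⟨k, hk⟩ := h1
    rw [hk, pow_mul, pow_orderOf_eq_one, one_pow]
  have ht0 : t ≠ 0 := by
    rw [ht, neg_ne_zero]
    intro h
    exact hrq ((ZMod.natCast_eq_zero_iff q r).mp h)
  have h5 : t ^ (2 * d) = t ^ (2 * d₀) := by
    have e : 2 * d = 2 * d₀ + 2 * (d - d₀) := by omega
    rw [e, pow_add, h4, mul_one]
  have e1 : (q : ZMod r) ^ (2 * d) = t ^ (2 * d) := by
    rw [ht, pow_mul, pow_mul, neg_sq]
  have e2 : (q : ZMod r) ^ (2 * d₀) = t ^ (2 * d₀) := by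
    rw [ht, pow_mul, pow_mul, neg_sq]
  rw [h3] at hc
  rw [e1] at hc
  rw [e2] at hc₀
  have h6 : t ^ d = t ^ d₀ := by
    have : t ^ (2 * d) - t ^ d = t ^ (2 * d₀) - t ^ d₀ := by rw [← hc, ← hc₀]
    rw [h5] at this
    exact sub_right_injective this
  have h7 : t ^ (d - d₀) = 1 := by
    have e : d = d₀ + (d - d₀) := by omega
    rw [e, pow_add] at h6
    have h8 : t ^ d₀ ≠ 0 := pow_ne_zero _ ht0
    have : t ^ d₀ * t ^ (d₀ + (d - d₀) - d₀) = t ^ d₀ * 1 := by
      rw [Nat.add_sub_cancel_left, mul_one]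
      exact h6
    rw [Nat.add_sub_cancel_left] at this
    exact mul_left_cancel₀ h8 this
  exact orderOf_dvd_of_pow_eq_one h7

end Fin

end Cfsg.Agent.Lib.Helper2.Uti
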