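import Mathlib
import Cfsg.Agent.Lib.Helper2.UtiC
import Cfsg.Agent.Lib.Helper5.SemiConj.Main
set_option autoImplicit false
set_option maxHeartbeats 1000000
set_option linter.unusedVariables false
set_option linter.unusedSectionVars false
set_option linter.style.longLine false
set_option linter.unusedSimpArgs false
set_option linter.deprecated false
set_option linter.style.haveILetI false

/-! Totally isotropic subspaces of unitary spaces (part D): orders of `q ^ 2` and `-q` modulo `r`,
and the pairing lemma: two orthogonal nondegenerate invariant subspaces on which a semisimple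
isometry has the same characteristic polynomial contain an invariant totally isotropic subspace of
half the dimension of their sum. -/

namespace Cfsg.Agent.Lib.Helper2.Uti

open Module Polynomial Cfsg Cfsg.Agent.Lib.Helper2 Cfsg.Agent.Lib.Helper5

universe u v

section Arith

/-- the order of `q ^ 2` modulo `r` -/
theorem ord_sq (r : ℕ) [hr : Fact r.Prime] (q : ℕ) (hrq : ¬ r ∣ q) (i b : ℕ)
    (hi : i = orderOf (q : ZMod r)) (hb : b = if Even i then i / 2 else i) :
    orderOf (((q ^ 2 : ℕ) : ℕ) : ZMod r) = b := by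
  have hi0 : 0 < i := by
    rw [hi]
    exact Elus.ord_pos r q hrq
  push_cast
  rw [orderOf_pow' _ (by norm_num : (2 : ℕ) ≠ 0), ← hi, hb]
  by_cases hev : Even i
  · rw [if_pos hev]
    obtain ⟨h, hh⟩ := hev
    have : Nat.gcd i 2 = 2 := by
      rw [hh, ← two_mul]
      exact Nat.gcd_mul_right_left 2 h |>.symm ▸ (by simp)
    rw [this]
  · rw [if_neg hev]
    have hodd := Nat.not_even_iff_odd.mp hev
    have : Nat.gcd i 2 = 1 := Nat.coprime_two_right.mpr hodd
    rw [this, Nat.div_one]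

/-- the order of `-q` modulo `r` -/
theorem ord_neg (r : ℕ) [hr : Fact r.Prime] (hr2 : r ≠ 2) (q : ℕ) (hrq : ¬ r ∣ q) (i c : ℕ)
    (hi : i = orderOf (q : ZMod r))
    (hc : c = if i % 4 = 0 then i else if i % 4 = 2 then i / 2 else 2 * i) :
    orderOf (-(q : ZMod r)) = c := by
  have hi0 : 0 < i := by
    rw [hi]
    exact Elus.ord_pos r q hrq
  have hneg1 : orderOf (-1 : ZMod r) = 2 := by
    rw [orderOf_neg_one, if_neg]
    rw [ZMod.ringChar_zmod_n]
    exact hr2
  have hne : (-1 : ZMod r) ≠ 1 := by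
    intro h
    have := orderOf_eq_one_iff.mpr h
    omega
  set x : ZMod r := (q : ZMod r) with hx
  by_cases hev : Even i
  · obtain ⟨h, hh⟩ := hev
    have hh' : i = 2 * h := by omega
    have h0 : 0 < h := by omega
    have hxh : x ^ h = -1 := by
      have h1 : x ^ h * x ^ h = 1 := by
        rw [← pow_add, ← hh, hi, pow_orderOf_eq_one]
      rcases mul_self_eq_one_iff.mp h1 with h2 | h2
      · exfalso
        have h3 := orderOf_dvd_of_pow_eq_one h2
        rw [← hi] at h3
        have := Nat.le_of_dvd h0 h3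
        omega
      · exact h2
    have hnx : -x = x ^ (h + 1) := by
      rw [pow_succ, hxh]
      ring
    rw [hnx, orderOf_pow' _ (by omega : h + 1 ≠ 0), ← hi, hc]
    have hg : Nat.gcd i (h + 1) ∣ 2 := by
      have h1 : Nat.gcd i (h + 1) ∣ i := Nat.gcd_dvd_left _ _
      have h2 : Nat.gcd i (h + 1) ∣ h + 1 := Nat.gcd_dvd_right _ _
      have h3 : Nat.gcd i (h + 1) ∣ 2 * (h + 1) := Dvd.dvd.mul_left h2 2
      have h4 : 2 * (h + 1) = i + 2 := by omega
      rw [h4] at h3
      exact (Nat.dvd_add_right h1).mp h3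
    have hg2 : Nat.gcd i (h + 1) = 1 ∨ Nat.gcd i (h + 1) = 2 := by
      have := Nat.le_of_dvd (by norm_num) hg
      have hpos : 0 < Nat.gcd i (h + 1) := Nat.gcd_pos_of_pos_left _ hi0
      interval_cases (Nat.gcd i (h + 1)) <;> simp_all
    by_cases h4 : i % 4 = 0
    · rw [if_pos h4]
      have : Nat.gcd i (h + 1) = 1 := by
        rcases hg2 with h5 | h5
        · exact h5
        · exfalso
          have h6 : 2 ∣ h + 1 := h5 ▸ Nat.gcd_dvd_right _ _
          omega
      rw [this, Nat.div_one]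
    · have h42 : i % 4 = 2 := by omega
      rw [if_neg h4, if_pos h42]
      have : Nat.gcd i (h + 1) = 2 := by
        rcases hg2 with h5 | h5
        · exfalso
          have h6 : 2 ∣ Nat.gcd i (h + 1) := Nat.dvd_gcd ⟨h, hh'⟩ (by omega)
          rw [h5] at h6
          omega
        · exact h5
      rw [this]
  · have hodd := Nat.not_even_iff_odd.mp hev
    have h40 : i % 4 ≠ 0 := by
      obtain ⟨k, hk⟩ := hodd
      omega
    have h42 : i % 4 ≠ 2 := by
      obtain ⟨k, hk⟩ := hodd
      omega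
    rw [hc, if_neg h40, if_neg h42]
    have hnx : -x = (-1) * x := by ring
    rw [hnx, (Commute.all (-1 : ZMod r) x).orderOf_mul_eq_mul_orderOf_of_coprime, hneg1, ← hi]
    rw [hneg1, ← hi]
    exact Nat.coprime_two_left.mpr hodd

end Arith

section Pair

variable {F : Type u} [Field F] [Finite F] {σ : F →+* F} {V : Type v} [AddCommGroup V]
  [Module F V] [FiniteDimensional F V]
variable (B : V →ₛₗ[σ] V →ₗ[F] F)

theorem aeval_restrict {y : Module.End F V} {U : Submodule F V} (hU : ∀ x ∈ U, y x ∈ U) (f : F[X])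
    (u : U) : ((aeval (y.restrict hU) f u : U) : V) = aeval y f (u : V) := by
  induction f using Polynomial.induction_on' with
  | add p q hp hq =>
    rw [map_add, map_add, LinearMap.add_apply, LinearMap.add_apply, Submodule.coe_add, hp, hq]
  | monomial n a =>
    rw [aeval_monomial, aeval_monomial, Module.End.mul_apply, Module.End.mul_apply,
      Module.algebraMap_end_apply, Module.algebraMap_end_apply, Submodule.coe_smul]
    congr 1
    induction n with
    | zero => rfl
    | succ n ih =>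
      rw [pow_succ', pow_succ', Module.End.mul_apply, Module.End.mul_apply,
        LinearMap.restrict_coe_apply, ih]

/-- the characteristic polynomial on an invariant subspace annihilated by an irreducible
polynomial of degree the dimension -/
theorem charpoly_restrict_eq {y : Module.End F V} {U₁ U₂ : Submodule F V}
    (hU₁ : ∀ x ∈ U₁, y x ∈ U₁) (hU₂ : ∀ x ∈ U₂, y x ∈ U₂) {φ : F[X]} (hφ : Irreducible φ)
    (hφ₁ : ∀ u ∈ U₁, aeval y φ u = 0) (hφ₂ : ∀ u ∈ U₂, aeval y φ u = 0)
    (hfin₁ : finrank F U₁ = φ.natDegree) (hfin₂ : finrank F U₂ = φ.natDegree) :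
    LinearMap.charpoly (y.restrict hU₁) = LinearMap.charpoly (y.restrict hU₂) := by
  have key : ∀ (U : Submodule F V) (hU : ∀ x ∈ U, y x ∈ U), (∀ u ∈ U, aeval y φ u = 0) →
      finrank F U = φ.natDegree →
      LinearMap.charpoly (y.restrict hU) = φ * C (φ.leadingCoeff)⁻¹ := by
    intro U hU hφU hfin
    have hdeg0 : 0 < φ.natDegree := Irreducible.natDegree_pos hφ
    haveI : Nontrivial U := Module.nontrivial_of_finrank_pos (R := F) (by omega)
    have hann : aeval (y.restrict hU) φ = 0 := by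
      apply LinearMap.ext
      intro u
      apply Subtype.ext
      rw [aeval_restrict hU φ u, hφU _ u.2]
      rfl
    have hdvd : minpoly F (y.restrict hU) ∣ φ := minpoly.dvd F _ hann
    have hint : IsIntegral F (y.restrict hU) := Algebra.IsIntegral.isIntegral _
    have hnu : ¬ IsUnit (minpoly F (y.restrict hU)) := minpoly.not_isUnit F _
    have hassoc : Associated (minpoly F (y.restrict hU)) φ := by
      obtain ⟨g, hg⟩ := hdvd
      rcases hφ.isUnit_or_isUnit hg with h | h
      · exact absurd h hnu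
      · exact ⟨h.unit, by rw [IsUnit.unit_spec]; exact hg.symm⟩
    have hmonic : (φ * C (φ.leadingCoeff)⁻¹).Monic :=
      Polynomial.monic_mul_leadingCoeff_inv hφ.ne_zero
    have hassoc2 : Associated φ (φ * C (φ.leadingCoeff)⁻¹) := by
      refine ⟨(Polynomial.isUnit_C.mpr (IsUnit.mk0 _
        (inv_ne_zero (leadingCoeff_ne_zero.mpr hφ.ne_zero)))).unit, ?_⟩
      rw [IsUnit.unit_spec]
    have hmin : minpoly F (y.restrict hU) = φ * C (φ.leadingCoeff)⁻¹ :=
      eq_of_monic_of_associated (minpoly.monic hint) hmonic (hassoc.trans hassoc2)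
    rw [← hmin]
    apply Polynomial.eq_of_monic_of_dvd_of_natDegree_le (minpoly.monic hint)
      (LinearMap.charpoly_monic _) (LinearMap.minpoly_dvd_charpoly _)
    rw [LinearMap.charpoly_natDegree, hfin, hmin, natDegree_mul_C
      (inv_ne_zero (leadingCoeff_ne_zero.mpr hφ.ne_zero))]
  rw [key U₁ hU₁ hφ₁ hfin₁, key U₂ hU₂ hφ₂ hfin₂]

/-- the data of a semisimple isometry on an invariant nondegenerate subspace, with the form
scaled by a fixed scalar -/
noncomputable def subData (hσ : σ ≠ RingHom.id F) (hσ2 : ∀ a, σ (σ a) = a) (hS : B.IsSymm)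
    {y yi : Module.End F V} (hyB : IsIsom B y) (h1 : ∀ w, y (yi w) = w) (h2 : ∀ w, yi (y w) = w)
    (hss : y.IsSemisimple) (hssi : yi.IsSemisimple) (U : Submodule F V) (hU : ND B U)
    (hUy : ∀ x ∈ U, y x ∈ U) (hUyi : ∀ x ∈ U, yi x ∈ U) (s : F) (hs0 : s ≠ 0) (hsσ : σ s = s) :
    SemiConj.IsoData σ (1 : F) U where
  B := s • (B.domRestrict₁₂ U U)
  g := y.restrict hUy
  gi := yi.restrict hUyi
  sig2 := hσ2
  eps := one_ne_zero
  herm := by
    intro a b
    rw [LinearMap.smul_apply, LinearMap.smul_apply, LinearMap.smul_apply, LinearMap.smul_apply,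
      smul_eq_mul, smul_eq_mul, map_mul, hsσ, one_mul]
    congr 1
    exact hS.eq (a : V) (b : V)
  alt := fun h => absurd h hσ
  nondeg := by
    intro v hv
    apply Subtype.ext
    apply (nd_iff B hS).mp hU v v.2
    intro w hw
    have h3 := hv ⟨w, hw⟩
    rw [LinearMap.smul_apply, LinearMap.smul_apply, smul_eq_mul] at h3
    exact swap_zero B hS ((mul_eq_zero.mp h3).resolve_left hs0)
  isom := by
    intro a b
    rw [LinearMap.smul_apply, LinearMap.smul_apply, LinearMap.smul_apply, LinearMap.smul_apply]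
    congr 1
    exact hyB (a : V) (b : V)
  gi_g := fun a => Subtype.ext (h2 (a : V))
  g_gi := fun a => Subtype.ext (h1 (a : V))
  ss := Module.End.IsSemisimple.restrict (p := U) hUy hss
  ssi := Module.End.IsSemisimple.restrict (p := U) hUyi hssi

/-- the pairing lemma -/
theorem exists_ti_graph (hσ : σ ≠ RingHom.id F) (hσ2 : ∀ a, σ (σ a) = a) (hS : B.IsSymm)
    {y yi : Module.End F V} (hyB : IsIsom B y) (h1 : ∀ w, y (yi w) = w) (h2 : ∀ w, yi (y w) = w)
    (hss : y.IsSemisimple) (hssi : yi.IsSemisimple) {U₁ U₂ : Submodule F V} (hU₁ : ND B U₁)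
    (hU₂ : ND B U₂) (hU₁y : ∀ x ∈ U₁, y x ∈ U₁) (hU₁yi : ∀ x ∈ U₁, yi x ∈ U₁)
    (hU₂y : ∀ x ∈ U₂, y x ∈ U₂) (hU₂yi : ∀ x ∈ U₂, yi x ∈ U₂) (horth : Orth B U₁ U₂)
    (hchar : LinearMap.charpoly (y.restrict hU₁y) = LinearMap.charpoly (y.restrict hU₂y)) :
    ∃ Γ : Submodule F V, Γ ≤ U₁ ⊔ U₂ ∧ TI B Γ ∧ Elus.Inv y Γ ∧ finrank F Γ = finrank F U₁ := by
  have hneg : σ (-1 : F) = -1 := by rw [map_neg, map_one]
  let D₁ := subData B hσ hσ2 hS hyB h1 h2 hss hssi U₁ hU₁ hU₁y hU₁yi 1 one_ne_zero (map_one σ)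
  let D₂ := subData B hσ hσ2 hS hyB h1 h2 hss hssi U₂ hU₂ hU₂y hU₂yi (-1)
    (neg_ne_zero.mpr one_ne_zero) hneg
  obtain ⟨φ, hφB, hφg⟩ := SemiConj.exists_isometry D₁ D₂ hchar
  have hφB' : ∀ a b : U₁, B ((φ a : U₂) : V) ((φ b : U₂) : V) = - B (a : V) (b : V) := by
    intro a b
    have h3 := hφB a b
    have e1 : D₂.B (φ a) (φ b) = (-1 : F) * B ((φ a : U₂) : V) ((φ b : U₂) : V) := rfl
    have e2 : D₁.B a b = (1 : F) * B (a : V) (b : V) := rfl
    rw [e1, e2] at h3
    linear_combination -h3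
  have hφg' : ∀ a : U₁, ((φ ⟨y (a : V), hU₁y _ a.2⟩ : U₂) : V) = y ((φ a : U₂) : V) := by
    intro a
    have h3 := hφg a
    exact congrArg Subtype.val h3
  let T : U₁ →ₗ[F] V := U₁.subtype + U₂.subtype.comp (φ : U₁ →ₗ[F] U₂)
  have hT : ∀ a : U₁, T a = (a : V) + ((φ a : U₂) : V) := fun a => rfl
  have hdisj : Disjoint U₁ U₂ := by
    rw [Submodule.disjoint_def]
    intro x hx1 hx2
    apply (nd_iff B hS).mp hU₁ x hx1
    intro v hv
    exact swap_zero B hS (horth v hv x hx2)
  have hTinj : Function.Injective T := by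
    rw [← LinearMap.ker_eq_bot, LinearMap.ker_eq_bot']
    intro a ha
    rw [hT] at ha
    have h3 : (a : V) = -((φ a : U₂) : V) := eq_neg_of_add_eq_zero_left ha
    have h4 : (a : V) ∈ U₁ ⊓ U₂ := ⟨a.2, by rw [h3]; exact U₂.neg_mem (φ a).2⟩
    rw [hdisj.eq_bot] at h4
    exact Subtype.ext ((Submodule.mem_bot F).mp h4)
  refine ⟨LinearMap.range T, ?_, ?_, ?_, LinearMap.finrank_range_of_inj hTinj⟩
  · rintro _ ⟨a, rfl⟩
    rw [hT]
    exact Submodule.add_mem_sup a.2 (φ a).2
  · rintro _ ⟨a, rfl⟩ _ ⟨b, rfl⟩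
    rw [hT, hT, map_add, map_add, LinearMap.add_apply, LinearMap.add_apply, hφB' a b,
      horth _ a.2 _ (φ b).2, swap_zero B hS (horth _ b.2 _ (φ a).2)]
    ring
  · rintro _ ⟨a, rfl⟩
    refine ⟨⟨y (a : V), hU₁y _ a.2⟩, ?_⟩
    rw [hT, hT, map_add, hφg' a]

end Pair

end Cfsg.Agent.Lib.Helper2.Uti
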