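import Mathlib
import Cfsg.Agent.Lib.Helper2.UtiD
set_option autoImplicit false
set_option maxHeartbeats 1000000
set_option linter.unusedVariables false
set_option linter.unusedSectionVars false
set_option linter.style.longLine false
set_option linter.unusedSimpArgs false
set_option linter.deprecated false
set_option linter.style.haveILetI false

/-! Totally isotropic subspaces of unitary spaces (part E): nondegenerate invariant blocks,
orthogonal decompositions into blocks, and pairs of blocks of the same type. -/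

namespace Cfsg.Agent.Lib.Helper2.Uti

open Module Polynomial Cfsg Cfsg.Agent.Lib.Helper2 Cfsg.Agent.Lib.Helper5

universe u v

section Grow

variable {F : Type u} [Field F] {σ : F →+* F} {V : Type v} [AddCommGroup V] [Module F V]
  [FiniteDimensional F V]
variable (B : V →ₛₗ[σ] V →ₗ[F] F)

/-- peeling off nondegenerate blocks -/
theorem peel (hσ2 : ∀ a, σ (σ a) = a) (hS : B.IsSymm) (hB : B.Nondegenerate)
    (P : Submodule F V → Prop) (Q : ℕ → Submodule F V → Prop)
    (hQ0 : ∀ W, Q 0 W → W = ⊥)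
    (hstep : ∀ (t' : ℕ) (W : Submodule F V), Q (t' + 1) W →
      ∃ D : Submodule F V, D ≤ W ∧ ND B D ∧ P D ∧ Q t' (W ⊓ perp B D)) :
    ∀ (t : ℕ) (W : Submodule F V), Q t W →
      ∃ D : Fin t → Submodule F V, (∀ j, ND B (D j)) ∧ (∀ j, P (D j)) ∧
        (∀ j j', j ≠ j' → Orth B (D j) (D j')) ∧ iSupIndep D ∧ iSup D = W := by
  intro t
  induction t with
  | zero =>
    intro W hQ
    refine ⟨fun _ => ⊥, fun j => j.elim0, fun j => j.elim0, fun j => j.elim0,
      fun j => j.elim0, ?_⟩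
    rw [iSup_of_empty]
    exact (hQ0 W hQ).symm
  | succ t ih =>
    intro W hQ
    obtain ⟨D0, hD0W, hD0nd, hD0P, hQ'⟩ := hstep t W hQ
    obtain ⟨D', hD'nd, hD'P, hD'o, hD'ind, hD'sup⟩ := ih _ hQ'
    obtain ⟨hdisj, hsup⟩ := nd_rel B hσ2 hB hD0nd hD0W
    have hD'le : ∀ j, D' j ≤ perp B D0 := by
      intro j
      have h1 : D' j ≤ iSup D' := le_iSup D' j
      rw [hD'sup] at h1
      exact h1.trans inf_le_right
    refine ⟨Fin.cons D0 D', ?_, ?_, ?_, ?_, ?_⟩
    · intro j
      induction j using Fin.cases with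
      | zero =>
        rw [Fin.cons_zero]
        exact hD0nd
      | succ j =>
        rw [Fin.cons_succ]
        exact hD'nd j
    · intro j
      induction j using Fin.cases with
      | zero =>
        rw [Fin.cons_zero]
        exact hD0P
      | succ j =>
        rw [Fin.cons_succ]
        exact hD'P j
    · intro j j' hjj'
      induction j using Fin.cases with
      | zero =>
        induction j' using Fin.cases with
        | zero => exact absurd rfl hjj'
        | succ j' =>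
          rw [Fin.cons_zero, Fin.cons_succ]
          exact (orth_iff_le_perp B).mpr (hD'le j')
      | succ j =>
        induction j' using Fin.cases with
        | zero =>
          rw [Fin.cons_zero, Fin.cons_succ]
          exact Orth.symm hS ((orth_iff_le_perp B).mpr (hD'le j))
        | succ j' =>
          rw [Fin.cons_succ, Fin.cons_succ]
          exact hD'o j j' (fun h => hjj' (by rw [h]))
    · apply Imp.indep_cons D0 D' hD'ind
      rw [hD'sup]
      exact hdisj
    · rw [Imp.iSup_cons, hD'sup, hsup]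

end Grow

section Fin

variable {F : Type u} [Field F] [Fintype F] {q : ℕ} (hF : Fintype.card F = q ^ 2)
variable {V : Type v} [AddCommGroup V] [Module F V] [FiniteDimensional F V]
variable (B : V →ₛₗ[HermBridge.sigma hF] V →ₗ[F] F)

/-- existence of nondegenerate invariant blocks of dimension `c` without fixed vectors -/
theorem exists_nd_block {p : ℕ} [hp : Fact p.Prime] [CharP F p]
    (hS : B.IsSymm) (hB : B.Nondegenerate) (r : ℕ) [hr : Fact r.Prime] (hrp : r ≠ p)
    (hrF : (r : F) ≠ 0) (hrq : ¬ r ∣ q) {y : Module.End F V} (hyB : IsIsom B y)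
    (hy : y ^ r = 1) (b c : ℕ) (hb : b = orderOf ((Fintype.card F : ℕ) : ZMod r))
    (hc : c = orderOf (-(q : ZMod r)))
    (htype : (c = b ∧ ∃ e, r ∣ q ^ (2 * e + 1) + 1) ∨ c = 2 * b)
    {N : Submodule F V} (hN : ND B N)
    (hNi : Elus.Inv y N) (hNC : N ⊓ LinearMap.ker (y - 1) = ⊥) (hN0 : N ≠ ⊥) :
    ∃ U : Submodule F V, U ≤ N ∧ ND B U ∧ Elus.Inv y U ∧ finrank F U = c := by
  classical
  obtain ⟨f₀, -, hq⟩ := FiniteField.card F p
  have hσ2 := HermBridge.sigma_sigma hF
  have hr0 : 0 < r := hr.out.pos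
  have hrq' : ¬ r ∣ Fintype.card F := by
    rw [hF]
    intro h
    exact hrq (hr.out.dvd_of_dvd_pow h)
  have hb0 : 0 < b := by
    rw [hb]
    exact Elus.ord_pos r (Fintype.card F) hrq'
  have hdisj : ∀ Z : Submodule F V, Z ≤ N → Disjoint Z (LinearMap.ker (y - 1)) := by
    intro Z hZ
    rw [disjoint_iff, eq_bot_iff, ← hNC]
    exact inf_le_inf_right _ hZ
  obtain ⟨U₀, hU₀N, hU₀0, hU₀i, hU₀min⟩ := Elus.exists_minimal_inv y _ N rfl hN0 hNi
  have hU₀fin : finrank F U₀ = b := by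
    rw [hb]
    exact Elus.finrank_of_minimal hq y r hrp hy U₀ hU₀i hU₀0 hU₀min (hdisj U₀ hU₀N)
  have hRi : Elus.Inv y (U₀ ⊓ perp B U₀) := SpImp.inv_inf' hU₀i (inv_perp B hyB hr0 hy hU₀i)
  have hndc : ∀ Z : Submodule F V, Z ≤ N → ND B Z → Elus.Inv y Z → c ∣ finrank F Z := by
    intro Z hZN hZ hZi
    have h1 := herm_mod hF B hS hB hyB r hrF hrq hy hZ hZi
    rw [(hdisj Z hZN).eq_bot, finrank_bot, Nat.sub_zero, ← hc] at h1
    exact h1
  rcases hU₀min _ inf_le_left hRi with hR | hR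
  · have hU₀nd : ND B U₀ := disjoint_iff.mpr hR
    refine ⟨U₀, hU₀N, hU₀nd, hU₀i, ?_⟩
    rcases htype with ⟨h1, -⟩ | h1
    · rw [h1]
      exact hU₀fin
    · exfalso
      have h2 := hndc U₀ hU₀N hU₀nd hU₀i
      rw [hU₀fin, h1] at h2
      have := Nat.le_of_dvd hb0 h2
      omega
  · have hti : U₀ ≤ perp B U₀ := inf_eq_left.mp hR
    have hKi : Elus.Inv y (N ⊓ perp B U₀) := SpImp.inv_inf' hNi (inv_perp B hyB hr0 hy hU₀i)
    have hss := Elus.isSemisimple_of_pow_eq_one y r hrF hy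
    obtain ⟨U', hU'i, hU'N, hKU', hsup⟩ := Imp.exists_rel_compl hss hKi hNi inf_le_left
    have hU₀K : U₀ ≤ N ⊓ perp B U₀ := le_inf hU₀N hti
    have hKfin : finrank F (N ⊓ perp B U₀ : Submodule F V) = finrank F N - b := by
      rw [← hU₀fin]
      exact finrank_perp_in B hσ2 hB hN hU₀N
    have hNfin := Elus.finrank_sup_of_disjoint hKU'
    rw [hsup] at hNfin
    have hiN : b ≤ finrank F N := by
      rw [← hU₀fin]
      exact Submodule.finrank_mono hU₀N
    have hU'fin : finrank F U' = b := by omega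
    have hd : Disjoint U₀ U' := hKU'.mono_left hU₀K
    have hX : U₀ ⊓ perp B U' = ⊥ := by
      rcases hU₀min _ inf_le_left (SpImp.inv_inf' hU₀i (inv_perp B hyB hr0 hy hU'i)) with h | h
      · exact h
      · exfalso
        have h1 : U₀ ≤ perp B U' := inf_eq_left.mp h
        apply hU₀0
        rw [eq_bot_iff]
        intro u₀ hu₀
        have h2 : u₀ ∈ perp B N := by
          rw [mem_perp B]
          intro n hn
          rw [← hsup] at hn
          obtain ⟨k, hk, u', hu', rfl⟩ := Submodule.mem_sup.mp hn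
          rw [map_add, LinearMap.add_apply, (mem_perp B).mp (h1 hu₀) u' hu', add_zero]
          exact swap_zero B hS ((mem_perp B).mp hk.2 u₀ hu₀)
        have h3 : u₀ ∈ N ⊓ perp B N := ⟨hU₀N hu₀, h2⟩
        rw [hN.eq_bot] at h3
        exact h3
    have hPnd : ND B (U₀ ⊔ U') := by
      rw [nd_iff B hS]
      intro x hx hx2
      obtain ⟨u, hu, u', hu', rfl⟩ := Submodule.mem_sup.mp hx
      have hu'0 : u' = 0 := by
        have h1 : u' ∈ (N ⊓ perp B U₀) ⊓ U' := by
          refine ⟨⟨hU'N hu', ?_⟩, hu'⟩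
          apply (mem_perp B).mpr
          intro w hw
          have h2 := hx2 w (Submodule.mem_sup_left hw)
          rw [map_add, LinearMap.add_apply,
            swap_zero B hS ((mem_perp B).mp (hti hu) w hw), zero_add] at h2
          exact swap_zero B hS h2
        rw [hKU'.eq_bot] at h1
        exact (Submodule.mem_bot F).mp h1
      rw [hu'0, add_zero] at hx2 ⊢
      have h1 : u ∈ U₀ ⊓ perp B U' := by
        refine ⟨hu, ?_⟩
        apply (mem_perp B).mpr
        intro w hw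
        exact swap_zero B hS (hx2 w (Submodule.mem_sup_right hw))
      rw [hX] at h1
      exact (Submodule.mem_bot F).mp h1
    have hPi : Elus.Inv y (U₀ ⊔ U') := Elus.Inv.sup hU₀i hU'i
    have hPN : U₀ ⊔ U' ≤ N := sup_le hU₀N hU'N
    have hPfin := Elus.finrank_sup_of_disjoint hd
    rw [hU₀fin, hU'fin] at hPfin
    rcases htype with ⟨hcb, e, he⟩ | hcb
    · -- self-dual type: find a nondegenerate minimal invariant subspace inside `U₀ ⊔ U'`
      obtain ⟨φ, hφirr, hφ⟩ := SpImp.exists_irr_ann hr0 hy hU₀i hU₀0 hU₀min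
      have hφP : ∀ x ∈ U₀ ⊔ U', aeval y φ x = 0 := by
        intro x hx
        obtain ⟨u, hu, u', hu', rfl⟩ := Submodule.mem_sup.mp hx
        have h1 : aeval y φ u' = 0 := by
          have h2 : aeval y φ u' ∈ (N ⊓ perp B U₀) ⊓ U' := by
            refine ⟨⟨hU'N (SpImp.inv_aeval hU'i φ u' hu'), ?_⟩, SpImp.inv_aeval hU'i φ u' hu'⟩
            apply (mem_perp B).mpr
            intro w hw
            rw [adj_aeval B hσ2 hyB hr0 hy, sd_ker hF (p := p) r e he hy φ w (hφ w hw), map_zero,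
              LinearMap.zero_apply]
          rw [hKU'.eq_bot] at h2
          exact (Submodule.mem_bot F).mp h2
        rw [map_add, hφ u hu, h1, add_zero]
      have hP0 : U₀ ⊔ U' ≠ ⊥ := fun h => hU₀0 (eq_bot_iff.mpr (h ▸ le_sup_left))
      haveI : Nontrivial ↥(U₀ ⊔ U') := Submodule.nontrivial_iff_ne_bot.mpr hP0
      obtain ⟨v, hv⟩ := HermBasis.exists_anisotropic (HermBridge.sigma_ne_id hF) hσ2
        (resForm hF B (U₀ ⊔ U')) (resForm_isSymm hF B hS _) (resForm_nondeg hF B hS hPnd)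
      obtain ⟨u, huP⟩ := v
      have huy : B u u ≠ 0 := hv
      have hu0 : u ≠ 0 := by
        rintro rfl
        apply huy
        rw [map_zero]
      have hZi : Elus.Inv y (SpImp.polySpan y u) := SpImp.polySpan_inv y u
      have huZ : u ∈ SpImp.polySpan y u := SpImp.mem_polySpan_self y u
      have hZP : SpImp.polySpan y u ≤ U₀ ⊔ U' := SpImp.polySpan_le hPi huP
      have hZmin := SpImp.polySpan_minimal hφirr (hφP u huP)
      have hZ0 : SpImp.polySpan y u ≠ ⊥ := by
        intro h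
        rw [h] at huZ
        exact hu0 ((Submodule.mem_bot F).mp huZ)
      have hZnd : ND B (SpImp.polySpan y u) := by
        rcases hZmin _ inf_le_left (SpImp.inv_inf' hZi (inv_perp B hyB hr0 hy hZi)) with h | h
        · exact disjoint_iff.mpr h
        · exfalso
          have h1 : SpImp.polySpan y u ≤ perp B (SpImp.polySpan y u) := inf_eq_left.mp h
          exact huy ((mem_perp B).mp (h1 huZ) u huZ)
      have hZN : SpImp.polySpan y u ≤ N := hZP.trans hPN
      have hZfin : finrank F (SpImp.polySpan y u) = b := by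
        rw [hb]
        exact Elus.finrank_of_minimal hq y r hrp hy _ hZi hZ0 hZmin (hdisj _ hZN)
      refine ⟨SpImp.polySpan y u, hZN, hZnd, hZi, ?_⟩
      rw [hcb]
      exact hZfin
    · refine ⟨U₀ ⊔ U', hPN, hPnd, hPi, ?_⟩
      rw [hcb, hPfin]
      omega

/-- in the paired case, a minimal invariant subspace without fixed vectors inside a
nondegenerate invariant subspace is totally isotropic, and it lies in a nondegenerate invariant
subspace of twice its dimension -/
theorem exists_ti_block_paired {p : ℕ} [hp : Fact p.Prime] [CharP F p]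
    (hS : B.IsSymm) (hB : B.Nondegenerate) (r : ℕ) [hr : Fact r.Prime] (hrp : r ≠ p)
    (hrF : (r : F) ≠ 0) (hrq : ¬ r ∣ q) {y : Module.End F V} (hyB : IsIsom B y)
    (hy : y ^ r = 1) (b c : ℕ) (hb : b = orderOf ((Fintype.card F : ℕ) : ZMod r))
    (hc : c = orderOf (-(q : ZMod r))) (htype : c = 2 * b)
    {N : Submodule F V} (hN : ND B N)
    (hNi : Elus.Inv y N) (hNC : N ⊓ LinearMap.ker (y - 1) = ⊥) (hN0 : N ≠ ⊥) :
    ∃ U : Submodule F V, U ≤ N ∧ U ≠ ⊥ ∧ TI B U ∧ Elus.Inv y U := by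
  classical
  obtain ⟨f₀, -, hq⟩ := FiniteField.card F p
  have hr0 : 0 < r := hr.out.pos
  have hrq' : ¬ r ∣ Fintype.card F := by
    rw [hF]
    intro h
    exact hrq (hr.out.dvd_of_dvd_pow h)
  have hb0 : 0 < b := by
    rw [hb]
    exact Elus.ord_pos r (Fintype.card F) hrq'
  have hdisj : ∀ Z : Submodule F V, Z ≤ N → Disjoint Z (LinearMap.ker (y - 1)) := by
    intro Z hZ
    rw [disjoint_iff, eq_bot_iff, ← hNC]
    exact inf_le_inf_right _ hZ
  obtain ⟨U₀, hU₀N, hU₀0, hU₀i, hU₀min⟩ := Elus.exists_minimal_inv y _ N rfl hN0 hNi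
  have hU₀fin : finrank F U₀ = b := by
    rw [hb]
    exact Elus.finrank_of_minimal hq y r hrp hy U₀ hU₀i hU₀0 hU₀min (hdisj U₀ hU₀N)
  have hRi : Elus.Inv y (U₀ ⊓ perp B U₀) := SpImp.inv_inf' hU₀i (inv_perp B hyB hr0 hy hU₀i)
  rcases hU₀min _ inf_le_left hRi with hR | hR
  · exfalso
    have hU₀nd : ND B U₀ := disjoint_iff.mpr hR
    have h1 := herm_mod hF B hS hB hyB r hrF hrq hy hU₀nd hU₀i
    rw [(hdisj U₀ hU₀N).eq_bot, finrank_bot, Nat.sub_zero, ← hc, hU₀fin, htype] at h1
    have := Nat.le_of_dvd hb0 h1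
    omega
  · exact ⟨U₀, hU₀N, hU₀0, ti_of_le_perp B (inf_eq_left.mp hR), hU₀i⟩

/-- pigeonhole: many blocks force two orthogonal blocks of the same type -/
theorem exists_pair {p : ℕ} [hp : Fact p.Prime] [CharP F p]
    (hS : B.IsSymm) (hB : B.Nondegenerate) (r : ℕ) [hr : Fact r.Prime] (hrp : r ≠ p)
    (hrF : (r : F) ≠ 0) (hrq : ¬ r ∣ q) {y : Module.End F V} (hyB : IsIsom B y)
    (hy : y ^ r = 1) (b c : ℕ) (hb : b = orderOf ((Fintype.card F : ℕ) : ZMod r))
    (hc : c = orderOf (-(q : ZMod r))) (hcb : c = b) (he : ∃ e, r ∣ q ^ (2 * e + 1) + 1)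
    {N : Submodule F V} (hN : ND B N) (hNi : Elus.Inv y N) (hNC : N ⊓ LinearMap.ker (y - 1) = ⊥)
    (l : ℕ) (hNfin : finrank F N = b * l) (hl : (r - 1) / b + 1 ≤ l) :
    ∃ (U₁ U₂ : Submodule F V) (φ : F[X]), U₁ ≤ N ∧ U₂ ≤ N ∧ ND B U₁ ∧ ND B U₂ ∧
      Elus.Inv y U₁ ∧ Elus.Inv y U₂ ∧ Orth B U₁ U₂ ∧ finrank F U₁ = b ∧ finrank F U₂ = b ∧
      Irreducible φ ∧ φ.natDegree = b ∧ (∀ u ∈ U₁, aeval y φ u = 0) ∧
      (∀ u ∈ U₂, aeval y φ u = 0) := by
  classical
  obtain ⟨f₀, -, hq⟩ := FiniteField.card F p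
  have hσ2 := HermBridge.sigma_sigma hF
  have hr0 : 0 < r := hr.out.pos
  have hrq' : ¬ r ∣ Fintype.card F := by
    rw [hF]
    intro h
    exact hrq (hr.out.dvd_of_dvd_pow h)
  have hi0 : 0 < b := by
    rw [hb]
    exact Elus.ord_pos r (Fintype.card F) hrq'
  obtain ⟨D, hDnd, hDP, hDo, hDind, hDsup⟩ := peel B hσ2 hS hB
    (fun D => Elus.Inv y D ∧ finrank F D = b)
    (fun t W => ND B W ∧ Elus.Inv y W ∧ W ⊓ LinearMap.ker (y - 1) = ⊥ ∧ finrank F W = b * t)
    (by
      rintro W ⟨-, -, -, h⟩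
      rw [mul_zero] at h
      exact Submodule.finrank_eq_zero.mp h)
    (by
      rintro t' W ⟨hW, hWi, hWC, hWfin⟩
      have hW0 : W ≠ ⊥ := by
        intro h
        rw [h, finrank_bot] at hWfin
        have : 0 < b * (t' + 1) := Nat.mul_pos hi0 (Nat.succ_pos _)
        omega
      obtain ⟨U, hUW, hU, hUi, hUfin⟩ :=
        exists_nd_block hF B hS hB r hrp hrF hrq hyB hy b c hb hc (Or.inl ⟨hcb, he⟩) hW hWi hWC
          hW0
      rw [hcb] at hUfin
      refine ⟨U, hUW, hU, ⟨hUi, hUfin⟩, nd_perp_in B hσ2 hS hB hW hU hUW,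
        SpImp.inv_inf' hWi (inv_perp B hyB hr0 hy hUi), ?_, ?_⟩
      · rw [eq_bot_iff, ← hWC]
        exact inf_le_inf_right _ inf_le_left
      · rw [finrank_perp_in B hσ2 hB hW hUW, hWfin, hUfin, Nat.mul_succ, Nat.add_sub_cancel])
    l N ⟨hN, hNi, hNC, hNfin⟩
  have hDN : ∀ j, D j ≤ N := fun j => hDsup ▸ le_iSup D j
  have hDC : ∀ j, D j ⊓ LinearMap.ker (y - 1) = ⊥ := by
    intro j
    rw [eq_bot_iff, ← hNC]
    exact inf_le_inf_right _ (hDN j)
  have hDmin : ∀ j, ∀ X : Submodule F V, X ≤ D j → Elus.Inv y X → X = ⊥ ∨ X = D j :=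
    fun j => SpTi.minimal_of_finrank hq r hrp hy (hDP j).1 (hDC j) ((hDP j).2.trans hb)
  have hD0 : ∀ j, D j ≠ ⊥ := by
    intro j h
    have := (hDP j).2
    rw [h, finrank_bot] at this
    omega
  choose φ hφirr hφ using fun j => SpImp.exists_irr_ann hr0 hy (hDP j).1 (hD0 j) (hDmin j)
  choose u hu hu0 using fun j => Submodule.exists_mem_ne_zero_of_ne_bot (hD0 j)
  have hdeg : ∀ j, (φ j).natDegree = b := by
    intro j
    have h1 : SpImp.polySpan y (u j) = D j := by
      rcases hDmin j _ (SpImp.polySpan_le (hDP j).1 (hu j)) (SpImp.polySpan_inv y (u j)) with h | h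
      · exfalso
        have h2 := SpImp.mem_polySpan_self y (u j)
        rw [h] at h2
        exact hu0 j ((Submodule.mem_bot F).mp h2)
      · exact h
    have h2 := SpTi.finrank_polySpan_le (Irreducible.natDegree_pos (hφirr j)).ne'
      (hφ j (u j) (hu j))
    rw [h1, (hDP j).2] at h2
    have h3 := SpTi.natDegree_le_finrank (hDP j).1 (hu j) (hu0 j) (hφirr j) (hφ j (u j) (hu j))
    rw [(hDP j).2] at h3
    omega
  have hX1 : ∀ j, IsCoprime (X - C (1 : F)) (φ j) := by
    intro j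
    apply (Irreducible.coprime_iff_not_dvd (irreducible_X_sub_C (1 : F))).mpr
    intro hdvd
    have hassoc := Irreducible.associated_of_dvd (irreducible_X_sub_C (1 : F)) (hφirr j) hdvd
    have h1 := SpTi.ann_of_dvd (hDP j).1 hassoc.symm.dvd (hφ j) (u j) (hu j)
    rw [SpTi.aeval_sub_one, sub_eq_zero] at h1
    have h2 : u j ∈ D j ⊓ LinearMap.ker (y - 1) := ⟨hu j, Elus.mem_ker_sub_one.mpr h1⟩
    rw [hDC j] at h2
    exact hu0 j ((Submodule.mem_bot F).mp h2)
  have hdvdr : ∀ j, φ j ∣ X ^ r - C (1 : F) := by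
    intro j
    apply SpTi.dvd_of_ann (hφirr j) (hu0 j) (hφ j (u j) (hu j))
    rw [map_sub, map_pow, aeval_X, aeval_C, map_one, hy, sub_self, LinearMap.zero_apply]
  have hex : ∃ j j', j ≠ j' ∧ ¬ IsCoprime (φ j) (φ j') := by
    by_contra hcon
    push Not at hcon
    have hprod : ∏ j, φ j ∣ X ^ r - C (1 : F) :=
      Finset.prod_dvd_of_coprime (fun j _ j' _ hne => hcon j j' hne) (fun j _ => hdvdr j)
    have hcop1 : IsCoprime (X - C (1 : F)) (∏ j, φ j) := IsCoprime.prod_right (fun j _ => hX1 j)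
    have hX1dvd : X - C (1 : F) ∣ X ^ r - C (1 : F) := by
      have := sub_dvd_pow_sub_pow (X : F[X]) (C 1) r
      rwa [← C_pow, one_pow] at this
    have hall := hcop1.mul_dvd hX1dvd hprod
    have hne0 : (X ^ r - C (1 : F) : F[X]) ≠ 0 := X_pow_sub_C_ne_zero hr0 1
    have h1 := Polynomial.natDegree_le_of_dvd hall hne0
    have hprod0 : ∏ j, φ j ≠ 0 := Finset.prod_ne_zero_iff.mpr (fun j _ => (hφirr j).ne_zero)
    rw [natDegree_X_pow_sub_C, natDegree_mul (X_sub_C_ne_zero 1) hprod0, natDegree_X_sub_C,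
      natDegree_prod _ _ (fun j _ => (hφirr j).ne_zero)] at h1
    have h2 : ∑ j : Fin l, b ≤ ∑ j : Fin l, (φ j).natDegree :=
      Finset.sum_le_sum (fun j _ => (hdeg j).ge)
    rw [Finset.sum_const, Finset.card_univ, Fintype.card_fin, smul_eq_mul] at h2
    have h3 : l ≤ (r - 1) / b := (Nat.le_div_iff_mul_le hi0).mpr (by omega)
    omega
  obtain ⟨j, j', hne, hnc⟩ := hex
  have hdvd : φ j ∣ φ j' := by
    by_contra h
    exact hnc ((Irreducible.coprime_iff_not_dvd (hφirr j)).mpr h)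
  have hassoc := Irreducible.associated_of_dvd (hφirr j) (hφirr j') hdvd
  have hφj' : ∀ w ∈ D j', aeval y (φ j) w = 0 :=
    SpTi.ann_of_dvd (hDP j').1 hassoc.symm.dvd (hφ j')
  exact ⟨D j, D j', φ j, hDN j, hDN j', hDnd j, hDnd j', (hDP j).1, (hDP j').1, hDo j j' hne,
    (hDP j).2, (hDP j').2, hφirr j, hdeg j, hφ j, hφj'⟩

end Fin

end Cfsg.Agent.Lib.Helper2.Uti
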