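import Mathlib
import Cfsg.Agent.Lib.Helper2.UtiE
import Cfsg.Agent.Lib.Helper2.SpImpE
set_option autoImplicit false
set_option maxHeartbeats 1000000
set_option linter.unusedVariables false
set_option linter.unusedSectionVars false
set_option linter.style.longLine false
set_option linter.unusedSimpArgs false
set_option linter.deprecated false
set_option linter.style.haveILetI false

/-! Totally isotropic subspaces of unitary spaces (part F): maximal invariant totally isotropic
subspaces of an isometry of prime order, and the sufficiency of the arithmetic conditions. -/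

namespace Cfsg.Agent.Lib.Helper2.Uti

open Module Polynomial Cfsg Cfsg.Agent.Lib.Helper2 Cfsg.Agent.Lib.Helper5

universe u v

section Max

variable {F : Type u} [Field F] {σ : F →+* F} {V : Type v} [AddCommGroup V] [Module F V]
  [FiniteDimensional F V]
variable (B : V →ₛₗ[σ] V →ₗ[F] F)

/-- an invariant totally isotropic subspace of maximal dimension -/
theorem exists_max_ti (y : Module.End F V) :
    ∃ W : Submodule F V, TI B W ∧ Elus.Inv y W ∧
      ∀ W' : Submodule F V, TI B W' → Elus.Inv y W' → finrank F W' ≤ finrank F W := by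
  classical
  let P : ℕ → Prop := fun k => ∃ W : Submodule F V, TI B W ∧ Elus.Inv y W ∧ finrank F W = k
  have hP0 : P 0 := ⟨⊥, ti_bot B, Elus.inv_bot y, finrank_bot F V⟩
  obtain ⟨W, hWti, hWi, hWfin⟩ := Nat.findGreatest_spec (P := P) (Nat.zero_le (finrank F V)) hP0
  refine ⟨W, hWti, hWi, ?_⟩
  intro W' hW'ti hW'i
  rw [hWfin]
  exact Nat.le_findGreatest (Submodule.finrank_le W') ⟨W', hW'ti, hW'i, rfl⟩

/-- the complement of a maximal invariant totally isotropic subspace in its orthogonal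
complement -/
theorem exists_aniso_compl (hσ2 : ∀ a, σ (σ a) = a) (hS : B.IsSymm) (hB : B.Nondegenerate)
    {y yi : Module.End F V} (hyB : IsIsom B y) (hyi : ∀ w, y (yi w) = w)
    (hinv : ∀ W : Submodule F V, Elus.Inv y W → Elus.Inv yi W) (hss : y.IsSemisimple)
    {W : Submodule F V} (hWti : TI B W) (hWi : Elus.Inv y W)
    (hmax : ∀ W' : Submodule F V, TI B W' → Elus.Inv y W' → finrank F W' ≤ finrank F W) :
    ∃ N : Submodule F V, Elus.Inv y N ∧ N ≤ perp B W ∧ Disjoint W N ∧ W ⊔ N = perp B W ∧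
      ND B N ∧ 2 * finrank F W + finrank F N = finrank F V ∧
      ∀ T : Submodule F V, T ≤ N → TI B T → Elus.Inv y T → T = ⊥ := by
  have hperpi : Elus.Inv y (perp B W) := inv_perp_gen B hyB hyi (hinv W hWi)
  obtain ⟨N, hNi, hNle, hdisj, hsup⟩ :=
    Imp.exists_rel_compl hss hWi hperpi (ti_le_perp B hWti)
  refine ⟨N, hNi, hNle, hdisj, hsup, ?_, ?_, ?_⟩
  · rw [nd_iff B hS]
    intro x hx hx2
    have h1 : x ∈ perp B (perp B W) := by
      rw [mem_perp]
      intro v hv
      rw [← hsup] at hv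
      obtain ⟨w, hw, n, hn, rfl⟩ := Submodule.mem_sup.mp hv
      rw [map_add, LinearMap.add_apply, swap_zero B hS (hx2 n hn), add_zero]
      exact (mem_perp B).mp (hNle hx) w hw
    rw [perp_perp B hσ2 hS hB] at h1
    have h2 : x ∈ W ⊓ N := ⟨h1, hx⟩
    rw [hdisj.eq_bot] at h2
    exact (Submodule.mem_bot F).mp h2
  · have h1 := finrank_perp B hσ2 hB W
    have h2 := Elus.finrank_sup_of_disjoint hdisj
    rw [hsup] at h2
    omega
  · intro T hTN hTti hTi
    have horth : Orth B W T := fun w hw t ht => (mem_perp B).mp (hNle (hTN ht)) w hw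
    have h1 := hmax (W ⊔ T) (ti_sup B hS hWti hTti horth) (Elus.Inv.sup hWi hTi)
    rw [Elus.finrank_sup_of_disjoint (hdisj.mono_right hTN)] at h1
    have h2 : finrank F T = 0 := by omega
    exact Submodule.finrank_eq_zero.mp h2

end Max

section Fin

variable {F : Type u} [Field F] [Fintype F] {q : ℕ} (hF : Fintype.card F = q ^ 2)
variable {V : Type v} [AddCommGroup V] [Module F V] [FiniteDimensional F V]
variable (B : V →ₛₗ[HermBridge.sigma hF] V →ₗ[F] F)

/-- the fixed vectors orthogonal to an invariant subspace -/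
theorem fix_inf_perp (hS : B.IsSymm) {y : Module.End F V} (hyB : IsIsom B y) {r : ℕ}
    (hrF : (r : F) ≠ 0) (hy : y ^ r = 1) {W : Submodule F V} (hWi : Elus.Inv y W) :
    LinearMap.ker (y - 1) ⊓ perp B W =
      LinearMap.ker (y - 1) ⊓ perp B (W ⊓ LinearMap.ker (y - 1)) := by
  apply le_antisymm
  · exact inf_le_inf_left _ (perp_anti B inf_le_left)
  · intro v hv0
    rw [Submodule.mem_inf] at hv0
    obtain ⟨hvC, hv⟩ := hv0
    refine Submodule.mem_inf.mpr ⟨hvC, ?_⟩
    rw [mem_perp]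
    intro w hw
    have hTw : (∑ j ∈ Finset.range r, y ^ j) w ∈ W ⊓ LinearMap.ker (y - 1) := by
      refine ⟨?_, Imp.geom_ker hy w⟩
      rw [LinearMap.sum_apply]
      exact Submodule.sum_mem _ (fun j _ => Imp.inv_pow' hWi j w hw)
    have h1 := (mem_perp B).mp hv _ hTw
    rw [LinearMap.sum_apply, map_sum, LinearMap.sum_apply] at h1
    have h2 : ∀ j ∈ Finset.range r, B ((y ^ j) w) v = B w v := by
      intro j _
      have h3 := hyB.pow j w v
      rw [Imp.pow_fix (Elus.mem_ker_sub_one.mp hvC) j] at h3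
      exact h3
    rw [Finset.sum_congr rfl h2, Finset.sum_const, Finset.card_range, nsmul_eq_mul] at h1
    exact (mul_eq_zero.mp h1).resolve_left hrF

/-- sufficiency: under the arithmetic conditions every isometry of order `r` fixes a totally
isotropic `m`-space -/
theorem ti_suff {p : ℕ} [hp : Fact p.Prime] [CharP F p]
    (hS : B.IsSymm) (hB : B.Nondegenerate) (r : ℕ) [hr : Fact r.Prime] (hrp : r ≠ p)
    (hrF : (r : F) ≠ 0) (hrq : ¬ r ∣ q) (b c : ℕ)
    (hb : b = orderOf ((Fintype.card F : ℕ) : ZMod r)) (hc : c = orderOf (-(q : ZMod r)))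
    (htype : (c = b ∧ ∃ e, r ∣ q ^ (2 * e + 1) + 1) ∨ c = 2 * b)
    (n m : ℕ) (hn : finrank F V = n) (hmn : 2 * m ≤ n) (hmod : 2 * (m % b) ≤ n % c)
    (hlast : c = b → (r - 1) / b + 2 * (m / b) ≤ n / b)
    {y : Module.End F V} (hyB : IsIsom B y) (hy : y ^ r = 1) :
    ∃ W : Submodule F V, finrank F W = m ∧ TI B W ∧ Elus.Inv y W := by
  classical
  obtain ⟨f₀, -, hq⟩ := FiniteField.card F p
  have hσ2 := HermBridge.sigma_sigma hF
  have hσ := HermBridge.sigma_ne_id hF
  have hr0 : 0 < r := hr.out.pos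
  have hrq' : ¬ r ∣ Fintype.card F := by
    rw [hF]
    intro h
    exact hrq (hr.out.dvd_of_dvd_pow h)
  have hb0 : 0 < b := by
    rw [hb]
    exact Elus.ord_pos r (Fintype.card F) hrq'
  have hss := Elus.isSemisimple_of_pow_eq_one y r hrF hy
  have hyi : ∀ w, y ((y ^ (r - 1)) w) = w := SpImp.pow_pred_apply hr0 hy
  have hyi2 : ∀ w, (y ^ (r - 1)) (y w) = w := by
    intro w
    have h : y ^ (r - 1) * y = 1 := by rw [← pow_succ, Nat.sub_add_cancel hr0, hy]
    rw [← Module.End.mul_apply, h, Module.End.one_apply]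
  have hyir : (y ^ (r - 1)) ^ r = 1 := by rw [← pow_mul, mul_comm, pow_mul, hy, one_pow]
  have hssi := Elus.isSemisimple_of_pow_eq_one (y ^ (r - 1)) r hrF hyir
  have hinv : ∀ W : Submodule F V, Elus.Inv y W → Elus.Inv (y ^ (r - 1)) W :=
    fun W hW => Imp.inv_pow' hW (r - 1)
  obtain ⟨W, hWti, hWi, hmax⟩ := exists_max_ti B y
  obtain ⟨N, hNi, hNle, hdisj, hsup, hNnd, hfin, haniso⟩ :=
    exists_aniso_compl B hσ2 hS hB hyB hyi hinv hss hWti hWi hmax
  -- the fixed part of `N`
  have hN₀nd : ND B (N ⊓ LinearMap.ker (y - 1)) := nd_fix B hS hyB hrF hy hNnd hNi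
  have hν₀ : finrank F (N ⊓ LinearMap.ker (y - 1) : Submodule F V) ≤ 1 := by
    by_contra hcon
    push Not at hcon
    obtain ⟨T, hTle, hTti, hTfin⟩ := exists_ti hF B hS hN₀nd 1 (by omega)
    have hT0 := haniso T (hTle.trans inf_le_left) hTti
      (Elus.inv_of_le_ker (hTle.trans inf_le_right))
    rw [hT0, finrank_bot] at hTfin
    omega
  -- the moving part of `N`
  obtain ⟨N₁, hN₁N, hN₁nd, hN₁i, hN₁C, hN₁fin, -, -⟩ :=
    moving_part B hσ2 hS hB hyB hr0 hrF hy hNnd hNi
  have hN₁mod := herm_mod hF B hS hB hyB r hrF hrq hy hN₁nd hN₁i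
  rw [hN₁C, finrank_bot, Nat.sub_zero, ← hc] at hN₁mod
  have hν₁ : (c = 2 * b → finrank F N₁ = 0) ∧
      (c = b → finrank F N₁ ≤ b * ((r - 1) / b)) := by
    constructor
    · intro hcb
      by_contra hne
      have hN₁0 : N₁ ≠ ⊥ := fun h => hne (by rw [h, finrank_bot])
      obtain ⟨U, hUN, hU0, hUti, hUi⟩ := exists_ti_block_paired hF B hS hB r hrp hrF hrq hyB hy
        b c hb hc hcb hN₁nd hN₁i hN₁C hN₁0
      exact hU0 (haniso U (hUN.trans hN₁N) hUti hUi)
    · intro hcb
      rcases htype with ⟨-, he⟩ | h2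
      · obtain ⟨l, hl⟩ := hN₁mod
        rw [hcb] at hl
        by_contra hcon
        push Not at hcon
        have hl' : (r - 1) / b + 1 ≤ l := by
          rw [hl] at hcon
          have := Nat.lt_of_mul_lt_mul_left hcon
          omega
        obtain ⟨U₁, U₂, φ, hU₁N, hU₂N, hU₁nd, hU₂nd, hU₁i, hU₂i, horth, hU₁fin, hU₂fin, hφ,
          hφdeg, hφ₁, hφ₂⟩ := exists_pair hF B hS hB r hrp hrF hrq hyB hy b c hb hc hcb he
            hN₁nd hN₁i hN₁C l hl hl'
        have hchar := charpoly_restrict_eq (y := y) hU₁i hU₂i hφ hφ₁ hφ₂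
          (hU₁fin.trans hφdeg.symm) (hU₂fin.trans hφdeg.symm)
        obtain ⟨Γ, hΓle, hΓti, hΓi, hΓfin⟩ := exists_ti_graph B hσ hσ2 hS hyB hyi hyi2 hss hssi
          hU₁nd hU₂nd hU₁i (hinv U₁ hU₁i) hU₂i (hinv U₂ hU₂i) horth hchar
        have hΓ0 := haniso Γ (hΓle.trans ((sup_le hU₁N hU₂N).trans hN₁N)) hΓti hΓi
        rw [hΓ0, finrank_bot, hU₁fin] at hΓfin
        omega
      · omega
  -- the fixed space
  have hCnd : ND B ((⊤ : Submodule F V) ⊓ LinearMap.ker (y - 1)) :=
    nd_fix B hS hyB hrF hy (nd_top B hB) (fun v _ => Submodule.mem_top)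
  rw [top_inf_eq] at hCnd
  have hmodc := herm_mod hF B hS hB hyB r hrF hrq hy (nd_top B hB)
    (fun v _ => Submodule.mem_top)
  rw [top_inf_eq, finrank_top, hn, ← hc] at hmodc
  have hCle : finrank F (LinearMap.ker (y - 1)) ≤ n := by
    rw [← hn]
    exact Submodule.finrank_le _
  have ha₀ : n % c ≤ finrank F (LinearMap.ker (y - 1)) := by
    obtain ⟨t, ht⟩ := hmodc
    exact SpImp.mod_le_of_eq n _ c t (by omega)
  have hsplit : finrank F (LinearMap.ker (y - 1) ⊓ perp B W : Submodule F V) =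
      finrank F (W ⊓ LinearMap.ker (y - 1) : Submodule F V) +
        finrank F (N ⊓ LinearMap.ker (y - 1) : Submodule F V) := by
    have hd : Disjoint (W ⊓ LinearMap.ker (y - 1)) (N ⊓ LinearMap.ker (y - 1)) :=
      hdisj.mono inf_le_left inf_le_left
    rw [← Elus.finrank_sup_of_disjoint hd]
    suffices hEq : LinearMap.ker (y - 1) ⊓ perp B W =
        (W ⊓ LinearMap.ker (y - 1)) ⊔ (N ⊓ LinearMap.ker (y - 1)) by rw [hEq]
    apply le_antisymm
    · intro v hv0
      rw [Submodule.mem_inf] at hv0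
      obtain ⟨hvC, hvp⟩ := hv0
      rw [← hsup] at hvp
      obtain ⟨w, hw, n', hn', rfl⟩ := Submodule.mem_sup.mp hvp
      have hfix := Elus.mem_ker_sub_one.mp hvC
      rw [map_add] at hfix
      have h1 : y w - w = -(y n' - n') := by
        have : y w - w + (y n' - n') = 0 := by
          rw [sub_add_sub_comm, hfix, sub_self]
        exact eq_neg_of_add_eq_zero_left this
      have h2 : y w - w ∈ W ⊓ N :=
        ⟨W.sub_mem (hWi w hw) hw, by rw [h1]; exact N.neg_mem (N.sub_mem (hNi n' hn') hn')⟩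
      rw [hdisj.eq_bot, Submodule.mem_bot, sub_eq_zero] at h2
      have h3 : y n' - n' = 0 := by
        rw [h2, sub_self] at h1
        exact neg_eq_zero.mp h1.symm
      exact Submodule.add_mem_sup ⟨hw, Elus.mem_ker_sub_one.mpr h2⟩
        ⟨hn', Elus.mem_ker_sub_one.mpr (sub_eq_zero.mp h3)⟩
    · apply sup_le
      · intro v hv
        rw [Submodule.mem_inf] at hv
        exact Submodule.mem_inf.mpr ⟨hv.2, ti_le_perp B hWti hv.1⟩
      · intro v hv
        rw [Submodule.mem_inf] at hv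
        exact Submodule.mem_inf.mpr ⟨hv.2, hNle hv.1⟩
  have hperpin : finrank F (LinearMap.ker (y - 1) ⊓ perp B W : Submodule F V) =
      finrank F (LinearMap.ker (y - 1)) -
        finrank F (W ⊓ LinearMap.ker (y - 1) : Submodule F V) := by
    rw [fix_inf_perp hF B hS hyB hrF hy hWi]
    exact finrank_perp_in B hσ2 hB hCnd inf_le_right
  have hw₀le : finrank F (W ⊓ LinearMap.ker (y - 1) : Submodule F V) ≤
      finrank F (LinearMap.ker (y - 1)) := Submodule.finrank_mono inf_le_right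
  -- arithmetic
  have hN₁le : finrank F N₁ ≤ finrank F N := Submodule.finrank_mono hN₁N
  have hmW : m ≤ finrank F W := by
    rcases htype with ⟨hcb, -⟩ | hcb
    · have h1 := hν₁.2 hcb
      have h2 := hlast hcb
      have h3 := Nat.div_add_mod m b
      have h4 := Nat.div_add_mod n b
      rw [hcb] at hmod
      have h5 : b * ((r - 1) / b + 2 * (m / b)) ≤ b * (n / b) := Nat.mul_le_mul_left b h2
      rw [Nat.mul_add] at h5
      have h6 : b * (2 * (m / b)) = 2 * (b * (m / b)) := by ring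
      omega
    · have h1 := hν₁.1 hcb
      omega
  have hmw₀ : m % b ≤ finrank F (W ⊓ LinearMap.ker (y - 1) : Submodule F V) := by omega
  -- cut down inside `W`
  have hyW : (y.restrict hWi) ^ r = 1 := by
    have := Elus.restrict_pow_smul (c := (1 : F)) (by rw [hy, one_smul]) hWi
    rw [one_smul] at this
    exact this
  have hker : (LinearMap.ker (y.restrict hWi - 1)).map W.subtype = W ⊓ LinearMap.ker (y - 1) := by
    ext v
    constructor
    · rintro ⟨w, hw, rfl⟩
      refine ⟨w.2, Elus.mem_ker_sub_one.mpr ?_⟩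
      have h1 := Elus.mem_ker_sub_one.mp hw
      exact congrArg Subtype.val h1
    · rintro ⟨hvW, hvC⟩
      refine ⟨⟨v, hvW⟩, Elus.mem_ker_sub_one.mpr ?_, rfl⟩
      apply Subtype.ext
      exact Elus.mem_ker_sub_one.mp hvC
  have hkerfin : finrank F (LinearMap.ker (y.restrict hWi - 1)) =
      finrank F (W ⊓ LinearMap.ker (y - 1) : Submodule F V) := by
    rw [← hker, Submodule.finrank_map_subtype_eq]
  obtain ⟨W'', hW''fin, hW''i⟩ := Elus.exists_inv_finrank hq (y.restrict hWi) r hrp hrF hyW m hmW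
    (by rw [← hb, hkerfin]; exact hmw₀)
  refine ⟨W''.map W.subtype, ?_, ?_, ?_⟩
  · rw [Submodule.finrank_map_subtype_eq, hW''fin]
  · apply hWti.mono
    rintro _ ⟨w, -, rfl⟩
    exact w.2
  · rintro _ ⟨w, hw, rfl⟩
    exact ⟨y.restrict hWi w, hW''i w hw, rfl⟩

end Fin

end Cfsg.Agent.Lib.Helper2.Uti
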