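import Mathlib
import Cfsg.Agent.Lib.Helper2.UtiF
import Cfsg.Agent.Lib.Helper2.UppE
import Cfsg.Agent.Lib.Helper5.HermIsoFrames
import Cfsg.Agent.Lib.Helper5.HermCard
set_option autoImplicit false
set_option maxHeartbeats 1000000
set_option linter.unusedVariables false
set_option linter.unusedSectionVars false
set_option linter.style.longLine false
set_option linter.unusedSimpArgs false
set_option linter.deprecated false
set_option linter.style.haveILetI false

/-! Totally isotropic subspaces of unitary spaces (part G): the number of totally isotropic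
subspaces of the standard hermitian space, its prime divisors, and elements of prime order. -/

namespace Cfsg.Agent.Lib.Helper2.Uti

open Module Polynomial Cfsg Cfsg.Agent.Lib.Helper2 Cfsg.Agent.Lib.Helper5

universe u

section Count

variable {F : Type u} [Field F] [Fintype F] {q : ℕ} (hF : Fintype.card F = q ^ 2) (n : ℕ)

include hF in
/-- counting totally isotropic subspaces through isotropic frames -/
theorem card_ti_mul (m : ℕ) :
    Nat.card {W : Submodule F (Fin n → F) // finrank F W = m ∧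
        ∀ u ∈ W, ∀ v ∈ W, hermForm n F q u v = 0} *
      ∏ i : Fin m, (Fintype.card F ^ m - Fintype.card F ^ (i : ℕ)) =
      ∏ i ∈ Finset.range m, HermIsoFrames.fib F q n i := by
  classical
  haveI : Finite (Fin n → F) := inferInstance
  haveI : Finite (Submodule F (Fin n → F)) := Imp.finite_submodule
  haveI : Fintype {W : Submodule F (Fin n → F) // finrank F W = m ∧
      ∀ u ∈ W, ∀ v ∈ W, hermForm n F q u v = 0} := Fintype.ofFinite _
  rw [← HermIsoFrames.card_isoFrame hF n m]
  let Φ : {s : Fin m → (Fin n → F) // HermIsoFrames.IsIso q n s} →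
      {W : Submodule F (Fin n → F) // finrank F W = m ∧
        ∀ u ∈ W, ∀ v ∈ W, hermForm n F q u v = 0} :=
    fun s => ⟨Submodule.span F (Set.range s.1), by
      rw [finrank_span_eq_card s.2.1, Fintype.card_fin], by
      intro u hu v hv
      have h1 := ti_span (HermBridge.hermSesq hF n) s.1 (fun a b => s.2.2 b a)
      exact h1 v hv u hu⟩
  rw [← Nat.card_congr (Equiv.sigmaFiberEquiv Φ), Nat.card_sigma]
  have hfib : ∀ W : {W : Submodule F (Fin n → F) // finrank F W = m ∧
      ∀ u ∈ W, ∀ v ∈ W, hermForm n F q u v = 0}, Nat.card {s // Φ s = W} =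
      ∏ i : Fin m, (Fintype.card F ^ m - Fintype.card F ^ (i : ℕ)) := by
    intro W
    have h1 := card_linearIndependent (K := F) (V := W.1) (k := m) (le_of_eq W.2.1.symm)
    rw [W.2.1] at h1
    rw [← h1]
    apply Nat.card_congr
    exact {
      toFun := fun s => ⟨fun j => ⟨s.1.1 j, by
          have h2 : Submodule.span F (Set.range s.1.1) = W.1 := congrArg Subtype.val s.2
          rw [← h2]
          exact Submodule.subset_span ⟨j, rfl⟩⟩,
        LinearIndependent.of_comp W.1.subtype s.1.2.1⟩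
      invFun := fun t => ⟨⟨fun j => (t.1 j : Fin n → F),
          t.2.map' W.1.subtype (Submodule.ker_subtype _),
          fun a b => W.2.2 _ (t.1 a).2 _ (t.1 b).2⟩, by
          apply Subtype.ext
          show Submodule.span F (Set.range fun j => (t.1 j : Fin n → F)) = W.1
          apply Submodule.eq_of_le_of_finrank_eq
          · rw [Submodule.span_le]
            rintro _ ⟨j, rfl⟩
            exact (t.1 j).2
          · rw [finrank_span_eq_card (b := fun j => (t.1 j : Fin n → F))
              (t.2.map' W.1.subtype (Submodule.ker_subtype _)), Fintype.card_fin, W.2.1]⟩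
      left_inv := fun s => by
        apply Subtype.ext
        apply Subtype.ext
        rfl
      right_inv := fun t => by
        apply Subtype.ext
        funext j
        rfl }
  simp_rw [hfib]
  rw [Finset.sum_const, Finset.card_univ, smul_eq_mul, Nat.card_eq_fintype_card]

/-- the factor of the count at codimension `N` -/
def tiFac (q N : ℕ) : ℕ :=
  if Even N then (q ^ N - 1) * (q ^ (N - 1) + 1) else (q ^ N + 1) * (q ^ (N - 1) - 1)

include hF in
theorem card_ti_mul' (m : ℕ) :
    Nat.card {W : Submodule F (Fin n → F) // finrank F W = m ∧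
        ∀ u ∈ W, ∀ v ∈ W, hermForm n F q u v = 0} *
      ∏ i : Fin m, (Fintype.card F ^ (m - (i : ℕ)) - 1) =
      ∏ j ∈ Finset.range m, tiFac q (n - 2 * j) := by
  have h := card_ti_mul hF n m
  rw [Elus.prod_pow_sub (Fintype.card F) m m le_rfl] at h
  have hR : ∏ j ∈ Finset.range m, HermIsoFrames.fib F q n j =
      (∏ j ∈ Finset.range m, Fintype.card F ^ j) *
        ∏ j ∈ Finset.range m, tiFac q (n - 2 * j) := by
    rw [← Finset.prod_mul_distrib]
    refine Finset.prod_congr rfl fun j hj => ?_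
    unfold HermIsoFrames.fib
    rw [HermCount.A_zero hF, ← hF, Nat.mul_add, mul_one, Nat.add_sub_cancel]
    rfl
  have e2 : ∏ i : Fin m, Fintype.card F ^ (i : ℕ) = ∏ j ∈ Finset.range m, Fintype.card F ^ j :=
    Fin.prod_univ_eq_prod_range (fun j => Fintype.card F ^ j) m
  rw [hR, e2] at h
  have hQ : 0 < ∏ j ∈ Finset.range m, Fintype.card F ^ j :=
    Finset.prod_pos fun j _ => pow_pos Fintype.card_pos j
  apply Nat.eq_of_mul_eq_mul_left hQ
  rw [← h]
  ring

include hF in
theorem char_not_dvd_card_ti {p : ℕ} [hp : Fact p.Prime] [CharP F p] (m : ℕ) (hm : 2 * m ≤ n) :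
    ¬ p ∣ Nat.card {W : Submodule F (Fin n → F) // finrank F W = m ∧
        ∀ u ∈ W, ∀ v ∈ W, hermForm n F q u v = 0} := by
  intro h
  have h1 : p ∣ ∏ j ∈ Finset.range m, tiFac q (n - 2 * j) := by
    rw [← card_ti_mul' hF n m]
    exact dvd_mul_of_dvd_left h _
  obtain ⟨j, hj, hdvd⟩ := (Nat.Prime.prime hp.out).exists_mem_finset_dvd h1
  have hj' := Finset.mem_range.mp hj
  obtain ⟨k, hk⟩ := q_eq_pow hF (p := p)
  have hq2 : 2 ≤ q := Herm.two_le_q hF
  have hk0 : k ≠ 0 := by
    rintro rfl
    rw [pow_zero] at hk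
    omega
  have hpq : p ∣ q := by
    rw [hk]
    exact dvd_pow_self p hk0
  have key1 : ∀ e : ℕ, 1 ≤ e → ¬ p ∣ q ^ e + 1 := by
    intro e he h2
    have h3 : p ∣ q ^ e := dvd_pow hpq (by omega)
    have h4 : p ∣ 1 := (Nat.dvd_add_right h3).mp h2
    exact hp.out.one_lt.ne' (Nat.dvd_one.mp h4)
  have key2 : ∀ e : ℕ, 1 ≤ e → ¬ p ∣ q ^ e - 1 := by
    intro e he h2
    have h3 : p ∣ q ^ e := dvd_pow hpq (by omega)
    have h5 : 1 ≤ q ^ e := Nat.one_le_pow _ _ (by omega)
    have h4 : p ∣ 1 := by
      have : q ^ e = (q ^ e - 1) + 1 := by omega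
      rw [this] at h3
      exact (Nat.dvd_add_right h2).mp h3
    exact hp.out.one_lt.ne' (Nat.dvd_one.mp h4)
  unfold tiFac at hdvd
  split_ifs at hdvd with hev
  · rcases (Nat.Prime.dvd_mul hp.out).mp hdvd with h2 | h2
    · exact key2 _ (by omega) h2
    · exact key1 _ (by omega) h2
  · rcases (Nat.Prime.dvd_mul hp.out).mp hdvd with h2 | h2
    · exact key1 _ (by omega) h2
    · exact key2 _ (by omega) h2

include hF in
/-- a prime divisor of the number of totally isotropic `m`-spaces -/
theorem exists_of_dvd_card_ti (m : ℕ) (hm : 2 * m ≤ n) (r : ℕ) [hr : Fact r.Prime]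
    (h : r ∣ Nat.card {W : Submodule F (Fin n → F) // finrank F W = m ∧
        ∀ u ∈ W, ∀ v ∈ W, hermForm n F q u v = 0}) :
    ∃ t : ℕ, 1 ≤ t ∧ n + 1 ≤ t + 2 * m ∧ t ≤ n ∧ (-(q : ZMod r)) ^ t = 1 := by
  have h1 : r ∣ ∏ j ∈ Finset.range m, tiFac q (n - 2 * j) := by
    rw [← card_ti_mul' hF n m]
    exact dvd_mul_of_dvd_left h _
  obtain ⟨j, hj, hdvd⟩ := (Nat.Prime.prime hr.out).exists_mem_finset_dvd h1
  have hj' := Finset.mem_range.mp hj
  have hq2 : 2 ≤ q := Herm.two_le_q hF
  have c1 : ∀ e : ℕ, r ∣ q ^ e - 1 → (q : ZMod r) ^ e = 1 := by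
    intro e h2
    have h5 : 1 ≤ q ^ e := Nat.one_le_pow _ _ (by omega)
    have h3 := (ZMod.natCast_eq_zero_iff _ _).mpr h2
    rw [Nat.cast_sub h5] at h3
    push_cast at h3
    exact sub_eq_zero.mp h3
  have c2 : ∀ e : ℕ, r ∣ q ^ e + 1 → (q : ZMod r) ^ e = -1 := by
    intro e h2
    have h3 := (ZMod.natCast_eq_zero_iff _ _).mpr h2
    push_cast at h3
    exact eq_neg_of_add_eq_zero_left h3
  generalize hN : n - 2 * j = N at hdvd
  have hN2 : 2 ≤ N := by omega
  unfold tiFac at hdvd
  split_ifs at hdvd with hev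
  · rcases (Nat.Prime.dvd_mul hr.out).mp hdvd with h2 | h2
    · refine ⟨N, by omega, by omega, by omega, ?_⟩
      rw [Even.neg_pow hev]
      exact c1 N h2
    · refine ⟨N - 1, by omega, by omega, by omega, ?_⟩
      have hodd : Odd (N - 1) := by
        obtain ⟨k, hk⟩ := hev
        exact ⟨k - 1, by omega⟩
      rw [Odd.neg_pow hodd, c2 _ h2, neg_neg]
  · have hodd : Odd N := Nat.not_even_iff_odd.mp hev
    rcases (Nat.Prime.dvd_mul hr.out).mp hdvd with h2 | h2
    · refine ⟨N, by omega, by omega, by omega, ?_⟩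
      rw [Odd.neg_pow hodd, c2 _ h2, neg_neg]
    · refine ⟨N - 1, by omega, by omega, by omega, ?_⟩
      have hev' : Even (N - 1) := by
        obtain ⟨k, hk⟩ := hodd
        exact ⟨k, by omega⟩
      rw [Even.neg_pow hev']
      exact c1 _ h2

include hF in
/-- elements of order `r` in the unitary group -/
theorem exists_order_r (r : ℕ) [hr : Fact r.Prime] (t : ℕ) (ht1 : 1 ≤ t) (htn : t ≤ n)
    (ht : (-(q : ZMod r)) ^ t = 1) :
    ∃ y : Module.End F (Fin n → F), IsIsom (HermBridge.hermSesq hF n) y ∧ y ^ r = 1 ∧ y ≠ 1 := by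
  classical
  have hq2 : 2 ≤ q := Herm.two_le_q hF
  have hdvd : r ∣ Nat.card ↥(Cfsg.GU n F q) := by
    rw [HermCard.card_GU hF n]
    apply Dvd.dvd.mul_left
    apply Dvd.dvd.trans _ (Finset.dvd_prod_of_mem _ (Finset.mem_range.mpr (by omega : t - 1 < n)))
    rw [Nat.sub_add_cancel ht1]
    split_ifs with hev
    · have hodd : Odd t := by
        obtain ⟨k, hk⟩ := hev
        exact ⟨k, by omega⟩
      rw [Odd.neg_pow hodd] at ht
      rw [← ZMod.natCast_eq_zero_iff]
      push_cast
      rw [← neg_eq_iff_eq_neg.mpr ht.symm]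
      ring
    · have hev' : Even t := by
        have hodd := Nat.not_even_iff_odd.mp hev
        obtain ⟨k, hk⟩ := hodd
        exact ⟨k + 1, by omega⟩
      rw [Even.neg_pow hev'] at ht
      have h5 : 1 ≤ q ^ t := Nat.one_le_pow _ _ (by omega)
      rw [← ZMod.natCast_eq_zero_iff, Nat.cast_sub h5]
      push_cast
      rw [ht, sub_self]
  haveI : Finite ↥(Cfsg.GU n F q) := inferInstance
  obtain ⟨g, hg⟩ := exists_prime_orderOf_dvd_card' r hdvd
  refine ⟨Matrix.toLin' ((g : GL (Fin n) F) : Matrix (Fin n) (Fin n) F), ?_, ?_, ?_⟩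
  · intro u v
    rw [HermBridge.hermSesq_apply, Matrix.toLin'_apply, Matrix.toLin'_apply]
    exact g.2 v u
  · rw [← Elus.toLin'_pow]
    have h1 : g ^ r = 1 := by
      rw [← hg]
      exact pow_orderOf_eq_one g
    have h2 : ((g : GL (Fin n) F) : Matrix (Fin n) (Fin n) F) ^ r = 1 := by
      have h3 := congrArg (fun x : ↥(Cfsg.GU n F q) =>
        ((x : GL (Fin n) F) : Matrix (Fin n) (Fin n) F)) h1
      simpa using h3
    rw [h2, Matrix.toLin'_one]
    rfl
  · intro h
    have h1 : g = 1 := by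
      apply Subtype.ext
      apply Units.ext
      have h2 : Matrix.toLin' ((g : GL (Fin n) F) : Matrix (Fin n) (Fin n) F) =
          Matrix.toLin' (1 : Matrix (Fin n) (Fin n) F) := by
        rw [h, Matrix.toLin'_one]
        rfl
      exact Matrix.toLin'.injective h2
    rw [h1, orderOf_one] at hg
    exact hr.out.one_lt.ne hg

end Count

end Cfsg.Agent.Lib.Helper2.Uti
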