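import Mathlib
import Cfsg.Agent.Lib.Helper2.UtiG
set_option autoImplicit false
set_option maxHeartbeats 1000000
set_option linter.unusedVariables false
set_option linter.unusedSectionVars false
set_option linter.style.longLine false
set_option linter.unusedSimpArgs false
set_option linter.deprecated false
set_option linter.style.haveILetI false

/-! Totally isotropic subspaces of unitary spaces (part H): gluing isometries, transporting
blocks, and isometries of prime order with prescribed fixed space. -/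

namespace Cfsg.Agent.Lib.Helper2.Uti

open Module Polynomial Cfsg Cfsg.Agent.Lib.Helper2 Cfsg.Agent.Lib.Helper5

universe u v

section Glue

variable {F : Type u} [Field F] {σ : F →+* F} {V : Type v} [AddCommGroup V] [Module F V]
  [FiniteDimensional F V]
variable (B : V →ₛₗ[σ] V →ₗ[F] F)

/-- gluing two isometries along an orthogonal decomposition -/
theorem glue_iso (hσ2 : ∀ a, σ (σ a) = a) (hS : B.IsSymm) (hB : B.Nondegenerate)
    {P : Submodule F V} (hP : ND B P) (y₁ y₂ : Module.End F V)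
    (h1 : IsIsom B y₁) (h2 : IsIsom B y₂) (hP1 : Elus.Inv y₁ P)
    (hP2 : Elus.Inv y₂ (perp B P)) (r : ℕ) (hy1 : y₁ ^ r = 1) (hy2 : y₂ ^ r = 1) :
    ∃ g : Module.End F V, IsIsom B g ∧ g ^ r = 1 ∧ (∀ u ∈ P, g u = y₁ u) ∧
      (∀ u ∈ perp B P, g u = y₂ u) := by
  have hc := nd_isCompl B hσ2 hB hP
  have hg1 : ∀ u ∈ P, (LinearMap.ofIsCompl hc (y₁.domRestrict P)
      (y₂.domRestrict (perp B P)) : Module.End F V) u = y₁ u := by
    intro u hu
    exact LinearMap.ofIsCompl_left_apply hc (⟨u, hu⟩ : P)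
  have hg2 : ∀ u ∈ perp B P, (LinearMap.ofIsCompl hc (y₁.domRestrict P)
      (y₂.domRestrict (perp B P)) : Module.End F V) u = y₂ u := by
    intro u hu
    exact LinearMap.ofIsCompl_right_apply hc (⟨u, hu⟩ : perp B P)
  generalize (LinearMap.ofIsCompl hc (y₁.domRestrict P)
      (y₂.domRestrict (perp B P)) : Module.End F V) = g at hg1 hg2
  have hdecomp : ∀ v : V, ∃ p ∈ P, ∃ q ∈ perp B P, v = p + q := by
    intro v
    have h : v ∈ P ⊔ perp B P := by
      rw [hc.sup_eq_top]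
      trivial
    obtain ⟨p, hp, q, hq, rfl⟩ := Submodule.mem_sup.mp h
    exact ⟨p, hp, q, hq, rfl⟩
  refine ⟨g, ?_, ?_, hg1, hg2⟩
  · intro u v
    obtain ⟨p, hp, q, hq, rfl⟩ := hdecomp u
    obtain ⟨p', hp', q', hq', rfl⟩ := hdecomp v
    rw [map_add g, map_add g, hg1 p hp, hg1 p' hp', hg2 q hq, hg2 q' hq']
    have e1 : B (y₁ p) (y₂ q') = 0 := (mem_perp B).mp (hP2 q' hq') _ (hP1 p hp)
    have e2 : B (y₂ q) (y₁ p') = 0 :=
      swap_zero B hS ((mem_perp B).mp (hP2 q hq) _ (hP1 p' hp'))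
    have e3 : B p q' = 0 := (mem_perp B).mp hq' p hp
    have e4 : B q p' = 0 := swap_zero B hS ((mem_perp B).mp hq p' hp')
    simp only [map_add, LinearMap.add_apply]
    linear_combination (h1 p p') + (h2 q q') + e1 + e2 - e3 - e4
  · have hpow1 : ∀ k : ℕ, ∀ u ∈ P, (g ^ k) u = (y₁ ^ k) u := by
      intro k
      induction k with
      | zero =>
        intro u _
        rw [pow_zero, pow_zero]
      | succ k ih =>
        intro u hu
        rw [pow_succ, Module.End.mul_apply, pow_succ, Module.End.mul_apply, hg1 u hu,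
          ih _ (hP1 u hu)]
    have hpow2 : ∀ k : ℕ, ∀ u ∈ perp B P, (g ^ k) u = (y₂ ^ k) u := by
      intro k
      induction k with
      | zero =>
        intro u _
        rw [pow_zero, pow_zero]
      | succ k ih =>
        intro u hu
        rw [pow_succ, Module.End.mul_apply, pow_succ, Module.End.mul_apply, hg2 u hu,
          ih _ (hP2 u hu)]
    apply LinearMap.ext
    intro v
    obtain ⟨p, hp, q, hq, rfl⟩ := hdecomp v
    rw [map_add, hpow1 r p hp, hpow2 r q hq, hy1, hy2]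
    rfl

/-- the span of an orthonormal family is nondegenerate -/
theorem nd_span_orthonormal (hσ2 : ∀ a, σ (σ a) = a) (hS : B.IsSymm) {k : ℕ} (s : Fin k → V)
    (hs : ∀ i j, B (s i) (s j) = if i = j then 1 else 0) :
    ND B (Submodule.span F (Set.range s)) ∧ finrank F (Submodule.span F (Set.range s)) = k := by
  classical
  constructor
  · rw [nd_iff B hS]
    intro u hu hu2
    obtain ⟨a, rfl⟩ := (Submodule.mem_span_range_iff_exists_fun F).mp hu
    have ha : ∀ j, a j = 0 := by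
      intro j
      have h1 := hu2 (s j) (Submodule.subset_span ⟨j, rfl⟩)
      simp only [map_sum, LinearMap.sum_apply, map_smulₛₗ, LinearMap.smul_apply, hs, smul_eq_mul,
        mul_ite, mul_one, mul_zero, Finset.sum_ite_eq', Finset.mem_univ, if_true] at h1
      rw [← hσ2 (a j), h1, map_zero]
    simp only [ha, zero_smul, Finset.sum_const_zero]
  · rw [finrank_span_eq_card (HermBasis.linearIndependent_of_orthonormal B s hs),
      Fintype.card_fin]

end Glue

section Fin

variable {F : Type u} [Field F] [Fintype F] {q : ℕ} (hF : Fintype.card F = q ^ 2)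
variable {V : Type v} [AddCommGroup V] [Module F V] [FiniteDimensional F V]
variable (B : V →ₛₗ[HermBridge.sigma hF] V →ₗ[F] F)

/-- nondegenerate subspaces of every dimension inside a nondegenerate subspace -/
theorem exists_nd_sub (hS : B.IsSymm) {Z : Submodule F V} (hZ : ND B Z) (k : ℕ)
    (hk : k ≤ finrank F Z) : ∃ C' : Submodule F V, C' ≤ Z ∧ ND B C' ∧ finrank F C' = k := by
  obtain ⟨b, hb⟩ := exists_orthonormal hF B hS hZ
  let s : Fin k → V := fun i => (b ⟨i, by have := i.2; omega⟩ : V)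
  have hs : ∀ i j, B (s i) (s j) = if i = j then 1 else 0 := by
    intro i j
    show B (b _ : V) (b _ : V) = _
    rw [hb]
    by_cases h : i = j
    · rw [if_pos h, if_pos (by rw [h])]
    · rw [if_neg h, if_neg]
      intro h'
      apply h
      apply Fin.ext
      have := congrArg Fin.val h'
      exact this
  obtain ⟨h1, h2⟩ := nd_span_orthonormal B (HermBridge.sigma_sigma hF) hS s hs
  refine ⟨Submodule.span F (Set.range s), ?_, h1, h2⟩
  rw [Submodule.span_le]
  rintro _ ⟨i, rfl⟩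
  exact (b _).2

/-- any two nondegenerate subspaces of the same dimension are conjugate under the isometry
group -/
theorem exists_isom_map (hS : B.IsSymm) (hB : B.Nondegenerate) {Z₁ Z₂ : Submodule F V}
    (h1 : ND B Z₁) (h2 : ND B Z₂) (hfin : finrank F Z₁ = finrank F Z₂) :
    ∃ g : V ≃ₗ[F] V, (∀ u v, B (g u) (g v) = B u v) ∧ Z₁.map (g : V →ₗ[F] V) = Z₂ := by
  classical
  obtain ⟨b₁, hb₁⟩ := exists_orthonormal hF B hS h1
  obtain ⟨b₂, hb₂⟩ := exists_orthonormal hF B hS h2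
  let φ : Z₁ ≃ₗ[F] Z₂ := b₁.equiv b₂ (finCongr hfin)
  have hφb : ∀ i, φ (b₁ i) = b₂ (finCongr hfin i) := fun i => Basis.equiv_apply b₁ i b₂ _
  have hφ : ∀ x x' : Z₁, B (φ x : V) (φ x' : V) = B (x : V) (x' : V) := by
    intro x x'
    have hx : x = ∑ i, b₁.repr x i • b₁ i := (b₁.sum_repr x).symm
    have hx' : x' = ∑ i, b₁.repr x' i • b₁ i := (b₁.sum_repr x').symm
    rw [hx, hx']
    simp only [map_sum, map_smul, Submodule.coe_sum, Submodule.coe_smul, hφb, map_smulₛₗ,
      LinearMap.sum_apply, LinearMap.smul_apply, hb₁, hb₂, (finCongr hfin).injective.eq_iff]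
  obtain ⟨g, hg, hgx⟩ := HermWitt.witt B (HermBridge.sigma_ne_id hF) (HermBridge.sigma_sigma hF)
    hB hS Z₁ Z₂ φ hφ
  refine ⟨g, hg, ?_⟩
  apply le_antisymm
  · rintro _ ⟨x, hx, rfl⟩
    show g x ∈ Z₂
    rw [hgx ⟨x, hx⟩]
    exact (φ ⟨x, hx⟩).2
  · intro z hz
    refine ⟨(φ.symm ⟨z, hz⟩ : V), (φ.symm ⟨z, hz⟩).2, ?_⟩
    show g (φ.symm ⟨z, hz⟩ : V) = z
    rw [hgx (φ.symm ⟨z, hz⟩), φ.apply_symm_apply]

/-- isometries of order `r` with fixed space of codimension `c * l`, for every admissible `l` -/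
theorem exists_iso_elt {p : ℕ} [hp : Fact p.Prime] [CharP F p]
    (hS : B.IsSymm) (hB : B.Nondegenerate) (r : ℕ) [hr : Fact r.Prime] (hrp : r ≠ p)
    (hrF : (r : F) ≠ 0) (hrq : ¬ r ∣ q) (b c : ℕ)
    (hb : b = orderOf ((Fintype.card F : ℕ) : ZMod r)) (hc : c = orderOf (-(q : ZMod r)))
    (htype : (c = b ∧ ∃ e, r ∣ q ^ (2 * e + 1) + 1) ∨ c = 2 * b)
    {y₀ : Module.End F V} (hy₀B : IsIsom B y₀) (hy₀ : y₀ ^ r = 1) (hy₀1 : y₀ ≠ 1) (n : ℕ)
    (hn : finrank F V = n) :
    c ≤ n ∧ ∀ l : ℕ, c * l ≤ n → ∃ y : Module.End F V, IsIsom B y ∧ y ^ r = 1 ∧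
      finrank F (LinearMap.ker (y - 1)) + c * l = n := by
  classical
  have hσ2 := HermBridge.sigma_sigma hF
  have hr0 : 0 < r := hr.out.pos
  -- a block for `y₀`
  obtain ⟨WN, -, hWNnd, hWNi, hWNC, hWNfin, -, -⟩ :=
    moving_part B hσ2 hS hB hy₀B hr0 hrF hy₀ (nd_top B hB) (fun x _ => Submodule.mem_top)
  have hWN0 : WN ≠ ⊥ := by
    intro h
    rw [h, finrank_bot, top_inf_eq, finrank_top] at hWNfin
    have hle := Submodule.finrank_le (LinearMap.ker (y₀ - 1))
    have htop : LinearMap.ker (y₀ - 1) = ⊤ := Submodule.eq_top_of_finrank_eq (by omega)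
    apply hy₀1
    apply LinearMap.ext
    intro v
    have hv : v ∈ LinearMap.ker (y₀ - 1) := by
      rw [htop]
      trivial
    rw [Elus.mem_ker_sub_one.mp hv, Module.End.one_apply]
  obtain ⟨Z₁, hZ₁W, hZ₁nd, hZ₁i, hZ₁fin⟩ := exists_nd_block hF B hS hB r hrp hrF hrq hy₀B hy₀
    b c hb hc htype hWNnd hWNi hWNC hWN0
  have hZ₁C : Z₁ ⊓ LinearMap.ker (y₀ - 1) = ⊥ := by
    rw [eq_bot_iff, ← hWNC]
    exact inf_le_inf_right _ hZ₁W
  have hcn : c ≤ n := by
    rw [← hZ₁fin, ← hn]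
    exact Submodule.finrank_le Z₁
  refine ⟨hcn, ?_⟩
  intro l
  induction l with
  | zero =>
    intro _
    refine ⟨1, isIsom_one B, one_pow r, ?_⟩
    rw [sub_self, LinearMap.ker_zero, finrank_top, hn, Nat.mul_zero, add_zero]
  | succ l ih =>
    intro hl
    rw [Nat.mul_succ] at hl
    obtain ⟨y, hyB, hy, hyfin⟩ := ih (by omega)
    have hCnd : ND B (LinearMap.ker (y - 1)) := by
      have h := nd_fix B hS hyB hrF hy (nd_top B hB) (fun x _ => Submodule.mem_top)
      rwa [top_inf_eq] at h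
    obtain ⟨C', hC'C, hC'nd, hC'fin⟩ := exists_nd_sub hF B hS hCnd c (by omega)
    -- Witt
    obtain ⟨h, hh, hmap'⟩ := exists_isom_map hF B hS hB hZ₁nd hC'nd (by rw [hZ₁fin, hC'fin])
    have hy'B : IsIsom B ((h.toLinearMap ∘ₗ y₀ ∘ₗ h.symm.toLinearMap : Module.End F V)) := by
      intro u v
      show B (h (y₀ (h.symm u))) (h (y₀ (h.symm v))) = B u v
      rw [hh, hy₀B, ← hh (h.symm u) (h.symm v), h.apply_symm_apply, h.apply_symm_apply]
    have hy' : (h.toLinearMap ∘ₗ y₀ ∘ₗ h.symm.toLinearMap : Module.End F V) ^ r = 1 := by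
      apply LinearMap.ext
      intro v
      rw [Elus.conj_pow, hy₀, Module.End.one_apply, Module.End.one_apply, h.apply_symm_apply]
    have hy'i : Elus.Inv (h.toLinearMap ∘ₗ y₀ ∘ₗ h.symm.toLinearMap : Module.End F V) C' := by
      intro v hv
      rw [← hmap'] at hv ⊢
      obtain ⟨z, hz, rfl⟩ := hv
      refine ⟨y₀ z, hZ₁i z hz, ?_⟩
      show h (y₀ z) = h (y₀ (h.symm (h z)))
      rw [h.symm_apply_apply]
    have hy'C : C' ⊓ LinearMap.ker
        ((h.toLinearMap ∘ₗ y₀ ∘ₗ h.symm.toLinearMap : Module.End F V) - 1) = ⊥ := by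
      rw [eq_bot_iff]
      rintro v ⟨hv, hv2⟩
      rw [← hmap'] at hv
      obtain ⟨z, hz, rfl⟩ := hv
      have h3 : h (y₀ (h.symm (h z))) = h z := Elus.mem_ker_sub_one.mp hv2
      rw [h.symm_apply_apply] at h3
      have h4 : z ∈ Z₁ ⊓ LinearMap.ker (y₀ - 1) :=
        ⟨hz, Elus.mem_ker_sub_one.mpr (h.injective h3)⟩
      rw [hZ₁C] at h4
      rw [(Submodule.mem_bot F).mp h4, map_zero]
      exact Submodule.zero_mem _
    generalize (h.toLinearMap ∘ₗ y₀ ∘ₗ h.symm.toLinearMap : Module.End F V) = y' at hy'B hy' hy'i hy'C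
    have hPi2 : Elus.Inv y (perp B C') :=
      inv_perp B hyB hr0 hy (Elus.inv_of_le_ker hC'C)
    obtain ⟨g, hgB, hg, hg1, hg2⟩ :=
      glue_iso B hσ2 hS hB hC'nd y' y hy'B hyB hy'i hPi2 r hy' hy
    refine ⟨g, hgB, hg, ?_⟩
    have hcomp := nd_isCompl B hσ2 hB hC'nd
    have hgi1 : Elus.Inv g C' := by
      intro u hu
      rw [hg1 u hu]
      exact hy'i u hu
    have hgi2 : Elus.Inv g (perp B C') := by
      intro u hu
      rw [hg2 u hu]
      exact hPi2 u hu
    have hfa := Imp.fix_add g hgi1 hgi2 hcomp.disjoint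
    rw [hcomp.sup_eq_top, top_inf_eq] at hfa
    have h5 : C' ⊓ LinearMap.ker (g - 1) = ⊥ := by
      rw [eq_bot_iff, ← hy'C]
      rintro u ⟨hu, hu2⟩
      refine ⟨hu, Elus.mem_ker_sub_one.mpr ?_⟩
      rw [← hg1 u hu]
      exact Elus.mem_ker_sub_one.mp hu2
    have h6 : perp B C' ⊓ LinearMap.ker (g - 1) =
        LinearMap.ker (y - 1) ⊓ perp B C' := by
      ext u
      constructor
      · rintro ⟨hu, hu2⟩
        refine ⟨Elus.mem_ker_sub_one.mpr ?_, hu⟩
        rw [← hg2 u hu]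
        exact Elus.mem_ker_sub_one.mp hu2
      · rintro ⟨hu2, hu⟩
        refine ⟨hu, Elus.mem_ker_sub_one.mpr ?_⟩
        rw [hg2 u hu]
        exact Elus.mem_ker_sub_one.mp hu2
    rw [h5, finrank_bot, zero_add, h6, finrank_perp_in B hσ2 hB hCnd hC'C, hC'fin] at hfa
    rw [hfa, Nat.mul_succ]
    omega

end Fin

end Cfsg.Agent.Lib.Helper2.Uti
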