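import Mathlib
import Cfsg.Agent.Lib.Helper2.UtiH
set_option autoImplicit false
set_option maxHeartbeats 1000000
set_option linter.unusedVariables false
set_option linter.unusedSectionVars false
set_option linter.style.longLine false
set_option linter.unusedSimpArgs false
set_option linter.deprecated false
set_option linter.style.haveILetI false

/-! Totally isotropic subspaces of unitary spaces (part I): the basic necessary conditions, and
isometries of odd prime order with prescribed types of irreducible blocks. -/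

namespace Cfsg.Agent.Lib.Helper2.Uti

open Module Polynomial Cfsg Cfsg.Agent.Lib.Helper2 Cfsg.Agent.Lib.Helper5

universe u v

section Basic

variable {F : Type u} [Field F] [Fintype F] {q : ℕ} (hF : Fintype.card F = q ^ 2)
variable {V : Type v} [AddCommGroup V] [Module F V] [FiniteDimensional F V]
variable (B : V →ₛₗ[HermBridge.sigma hF] V →ₗ[F] F)

/-- the basic necessary conditions -/
theorem ti_nec_basic {p : ℕ} [hp : Fact p.Prime] [CharP F p]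
    (hS : B.IsSymm) (hB : B.Nondegenerate) (r : ℕ) [hr : Fact r.Prime] (hrp : r ≠ p)
    (hrF : (r : F) ≠ 0) (hrq : ¬ r ∣ q) (b c : ℕ)
    (hb : b = orderOf ((Fintype.card F : ℕ) : ZMod r)) (hc : c = orderOf (-(q : ZMod r)))
    (htype : (c = b ∧ ∃ e, r ∣ q ^ (2 * e + 1) + 1) ∨ c = 2 * b)
    (n m : ℕ) (hn : finrank F V = n) (hm : 1 ≤ m) (hmn : 2 * m ≤ n)
    (t : ℕ) (ht1 : n + 1 ≤ t + 2 * m) (htn : t ≤ n) (hct : c ∣ t)
    {y₀ : Module.End F V} (hy₀B : IsIsom B y₀) (hy₀ : y₀ ^ r = 1) (hy₀1 : y₀ ≠ 1)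
    (H : ∀ y : Module.End F V, IsIsom B y → y ^ r = 1 → y ≠ 1 →
      ∃ W : Submodule F V, finrank F W = m ∧ TI B W ∧ Elus.Inv y W) :
    b ≤ m ∧ 2 * (m % b) ≤ n % c := by
  classical
  have hσ2 := HermBridge.sigma_sigma hF
  have hr0 : 0 < r := hr.out.pos
  have hrq' : ¬ r ∣ Fintype.card F := by
    rw [hF]
    intro h
    exact hrq (hr.out.dvd_of_dvd_pow h)
  have hb0 : 0 < b := by
    rw [hb]
    exact Elus.ord_pos r (Fintype.card F) hrq'
  obtain ⟨hcn, hex⟩ := exists_iso_elt hF B hS hB r hrp hrF hrq b c hb hc htype hy₀B hy₀ hy₀1 n hn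
  have hcpos : 0 < c := by
    rcases htype with ⟨h, -⟩ | h <;> omega
  have hc2 : c ≤ 2 * b := by
    rcases htype with ⟨h, -⟩ | h <;> omega
  obtain ⟨y, hyB, hy, hyfin⟩ := hex (n / c) (Nat.mul_div_le _ _)
  have hCfin : finrank F (LinearMap.ker (y - 1)) = n % c := by
    have := Nat.div_add_mod n c
    omega
  have hy1 : y ≠ 1 := by
    rintro rfl
    have h1 : LinearMap.ker ((1 : Module.End F V) - 1) = ⊤ := by
      rw [sub_self, LinearMap.ker_zero]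
    rw [h1, finrank_top, hn] at hyfin
    have h2 : 1 ≤ n / c := (Nat.le_div_iff_mul_le hcpos).mpr (by omega)
    have h3 : c * 1 ≤ c * (n / c) := Nat.mul_le_mul_left c h2
    omega
  obtain ⟨W, hWfin, hWti, hWi⟩ := H y hyB hy hy1
  have h1 := Elus.mod_inf_of_inv y r hy hrq' W hWi
  rw [← hb, hWfin] at h1
  have hCnd : ND B ((⊤ : Submodule F V) ⊓ LinearMap.ker (y - 1)) :=
    nd_fix B hS hyB hrF hy (nd_top B hB) (fun v _ => Submodule.mem_top)
  rw [top_inf_eq] at hCnd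
  have h2 := ti_finrank_le B hσ2 hB (hWti.mono inf_le_left) inf_le_right hCnd
  rw [hCfin] at h2
  have h3 : finrank F (W ⊓ LinearMap.ker (y - 1) : Submodule F V) ≤ m := by
    rw [← hWfin]
    exact Submodule.finrank_mono inf_le_left
  generalize finrank F (W ⊓ LinearMap.ker (y - 1) : Submodule F V) = a at h1 h2 h3
  have hmodlt : n % c < c := Nat.mod_lt _ hcpos
  have ha : a < b := by omega
  obtain ⟨t', ht'⟩ := h1
  have hma : m % b = a := by
    have h4 : m = a + b * t' := by omega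
    rw [h4, Nat.add_mul_mod_self_left, Nat.mod_eq_of_lt ha]
  refine ⟨?_, by rw [hma]; exact h2⟩
  by_contra hlt
  push Not at hlt
  have hmm : m % b = m := Nat.mod_eq_of_lt hlt
  obtain ⟨k, hk⟩ := hct
  have h5 : n % c ≤ n - t := SpImp.mod_le_of_eq n (n - t) c k (by omega)
  omega

end Basic

section Gen

variable {F : Type u} [Field F] {σ : F →+* F} {V : Type v} [AddCommGroup V] [Module F V]
  [FiniteDimensional F V]
variable (B : V →ₛₗ[σ] V →ₗ[F] F)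

theorem conj_isom {g : V ≃ₗ[F] V} (hg : ∀ u v, B (g u) (g v) = B u v) {x₀ : Module.End F V}
    (hx₀ : IsIsom B x₀) : IsIsom B (LinearEquiv.conjAlgEquiv F g x₀) := by
  intro u v
  rw [LinearEquiv.conjAlgEquiv_apply]
  show B (g (x₀ (g.symm u))) (g (x₀ (g.symm v))) = B u v
  rw [hg, hx₀]
  have := hg (g.symm u) (g.symm v)
  rw [g.apply_symm_apply, g.apply_symm_apply] at this
  exact this.symm

theorem nd_perp (hσ2 : ∀ a, σ (σ a) = a) (hS : B.IsSymm) (hB : B.Nondegenerate)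
    {A : Submodule F V} (hAnd : ND B A) :
    ND B (perp B A) ∧ finrank F (perp B A) = finrank F V - finrank F A := by
  have h1 := nd_perp_in B hσ2 hS hB (nd_top B hB) hAnd le_top
  have h2 := finrank_perp_in B hσ2 hB (nd_top B hB) (le_top : A ≤ ⊤)
  rw [top_inf_eq] at h1 h2
  rw [finrank_top] at h2
  exact ⟨h1, h2⟩

/-- peeling a block of a type that occurs only once -/
theorem peel_block {y : Module.End F V} {A Z W : Submodule F V} (hZ : ND B Z)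
    (hZ0 : Z ≠ ⊥) (hZi : Elus.Inv y Z)
    (hZmin : ∀ X : Submodule F V, X ≤ Z → Elus.Inv y X → X = ⊥ ∨ X = Z) {ψ G : F[X]}
    (hψ : ∀ u ∈ Z, aeval y ψ u = 0) (hG : ∀ u ∈ A, aeval y G u = 0) (hcop : IsCoprime ψ G)
    (hW : W ≤ A ⊔ Z) (hWi : Elus.Inv y W) (hWti : TI B W) : W ≤ A := by
  have hWZ : W ⊓ Z = ⊥ := by
    rcases hZmin _ inf_le_right (SpImp.inv_inf' hWi hZi) with h | h
    · exact h
    · exfalso
      have h1 : Z ≤ W := inf_eq_right.mp h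
      have h2 : Z ≤ perp B Z := ti_le_perp B (hWti.mono h1)
      apply hZ0
      rw [eq_bot_iff, ← hZ.eq_bot]
      exact le_inf le_rfl h2
  intro w hw
  obtain ⟨a, ha, z, hz, rfl⟩ := Submodule.mem_sup.mp (hW hw)
  have h1 : aeval y G (a + z) = aeval y G z := by rw [map_add, hG a ha, zero_add]
  have h2 : aeval y G z ∈ W ⊓ Z := by
    refine ⟨?_, SpImp.inv_aeval hZi G z hz⟩
    rw [← h1]
    exact SpImp.inv_aeval hWi G _ hw
  rw [hWZ] at h2
  have hz0 : z = 0 := SpTi.eq_zero_of_coprime hcop (hψ z hz) ((Submodule.mem_bot F).mp h2)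
  rw [hz0, add_zero]
  exact ha

end Gen

section Build

variable {F : Type u} [Field F] [Fintype F] {q : ℕ} (hF : Fintype.card F = q ^ 2)
variable {V : Type v} [AddCommGroup V] [Module F V] [FiniteDimensional F V]
variable (B : V →ₛₗ[HermBridge.sigma hF] V →ₗ[F] F)

/-- adding a block of prescribed type to an isometry -/
theorem add_block (hS : B.IsSymm) (hB : B.Nondegenerate) {r : ℕ} (hr : 0 < r)
    {y : Module.End F V} (hyB : IsIsom B y) (hy : y ^ r = 1) {A : Submodule F V}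
    (hAnd : ND B A) (hAfix : ∀ v ∈ perp B A, y v = v) {x₀ : Module.End F V}
    (hx₀B : IsIsom B x₀) (hx₀ : x₀ ^ r = 1) {Z₀ : Submodule F V} (hZ₀ : ND B Z₀)
    (hZ₀i : Elus.Inv x₀ Z₀) (e : ℕ) (hZ₀fin : finrank F Z₀ = e)
    (hroom : finrank F A + e ≤ finrank F V) (ψ : F[X]) (hψ : ∀ u ∈ Z₀, aeval x₀ ψ u = 0) :
    ∃ (y' : Module.End F V) (Z : Submodule F V), IsIsom B y' ∧ y' ^ r = 1 ∧
      Z ≤ perp B A ∧ ND B Z ∧ Elus.Inv y' Z ∧ finrank F Z = e ∧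
      (∀ u ∈ A, y' u = y u) ∧ (∀ u ∈ Z, aeval y' ψ u = 0) ∧
      (∀ v ∈ perp B (A ⊔ Z), y' v = v) := by
  have hσ2 := HermBridge.sigma_sigma hF
  obtain ⟨hAp, hApfin⟩ := nd_perp B hσ2 hS hB hAnd
  obtain ⟨Z, hZA, hZ, hZfin⟩ := exists_nd_sub hF B hS hAp e (by omega)
  have hZi : Elus.Inv y Z := fun v hv => by rw [hAfix v (hZA hv)]; exact hv
  obtain ⟨g, hg, hgZ⟩ := exists_isom_map hF B hS hB hZ₀ hZ (by rw [hZ₀fin, hZfin])
  have h1B := conj_isom B hg hx₀B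
  have h1r : (LinearEquiv.conjAlgEquiv F g x₀) ^ r = 1 := by
    rw [← map_pow, hx₀, map_one]
  have h1Z : Elus.Inv (LinearEquiv.conjAlgEquiv F g x₀) Z := by
    intro u hu
    rw [← hgZ] at hu ⊢
    obtain ⟨u₀, hu₀, rfl⟩ := hu
    show (LinearEquiv.conjAlgEquiv F g x₀) (g u₀) ∈ _
    rw [SpTi.conj_apply]
    exact ⟨x₀ u₀, hZ₀i u₀ hu₀, rfl⟩
  obtain ⟨y', hy'B, hy'r, hy'Z, hy'p⟩ := glue_iso B hσ2 hS hB hZ
    (LinearEquiv.conjAlgEquiv F g x₀) y h1B hyB h1Z (inv_perp B hyB hr hy hZi) r h1r hy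
  have hAZp : A ≤ perp B Z := by
    intro u hu
    apply (mem_perp B).mpr
    intro z hz
    exact swap_zero B hS ((mem_perp B).mp (hZA hz) u hu)
  refine ⟨y', Z, hy'B, hy'r, hZA, hZ, ?_, hZfin, fun u hu => hy'p u (hAZp hu), ?_, ?_⟩
  · intro u hu
    rw [hy'Z u hu]
    exact h1Z u hu
  · intro u hu
    rw [SpTi.aeval_congr_on h1Z hy'Z ψ u hu]
    rw [← hgZ] at hu
    obtain ⟨u₀, hu₀, rfl⟩ := hu
    show aeval (LinearEquiv.conjAlgEquiv F g x₀) ψ (g u₀) = 0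
    rw [SpTi.conj_aeval, hψ u₀ hu₀, map_zero]
  · intro v hv
    have hvZ : v ∈ perp B Z := perp_anti B le_sup_right hv
    have hvA : v ∈ perp B A := perp_anti B le_sup_left hv
    rw [hy'p v hvZ, hAfix v hvA]

/-- configurations: an isometry `y` with `y ^ r = 1` acting trivially on the orthogonal
complement of the nondegenerate invariant subspace `A` -/
def Cfg (r : ℕ) (y : Module.End F V) (A : Submodule F V) : Prop :=
  IsIsom B y ∧ y ^ r = 1 ∧ ND B A ∧ Elus.Inv y A ∧ ∀ v ∈ perp B A, y v = v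

theorem cfg_add (hS : B.IsSymm) (hB : B.Nondegenerate) {r : ℕ} (hr : 0 < r)
    {y : Module.End F V} {A : Submodule F V} (hcfg : Cfg hF B r y A) {x₀ : Module.End F V}
    (hx₀B : IsIsom B x₀) (hx₀ : x₀ ^ r = 1) {Z₀ : Submodule F V} (hZ₀ : ND B Z₀)
    (hZ₀i : Elus.Inv x₀ Z₀) (i : ℕ) (hZ₀fin : finrank F Z₀ = i)
    (hroom : finrank F A + i ≤ finrank F V) (ψ : F[X]) (hψ : ∀ u ∈ Z₀, aeval x₀ ψ u = 0) :
    ∃ (y' : Module.End F V) (Z : Submodule F V), Cfg hF B r y' (A ⊔ Z) ∧ Z ≤ perp B A ∧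
      ND B Z ∧ Elus.Inv y' Z ∧ finrank F Z = i ∧ (∀ u ∈ A, y' u = y u) ∧
      (∀ u ∈ Z, aeval y' ψ u = 0) ∧ finrank F (A ⊔ Z : Submodule F V) = finrank F A + i := by
  obtain ⟨hyB, hy, hAnd, hAi, hfix⟩ := hcfg
  obtain ⟨y', Z, hy'B, hy'r, hZA, hZ, hZi, hZfin, hyA, hψZ, hfix'⟩ :=
    add_block hF B hS hB hr hyB hy hAnd hfix hx₀B hx₀ hZ₀ hZ₀i i hZ₀fin hroom ψ hψ
  refine ⟨y', Z, ⟨hy'B, hy'r, nd_sup B hS hAnd hZ ((orth_iff_le_perp B).mpr hZA),
    Elus.Inv.sup (fun u hu => by rw [hyA u hu]; exact hAi u hu) hZi, hfix'⟩, hZA, hZ, hZi,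
    hZfin, hyA, hψZ, ?_⟩
  rw [Elus.finrank_sup_of_disjoint (hAnd.mono_right hZA), hZfin]

/-- stage 1: blocks of a single type -/
theorem build_same (hS : B.IsSymm) (hB : B.Nondegenerate) {r : ℕ} (hr : 0 < r)
    {x₀ : Module.End F V} (hx₀B : IsIsom B x₀) (hx₀ : x₀ ^ r = 1) {Z₀ : Submodule F V}
    (hZ₀ : ND B Z₀) (hZ₀i : Elus.Inv x₀ Z₀) (i : ℕ)
    (hZ₀fin : finrank F Z₀ = i) (ψ : F[X]) (hψ : ∀ u ∈ Z₀, aeval x₀ ψ u = 0) :
    ∀ e : ℕ, i * e ≤ finrank F V → ∃ (y : Module.End F V) (E : Submodule F V),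
      Cfg hF B r y E ∧ finrank F E = i * e ∧ ∀ u ∈ E, aeval y ψ u = 0 := by
  intro e
  induction e with
  | zero =>
    intro _
    refine ⟨1, ⊥, ⟨isIsom_one B, one_pow r, nd_bot B, Elus.inv_bot 1, fun v _ => rfl⟩,
      by rw [finrank_bot, mul_zero], fun u hu => ?_⟩
    rw [(Submodule.mem_bot F).mp hu, map_zero]
  | succ e ih =>
    intro hn
    have e1 : i * (e + 1) = i * e + i := Nat.mul_succ i e
    obtain ⟨y, E, hc, hEfin, hψE⟩ := ih (by omega)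
    obtain ⟨y', Z, hc', hZE, hZ, hZi, hZfin, hyE, hψZ, hfin'⟩ :=
      cfg_add hF B hS hB hr hc hx₀B hx₀ hZ₀ hZ₀i i hZ₀fin (by omega) ψ hψ
    refine ⟨y', E ⊔ Z, hc', by rw [hfin', hEfin, e1], ?_⟩
    intro w hw
    obtain ⟨a, ha, z, hz, rfl⟩ := Submodule.mem_sup.mp hw
    rw [map_add, SpTi.aeval_congr_on hc.2.2.2.1 hyE ψ a ha, hψE a ha, hψZ z hz, add_zero]

/-- stage 2: adding blocks of pairwise distinct new types -/
theorem build_distinct {p f₀ : ℕ} [hp : Fact p.Prime] (hq : Fintype.card F = p ^ f₀)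
    (hS : B.IsSymm) (hB : B.Nondegenerate) (r : ℕ) [hr : Fact r.Prime] (hrp : r ≠ p)
    (i : ℕ) (hi : i = orderOf ((Fintype.card F : ℕ) : ZMod r))
    (hi0 : 0 < i) {Z₀ : Submodule F V} (hZ₀ : ND B Z₀) (hZ₀fin : finrank F Z₀ = i)
    (s : ℕ) (x : Fin s → Module.End F V) (ψ : Fin s → F[X])
    (hxB : ∀ a, IsIsom B (x a)) (hxr : ∀ a, x a ^ r = 1) (hxZ : ∀ a, Elus.Inv (x a) Z₀)
    (hxψ : ∀ a, ∀ u ∈ Z₀, aeval (x a) (ψ a) u = 0)
    (hX1 : ∀ a, IsCoprime (X - C (1 : F)) (ψ a))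
    (hpair : ∀ a b, a ≠ b → IsCoprime (ψ a) (ψ b)) (h0 : 0 < s)
    {yE : Module.End F V} {E : Submodule F V} (hcE : Cfg hF B r yE E) (e : ℕ)
    (hEfin : finrank F E = i * e) (hψE : ∀ u ∈ E, aeval yE (ψ ⟨0, h0⟩) u = 0) :
    ∀ j : ℕ, j + 1 ≤ s → i * (e + j) ≤ finrank F V →
      ∃ (y : Module.End F V) (A : Submodule F V) (G : F[X]), Cfg hF B r y A ∧
        finrank F A = i * (e + j) ∧ (∀ u ∈ A, aeval y G u = 0) ∧ IsCoprime (X - C (1 : F)) G ∧
        (∀ b : Fin s, j < (b : ℕ) → IsCoprime (ψ b) G) ∧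
        (∀ W : Submodule F V, W ≤ A → Elus.Inv y W → TI B W → W ≤ E) := by
  have hr0 : 0 < r := hr.out.pos
  intro j
  induction j with
  | zero =>
    intro _ _
    have hb0 : ((⟨0, h0⟩ : Fin s) : ℕ) = 0 := rfl
    refine ⟨yE, E, ψ ⟨0, h0⟩, hcE, by rw [add_zero]; exact hEfin, hψE, hX1 _, ?_,
      fun W hW _ _ => hW⟩
    intro b hb
    apply hpair
    intro h
    rw [Fin.ext_iff, hb0] at h
    omega
  | succ j ih =>
    intro hj hn
    have e1 : i * (e + (j + 1)) = i * (e + j) + i := by ring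
    obtain ⟨y, A, G, hc, hAfin, hG, hG1, hGb, hpeel⟩ := ih (by omega) (by omega)
    have hb1 : j + 1 < s := by omega
    obtain ⟨y', Z, hc', hZA, hZ, hZi, hZfin, hyA, hψZ, hfin'⟩ :=
      cfg_add hF B hS hB hr0 hc (hxB ⟨j + 1, hb1⟩) (hxr ⟨j + 1, hb1⟩) hZ₀ (hxZ ⟨j + 1, hb1⟩) i
        hZ₀fin (by omega) (ψ ⟨j + 1, hb1⟩) (hxψ ⟨j + 1, hb1⟩)
    have hAi : Elus.Inv y A := hc.2.2.2.1
    have hGA' : ∀ u ∈ A, aeval y' G u = 0 := by
      intro u hu
      rw [SpTi.aeval_congr_on hAi hyA G u hu]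
      exact hG u hu
    have hbv : ((⟨j + 1, hb1⟩ : Fin s) : ℕ) = j + 1 := rfl
    refine ⟨y', A ⊔ Z, ψ ⟨j + 1, hb1⟩ * G, hc', by rw [hfin', hAfin, e1], ?_,
      IsCoprime.mul_right (hX1 _) hG1, ?_, ?_⟩
    · intro w hw
      obtain ⟨a, ha, z, hz, rfl⟩ := Submodule.mem_sup.mp hw
      have h1 : aeval y' (ψ ⟨j + 1, hb1⟩ * G) a = 0 := by
        rw [map_mul, Module.End.mul_apply, hGA' a ha, map_zero]
      have h2 : aeval y' (ψ ⟨j + 1, hb1⟩ * G) z = 0 := by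
        rw [mul_comm, map_mul, Module.End.mul_apply, hψZ z hz, map_zero]
      rw [map_add, h1, h2, add_zero]
    · intro b hb
      refine IsCoprime.mul_right (hpair b ⟨j + 1, hb1⟩ ?_) (hGb b (by omega))
      intro h
      rw [Fin.ext_iff, hbv] at h
      omega
    · intro W hW hWi hWti
      have hZC : Z ⊓ LinearMap.ker (y' - 1) = ⊥ := by
        rw [eq_bot_iff]
        intro u hu
        have h1 : aeval y' (X - C (1 : F)) u = 0 := by
          rw [SpTi.aeval_sub_one, Elus.mem_ker_sub_one.mp hu.2, sub_self]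
        exact (Submodule.mem_bot F).mpr
          (SpTi.eq_zero_of_coprime (hX1 ⟨j + 1, hb1⟩) h1 (hψZ u hu.1))
      have hZmin := SpTi.minimal_of_finrank hq r hrp hc'.2.1 hZi hZC (hZfin.trans hi)
      have hZ0 : Z ≠ ⊥ := by
        intro h
        rw [h, finrank_bot] at hZfin
        omega
      have hWA : W ≤ A := peel_block B hZ hZ0 hZi hZmin hψZ hGA'
        (hGb ⟨j + 1, hb1⟩ (by rw [hbv]; omega)) hW hWi hWti
      refine hpeel W hWA (fun w hw => ?_) hWti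
      rw [← hyA w (hWA hw)]
      exact hWi w hw

/-- the bound on invariant totally isotropic subspaces of a typed configuration -/
theorem cfg_bound (hS : B.IsSymm) (hB : B.Nondegenerate) (r : ℕ) [hr : Fact r.Prime]
    (hrF : (r : F) ≠ 0) (hrq : ¬ r ∣ Fintype.card F) {y : Module.End F V}
    {A E : Submodule F V} (hc : Cfg hF B r y A) (i l e : ℕ)
    (hi : i = orderOf ((Fintype.card F : ℕ) : ZMod r)) (hi0 : 0 < i)
    (hAfin : finrank F A = i * l) (hE : ND B E) (hEfin : finrank F E = i * e) (hodd : Odd e)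
    {G : F[X]} (hG : ∀ u ∈ A, aeval y G u = 0) (hG1 : IsCoprime (X - C (1 : F)) G)
    (hpeel : ∀ W : Submodule F V, W ≤ A → Elus.Inv y W → TI B W → W ≤ E) (n : ℕ)
    (hn : finrank F V = n) :
    (0 < l → y ≠ 1) ∧ ∀ W : Submodule F V, Elus.Inv y W → TI B W →
      2 * finrank F W ≤ (n - i * l) + i * (e - 1) := by
  have hσ2 := HermBridge.sigma_sigma hF
  obtain ⟨hyB, hy, hAnd, hAi, hfix⟩ := hc
  have hAC : A ⊓ LinearMap.ker (y - 1) = ⊥ := by
    rw [eq_bot_iff]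
    intro u hu
    have h1 : aeval y (X - C (1 : F)) u = 0 := by
      rw [SpTi.aeval_sub_one, Elus.mem_ker_sub_one.mp hu.2, sub_self]
    exact (Submodule.mem_bot F).mpr (SpTi.eq_zero_of_coprime hG1 h1 (hG u hu.1))
  constructor
  · intro hl hy1
    have h1 : LinearMap.ker (y - 1) = ⊤ := by rw [hy1, sub_self, LinearMap.ker_zero]
    rw [h1, inf_top_eq] at hAC
    rw [hAC, finrank_bot] at hAfin
    have := Nat.mul_pos hi0 hl
    omega
  · intro W hWi hWti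
    obtain ⟨hAp, hApfin⟩ := nd_perp B hσ2 hS hB hAnd
    have hsup : perp B A ⊔ A = ⊤ := by
      rw [sup_comm]
      exact (nd_isCompl B hσ2 hB hAnd).sup_eq_top
    have hsplit := SpTi.inv_split hrF hy (X := perp B A) (X' := A)
      (fun v hv => Elus.mem_ker_sub_one.mpr (hfix v hv)) hAi hAC hsup hWi
    have h1 := ti_finrank_le B hσ2 hB (hWti.mono inf_le_left) inf_le_right hAp
    have h2 : W ⊓ A ≤ E := hpeel _ inf_le_right (SpImp.inv_inf' hWi hAi) (hWti.mono inf_le_left)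
    have h3 := ti_finrank_le B hσ2 hB (hWti.mono inf_le_left) h2 hE
    have h4 := Elus.mod_inf_of_inv y r hy hrq (W ⊓ A) (SpImp.inv_inf' hWi hAi)
    have h5 : (W ⊓ A) ⊓ LinearMap.ker (y - 1) = ⊥ := by
      rw [eq_bot_iff, ← hAC]
      exact inf_le_inf_right _ inf_le_right
    rw [h5, finrank_bot, Nat.sub_zero, ← hi] at h4
    obtain ⟨t, ht⟩ := h4
    rw [hApfin, hn, hAfin] at h1
    rw [hEfin, ht] at h3
    have e' : i * (2 * t) = 2 * (i * t) := by ring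
    have h6 : 2 * t ≤ e := Nat.le_of_mul_le_mul_left (by rw [e']; exact h3) hi0
    obtain ⟨e2, he2⟩ := hodd
    have h7 : 2 * t ≤ e - 1 := by omega
    have h8 := Nat.mul_le_mul_left i h7
    rw [hsplit, ht]
    omega

/-- the derangements in the self-dual case: isometries of order `r` whose invariant totally
isotropic subspaces are small -/
theorem exists_typed_derangement {p : ℕ} [hp : Fact p.Prime] [CharP F p]
    (hS : B.IsSymm) (hB : B.Nondegenerate) (r : ℕ) [hr : Fact r.Prime] (hrp : r ≠ p)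
    (hrF : (r : F) ≠ 0) (hrq : ¬ r ∣ q) (b c : ℕ)
    (hb : b = orderOf ((Fintype.card F : ℕ) : ZMod r)) (hc : c = orderOf (-(q : ZMod r)))
    (hcb : c = b) (he : ∃ e, r ∣ q ^ (2 * e + 1) + 1)
    {y₀ : Module.End F V} (hy₀B : IsIsom B y₀) (hy₀ : y₀ ^ r = 1) (hy₀1 : y₀ ≠ 1) (n : ℕ)
    (hn : finrank F V = n) (hin : b ≤ n) :
    ∃ y : Module.End F V, IsIsom B y ∧ y ^ r = 1 ∧ y ≠ 1 ∧
      ∀ W : Submodule F V, Elus.Inv y W → TI B W →
        2 * finrank F W ≤ n % b + b * (n / b - (r - 1) / b) := by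
  classical
  obtain ⟨f₀, -, hq⟩ := FiniteField.card F p
  have hσ2 := HermBridge.sigma_sigma hF
  have hr0 : 0 < r := hr.out.pos
  have hrq' : ¬ r ∣ Fintype.card F := by
    rw [hF]
    intro h
    exact hrq (hr.out.dvd_of_dvd_pow h)
  have hi0 : 0 < b := by
    rw [hb]
    exact Elus.ord_pos r (Fintype.card F) hrq'
  obtain ⟨N₀, -, hN₀, hN₀i, hN₀C, hN₀fin, -, -⟩ :=
    moving_part B hσ2 hS hB hy₀B hr0 hrF hy₀ (nd_top B hB) (fun v _ => Submodule.mem_top)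
  rw [top_inf_eq, finrank_top] at hN₀fin
  have hN₀0 : N₀ ≠ ⊥ := by
    intro h
    rw [h, finrank_bot] at hN₀fin
    have h1 : finrank F (LinearMap.ker (y₀ - 1)) = finrank F V := by
      have := Submodule.finrank_le (LinearMap.ker (y₀ - 1))
      omega
    have h2 := Submodule.eq_top_of_finrank_eq h1
    apply hy₀1
    apply LinearMap.ext
    intro v
    have h3 : v ∈ LinearMap.ker (y₀ - 1) := by
      rw [h2]
      exact Submodule.mem_top
    exact Elus.mem_ker_sub_one.mp h3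
  obtain ⟨Z₀, hZ₀N, hZ₀, hZ₀i, hZ₀fin⟩ :=
    exists_nd_block hF B hS hB r hrp hrF hrq hy₀B hy₀ b c hb hc (Or.inl ⟨hcb, he⟩) hN₀ hN₀i hN₀C
      hN₀0
  rw [hcb] at hZ₀fin
  have hZ₀C : Z₀ ⊓ LinearMap.ker (y₀ - 1) = ⊥ := by
    rw [eq_bot_iff, ← hN₀C]
    exact inf_le_inf_right _ hZ₀N
  have hZ₀min := SpTi.minimal_of_finrank hq r hrp hy₀ hZ₀i hZ₀C (hZ₀fin.trans hb)
  have hZ₀0 : Z₀ ≠ ⊥ := by
    intro h
    rw [h, finrank_bot] at hZ₀fin
    omega
  obtain ⟨φ₁, hφ₁, hφ₁Z⟩ := SpImp.exists_irr_ann hr0 hy₀ hZ₀i hZ₀0 hZ₀min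
  obtain ⟨u₁, hu₁, hu₁0⟩ := Submodule.exists_mem_ne_zero_of_ne_bot hZ₀0
  have hdvd : φ₁ ∣ X ^ r - C (1 : F) := by
    apply SpTi.dvd_of_ann hφ₁ hu₁0 (hφ₁Z u₁ hu₁)
    rw [map_sub, map_pow, aeval_X, aeval_C, map_one, hy₀, sub_self, LinearMap.zero_apply]
  have hnd : ¬ φ₁ ∣ X - C (1 : F) := by
    intro h
    have h1 := SpTi.ann_of_dvd hZ₀i h hφ₁Z u₁ hu₁
    rw [SpTi.aeval_sub_one, sub_eq_zero] at h1
    have h2 : u₁ ∈ Z₀ ⊓ LinearMap.ker (y₀ - 1) := ⟨hu₁, Elus.mem_ker_sub_one.mpr h1⟩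
    rw [hZ₀C] at h2
    exact hu₁0 ((Submodule.mem_bot F).mp h2)
  have hdeg : φ₁.natDegree ≤ b := by
    rw [← hZ₀fin]
    exact SpTi.natDegree_le_finrank hZ₀i hu₁ hu₁0 hφ₁ (hφ₁Z u₁ hu₁)
  obtain ⟨k, ψ, hψirr, hψ1, hψpair, hψdvd⟩ := SpTi.exists_types r b hi0 hφ₁ hdvd hnd hdeg
  have hs : 0 < (r - 1) / b := by
    have hne : ((Fintype.card F : ℕ) : ZMod r) ≠ 0 := by
      intro h
      exact hrq' ((ZMod.natCast_eq_zero_iff _ _).mp h)
    have h1 : b ∣ r - 1 := by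
      rw [hb]
      exact ZMod.orderOf_dvd_card_sub_one hne
    have h2 : 2 ≤ r := hr.out.two_le
    exact Nat.div_pos (Nat.le_of_dvd (by omega) h1) hi0
  have hxB : ∀ a, IsIsom B (y₀ ^ k a) := fun a => hy₀B.pow (k a)
  have hxr : ∀ a, (y₀ ^ k a) ^ r = 1 := by
    intro a
    rw [← pow_mul, mul_comm, pow_mul, hy₀, one_pow]
  have hxZ : ∀ a, Elus.Inv (y₀ ^ k a) Z₀ := fun a => Imp.inv_pow' hZ₀i (k a)
  have hxψ : ∀ a, ∀ u ∈ Z₀, aeval (y₀ ^ k a) (ψ a) u = 0 := by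
    intro a u hu
    rw [← expand_aeval]
    exact SpTi.ann_of_dvd hZ₀i (hψdvd a) hφ₁Z u hu
  obtain ⟨e, j, hodd, hjs, hej, hpos, hfinal⟩ := SpTi.arith_D n b ((r - 1) / b) hi0 hs hin
  obtain ⟨yE, E, hcE, hEfin, hψE⟩ := build_same hF B hS hB hr0 (hxB ⟨0, hs⟩) (hxr ⟨0, hs⟩) hZ₀
    (hxZ ⟨0, hs⟩) b hZ₀fin (ψ ⟨0, hs⟩) (hxψ ⟨0, hs⟩) e (by
      have : b * e ≤ b * (e + j) := Nat.mul_le_mul_left b (Nat.le_add_right _ _)
      omega)
  obtain ⟨y, A, G, hc', hAfin, hG, hG1, -, hpeel⟩ := build_distinct hF B hq hS hB r hrp b hb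
    hi0 hZ₀ hZ₀fin ((r - 1) / b) (fun a => y₀ ^ k a) ψ hxB hxr hxZ hxψ hψ1 hψpair hs hcE e hEfin
    hψE j hjs (by rw [hn]; exact hej)
  obtain ⟨hy1, hbound⟩ := cfg_bound hF B hS hB r hrF hrq' hc' b (e + j) e hb hi0 hAfin hcE.2.2.1
    hEfin hodd hG hG1 hpeel n hn
  exact ⟨y, hc'.1, hc'.2.1, hy1 hpos, fun W hWi hWti => (hbound W hWi hWti).trans hfinal⟩

/-- the last necessary condition, in the self-dual case -/
theorem ti_nec_sd {p : ℕ} [hp : Fact p.Prime] [CharP F p]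
    (hS : B.IsSymm) (hB : B.Nondegenerate) (r : ℕ) [hr : Fact r.Prime] (hrp : r ≠ p)
    (hrF : (r : F) ≠ 0) (hrq : ¬ r ∣ q) (b c : ℕ)
    (hb : b = orderOf ((Fintype.card F : ℕ) : ZMod r)) (hc : c = orderOf (-(q : ZMod r)))
    (hcb : c = b) (he : ∃ e, r ∣ q ^ (2 * e + 1) + 1)
    (n m : ℕ) (hn : finrank F V = n) (hbm : b ≤ m) (hmn : 2 * m ≤ n)
    {y₀ : Module.End F V} (hy₀B : IsIsom B y₀) (hy₀ : y₀ ^ r = 1) (hy₀1 : y₀ ≠ 1)
    (H : ∀ y : Module.End F V, IsIsom B y → y ^ r = 1 → y ≠ 1 →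
      ∃ W : Submodule F V, finrank F W = m ∧ TI B W ∧ Elus.Inv y W) :
    (r - 1) / b + 2 * (m / b) ≤ n / b := by
  classical
  have hrq' : ¬ r ∣ Fintype.card F := by
    rw [hF]
    intro h
    exact hrq (hr.out.dvd_of_dvd_pow h)
  have hi0 : 0 < b := by
    rw [hb]
    exact Elus.ord_pos r (Fintype.card F) hrq'
  obtain ⟨y, hyB, hy, hy1, hbound⟩ := exists_typed_derangement hF B hS hB r hrp hrF hrq b c hb hc
    hcb he hy₀B hy₀ hy₀1 n hn (by omega)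
  obtain ⟨W, hWfin, hWti, hWi⟩ := H y hyB hy hy1
  have h1 := hbound W hWi hWti
  rw [hWfin] at h1
  by_contra hcon
  push Not at hcon
  have hM : b * (m / b) ≤ m := Nat.mul_div_le m b
  have hM1 : 1 ≤ m / b := Nat.div_pos hbm hi0
  have hk : n % b < b := Nat.mod_lt _ hi0
  have h2 : b * (n / b - (r - 1) / b) ≤ b * (2 * (m / b) - 1) :=
    Nat.mul_le_mul_left b (by omega)
  have e1 : b * (2 * (m / b) - 1) = 2 * (b * (m / b)) - b := by
    rw [Nat.mul_sub_one]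
    ring_nf
  have h3 : b * 1 ≤ b * (m / b) := Nat.mul_le_mul_left b hM1
  omega

end Build

end Cfsg.Agent.Lib.Helper2.Uti
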