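import Mathlib
import Cfsg.Agent.Lib.Helper2.UtiI
set_option autoImplicit false
set_option maxHeartbeats 1000000
set_option linter.unusedVariables false
set_option linter.unusedSectionVars false
set_option linter.style.longLine false
set_option linter.unusedSimpArgs false
set_option linter.deprecated false
set_option linter.style.haveILetI false

/-! Totally isotropic subspaces of unitary spaces (part J): diagonal isometries of the standard
hermitian space and the totally isotropic subspaces they leave invariant. -/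

namespace Cfsg.Agent.Lib.Helper2.Uti

open Module Polynomial Cfsg Cfsg.Agent.Lib.Helper2 Cfsg.Agent.Lib.Helper5

universe u

section Diag

variable {F : Type u} [Field F] [Fintype F] {q : ℕ} (hF : Fintype.card F = q ^ 2) {n : ℕ}

/-- the diagonal endomorphism -/
noncomputable def diagEnd (d : Fin n → F) : Module.End F (Fin n → F) :=
  Matrix.toLin' (Matrix.diagonal d)

omit [Fintype F] in
theorem diagEnd_apply (d : Fin n → F) (v : Fin n → F) (i : Fin n) :
    diagEnd d v i = d i * v i := by
  unfold diagEnd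
  rw [Matrix.toLin'_apply, Matrix.mulVec_diagonal]

omit [Fintype F] in
theorem diagEnd_pow (d : Fin n → F) (j : ℕ) : diagEnd d ^ j = diagEnd (fun i => d i ^ j) := by
  unfold diagEnd
  rw [← Elus.toLin'_pow, Matrix.diagonal_pow]
  rfl

omit [Fintype F] in
theorem diagEnd_const (z : F) : diagEnd (fun _ : Fin n => z) = z • (1 : Module.End F (Fin n → F)) := by
  apply LinearMap.ext
  intro v
  funext i
  rw [diagEnd_apply]
  rfl

omit [Fintype F] in
theorem diagEnd_det (d : Fin n → F) : LinearMap.det (diagEnd d) = ∏ i, d i := by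
  unfold diagEnd
  rw [LinearMap.det_toLin', Matrix.det_diagonal]

include hF in
theorem diagEnd_isIsom (d : Fin n → F) (hdq : ∀ i, d i * d i ^ q = 1) :
    IsIsom (HermBridge.hermSesq hF n) (diagEnd d) := by
  intro u v
  rw [HermBridge.hermSesq_apply, HermBridge.hermSesq_apply]
  unfold hermForm
  apply Finset.sum_congr rfl
  intro i _
  rw [diagEnd_apply, diagEnd_apply, mul_pow]
  have := hdq i
  linear_combination (v i * u i ^ q) * this

omit [Fintype F] in
theorem diagEnd_prod_mem (d : Fin n → F) {W : Submodule F (Fin n → F)}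
    (hWi : Elus.Inv (diagEnd d) W) (S : Finset F) :
    ∀ w ∈ W, (fun i => (∏ μ ∈ S, (d i - μ)) * w i) ∈ W := by
  classical
  induction S using Finset.induction_on with
  | empty =>
    intro w hw
    simpa using hw
  | insert μ S hμ ih =>
    intro w hw
    have h1 := ih w hw
    have h2 := hWi _ h1
    have h3 := W.sub_mem h2 (W.smul_mem μ h1)
    convert h3 using 1
    funext i
    rw [Finset.prod_insert hμ, Pi.sub_apply, diagEnd_apply, Pi.smul_apply, smul_eq_mul]
    ring

include hF in
/-- coordinates at simple eigenvalue positions vanish on invariant totally isotropic subspaces -/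
theorem diag_coord_zero (d : Fin n → F) {W : Submodule F (Fin n → F)}
    (hWi : Elus.Inv (diagEnd d) W) (hWti : TI (HermBridge.hermSesq hF n) W)
    (j : Fin n) (hj : ∀ i, i ≠ j → d i ≠ d j) : ∀ w ∈ W, w j = 0 := by
  classical
  intro w hw
  obtain ⟨S, hS⟩ : ∃ S : Finset F, S = (Finset.univ.erase j).image d := ⟨_, rfl⟩
  have hu := diagEnd_prod_mem d hWi S w hw
  obtain ⟨u, hu_def⟩ : ∃ u : Fin n → F, u = fun i => (∏ μ ∈ S, (d i - μ)) * w i := ⟨_, rfl⟩
  rw [← hu_def] at hu
  have hu0 : ∀ i, i ≠ j → u i = 0 := by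
    intro i hi
    have hmem : d i ∈ S := by
      rw [hS]
      exact Finset.mem_image.mpr ⟨i, Finset.mem_erase.mpr ⟨hi, Finset.mem_univ _⟩, rfl⟩
    rw [hu_def]
    simp only
    rw [Finset.prod_eq_zero hmem (sub_self _), zero_mul]
  have hc : (∏ μ ∈ S, (d j - μ)) ≠ 0 := by
    rw [Finset.prod_ne_zero_iff]
    intro μ hμ
    rw [hS] at hμ
    obtain ⟨i, hi, rfl⟩ := Finset.mem_image.mp hμ
    have := hj i (Finset.mem_erase.mp hi).1
    exact sub_ne_zero.mpr (Ne.symm this)
  have h0 := hWti u hu u hu
  rw [HermBridge.hermSesq_apply] at h0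
  unfold hermForm at h0
  rw [Finset.sum_eq_single j] at h0
  · have h1 : u j = 0 := by
      by_contra hne
      exact (mul_ne_zero hne (pow_ne_zero _ hne)) h0
    rw [hu_def] at h1
    simp only at h1
    rcases mul_eq_zero.mp h1 with h | h
    · exact absurd h hc
    · exact h
  · intro i _ hi
    rw [hu0 i hi, zero_mul]
  · intro h
    exact absurd (Finset.mem_univ j) h

include hF in
/-- bound for invariant totally isotropic subspaces of a diagonal isometry with `k` simple
eigenvalue positions -/
theorem diag_ti_bound (d : Fin n → F) {W : Submodule F (Fin n → F)}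
    (hWi : Elus.Inv (diagEnd d) W) (hWti : TI (HermBridge.hermSesq hF n) W)
    {k : ℕ} (emb : Fin k → Fin n) (hemb : Function.Injective emb)
    (hsimple : ∀ a i, i ≠ emb a → d i ≠ d (emb a)) : 2 * finrank F W + k ≤ n := by
  classical
  have hσ2 := HermBridge.sigma_sigma hF
  have hS := HermBridge.hermSesq_isSymm hF n
  have hB := HermBridge.hermSesq_nondegenerate hF n
  obtain ⟨s, hsdef⟩ : ∃ s : Fin k → (Fin n → F), s = fun a => Pi.single (emb a) 1 := ⟨_, rfl⟩
  have hs : ∀ a b, HermBridge.hermSesq hF n (s a) (s b) = if a = b then 1 else 0 := by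
    intro a b
    rw [HermBridge.hermSesq_apply, hsdef]
    unfold hermForm
    simp only
    rw [Finset.sum_eq_single (emb b)]
    · rw [Pi.single_eq_same, one_mul]
      by_cases hab : a = b
      · rw [hab, Pi.single_eq_same, one_pow, if_pos rfl]
      · rw [if_neg hab, Pi.single_eq_of_ne, zero_pow]
        · have := HermBridge.sigma_sigma hF (1 : F)
          intro hq0
          rw [hq0] at hF
          have h1 : 1 < Fintype.card F := Fintype.one_lt_card
          rw [hF] at h1
          simp at h1
        · intro h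
          exact hab (hemb h).symm
    · intro i _ hi
      rw [Pi.single_eq_of_ne hi, zero_mul]
    · intro h
      exact absurd (Finset.mem_univ _) h
  obtain ⟨hA, hAfin⟩ := nd_span_orthonormal (HermBridge.hermSesq hF n) hσ2 hS s hs
  obtain ⟨hP, hPfin⟩ := nd_perp (HermBridge.hermSesq hF n) hσ2 hS hB hA
  have hWP : W ≤ perp (HermBridge.hermSesq hF n) (Submodule.span F (Set.range s)) := by
    intro w hw
    rw [mem_perp]
    intro a ha
    induction ha using Submodule.span_induction with
    | mem x hx =>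
      obtain ⟨a', rfl⟩ := hx
      rw [HermBridge.hermSesq_apply, hsdef]
      unfold hermForm
      simp only
      rw [Finset.sum_eq_single (emb a')]
      · rw [diag_coord_zero hF d hWi hWti (emb a') (hsimple a') w hw, zero_mul]
      · intro i _ hi
        rw [Pi.single_eq_of_ne hi, zero_pow, mul_zero]
        intro hq0
        rw [hq0] at hF
        have h1 : 1 < Fintype.card F := Fintype.one_lt_card
        rw [hF] at h1
        simp at h1
      · intro h
        exact absurd (Finset.mem_univ _) h
    | zero => rw [map_zero, LinearMap.zero_apply]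
    | add x y _ _ hx hy => rw [map_add, LinearMap.add_apply, hx, hy, add_zero]
    | smul c x _ hx => rw [map_smulₛₗ, LinearMap.smul_apply, hx, smul_zero]
  have h1 := ti_finrank_le (HermBridge.hermSesq hF n) hσ2 hB hWti hWP hP
  rw [hPfin, hAfin, Module.finrank_fin_fun] at h1
  have h2 : k ≤ n := by
    have := Fintype.card_le_of_injective emb hemb
    simpa using this
  omega

end Diag

section Constr

variable {F : Type u} [Field F] [Fintype F] {q : ℕ} (hF : Fintype.card F = q ^ 2)

include hF in
/-- for an odd prime `r ∣ q + 1` and `n < r - 1 + 2m`: an isometry of determinant one and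
order `r` which fixes no totally isotropic `m`-space -/
theorem exists_diag_elt_odd (r : ℕ) [hr : Fact r.Prime] (hr2 : r ≠ 2) (hrq : r ∣ q + 1)
    (n m : ℕ) (hm : 1 ≤ m) (hmn : 2 * m ≤ n) (hlt : n < r - 1 + 2 * m) :
    ∃ f : Module.End F (Fin n → F), IsIsom (HermBridge.hermSesq hF n) f ∧ LinearMap.det f = 1 ∧
      f ^ r = 1 ∧ (∀ z : F, f ≠ z • 1) ∧
      ∀ W : Submodule F (Fin n → F), Elus.Inv f W → TI (HermBridge.hermSesq hF n) W →
        finrank F W < m := by
  classical
  have hr3 : 3 ≤ r := by
    have := hr.out.two_le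
    omega
  have hrodd : Odd r := hr.out.odd_of_ne_two hr2
  obtain ⟨γ, hγ⟩ := Upp.exists_orderOf_eq hF r hrq
  obtain ⟨k, hk⟩ : ∃ k, k = (n - 2 * m + 2) / 2 := ⟨_, rfl⟩
  have hk1 : 1 ≤ k := by omega
  have hk2 : 2 * k ≤ n := by omega
  have hk3 : n + 1 ≤ 2 * k + 2 * m := by omega
  have hk4 : 2 * k < r := by
    obtain ⟨t, ht⟩ := hrodd
    omega
  obtain ⟨eN, heN⟩ : ∃ eN : ℕ → ℕ, eN = fun t =>
      if t < k then t + 1 else if t < 2 * k then r - (t - k + 1) else 0 := ⟨_, rfl⟩
  have heN_lt : ∀ t, eN t < r := by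
    intro t
    rw [heN]
    simp only
    split_ifs <;> omega
  have heN_inj : ∀ t t', t' < 2 * k → t ≠ t' → eN t ≠ eN t' := by
    intro t t' ht' htt
    rw [heN]
    simp only
    split_ifs <;> omega
  have heN_pair : ∀ t, t < k → eN t + eN (k + t) = r := by
    intro t ht
    rw [heN]
    simp only
    split_ifs <;> omega
  have heN_zero : ∀ t, 2 * k ≤ t → eN t = 0 := by
    intro t ht
    rw [heN]
    simp only
    split_ifs <;> omega
  have hγr : (γ : F) ^ r = 1 := by
    rw [← Units.val_pow_eq_pow_val, ← hγ, pow_orderOf_eq_one, Units.val_one]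
  have hγq : (γ : F) ^ (q + 1) = 1 := by
    obtain ⟨t, ht⟩ := hrq
    rw [ht, pow_mul, hγr, one_pow]
  have hinj : ∀ a b, a < r → b < r → (γ : F) ^ a = (γ : F) ^ b → a = b := by
    intro a b ha hb h
    have h' : γ ^ a = γ ^ b := Units.ext (by
      rw [Units.val_pow_eq_pow_val, Units.val_pow_eq_pow_val]
      exact h)
    exact pow_injOn_Iio_orderOf (by rw [Set.mem_Iio, hγ]; exact ha)
      (by rw [Set.mem_Iio, hγ]; exact hb) h'
  have hprod : ∀ N, 2 * k ≤ N → ∏ t ∈ Finset.range N, (γ : F) ^ eN t = 1 := by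
    intro N hN
    obtain ⟨N', rfl⟩ : ∃ N', N = k + k + N' := ⟨N - 2 * k, by omega⟩
    rw [Finset.prod_range_add, Finset.prod_range_add, ← Finset.prod_mul_distrib]
    rw [Finset.prod_eq_one, one_mul, Finset.prod_eq_one]
    · intro t _
      rw [heN_zero _ (by omega), pow_zero]
    · intro t ht
      rw [← pow_add, heN_pair t (Finset.mem_range.mp ht), hγr]
  obtain ⟨d, hd⟩ : ∃ d : Fin n → F, d = fun i => (γ : F) ^ eN i.val := ⟨_, rfl⟩
  have hdq : ∀ i, d i * d i ^ q = 1 := by
    intro i
    rw [hd]
    simp only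
    rw [← pow_succ', ← pow_mul, mul_comm, pow_mul, hγq, one_pow]
  have hsimple : ∀ (a : Fin (2 * k)) (i : Fin n), i ≠ Fin.castLE hk2 a →
      d i ≠ d (Fin.castLE hk2 a) := by
    intro a i hi h
    rw [hd] at h
    simp only at h
    have h1 := hinj _ _ (heN_lt _) (heN_lt _) h
    refine heN_inj i.val a.val a.isLt ?_ (by simpa using h1)
    intro hh
    apply hi
    apply Fin.ext
    simpa using hh
  refine ⟨diagEnd d, diagEnd_isIsom hF d hdq, ?_, ?_, ?_, ?_⟩
  · rw [diagEnd_det, hd]
    simp only
    rw [Fin.prod_univ_eq_prod_range (fun t => (γ : F) ^ eN t) n]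
    exact hprod n hk2
  · rw [diagEnd_pow]
    have : (fun i => d i ^ r) = fun _ : Fin n => (1 : F) := by
      funext i
      rw [hd]
      simp only
      rw [← pow_mul, mul_comm, pow_mul, hγr, one_pow]
    rw [this, diagEnd_const, one_smul]
  · intro z hz
    have hall : ∀ i, d i = z := by
      intro i
      have h1 := congrFun (LinearMap.congr_fun hz (Pi.single i 1)) i
      rw [diagEnd_apply, LinearMap.smul_apply, Module.End.one_apply, Pi.smul_apply,
        Pi.single_eq_same, mul_one, smul_eq_mul, mul_one] at h1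
      exact h1
    have h0 := hsimple ⟨0, by omega⟩ ⟨k, by omega⟩ (by
      intro h
      have := congrArg Fin.val h
      simp at this
      omega)
    exact h0 (by rw [hall, hall])
  · intro W hWi hWti
    have h1 := diag_ti_bound hF d hWi hWti (Fin.castLE hk2) (Fin.castLE_injective hk2) hsimple
    omega

include hF in
/-- for `q` odd and `v₂(n) < v₂(q+1)`: an isometry of determinant one with scalar square,
all of whose invariant totally isotropic subspaces have dimension less than `n/2` -/
theorem exists_diag_elt_two (hq : Odd q) (n : ℕ) (hn : 2 ≤ n)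
    (hv : padicValNat 2 n < padicValNat 2 (q + 1)) :
    ∃ f : Module.End F (Fin n → F), IsIsom (HermBridge.hermSesq hF n) f ∧ LinearMap.det f = 1 ∧
      (∃ z : F, f ^ 2 = z • 1) ∧ (∀ z : F, f ≠ z • 1) ∧
      ∀ W : Submodule F (Fin n → F), Elus.Inv f W → TI (HermBridge.hermSesq hF n) W →
        2 * finrank F W + 1 ≤ n := by
  classical
  have h2F := Upp.two_ne_zero_of_odd hF hq
  obtain ⟨a, m, hm, hnam⟩ := Nat.exists_eq_two_pow_mul_odd (n := n) (by omega)
  have ha : a ≤ padicValNat 2 n := (padicValNat_dvd_iff_le (by omega)).mp ⟨m, hnam⟩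
  have h2a1 : 2 ^ (a + 1) ∣ q + 1 := (padicValNat_dvd_iff_le (by omega)).mpr (by omega)
  obtain ⟨γ, hγ⟩ := Upp.exists_orderOf_eq hF (2 ^ (a + 1)) h2a1
  obtain ⟨lam, hlamdef⟩ : ∃ lam : F, lam = (γ : F) := ⟨_, rfl⟩
  have hlam0 : lam ≠ 0 := by
    rw [hlamdef]
    exact Units.ne_zero γ
  have hpowu : ∀ j : ℕ, lam ^ j = ((γ ^ j : Fˣ) : F) := by
    intro j
    rw [hlamdef, Units.val_pow_eq_pow_val]
  have hlam_pow : lam ^ (2 ^ (a + 1)) = 1 := by
    rw [hpowu, ← hγ, pow_orderOf_eq_one, Units.val_one]
  have hlam_half : lam ^ (2 ^ a) ≠ 1 := by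
    intro h
    have h1 : γ ^ (2 ^ a) = 1 := by
      apply Units.ext
      rw [← hpowu, h, Units.val_one]
    have h2 := orderOf_dvd_of_pow_eq_one h1
    rw [hγ] at h2
    have h3 := Nat.le_of_dvd (by positivity) h2
    have h4 : 2 ^ a < 2 ^ (a + 1) := Nat.pow_lt_pow_right (by norm_num) (by omega)
    omega
  have heps : lam ^ (2 ^ a) = -1 := by
    have h1 : (lam ^ (2 ^ a) - 1) * (lam ^ (2 ^ a) + 1) = 0 := by
      have : lam ^ (2 ^ (a + 1)) = lam ^ (2 ^ a) * lam ^ (2 ^ a) := by
        rw [← pow_add]
        congr 1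
        ring
      rw [this] at hlam_pow
      linear_combination hlam_pow
    rcases mul_eq_zero.mp h1 with h2 | h2
    · exact absurd (sub_eq_zero.mp h2) hlam_half
    · exact eq_neg_of_add_eq_zero_left h2
  have hlamn : lam ^ n = -1 := by
    rw [hnam, pow_mul, heps, Odd.neg_one_pow hm]
  have hlamq : lam * lam ^ q = 1 := by
    obtain ⟨t, ht⟩ := h2a1
    rw [← pow_succ', ht, pow_mul, hlam_pow, one_pow]
  obtain ⟨i0, hi0⟩ : ∃ i0 : Fin n, i0 = ⟨0, by omega⟩ := ⟨_, rfl⟩
  obtain ⟨i1, hi1⟩ : ∃ i1 : Fin n, i1 = ⟨1, by omega⟩ := ⟨_, rfl⟩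
  have hi01 : i1 ≠ i0 := by
    rw [hi0, hi1]
    intro h
    have := congrArg Fin.val h
    simp at this
  obtain ⟨d, hddef⟩ : ∃ d : Fin n → F, d = fun i => if i = i0 then -lam else lam := ⟨_, rfl⟩
  have hd0' : d i0 = -lam := by
    rw [hddef]
    simp
  have hd1 : ∀ i, i ≠ i0 → d i = lam := by
    intro i hi
    rw [hddef]
    simp [hi]
  have hne : -lam ≠ lam := by
    intro h
    have h3 : (2 : F) * lam = 0 := by linear_combination -h
    rcases mul_eq_zero.mp h3 with h4 | h4
    · exact h2F h4
    · exact hlam0 h4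
  have hdq : ∀ i, d i * d i ^ q = 1 := by
    intro i
    by_cases hi : i = i0
    · rw [hi, hd0', Herm.pow_q_neg hF, neg_mul_neg]
      exact hlamq
    · rw [hd1 i hi]
      exact hlamq
  have hdet : ∏ i, d i = 1 := by
    have h1 : ∀ i, d i = lam * (if i = i0 then (-1 : F) else 1) := by
      intro i
      by_cases hi : i = i0
      · rw [hi, hd0', if_pos rfl, mul_neg_one]
      · rw [hd1 i hi, if_neg hi, mul_one]
    rw [Finset.prod_congr rfl (fun i _ => h1 i), Finset.prod_mul_distrib, Finset.prod_const,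
      Finset.card_univ, Fintype.card_fin, hlamn, Finset.prod_ite_eq' Finset.univ i0 (fun _ => (-1 : F)),
      if_pos (Finset.mem_univ _), neg_mul_neg, one_mul]
  have hsimple : ∀ (a : Fin 1) (i : Fin n), i ≠ (fun _ : Fin 1 => i0) a →
      d i ≠ d ((fun _ : Fin 1 => i0) a) := by
    intro a i hi
    simp only at hi ⊢
    rw [hd0', hd1 i hi]
    exact fun h => hne h.symm
  refine ⟨diagEnd d, diagEnd_isIsom hF d hdq, ?_, ⟨lam * lam, ?_⟩, ?_, ?_⟩
  · rw [diagEnd_det, hdet]
  · rw [diagEnd_pow]
    have : (fun i => d i ^ 2) = fun _ : Fin n => lam * lam := by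
      funext i
      by_cases hi : i = i0
      · rw [hi, hd0', pow_two, neg_mul_neg]
      · rw [hd1 i hi, pow_two]
    rw [this, diagEnd_const]
  · intro z hz
    have hall : ∀ i, d i = z := by
      intro i
      have h1 := congrFun (LinearMap.congr_fun hz (Pi.single i 1)) i
      rw [diagEnd_apply, LinearMap.smul_apply, Module.End.one_apply, Pi.smul_apply,
        Pi.single_eq_same, mul_one, smul_eq_mul, mul_one] at h1
      exact h1
    have h0 := hall i0
    have h1 := hall i1
    rw [hd0'] at h0
    rw [hd1 i1 hi01] at h1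
    exact hne (by rw [h0, h1])
  · intro W hWi hWti
    have h1 := diag_ti_bound hF d hWi hWti (fun _ : Fin 1 => i0)
      (fun a b _ => Subsingleton.elim a b) hsimple
    omega

end Constr

end Cfsg.Agent.Lib.Helper2.Uti
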