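import Mathlib
import Cfsg.Agent.Lib.Helper2.UtiJ
set_option autoImplicit false
set_option maxHeartbeats 1000000
set_option linter.unusedVariables false
set_option linter.unusedSectionVars false
set_option linter.style.longLine false
set_option linter.unusedSimpArgs false
set_option linter.deprecated false
set_option linter.style.haveILetI false

/-! Totally isotropic subspaces of unitary spaces (part K): the block-cyclic isometries whose
`r`-th power is a scalar which is not an `r`-th power. -/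

namespace Cfsg.Agent.Lib.Helper2.Uti

open Module Polynomial Cfsg Cfsg.Agent.Lib.Helper2 Cfsg.Agent.Lib.Helper5

universe u

section Shift

variable {F : Type u} [Field F]

/-- the twisted cyclic shift on `Fin k × ZMod r → F` -/
noncomputable def shiftEnd (k r : ℕ) (z : F) : Module.End F (Fin k × ZMod r → F) where
  toFun v := fun x => (if x.2 = 0 then z else 1) * v (x.1, x.2 - 1)
  map_add' := by
    intro u v
    funext x
    simp only [Pi.add_apply]
    ring
  map_smul' := by
    intro c v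
    funext x
    simp only [Pi.smul_apply, smul_eq_mul, RingHom.id_apply]
    ring

theorem shiftEnd_apply (k r : ℕ) (z : F) (v : Fin k × ZMod r → F) (x : Fin k × ZMod r) :
    shiftEnd k r z v x = (if x.2 = 0 then z else 1) * v (x.1, x.2 - 1) := rfl

theorem shiftEnd_pow (k r : ℕ) (z : F) (t : ℕ) :
    ∀ (v : Fin k × ZMod r → F) (x : Fin k × ZMod r),
      (shiftEnd k r z ^ t) v x =
        (∏ s ∈ Finset.range t, (if x.2 - (s : ZMod r) = 0 then z else 1)) *
          v (x.1, x.2 - (t : ZMod r)) := by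
  induction t with
  | zero =>
    intro v x
    simp
  | succ t ih =>
    intro v x
    rw [pow_succ, Module.End.mul_apply, ih, shiftEnd_apply, Finset.prod_range_succ]
    simp only
    rw [Nat.cast_succ, sub_sub, mul_assoc]

theorem shiftEnd_pow_self (k r : ℕ) [hr : Fact r.Prime] (z : F) :
    shiftEnd k r z ^ r = z • (1 : Module.End F (Fin k × ZMod r → F)) := by
  classical
  haveI : NeZero r := ⟨hr.out.ne_zero⟩
  apply LinearMap.ext
  intro v
  funext x
  rw [shiftEnd_pow, ZMod.natCast_self, sub_zero, LinearMap.smul_apply, Module.End.one_apply,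
    Pi.smul_apply, smul_eq_mul]
  congr 1
  rw [Finset.prod_eq_single_of_mem x.2.val (Finset.mem_range.mpr (ZMod.val_lt x.2))]
  · rw [ZMod.natCast_zmod_val, sub_self, if_pos rfl]
  · intro s hs hne
    rw [if_neg]
    intro h
    apply hne
    have h1 : (s : ZMod r) = x.2 := (sub_eq_zero.mp h).symm
    have h2 := congrArg ZMod.val h1
    rw [ZMod.val_natCast, Nat.mod_eq_of_lt (Finset.mem_range.mp hs)] at h2
    exact h2

theorem shiftEnd_herm (k r : ℕ) [hr : Fact r.Prime] (z : F) (q : ℕ) (hz : z * z ^ q = 1)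
    (u v : Fin k × ZMod r → F) :
    haveI : NeZero r := ⟨hr.out.ne_zero⟩
    ∑ x, shiftEnd k r z u x * (shiftEnd k r z v x) ^ q = ∑ x, u x * (v x) ^ q := by
  classical
  haveI : NeZero r := ⟨hr.out.ne_zero⟩
  have h1 : ∀ x : Fin k × ZMod r, shiftEnd k r z u x * (shiftEnd k r z v x) ^ q =
      u (x.1, x.2 - 1) * (v (x.1, x.2 - 1)) ^ q := by
    intro x
    rw [shiftEnd_apply, shiftEnd_apply, mul_pow]
    by_cases hx : x.2 = 0
    · rw [if_pos hx]
      linear_combination (u (x.1, x.2 - 1) * (v (x.1, x.2 - 1)) ^ q) * hz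
    · rw [if_neg hx, one_pow, one_mul, one_mul]
  rw [Finset.sum_congr rfl (fun x _ => h1 x)]
  exact Fintype.sum_equiv (Equiv.prodCongr (Equiv.refl (Fin k)) (Equiv.subRight (1 : ZMod r)))
    _ _ (fun x => rfl)

end Shift

section CaseB

variable {F : Type u} [Field F] [Fintype F] {q : ℕ} (hF : Fintype.card F = q ^ 2)

include hF in
theorem two_le_q' : 2 ≤ q := by
  have h1 : 1 < Fintype.card F := Fintype.one_lt_card
  rw [hF] at h1
  by_contra h
  have : q = 0 ∨ q = 1 := by omega
  rcases this with h0 | h0 <;> rw [h0] at h1 <;> simp at h1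

include hF in
/-- a norm-one scalar which is not an `r`-th power -/
theorem exists_nonpow_unit (r : ℕ) [hr : Fact r.Prime] (hr2 : r ≠ 2) (hrq : r ∣ q + 1) :
    ∃ z : F, z * z ^ q = 1 ∧ (∀ b : F, b ^ r ≠ z) ∧ z ^ (r ^ padicValNat r (q + 1)) = 1 := by
  classical
  have hq2 := two_le_q' hF
  obtain ⟨a, ha⟩ : ∃ a, a = padicValNat r (q + 1) := ⟨_, rfl⟩
  have hra : r ^ a ∣ q + 1 := by
    rw [ha]
    exact pow_padicValNat_dvd
  obtain ⟨γ, hγ⟩ := Upp.exists_orderOf_eq hF (r ^ a) hra
  have hγa : (γ : F) ^ (r ^ a) = 1 := by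
    rw [← Units.val_pow_eq_pow_val, ← hγ, pow_orderOf_eq_one, Units.val_one]
  have hγq : (γ : F) ^ (q + 1) = 1 := by
    obtain ⟨t, ht⟩ := hra
    rw [ht, pow_mul, hγa, one_pow]
  refine ⟨(γ : F), ?_, ?_, ?_⟩
  · rw [← pow_succ']
    exact hγq
  · intro β hβ
    have hβ0 : β ≠ 0 := by
      intro h
      rw [h, zero_pow hr.out.ne_zero] at hβ
      exact Units.ne_zero γ hβ.symm
    have hw1 : (β ^ (q + 1)) ^ r = 1 := by
      rw [← pow_mul, mul_comm, pow_mul, hβ, hγq]
    have hw2 : (β ^ (q + 1)) ^ (q - 1) = 1 := by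
      rw [← pow_mul]
      have h1 : (q + 1) * (q - 1) = Fintype.card F - 1 := by
        rw [hF]
        have h2 : (q + 1) * (q - 1) + 1 = q ^ 2 := by
          obtain ⟨q', rfl⟩ : ∃ q', q = q' + 1 := ⟨q - 1, by omega⟩
          rw [Nat.add_sub_cancel]
          ring
        omega
      rw [h1]
      exact FiniteField.pow_card_sub_one_eq_one β hβ0
    have hcop : Nat.Coprime r (q - 1) := by
      rw [Nat.Prime.coprime_iff_not_dvd hr.out]
      intro h
      have h2 : r ∣ (q + 1) - (q - 1) := Nat.dvd_sub hrq h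
      have h3 : (q + 1) - (q - 1) = 2 := by omega
      rw [h3] at h2
      exact hr2 ((Nat.prime_dvd_prime_iff_eq hr.out Nat.prime_two).mp h2)
    have hw : β ^ (q + 1) = 1 := by
      have := pow_gcd_eq_one.mpr ⟨hw1, hw2⟩
      rw [Nat.Coprime.gcd_eq_one hcop, pow_one] at this
      exact this
    obtain ⟨t, ht⟩ := hrq
    have h4 : (γ : F) ^ t = 1 := by
      rw [← hβ, ← pow_mul, ← ht]
      exact hw
    have h5 : γ ^ t = 1 := Units.ext (by rw [Units.val_pow_eq_pow_val, h4, Units.val_one])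
    have h6 := orderOf_dvd_of_pow_eq_one h5
    rw [hγ] at h6
    have h7 : r ^ (a + 1) ∣ q + 1 := by
      rw [ht, pow_succ']
      exact Nat.mul_dvd_mul_left r h6
    have h8 := (padicValNat_dvd_iff_le (p := r) (by omega : q + 1 ≠ 0)).mp h7
    omega
  · rw [← ha]
    exact hγa

include hF in
/-- the case B isometries: determinant one, `r`-th power a scalar which is not an `r`-th power;
all invariant subspaces have dimension divisible by `r` -/
theorem exists_caseB_elt (r : ℕ) [hr : Fact r.Prime] (hr2 : r ≠ 2) (hrq : r ∣ q + 1)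
    (n : ℕ) (hn : 0 < n) (hv : padicValNat r (q + 1) < padicValNat r n) :
    ∃ f : Module.End F (Fin n → F), IsIsom (HermBridge.hermSesq hF n) f ∧ LinearMap.det f = 1 ∧
      (∃ z : F, f ^ r = z • 1) ∧ (∀ z : F, f ≠ z • 1) ∧
      ∀ W : Submodule F (Fin n → F), Elus.Inv f W → r ∣ finrank F W := by
  classical
  haveI : NeZero r := ⟨hr.out.ne_zero⟩
  obtain ⟨z, hz1, hznp, hzord⟩ := exists_nonpow_unit hF r hr2 hrq
  obtain ⟨a, ha⟩ : ∃ a, a = padicValNat r (q + 1) := ⟨_, rfl⟩
  rw [← ha] at hv hzord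
  have hdvd : r ^ (a + 1) ∣ n := (padicValNat_dvd_iff_le (p := r) (by omega : n ≠ 0)).mpr (by omega)
  obtain ⟨k, hk⟩ : ∃ k, n = r * k ∧ r ^ a ∣ k := by
    obtain ⟨t, ht⟩ := hdvd
    exact ⟨r ^ a * t, by rw [ht, pow_succ']; ring, Dvd.intro _ rfl⟩
  obtain ⟨hnk, hak⟩ := hk
  have hcard : Fintype.card (Fin k × ZMod r) = n := by
    rw [Fintype.card_prod, Fintype.card_fin, ZMod.card, hnk, mul_comm]
  obtain ⟨eι, -⟩ : ∃ eι : Fin k × ZMod r ≃ Fin n, True := ⟨Fintype.equivFinOfCardEq hcard, trivial⟩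
  obtain ⟨T, hT⟩ : ∃ T : (Fin n → F) ≃ₗ[F] (Fin k × ZMod r → F),
      ∀ v x, T v x = v (eι x) := ⟨LinearEquiv.funCongrLeft F F eι, fun v x => rfl⟩
  have hTs : ∀ w i, T.symm w i = w (eι.symm i) := by
    intro w i
    have h1 := hT (T.symm w) (eι.symm i)
    rw [LinearEquiv.apply_symm_apply, Equiv.apply_symm_apply] at h1
    exact h1.symm
  obtain ⟨f, hf⟩ : ∃ f : Module.End F (Fin n → F),
      f = T.symm.toLinearMap ∘ₗ shiftEnd k r z ∘ₗ T.symm.symm.toLinearMap := ⟨_, rfl⟩
  have hfapp : ∀ v, f v = T.symm (shiftEnd k r z (T v)) := by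
    intro v
    rw [hf]
    rfl
  have hfr : f ^ r = z • 1 := by
    apply LinearMap.ext
    intro v
    rw [hf, Elus.conj_pow, shiftEnd_pow_self, LinearMap.smul_apply, Module.End.one_apply,
      map_smul, LinearEquiv.symm_symm, LinearEquiv.symm_apply_apply]
    rfl
  have hfin : finrank F (Fin n → F) = r * k := by
    rw [Module.finrank_fin_fun, hnk]
  refine ⟨f, ?_, ?_, ⟨z, hfr⟩, ?_, ?_⟩
  · intro u v
    rw [HermBridge.hermSesq_apply, HermBridge.hermSesq_apply]
    unfold hermForm
    have h1 : ∀ w w' : Fin n → F, ∑ i, w i * (w' i) ^ q = ∑ x, T w x * (T w' x) ^ q := by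
      intro w w'
      rw [← Equiv.sum_comp eι]
      apply Finset.sum_congr rfl
      intro x _
      rw [hT, hT]
    rw [h1 (f v) (f u), h1 v u, hfapp, hfapp, LinearEquiv.apply_symm_apply,
      LinearEquiv.apply_symm_apply]
    exact shiftEnd_herm k r z q hz1 (T v) (T u)
  · rw [Elus.det_of_pow_eq_smul r z hznp k (Fin n → F) f hfr hfin]
    have hodd : Odd r := hr.out.odd_of_ne_two hr2
    have h1 : ((-1 : F)) ^ (r + 1) = 1 := by
      apply Even.neg_one_pow
      exact Odd.add_odd hodd odd_one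
    rw [h1, one_mul]
    obtain ⟨t, ht⟩ := hak
    rw [ht, pow_mul, hzord, one_pow]
  · intro c hc
    rw [hc, _root_.smul_pow, one_pow] at hfr
    exact hznp c (Elus.smul_one_inj hn hfr)
  · intro W hW
    exact Elus.dvd_finrank_of_inv f r z hfr hznp W hW

end CaseB

end Cfsg.Agent.Lib.Helper2.Uti
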