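import Mathlib
import Cfsg.Agent.Lib.Helper2.UtiK
set_option autoImplicit false
set_option maxHeartbeats 1000000
set_option linter.unusedVariables false
set_option linter.unusedSectionVars false
set_option linter.style.longLine false
set_option linter.unusedSimpArgs false
set_option linter.deprecated false
set_option linter.style.haveILetI false

/-! Totally isotropic subspaces of unitary spaces (part L): isometries whose `r`-th power is a
scalar which is not an `r`-th power fix totally isotropic subspaces of every dimension divisible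
by `r` (up to half the dimension). -/

namespace Cfsg.Agent.Lib.Helper2.Uti

open Module Polynomial Cfsg Cfsg.Agent.Lib.Helper2 Cfsg.Agent.Lib.Helper5

universe u v

section CaseBSuff

variable {F : Type u} [Field F] [Fintype F] {q : ℕ} (hF : Fintype.card F = q ^ 2)
variable {V : Type v} [AddCommGroup V] [Module F V] [FiniteDimensional F V]
variable (B : V →ₛₗ[HermBridge.sigma hF] V →ₗ[F] F)

omit [Fintype F] [FiniteDimensional F V] in
theorem isSemisimple_of_pow_eq_smul (y : Module.End F V) (r : ℕ) (hr : (r : F) ≠ 0) (c : F)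
    (hc : c ≠ 0) (hy : y ^ r = c • 1) : y.IsSemisimple := by
  apply Module.End.isSemisimple_of_squarefree_aeval_eq_zero (p := X ^ r - C c)
  · exact (separable_X_pow_sub_C c hr hc).squarefree
  · rw [map_sub, map_pow, aeval_X, aeval_C, hy, Algebra.algebraMap_eq_smul_one, sub_self]

omit [Fintype F] [FiniteDimensional F V] in
theorem inv_pow' {f : Module.End F V} {W : Submodule F V} (hW : Elus.Inv f W) (k : ℕ) :
    Elus.Inv (f ^ k) W := by
  induction k with
  | zero =>
    intro x hx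
    simpa using hx
  | succ k ih =>
    intro x hx
    rw [pow_succ', Module.End.mul_apply]
    exact hW _ (ih x hx)

include hF in
theorem ti_suff_caseB (hS : B.IsSymm) (hB : B.Nondegenerate) (r : ℕ) [hr : Fact r.Prime]
    (hrF : (r : F) ≠ 0) (z : F) (hznp : ∀ b : F, b ^ r ≠ z) {f : Module.End F V}
    (hfB : IsIsom B f) (hfr : f ^ r = z • 1) (n m : ℕ) (hn : finrank F V = n)
    (hmn : 2 * m ≤ n) (hrm : r ∣ m) :
    ∃ W : Submodule F V, finrank F W = m ∧ TI B W ∧ Elus.Inv f W := by
  classical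
  have hσ2 := HermBridge.sigma_sigma hF
  have hσ := HermBridge.sigma_ne_id hF
  have hrpos : 0 < r := hr.out.pos
  have hz0 : z ≠ 0 := by
    intro h
    exact hznp 0 (by rw [zero_pow hr.out.ne_zero, h])
  obtain ⟨fi, hfi⟩ : ∃ fi : Module.End F V, fi = z⁻¹ • f ^ (r - 1) := ⟨_, rfl⟩
  have hr1 : r - 1 + 1 = r := by omega
  have h1 : ∀ w, f (fi w) = w := by
    intro w
    rw [hfi, LinearMap.smul_apply, map_smul, ← Module.End.mul_apply, ← pow_succ', hr1, hfr,
      LinearMap.smul_apply, Module.End.one_apply, smul_smul, inv_mul_cancel₀ hz0, one_smul]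
  have h2 : ∀ w, fi (f w) = w := by
    intro w
    rw [hfi, LinearMap.smul_apply, ← Module.End.mul_apply, ← pow_succ, hr1, hfr,
      LinearMap.smul_apply, Module.End.one_apply, smul_smul, inv_mul_cancel₀ hz0, one_smul]
  have hinv : ∀ W : Submodule F V, Elus.Inv f W → Elus.Inv fi W := by
    intro W hW x hx
    rw [hfi, LinearMap.smul_apply]
    exact W.smul_mem _ (inv_pow' hW (r - 1) x hx)
  have hss : f.IsSemisimple := isSemisimple_of_pow_eq_smul f r hrF z hz0 hfr
  have hssi : fi.IsSemisimple := by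
    rw [hfi]
    exact Module.End.IsSemisimple_smul _ (hss.pow _)
  have hperp : ∀ W : Submodule F V, Elus.Inv f W → Elus.Inv f (perp B W) := by
    intro W hW
    exact inv_perp_gen B hfB h1 (hinv W hW)
  have hirr : Irreducible (X ^ r - C z : F[X]) := X_pow_sub_C_irreducible_of_prime hr.out hznp
  have hann : ∀ u : V, aeval f (X ^ r - C z : F[X]) u = 0 := by
    intro u
    rw [map_sub, map_pow, aeval_X, aeval_C, hfr, Algebra.algebraMap_eq_smul_one, sub_self,
      LinearMap.zero_apply]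
  obtain ⟨W₀, hW₀ti, hW₀i, hmax⟩ := exists_max_ti B f
  obtain ⟨N, hNi, hNle, hdisj, hsup, hNnd, hdim, haniso⟩ :=
    exists_aniso_compl B hσ2 hS hB hfB h1 hinv hss hW₀ti hW₀i hmax
  -- blocks
  have blk : ∀ (N' : Submodule F V), Elus.Inv f N' →
      (∀ T : Submodule F V, T ≤ N' → TI B T → Elus.Inv f T → T = ⊥) →
      ∀ u ∈ N', u ≠ 0 → Elus.cyc f r u ≤ N' ∧ Elus.Inv f (Elus.cyc f r u) ∧
        finrank F (Elus.cyc f r u) = r ∧ ND B (Elus.cyc f r u) := by
    intro N' hN'i han u hu hu0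
    have hUi : Elus.Inv f (Elus.cyc f r u) := Elus.cyc_inv hfr hrpos u
    have hUle : Elus.cyc f r u ≤ N' := by
      apply Submodule.span_le.mpr
      rintro _ ⟨k, rfl⟩
      exact inv_pow' hN'i _ u hu
    have hU0 : Elus.cyc f r u ≠ ⊥ := by
      intro h
      have := Elus.mem_cyc f r hrpos u
      rw [h, Submodule.mem_bot] at this
      exact hu0 this
    have hUfin : finrank F (Elus.cyc f r u) = r := by
      have h3 := Elus.dvd_finrank_of_inv f r z hfr hznp _ hUi
      have h4 := Elus.finrank_cyc_le f r u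
      have h5 : 0 < finrank F (Elus.cyc f r u) := by
        rw [Nat.pos_iff_ne_zero]
        intro h
        exact hU0 (Submodule.finrank_eq_zero.mp h)
      have h6 := Nat.le_of_dvd h5 h3
      omega
    refine ⟨hUle, hUi, hUfin, ?_⟩
    have hRi : Elus.Inv f (Elus.cyc f r u ⊓ perp B (Elus.cyc f r u)) := by
      intro x hx
      exact ⟨hUi x hx.1, hperp _ hUi x hx.2⟩
    have h3 := Elus.dvd_finrank_of_inv f r z hfr hznp _ hRi
    have h4 : finrank F (Elus.cyc f r u ⊓ perp B (Elus.cyc f r u) : Submodule F V) ≤ r := by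
      have h40 := Submodule.finrank_mono
        (inf_le_left : Elus.cyc f r u ⊓ perp B (Elus.cyc f r u) ≤ Elus.cyc f r u)
      omega
    have h5 : finrank F (Elus.cyc f r u ⊓ perp B (Elus.cyc f r u) : Submodule F V) = 0 := by
      by_contra hne
      have h6 := Nat.le_of_dvd (Nat.pos_of_ne_zero hne) h3
      have h7 : finrank F (Elus.cyc f r u ⊓ perp B (Elus.cyc f r u) : Submodule F V) =
          finrank F (Elus.cyc f r u) := by omega
      have h8 := Submodule.eq_of_le_of_finrank_eq (inf_le_left) h7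
      have h9 : Elus.cyc f r u ≤ perp B (Elus.cyc f r u) := by
        intro x hx
        have hx' : x ∈ (Elus.cyc f r u ⊓ perp B (Elus.cyc f r u) : Submodule F V) := by
          rw [h8]
          exact hx
        exact hx'.2
      exact hU0 (han _ hUle (ti_of_le_perp B h9) hUi)
    unfold ND
    rw [disjoint_iff]
    exact Submodule.finrank_eq_zero.mp h5
  -- the anisotropic part has at most one block
  have hNr : finrank F N ≤ r := by
    by_contra hlt
    have hN0 : N ≠ ⊥ := by
      intro h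
      rw [h, finrank_bot] at hlt
      omega
    obtain ⟨u, hu, hu0⟩ := Submodule.exists_mem_ne_zero_of_ne_bot hN0
    obtain ⟨hU₁le, hU₁i, hU₁fin, hU₁nd⟩ := blk N hNi haniso u hu hu0
    obtain ⟨U₁, hU₁def⟩ : ∃ U₁ : Submodule F V, U₁ = Elus.cyc f r u := ⟨_, rfl⟩
    rw [← hU₁def] at hU₁le hU₁i hU₁fin hU₁nd
    have hN'nd : ND B (N ⊓ perp B U₁) := nd_perp_in B hσ2 hS hB hNnd hU₁nd hU₁le
    have hN'fin := finrank_perp_in B hσ2 hB hNnd hU₁le
    have hN'i : Elus.Inv f (N ⊓ perp B U₁) := by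
      intro x hx
      exact ⟨hNi x hx.1, hperp _ hU₁i x hx.2⟩
    have hN'0 : N ⊓ perp B U₁ ≠ ⊥ := by
      intro h
      rw [h, finrank_bot] at hN'fin
      omega
    obtain ⟨u', hu', hu'0⟩ := Submodule.exists_mem_ne_zero_of_ne_bot hN'0
    obtain ⟨hU₂le, hU₂i, hU₂fin, hU₂nd⟩ := blk (N ⊓ perp B U₁) hN'i
      (fun T hT hTti hTi => haniso T (hT.trans inf_le_left) hTti hTi) u' hu' hu'0
    obtain ⟨U₂, hU₂def⟩ : ∃ U₂ : Submodule F V, U₂ = Elus.cyc f r u' := ⟨_, rfl⟩
    rw [← hU₂def] at hU₂le hU₂i hU₂fin hU₂nd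
    have horth : Orth B U₁ U₂ := (orth_iff_le_perp B).mpr (hU₂le.trans inf_le_right)
    have hdeg : (X ^ r - C z : F[X]).natDegree = r := natDegree_X_pow_sub_C
    have hchar := charpoly_restrict_eq (y := f) hU₁i hU₂i hirr (fun u _ => hann u)
      (fun u _ => hann u) (by rw [hU₁fin, hdeg]) (by rw [hU₂fin, hdeg])
    obtain ⟨Γ, hΓle, hΓti, hΓi, hΓfin⟩ := exists_ti_graph B hσ hσ2 hS hfB h1 h2 hss hssi hU₁nd
      hU₂nd hU₁i (hinv _ hU₁i) hU₂i (hinv _ hU₂i) horth hchar
    have hΓN : Γ ≤ N := hΓle.trans (sup_le hU₁le (hU₂le.trans inf_le_left))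
    have := haniso Γ hΓN hΓti hΓi
    rw [this, finrank_bot] at hΓfin
    omega
  -- arithmetic
  have hrw := Elus.dvd_finrank_of_inv f r z hfr hznp _ hW₀i
  obtain ⟨m₁, hm₁⟩ := hrm
  obtain ⟨w₁, hw₁⟩ := hrw
  have hm₁w₁ : m₁ ≤ w₁ := by
    by_contra hlt
    have h3 : r * (w₁ + 1) ≤ r * m₁ := Nat.mul_le_mul_left r (by omega)
    rw [Nat.mul_add, mul_one] at h3
    omega
  -- cut down inside `W₀`
  have hfW := Elus.restrict_pow_smul hfr hW₀i
  obtain ⟨U, W', -, hUi, -, hUfin, -⟩ := Elus.exists_flagB (f.restrict hW₀i) r z hfW hznp m₁ w₁ hm₁w₁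
    (by rw [hw₁])
  refine ⟨U.map W₀.subtype, ?_, ?_, ?_⟩
  · rw [Submodule.finrank_map_subtype_eq, hUfin, hm₁]
  · apply hW₀ti.mono
    rintro _ ⟨w, -, rfl⟩
    exact w.2
  · rintro _ ⟨w, hw, rfl⟩
    exact ⟨f.restrict hW₀i w, hUi w hw, rfl⟩

end CaseBSuff

end Cfsg.Agent.Lib.Helper2.Uti
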