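import Mathlib
import Cfsg.Agent.Lib.Helper2.UtiL
set_option autoImplicit false
set_option maxHeartbeats 1000000
set_option linter.unusedVariables false
set_option linter.unusedSectionVars false
set_option linter.style.longLine false
set_option linter.unusedSimpArgs false
set_option linter.deprecated false
set_option linter.style.haveILetI false

/-! Totally isotropic subspaces of unitary spaces (part M): isometries with scalar square in odd
characteristic. -/

namespace Cfsg.Agent.Lib.Helper2.Uti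

open Module Polynomial Cfsg Cfsg.Agent.Lib.Helper2 Cfsg.Agent.Lib.Helper5

universe u v

section Two

variable {F : Type u} [Field F] [Fintype F] {q : ℕ} (hF : Fintype.card F = q ^ 2)
variable {V : Type v} [AddCommGroup V] [Module F V] [FiniteDimensional F V]
variable (B : V →ₛₗ[HermBridge.sigma hF] V →ₗ[F] F)

omit [FiniteDimensional F V] in
theorem form_smul_smul (a b : F) (u v : V) : B (a • u) (b • v) = a ^ q * b * B u v := by
  simp only [map_smulₛₗ, LinearMap.smul_apply, map_smul, smul_eq_mul, HermBridge.sigma_apply,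
    RingHom.id_apply]
  ring

/-- a scalar power of an isometry has norm one -/
theorem scalar_norm_one (hB : B.Nondegenerate) [Nontrivial V] {f : Module.End F V}
    (hfB : IsIsom B f) (r : ℕ) (z : F) (hfr : f ^ r = z • 1) : z * z ^ q = 1 := by
  obtain ⟨u, hu0⟩ := exists_ne (0 : V)
  have h1 : ∃ v, B u v ≠ 0 := by
    by_contra hcon
    push_neg at hcon
    exact hu0 (hB.1 u hcon)
  obtain ⟨v, hv⟩ := h1
  have h2 := (hfB.pow r) u v
  rw [hfr, LinearMap.smul_apply, LinearMap.smul_apply, Module.End.one_apply, Module.End.one_apply,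
    form_smul_smul] at h2
  have h3 : (z * z ^ q - 1) * B u v = 0 := by linear_combination h2
  rcases mul_eq_zero.mp h3 with h4 | h4
  · exact sub_eq_zero.mp h4
  · exact absurd h4 hv

omit [FiniteDimensional F V] in
theorem isIsom_scale {f : Module.End F V} (hfB : IsIsom B f) (l : F) (hl : l * l ^ q = 1) :
    IsIsom B (l⁻¹ • f) := by
  intro u v
  rw [LinearMap.smul_apply, LinearMap.smul_apply, form_smul_smul, hfB u v, inv_pow]
  have h3 : (l ^ q)⁻¹ * l⁻¹ = 1 := by
    rw [← mul_inv, mul_comm (l ^ q) l, hl, inv_one]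
  rw [h3, one_mul]

include hF in
/-- the anti-isometry case: `f² = ν²` with `ν` of norm `-1` -/
theorem ti_anti (hB : B.Nondegenerate) (h2F : (2 : F) ≠ 0) {f : Module.End F V}
    (hfB : IsIsom B f) (ν : F) (hν : ν * ν ^ q = -1) (hf2 : f ^ 2 = ν ^ 2 • 1)
    (n m : ℕ) (hn : finrank F V = n) (hmn : 2 * m ≤ n) :
    ∃ W : Submodule F V, finrank F W = m ∧ TI B W ∧ Elus.Inv f W := by
  classical
  have hσ2 := HermBridge.sigma_sigma hF
  have hν0 : ν ≠ 0 := by
    rintro rfl
    rw [zero_mul] at hν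
    exact one_ne_zero (α := F) (by linear_combination hν)
  obtain ⟨y, hy⟩ : ∃ y : Module.End F V, y = ν⁻¹ • f := ⟨_, rfl⟩
  have hy2 : y ^ 2 = 1 := by
    rw [hy]
    exact Elus.scale_pow f 2 ν hν0 hf2
  have hyy : ∀ v, y (y v) = v := by
    intro v
    rw [← Module.End.mul_apply, ← pow_two, hy2, Module.End.one_apply]
  have hanti : ∀ u v, B (y u) (y v) = - B u v := by
    intro u v
    rw [hy, LinearMap.smul_apply, LinearMap.smul_apply, form_smul_smul, hfB u v, inv_pow]
    have h3 : (ν ^ q)⁻¹ * ν⁻¹ = -1 := by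
      rw [← mul_inv, mul_comm (ν ^ q) ν, hν, inv_neg, inv_one]
    rw [h3, neg_one_mul]
  obtain ⟨Vp, hVp⟩ : ∃ Vp : Submodule F V, Vp = LinearMap.ker (y - 1) := ⟨_, rfl⟩
  obtain ⟨Vm, hVm⟩ : ∃ Vm : Submodule F V, Vm = LinearMap.ker (y + 1) := ⟨_, rfl⟩
  have memVp : ∀ v, v ∈ Vp ↔ y v = v := by
    intro v
    rw [hVp]
    exact Elus.mem_ker_sub_one
  have memVm : ∀ v, v ∈ Vm ↔ y v = -v := by
    intro v
    rw [hVm, LinearMap.mem_ker, LinearMap.add_apply, Module.End.one_apply]
    exact add_eq_zero_iff_eq_neg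
  have hVpti : TI B Vp := by
    intro u hu v hv
    have h1 := hanti u v
    rw [(memVp u).mp hu, (memVp v).mp hv] at h1
    have h3 : (2 : F) * B u v = 0 := by linear_combination h1
    rcases mul_eq_zero.mp h3 with h4 | h4
    · exact absurd h4 h2F
    · exact h4
  have hVmti : TI B Vm := by
    intro u hu v hv
    have h1 := hanti u v
    rw [(memVm u).mp hu, (memVm v).mp hv, map_neg, map_neg, LinearMap.neg_apply, neg_neg] at h1
    have h3 : (2 : F) * B u v = 0 := by linear_combination h1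
    rcases mul_eq_zero.mp h3 with h4 | h4
    · exact absurd h4 h2F
    · exact h4
  have hsup : Vp ⊔ Vm = ⊤ := by
    rw [eq_top_iff]
    intro v _
    have hp : v + y v ∈ Vp := by
      rw [memVp, map_add, hyy, add_comm]
    have hm : v - y v ∈ Vm := by
      rw [memVm, map_sub, hyy, neg_sub]
    have h1 : v = (2 : F)⁻¹ • (v + y v) + (2 : F)⁻¹ • (v - y v) := by
      rw [← smul_add]
      have h3 : (v + y v) + (v - y v) = (2 : F) • v := by
        rw [two_smul]
        abel
      rw [h3, smul_smul, inv_mul_cancel₀ h2F, one_smul]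
    rw [h1]
    exact Submodule.add_mem_sup (Submodule.smul_mem _ _ hp) (Submodule.smul_mem _ _ hm)
  have h1 := ti_finrank_le B hσ2 hB hVpti le_top (nd_top B hB)
  have h2 := ti_finrank_le B hσ2 hB hVmti le_top (nd_top B hB)
  rw [finrank_top, hn] at h1 h2
  have h3 := Submodule.finrank_add_le_finrank_add_finrank Vp Vm
  rw [hsup, finrank_top, hn] at h3
  obtain ⟨W, -, hWle, hWfin⟩ := Elus.exists_between (⊥ : Submodule F V) Vp bot_le m
    (by rw [finrank_bot]; omega) (by omega)
  refine ⟨W, hWfin, hVpti.mono hWle, ?_⟩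
  intro w hw
  have h4 := (memVp w).mp (hWle hw)
  rw [hy, LinearMap.smul_apply] at h4
  have h5 : f w = ν • w := by
    calc f w = ν • (ν⁻¹ • f w) := by rw [smul_smul, mul_inv_cancel₀ hν0, one_smul]
      _ = ν • w := by rw [h4]
  rw [h5]
  exact W.smul_mem _ hw

include hF in
/-- isometries with scalar square fix totally isotropic `m`-spaces, `2m < n` -/
theorem ti_suff_two {p : ℕ} [hp : Fact p.Prime] [CharP F p] (hp2 : p ≠ 2) (hS : B.IsSymm)
    (hB : B.Nondegenerate) {f : Module.End F V} (hfB : IsIsom B f) (z : F)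
    (hf2 : f ^ 2 = z • 1) (n m : ℕ) (hn : finrank F V = n) (hlt : 2 * m < n) :
    ∃ W : Submodule F V, finrank F W = m ∧ TI B W ∧ Elus.Inv f W := by
  classical
  haveI : Nontrivial V := Module.nontrivial_of_finrank_pos (R := F) (by omega)
  have hpodd : Odd p := hp.out.odd_of_ne_two hp2
  obtain ⟨k, hk⟩ := q_eq_pow hF (p := p)
  have hq : Odd q := by
    rw [hk]
    exact hpodd.pow
  have h2F : (2 : F) ≠ 0 := Upp.two_ne_zero_of_odd hF hq
  have hzz := scalar_norm_one hF B hB hfB 2 z hf2
  have hz0 : z ≠ 0 := by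
    rintro rfl
    rw [zero_mul] at hzz
    exact zero_ne_one hzz
  have hchar : ringChar F ≠ 2 := by
    rw [ringChar.eq F p]
    exact hp2
  have hsq : IsSquare z := by
    rw [FiniteField.isSquare_iff hchar hz0, hF]
    obtain ⟨t, ht⟩ := hq
    have h1 : q ^ 2 / 2 = (q + 1) * t := by
      have h3 : q ^ 2 = 2 * ((q + 1) * t) + 1 := by
        rw [ht]
        ring
      rw [h3]
      omega
    rw [h1, pow_mul, pow_succ', hzz, one_pow]
  obtain ⟨lam, hlam⟩ := hsq
  have hlam0 : lam ≠ 0 := by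
    rintro rfl
    rw [mul_zero] at hlam
    exact hz0 hlam
  have heps : (lam * lam ^ q) * (lam * lam ^ q) = 1 := by
    calc (lam * lam ^ q) * (lam * lam ^ q) = (lam * lam) * (lam * lam) ^ q := by ring
      _ = 1 := by rw [← hlam, hzz]
  have hcases : lam * lam ^ q = 1 ∨ lam * lam ^ q = -1 := by
    have h1 : (lam * lam ^ q - 1) * (lam * lam ^ q + 1) = 0 := by linear_combination heps
    rcases mul_eq_zero.mp h1 with h3 | h3
    · left
      exact sub_eq_zero.mp h3
    · right
      exact eq_neg_of_add_eq_zero_left h3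
  have hf2' : f ^ 2 = lam ^ 2 • 1 := by
    rw [hf2, hlam, pow_two]
  rcases hcases with hε | hε
  · have hyB := isIsom_scale hF B hfB lam hε
    have hy2 := Elus.scale_pow f 2 lam hlam0 hf2'
    haveI : Fact (Nat.Prime 2) := ⟨Nat.prime_two⟩
    have hqodd2 : ¬ 2 ∣ q := hq.not_two_dvd_nat
    have hb : (1 : ℕ) = orderOf ((Fintype.card F : ℕ) : ZMod 2) := by
      have h1 : ((Fintype.card F : ℕ) : ZMod 2) = 1 := by
        rw [ZMod.natCast_eq_one_iff_odd, hF]
        exact hq.pow
      rw [h1, orderOf_one]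
    have hc : (1 : ℕ) = orderOf (-(q : ZMod 2)) := by
      have h1 : (-(q : ZMod 2)) = 1 := by
        rw [ZMod.neg_eq_self_mod_two, ZMod.natCast_eq_one_iff_odd]
        exact hq
      rw [h1, orderOf_one]
    have htype : ((1 : ℕ) = 1 ∧ ∃ e, 2 ∣ q ^ (2 * e + 1) + 1) ∨ (1 : ℕ) = 2 * 1 := by
      left
      refine ⟨rfl, 0, ?_⟩
      obtain ⟨t, ht⟩ := hq
      exact ⟨t + 1, by rw [ht]; ring⟩
    have hmod : 2 * (m % 1) ≤ n % 1 := by
      rw [Nat.mod_one, Nat.mod_one]
    have hlast : (1 : ℕ) = 1 → (2 - 1) / 1 + 2 * (m / 1) ≤ n / 1 := by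
      intro _
      rw [Nat.div_one, Nat.div_one, Nat.div_one]
      omega
    have h2F' : ((2 : ℕ) : F) ≠ 0 := by exact_mod_cast h2F
    obtain ⟨W, hWfin, hWti, hWi⟩ := ti_suff hF B hS hB 2 (Ne.symm hp2) h2F'
      hqodd2 1 1 hb hc htype n m hn (by omega) hmod hlast hyB hy2
    exact ⟨W, hWfin, hWti, Elus.scale_inv f lam hlam0 W hWi⟩
  · exact ti_anti hF B hB h2F hfB lam hε hf2' n m hn (by omega)

end Two

end Cfsg.Agent.Lib.Helper2.Uti
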