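import Mathlib
import Cfsg.Agent.Lib.Helper2.UtiM
set_option autoImplicit false
set_option maxHeartbeats 1000000
set_option linter.unusedVariables false
set_option linter.unusedSectionVars false
set_option linter.style.longLine false
set_option linter.unusedSimpArgs false
set_option linter.deprecated false
set_option linter.style.haveILetI false

/-! Totally isotropic subspaces of unitary spaces (part N): the bridge between special unitary
matrices and isometries, roots of norm-one scalars, and arithmetic of orders. -/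

namespace Cfsg.Agent.Lib.Helper2.Uti

open Module Polynomial Cfsg Cfsg.Agent.Lib.Helper2 Cfsg.Agent.Lib.Helper5
open scoped Matrix

universe u

section ArithN

/-- `q` has order two modulo the odd prime `r` iff `r ∣ q + 1` -/
theorem ord_two_iff (r : ℕ) [hr : Fact r.Prime] (hr2 : r ≠ 2) (q : ℕ) :
    orderOf (q : ZMod r) = 2 ↔ r ∣ q + 1 := by
  constructor
  · intro h
    have h1 : ((q : ZMod r)) ^ 2 = 1 := by
      rw [← h]
      exact pow_orderOf_eq_one _
    have h2 : ((q : ZMod r) - 1) * ((q : ZMod r) + 1) = 0 := by linear_combination h1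
    rcases mul_eq_zero.mp h2 with h3 | h3
    · exfalso
      have h4 : (q : ZMod r) = 1 := sub_eq_zero.mp h3
      rw [h4, orderOf_one] at h
      omega
    · have h4 : ((q + 1 : ℕ) : ZMod r) = 0 := by
        push_cast
        exact h3
      exact (ZMod.natCast_eq_zero_iff _ _).mp h4
  · intro h
    have h1 : ((q + 1 : ℕ) : ZMod r) = 0 := (ZMod.natCast_eq_zero_iff _ _).mpr h
    push_cast at h1
    have h2 : (q : ZMod r) = -1 := eq_neg_of_add_eq_zero_left h1
    rw [h2, orderOf_neg_one, if_neg]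
    rw [ZMod.ringChar_zmod_n]
    exact hr2

/-- in the self-dual case `i ≡ 2 (mod 4)`, `r` divides `q ^ odd + 1` -/
theorem sd_type (r : ℕ) [hr : Fact r.Prime] (q : ℕ) (hrq : ¬ r ∣ q) (i : ℕ)
    (hi : i = orderOf (q : ZMod r)) (h42 : i % 4 = 2) : ∃ e, r ∣ q ^ (2 * e + 1) + 1 := by
  obtain ⟨e, he⟩ : ∃ e, i = 2 * (2 * e + 1) := ⟨i / 4, by omega⟩
  refine ⟨e, ?_⟩
  have h1 : ((q : ZMod r)) ^ (2 * e + 1) * ((q : ZMod r)) ^ (2 * e + 1) = 1 := by
    rw [← pow_add, ← two_mul, ← he, hi]
    exact pow_orderOf_eq_one _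
  rcases mul_self_eq_one_iff.mp h1 with h2 | h2
  · exfalso
    have h3 := orderOf_dvd_of_pow_eq_one h2
    rw [← hi] at h3
    have := Nat.le_of_dvd (by omega) h3
    omega
  · apply (ZMod.natCast_eq_zero_iff _ _).mp
    push_cast
    rw [h2]
    ring

theorem padic_sq_sub_one (r : ℕ) [hr : Fact r.Prime] (hr2 : r ≠ 2) (q : ℕ) (hq : 2 ≤ q)
    (hrq : r ∣ q + 1) : padicValNat r (q ^ 2 - 1) = padicValNat r (q + 1) := by
  have h1 : q ^ 2 - 1 = (q + 1) * (q - 1) := by
    obtain ⟨q', rfl⟩ : ∃ q', q = q' + 1 := ⟨q - 1, by omega⟩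
    rw [Nat.add_sub_cancel]
    have : (q' + 1) ^ 2 = (q' + 1 + 1) * q' + 1 := by ring
    rw [this, Nat.add_sub_cancel]
  have h2 : ¬ r ∣ q - 1 := by
    intro h
    have h2 : r ∣ (q + 1) - (q - 1) := Nat.dvd_sub hrq h
    have h3 : (q + 1) - (q - 1) = 2 := by omega
    rw [h3] at h2
    exact hr2 ((Nat.prime_dvd_prime_iff_eq hr.out Nat.prime_two).mp h2)
  rw [h1, padicValNat.mul (by omega) (by omega), padicValNat.eq_zero_of_not_dvd h2, add_zero]

end ArithN

section Roots

variable {F : Type u} [Field F] [Fintype F] {q : ℕ} (hF : Fintype.card F = q ^ 2)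

/-- roots of norm-one scalars, coprime case -/
theorem exists_root_norm_one (r : ℕ) [hr : Fact r.Prime] (hrq : ¬ r ∣ q + 1) (hq : 1 ≤ q) (z : F)
    (hz : z * z ^ q = 1) : ∃ μ : F, μ ^ r = z ∧ μ * μ ^ q = 1 := by
  have hz' : z ^ (q + 1) = 1 := by
    rw [pow_succ']
    exact hz
  have hcop : Nat.Coprime r (q + 1) := (Nat.Prime.coprime_iff_not_dvd hr.out).mpr hrq
  obtain ⟨a, -, ha⟩ := Nat.exists_mul_mod_eq_one_of_coprime hcop (by omega)
  refine ⟨z ^ a, ?_, ?_⟩
  · rw [← pow_mul, mul_comm, pow_eq_pow_mod (r * a) hz', ha, pow_one]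
  · rw [← pow_succ', ← pow_mul, mul_comm, pow_mul, hz', one_pow]

include hF in
/-- an `r`-th root of a norm-one scalar has norm one when `r ∣ q + 1` is odd -/
theorem norm_one_of_pow (r : ℕ) [hr : Fact r.Prime] (hr2 : r ≠ 2) (hrq : r ∣ q + 1) (β : F)
    (hz : β ^ r * (β ^ r) ^ q = 1) : β * β ^ q = 1 := by
  have hq2 := two_le_q' hF
  have hβ0 : β ≠ 0 := by
    rintro rfl
    rw [zero_pow hr.out.ne_zero, zero_mul] at hz
    exact zero_ne_one hz
  have hw1 : (β ^ (q + 1)) ^ r = 1 := by
    rw [← pow_mul, mul_comm, pow_mul, pow_succ']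
    exact hz
  have hw2 : (β ^ (q + 1)) ^ (q - 1) = 1 := by
    rw [← pow_mul]
    have h1 : (q + 1) * (q - 1) = Fintype.card F - 1 := by
      rw [hF]
      have h2 : (q + 1) * (q - 1) + 1 = q ^ 2 := by
        obtain ⟨q', rfl⟩ : ∃ q', q = q' + 1 := ⟨q - 1, by omega⟩
        rw [Nat.add_sub_cancel]
        ring
      omega
    rw [h1]
    exact FiniteField.pow_card_sub_one_eq_one β hβ0
  have hcop : Nat.Coprime r (q - 1) := by
    rw [Nat.Prime.coprime_iff_not_dvd hr.out]
    intro h
    have h2 : r ∣ (q + 1) - (q - 1) := Nat.dvd_sub hrq h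
    have h3 : (q + 1) - (q - 1) = 2 := by omega
    rw [h3] at h2
    exact hr2 ((Nat.prime_dvd_prime_iff_eq hr.out Nat.prime_two).mp h2)
  have := pow_gcd_eq_one.mpr ⟨hw1, hw2⟩
  rw [Nat.Coprime.gcd_eq_one hcop, pow_one, pow_succ'] at this
  exact this

end Roots

section Bridge

variable {F : Type u} [Field F] [Fintype F] {q : ℕ} (hF : Fintype.card F = q ^ 2) {n : ℕ}

include hF in
/-- isometries as elements of the general unitary group -/
theorem exists_GL_of_isom {f : Module.End F (Fin n → F)}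
    (hfB : IsIsom (HermBridge.hermSesq hF n) f) :
    ∃ A : GL (Fin n) F, A ∈ Cfsg.GU n F q ∧ Matrix.toLin' A.val = f := by
  have hiso : ∀ u v, hermForm n F q (f u) (f v) = hermForm n F q u v := by
    intro u v
    have := hfB v u
    rw [HermBridge.hermSesq_apply, HermBridge.hermSesq_apply] at this
    exact this
  have hinj := Upp.injective_of_isometry hF f hiso
  obtain ⟨A, hA⟩ := HermBridge.exists_GU_of_isometry n (LinearEquiv.ofInjectiveEndo f hinj)
    (fun u v => by
      rw [LinearEquiv.coe_ofInjectiveEndo]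
      exact hiso u v)
  refine ⟨A.1, A.2, ?_⟩
  apply LinearMap.ext
  intro v
  rw [Matrix.toLin'_apply, hA v, LinearEquiv.coe_ofInjectiveEndo]

include hF in
theorem det_norm_one {f : Module.End F (Fin n → F)}
    (hfB : IsIsom (HermBridge.hermSesq hF n) f) :
    LinearMap.det f * (LinearMap.det f) ^ q = 1 := by
  obtain ⟨A, hA, hAf⟩ := exists_GL_of_isom hF hfB
  rw [← hAf, LinearMap.det_toLin']
  exact Upp.det_mul_det_pow hF A hA

include hF in
/-- isometries of determinant one with scalar square fix a totally isotropic subspace of half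
the dimension when `(q+1)_2 ≤ n_2` -/
theorem ti_suff_two_half (hq : Odd q) (hn : 0 < n) (he : Even n)
    (hv : padicValNat 2 (q + 1) ≤ padicValNat 2 n) {f : Module.End F (Fin n → F)}
    (hfB : IsIsom (HermBridge.hermSesq hF n) f) (hdet : LinearMap.det f = 1) (z : F)
    (hf2 : f ^ 2 = z • 1) :
    ∃ W : Submodule F (Fin n → F), 2 * finrank F W = n ∧ TI (HermBridge.hermSesq hF n) W ∧
      Elus.Inv f W := by
  obtain ⟨A, hA, hAf⟩ := exists_GL_of_isom hF hfB
  have hAdet : A.val.det = 1 := by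
    rw [← LinearMap.det_toLin', hAf]
    exact hdet
  have hAA : A.val * A.val = z • (1 : Matrix (Fin n) (Fin n) F) := by
    apply Matrix.toLin'.injective
    rw [Elus.toLin'_smul_one, ← pow_two, Elus.toLin'_pow, hAf, hf2]
  obtain ⟨U', W', hP, hU', -⟩ := Upp.exists_stable_pair hF hn he hq hv A hA hAdet z hAA
  refine ⟨U', hP.finrank_left hF, ?_, ?_⟩
  · intro u hu v hv
    rw [HermBridge.hermSesq_apply]
    exact hP.tsU v hv u hu
  · intro u hu
    rw [← hAf, Matrix.toLin'_apply]
    exact hU' u hu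

omit [Fintype F] in
/-- quantifying over special unitary matrices is quantifying over isometries of determinant
one -/
theorem su_forall_iff (r : ℕ) (Q : Module.End F (Fin n → F) → Prop) :
    (∀ x : Matrix.SpecialLinearGroup (Fin n) F, x ∈ Cfsg.SU n F q →
      (∃ z : F, ((x ^ r : Matrix.SpecialLinearGroup (Fin n) F) : Matrix (Fin n) (Fin n) F) =
        z • (1 : Matrix (Fin n) (Fin n) F)) →
      (∀ z : F, (x : Matrix (Fin n) (Fin n) F) ≠ z • (1 : Matrix (Fin n) (Fin n) F)) →
      Q (Matrix.toLin' (x : Matrix (Fin n) (Fin n) F))) ↔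
    (∀ f : Module.End F (Fin n → F),
      (∀ u v, hermForm n F q (f u) (f v) = hermForm n F q u v) → LinearMap.det f = 1 →
      (∃ z : F, f ^ r = z • 1) → (∀ z : F, f ≠ z • 1) → Q f) := by
  constructor
  · intro H f hiso hdet ⟨z, hz⟩ hns
    have h1 := H (Elus.toSL f hdet) ?_ ⟨z, Elus.toSL_pow f hdet r z hz⟩ ?_
    · rw [Elus.toLin'_toSL] at h1
      exact h1
    · intro u v
      show hermForm n F q (((Elus.toSL f hdet : Matrix.SpecialLinearGroup (Fin n) F) :
        Matrix (Fin n) (Fin n) F) *ᵥ u) (((Elus.toSL f hdet : Matrix.SpecialLinearGroup (Fin n) F) :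
        Matrix (Fin n) (Fin n) F) *ᵥ v) = _
      rw [← Matrix.toLin'_apply, ← Matrix.toLin'_apply, Elus.toLin'_toSL]
      exact hiso u v
    · intro z' hz'
      apply hns z'
      rw [← Elus.toLin'_toSL f hdet, hz', Elus.toLin'_smul_one]
  · intro H x hx ⟨z, hz⟩ hns
    apply H
    · intro u v
      rw [Matrix.toLin'_apply, Matrix.toLin'_apply]
      exact hx u v
    · rw [LinearMap.det_toLin']
      exact x.det_coe
    · exact ⟨z, Elus.pow_of_SL x r z hz⟩
    · intro z' hz'
      apply hns z'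
      apply Matrix.toLin'.injective
      rw [hz', Elus.toLin'_smul_one]

end Bridge

end Cfsg.Agent.Lib.Helper2.Uti
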