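import Mathlib
import Cfsg.Agent.Lib.Helper2.UtiN
set_option autoImplicit false
set_option maxHeartbeats 1000000
set_option linter.unusedVariables false
set_option linter.unusedSectionVars false
set_option linter.style.longLine false
set_option linter.unusedSimpArgs false
set_option linter.deprecated false
set_option linter.style.haveILetI false

/-! Totally isotropic subspaces of unitary spaces (part O): the main theorem for isometries of
determinant one of the standard hermitian space. -/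

namespace Cfsg.Agent.Lib.Helper2.Uti

open Module Polynomial Cfsg Cfsg.Agent.Lib.Helper2 Cfsg.Agent.Lib.Helper5

universe u

section Main

variable {F : Type u} [Field F] [Fintype F] {q : ℕ} (hF : Fintype.card F = q ^ 2)

/-- every non-scalar isometry of determinant one whose `r`-th power is scalar fixes a totally
isotropic `m`-space -/
def TiProp (n m r : ℕ) : Prop :=
  ∀ f : Module.End F (Fin n → F), IsIsom (HermBridge.hermSesq hF n) f → LinearMap.det f = 1 →
    (∃ z : F, f ^ r = z • 1) → (∀ z : F, f ≠ z • 1) →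
    ∃ W : Submodule F (Fin n → F), finrank F W = m ∧ TI (HermBridge.hermSesq hF n) W ∧
      Elus.Inv f W

theorem bc_facts (i b c : ℕ) (hi0 : 0 < i) (hb : b = if Even i then i / 2 else i)
    (hc : c = if i % 4 = 0 then i else if i % 4 = 2 then i / 2 else 2 * i) :
    (i % 4 = 2 → c = b) ∧ (i % 4 ≠ 2 → c = 2 * b) ∧ 0 < b := by
  by_cases hev : Even i
  · rw [if_pos hev] at hb
    rw [Nat.even_iff] at hev
    split_ifs at hc <;> refine ⟨?_, ?_, ?_⟩ <;> omega
  · rw [if_neg hev] at hb
    rw [Nat.even_iff] at hev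
    split_ifs at hc <;> refine ⟨?_, ?_, ?_⟩ <;> omega

include hF in
theorem not_dvd_q {p : ℕ} [hp : Fact p.Prime] [CharP F p] (r : ℕ) [hr : Fact r.Prime]
    (hrp : r ≠ p) : ¬ r ∣ q := by
  obtain ⟨k, hk⟩ := q_eq_pow hF (p := p)
  intro h
  rw [hk] at h
  exact hrp ((Nat.prime_dvd_prime_iff_eq hr.out hp.out).mp (hr.out.dvd_of_dvd_pow h))

omit [Fintype F] in
theorem cast_ne_zero' {p : ℕ} [hp : Fact p.Prime] [CharP F p] (r : ℕ) [hr : Fact r.Prime]
    (hrp : r ≠ p) : (r : F) ≠ 0 := by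
  intro h
  have h1 := (CharP.cast_eq_zero_iff F p r).mp h
  exact hrp ((Nat.prime_dvd_prime_iff_eq hp.out hr.out).mp h1).symm

include hF in
/-- sufficiency for odd `r` -/
theorem suff_odd {p : ℕ} [hp : Fact p.Prime] [CharP F p] (n m : ℕ) (hn : 0 < n)
    (hmn : 2 * m ≤ n) (r : ℕ) [hr : Fact r.Prime] (h2r : 2 < r) (hrp : r ≠ p) (i b c : ℕ)
    (hi : i = orderOf (q : ZMod r)) (hb : b = if Even i then i / 2 else i)
    (hc : c = if i % 4 = 0 then i else if i % 4 = 2 then i / 2 else 2 * i)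
    (hmod : 2 * (m % b) ≤ n % c)
    (hlast : i % 4 ≠ 2 ∨ (i % 4 = 2 ∧ (r - 1) / b + 2 * (m / b) ≤ n / b ∧
      (2 < i ∨ (i = 2 ∧ (r ∣ m ∨ padicValNat r n ≤ padicValNat r (q + 1))))))
    {f : Module.End F (Fin n → F)} (hfB : IsIsom (HermBridge.hermSesq hF n) f)
    (hdet : LinearMap.det f = 1) (z : F) (hfr : f ^ r = z • 1) :
    ∃ W : Submodule F (Fin n → F), finrank F W = m ∧ TI (HermBridge.hermSesq hF n) W ∧
      Elus.Inv f W := by
  classical
  have hS := HermBridge.hermSesq_isSymm hF n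
  have hB := HermBridge.hermSesq_nondegenerate hF n
  have hr2 : r ≠ 2 := by omega
  have hrq := not_dvd_q hF r hrp
  have hrF := cast_ne_zero' (F := F) r hrp
  have hq2 := two_le_q' hF
  have hfin : finrank F (Fin n → F) = n := Module.finrank_fin_fun F
  haveI : Nontrivial (Fin n → F) := Module.nontrivial_of_finrank_pos (R := F) (by omega)
  have hi0 : 0 < i := by
    rw [hi]
    exact Elus.ord_pos r q hrq
  obtain ⟨hbc1, hbc2, hb0⟩ := bc_facts i b c hi0 hb hc
  have hb' : b = orderOf ((Fintype.card F : ℕ) : ZMod r) := by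
    rw [hF]
    exact (ord_sq r q hrq i b hi hb).symm
  have hc' : c = orderOf (-(q : ZMod r)) := (ord_neg r hr2 q hrq i c hi hc).symm
  have htype : (c = b ∧ ∃ e, r ∣ q ^ (2 * e + 1) + 1) ∨ c = 2 * b := by
    by_cases h42 : i % 4 = 2
    · exact Or.inl ⟨hbc1 h42, sd_type r q hrq i hi h42⟩
    · exact Or.inr (hbc2 h42)
  have hzz := scalar_norm_one hF (HermBridge.hermSesq hF n) hB hfB r z hfr
  by_cases hμ : ∃ μ : F, μ ^ r = z ∧ μ * μ ^ q = 1
  · obtain ⟨μ, hμr, hμq⟩ := hμ
    have hμ0 : μ ≠ 0 := by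
      rintro rfl
      rw [zero_mul] at hμq
      exact zero_ne_one hμq
    have hyB := isIsom_scale hF (HermBridge.hermSesq hF n) hfB μ hμq
    have hy := Elus.scale_pow f r μ hμ0 (by rw [hμr]; exact hfr)
    have hlast' : c = b → (r - 1) / b + 2 * (m / b) ≤ n / b := by
      intro hcb
      rcases hlast with h | ⟨_, h, _⟩
      · have := hbc2 h
        omega
      · exact h
    obtain ⟨W, hWfin, hWti, hWi⟩ := ti_suff hF (HermBridge.hermSesq hF n) hS hB r hrp hrF hrq b c
      hb' hc' htype n m hfin hmn hmod hlast' hyB hy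
    exact ⟨W, hWfin, hWti, Elus.scale_inv f μ hμ0 W hWi⟩
  · push_neg at hμ
    have hrq1 : r ∣ q + 1 := by
      by_contra h
      obtain ⟨μ, h1, h2⟩ := exists_root_norm_one r h (by omega) z hzz
      exact hμ μ h1 h2
    have hi2 : i = 2 := by
      rw [hi]
      exact (ord_two_iff r hr2 q).mpr hrq1
    have hznp : ∀ β : F, β ^ r ≠ z := by
      intro β hβ
      exact hμ β hβ (norm_one_of_pow hF r hr2 hrq1 β (by rw [hβ]; exact hzz))
    have hrn : r ∣ n := by
      have h1 := Elus.dvd_finrank_of_inv f r z hfr hznp ⊤ (fun x _ => Submodule.mem_top)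
      rw [finrank_top, hfin] at h1
      exact h1
    obtain ⟨k, hk⟩ := hrn
    have hzk : z ^ k = 1 := by
      have h1 := Elus.det_of_pow_eq_smul r z hznp k (Fin n → F) f hfr (by rw [hfin, hk])
      rw [hdet] at h1
      have hodd : Odd r := hr.out.odd_of_ne_two hr2
      have h2 : ((-1 : F)) ^ (r + 1) = 1 := by
        apply Even.neg_one_pow
        exact Odd.add_odd hodd odd_one
      rw [h2, one_mul] at h1
      exact h1.symm
    have hdiv := Elus.pow_dvd_of_nonpow r z hznp k hzk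
    rw [hF, padic_sq_sub_one r hr2 q hq2 hrq1] at hdiv
    have hdiv2 : r ^ (padicValNat r (q + 1) + 1) ∣ n := by
      rw [hk, pow_succ']
      exact Nat.mul_dvd_mul_left r hdiv
    have hval := (padicValNat_dvd_iff_le (p := r) (by omega : n ≠ 0)).mp hdiv2
    have hrm : r ∣ m := by
      rcases hlast with h | ⟨_, _, h | ⟨_, h | h⟩⟩
      · omega
      · omega
      · exact h
      · omega
    exact ti_suff_caseB hF (HermBridge.hermSesq hF n) hS hB r hrF z hznp hfB hfr n m hfin hmn hrm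

include hF in
/-- sufficiency for `r = 2` -/
theorem suff_two {p : ℕ} [hp : Fact p.Prime] [CharP F p] (hp2 : p ≠ 2) (n m : ℕ) (hn : 0 < n)
    (hmn : 2 * m ≤ n) (h : 2 * m < n ∨ padicValNat 2 (q + 1) ≤ padicValNat 2 n)
    {f : Module.End F (Fin n → F)} (hfB : IsIsom (HermBridge.hermSesq hF n) f)
    (hdet : LinearMap.det f = 1) (z : F) (hf2 : f ^ 2 = z • 1) :
    ∃ W : Submodule F (Fin n → F), finrank F W = m ∧ TI (HermBridge.hermSesq hF n) W ∧
      Elus.Inv f W := by
  classical
  have hS := HermBridge.hermSesq_isSymm hF n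
  have hB := HermBridge.hermSesq_nondegenerate hF n
  have hfin : finrank F (Fin n → F) = n := Module.finrank_fin_fun F
  by_cases hlt : 2 * m < n
  · exact ti_suff_two hF (HermBridge.hermSesq hF n) hp2 hS hB hfB z hf2 n m hfin hlt
  · have hv : padicValNat 2 (q + 1) ≤ padicValNat 2 n := by
      rcases h with h | h
      · exact absurd h hlt
      · exact h
    have hpodd : Odd p := hp.out.odd_of_ne_two hp2
    obtain ⟨k, hk⟩ := q_eq_pow hF (p := p)
    have hq : Odd q := by
      rw [hk]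
      exact hpodd.pow
    obtain ⟨W, hWfin, hWti, hWi⟩ := ti_suff_two_half hF hq hn ⟨m, by omega⟩ hv hfB hdet z hf2
    exact ⟨W, by omega, hWti, hWi⟩

include hF in
/-- necessity for `r = 2` -/
theorem nec_two {p : ℕ} [hp : Fact p.Prime] [CharP F p] (hp2 : p ≠ 2) (n m : ℕ) (hn : 2 ≤ n)
    (hmn : 2 * m ≤ n) (H : TiProp hF n m 2) :
    2 * m < n ∨ padicValNat 2 (q + 1) ≤ padicValNat 2 n := by
  by_contra hcon
  push_neg at hcon
  obtain ⟨h1, h2⟩ := hcon
  have hpodd : Odd p := hp.out.odd_of_ne_two hp2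
  obtain ⟨k, hk⟩ := q_eq_pow hF (p := p)
  have hq : Odd q := by
    rw [hk]
    exact hpodd.pow
  obtain ⟨f, hfB, hdet, hf2, hns, hbound⟩ := exists_diag_elt_two hF hq n hn h2
  obtain ⟨W, hWfin, hWti, hWi⟩ := H f hfB hdet hf2 hns
  have := hbound W hWi hWti
  omega

include hF in
/-- necessity for odd `r` -/
theorem nec_odd {p : ℕ} [hp : Fact p.Prime] [CharP F p] (n m : ℕ) (hn : 0 < n) (hm : 1 ≤ m)
    (hmn : 2 * m ≤ n) (r : ℕ) [hr : Fact r.Prime] (h2r : 2 < r) (hrp : r ≠ p)
    (hrΩ : r ∣ Nat.card {W : Submodule F (Fin n → F) // finrank F W = m ∧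
      ∀ u ∈ W, ∀ v ∈ W, hermForm n F q u v = 0})
    (i b c : ℕ)
    (hi : i = orderOf (q : ZMod r)) (hb : b = if Even i then i / 2 else i)
    (hc : c = if i % 4 = 0 then i else if i % 4 = 2 then i / 2 else 2 * i)
    (H : TiProp hF n m r) :
    b ≤ m ∧ 2 * (m % b) ≤ n % c ∧
      (i % 4 ≠ 2 ∨ (i % 4 = 2 ∧ (r - 1) / b + 2 * (m / b) ≤ n / b ∧
        (2 < i ∨ (i = 2 ∧ (r ∣ m ∨ padicValNat r n ≤ padicValNat r (q + 1)))))) := by
  classical
  have hS := HermBridge.hermSesq_isSymm hF n
  have hB := HermBridge.hermSesq_nondegenerate hF n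
  have hr2 : r ≠ 2 := by omega
  have hrq := not_dvd_q hF r hrp
  have hrF := cast_ne_zero' (F := F) r hrp
  have hq2 := two_le_q' hF
  have hfin : finrank F (Fin n → F) = n := Module.finrank_fin_fun F
  haveI : Nontrivial (Fin n → F) := Module.nontrivial_of_finrank_pos (R := F) (by omega)
  have hi0 : 0 < i := by
    rw [hi]
    exact Elus.ord_pos r q hrq
  obtain ⟨hbc1, hbc2, hb0⟩ := bc_facts i b c hi0 hb hc
  have hb' : b = orderOf ((Fintype.card F : ℕ) : ZMod r) := by
    rw [hF]
    exact (ord_sq r q hrq i b hi hb).symm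
  have hc' : c = orderOf (-(q : ZMod r)) := (ord_neg r hr2 q hrq i c hi hc).symm
  have htype : (c = b ∧ ∃ e, r ∣ q ^ (2 * e + 1) + 1) ∨ c = 2 * b := by
    by_cases h42 : i % 4 = 2
    · exact Or.inl ⟨hbc1 h42, sd_type r q hrq i hi h42⟩
    · exact Or.inr (hbc2 h42)
  by_cases hrq1 : r ∣ q + 1
  · have hi2 : i = 2 := by
      rw [hi]
      exact (ord_two_iff r hr2 q).mpr hrq1
    have hb1 : b = 1 := by
      have := hbc1 (by omega)
      rw [hi2] at hc
      simp at hc
      omega
    have hc1 : c = 1 := by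
      rw [hi2] at hc
      simpa using hc
    refine ⟨by omega, ?_, Or.inr ⟨by omega, ?_, Or.inr ⟨hi2, ?_⟩⟩⟩
    · rw [hb1, hc1, Nat.mod_one, Nat.mod_one]
    · rw [hb1, Nat.div_one, Nat.div_one, Nat.div_one]
      by_contra hcon
      obtain ⟨f, hfB, hdet, hfr, hns, hbound⟩ := exists_diag_elt_odd hF r hr2 hrq1 n m hm hmn
        (by omega)
      obtain ⟨W, hWfin, hWti, hWi⟩ := H f hfB hdet ⟨1, by rw [hfr, one_smul]⟩ hns
      have := hbound W hWi hWti
      omega
    · by_contra hcon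
      push_neg at hcon
      obtain ⟨hrm, hv⟩ := hcon
      obtain ⟨f, hfB, hdet, hfr, hns, hdvd⟩ := exists_caseB_elt hF r hr2 hrq1 n hn hv
      obtain ⟨W, hWfin, hWti, hWi⟩ := H f hfB hdet hfr hns
      have := hdvd W hWi
      rw [hWfin] at this
      exact hrm this
  · have hcop : Nat.Coprime r (q + 1) := (Nat.Prime.coprime_iff_not_dvd hr.out).mpr hrq1
    have hone : ∀ d : F, d * d ^ q = 1 → d ^ r = 1 → d = 1 := by
      intro d h1 h2
      have h3 : d ^ (q + 1) = 1 := by
        rw [pow_succ']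
        exact h1
      have := pow_gcd_eq_one.mpr ⟨h2, h3⟩
      rw [Nat.Coprime.gcd_eq_one hcop, pow_one] at this
      exact this
    have H' : ∀ y : Module.End F (Fin n → F), IsIsom (HermBridge.hermSesq hF n) y → y ^ r = 1 →
        y ≠ 1 → ∃ W : Submodule F (Fin n → F), finrank F W = m ∧
          TI (HermBridge.hermSesq hF n) W ∧ Elus.Inv y W := by
      intro y hyB hy hy1
      apply H y hyB ?_ ⟨1, by rw [hy, one_smul]⟩ ?_
      · apply hone _ (det_norm_one hF hyB)
        rw [← map_pow, hy, map_one]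
      · intro z hz
        have h1 : z * z ^ q = 1 :=
          scalar_norm_one hF (HermBridge.hermSesq hF n) hB hyB 1 z (by rw [pow_one, hz])
        have h2 : z ^ r = 1 := by
          have h3 : (z ^ r) • (1 : Module.End F (Fin n → F)) = (1 : F) • 1 := by
            rw [one_smul]
            calc (z ^ r) • (1 : Module.End F (Fin n → F)) = (z • 1) ^ r := by
                  rw [_root_.smul_pow, one_pow]
              _ = 1 := by rw [← hz, hy]
          exact Elus.smul_one_inj hn h3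
        apply hy1
        rw [hz, hone z h1 h2, one_smul]
    obtain ⟨t, ht1, ht2, htn, ht⟩ := exists_of_dvd_card_ti hF n m hmn r hrΩ
    have hct : c ∣ t := by
      rw [hc']
      exact orderOf_dvd_of_pow_eq_one ht
    obtain ⟨y₀, hy₀B, hy₀, hy₀1⟩ := exists_order_r hF n r t ht1 htn ht
    obtain ⟨hbm, hmod⟩ := ti_nec_basic hF (HermBridge.hermSesq hF n) hS hB r hrp hrF hrq b c hb' hc'
      htype n m hfin hm hmn t ht2 htn hct hy₀B hy₀ hy₀1 H'
    refine ⟨hbm, hmod, ?_⟩
    by_cases h42 : i % 4 = 2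
    · right
      refine ⟨h42, ?_, Or.inl ?_⟩
      · exact ti_nec_sd hF (HermBridge.hermSesq hF n) hS hB r hrp hrF hrq b c hb' hc' (hbc1 h42)
          (sd_type r q hrq i hi h42) n m hfin hbm hmn hy₀B hy₀ hy₀1 H'
      · have hne : i ≠ 2 := by
          intro h
          apply hrq1
          rw [← ord_two_iff r hr2 q, ← hi]
          exact h
        omega
    · left
      exact h42

include hF in
/-- the main theorem for isometries of determinant one -/
theorem ti_main {p : ℕ} [hp : Fact p.Prime] [CharP F p] (n m : ℕ) (hn : 3 ≤ n) (hm : 1 ≤ m)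
    (hmn : 2 * m ≤ n) (r : ℕ) [hr : Fact r.Prime]
    (hrΩ : r ∣ Nat.card {W : Submodule F (Fin n → F) // finrank F W = m ∧
      ∀ u ∈ W, ∀ v ∈ W, hermForm n F q u v = 0})
    (i b c : ℕ)
    (hi : i = orderOf (q : ZMod r)) (hb : b = if Even i then i / 2 else i)
    (hc : c = if i % 4 = 0 then i else if i % 4 = 2 then i / 2 else 2 * i) :
    TiProp hF n m r ↔
      ((r = 2 ∧ p ≠ 2 ∧ (2 * m < n ∨ padicValNat 2 (q + 1) ≤ padicValNat 2 n)) ∨
       (r ≠ p ∧ 2 < r ∧ b ≤ m ∧ 2 * (m % b) ≤ n % c ∧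
         (i % 4 ≠ 2 ∨ (i % 4 = 2 ∧ (r - 1) / b + 2 * (m / b) ≤ n / b ∧
           (2 < i ∨ (i = 2 ∧ (r ∣ m ∨ padicValNat r n ≤ padicValNat r (q + 1)))))))) := by
  have hrp : r ≠ p := by
    intro h
    have h1 := char_not_dvd_card_ti hF n (p := p) m hmn
    rw [← h] at h1
    exact h1 hrΩ
  constructor
  · intro H
    by_cases hr2 : r = 2
    · left
      have hp2 : p ≠ 2 := by
        intro h
        exact hrp (by rw [hr2, h])
      refine ⟨hr2, hp2, ?_⟩
      have H2 : TiProp hF n m 2 := by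
        rw [← hr2]
        exact H
      exact nec_two hF hp2 n m (by omega) hmn H2
    · right
      have h2r : 2 < r := by
        have := hr.out.two_le
        omega
      exact ⟨hrp, h2r, nec_odd hF n m (by omega) hm hmn r h2r hrp hrΩ i b c hi hb hc H⟩
  · rintro (⟨hr2, hp2, h⟩ | ⟨-, h2r, hbm, hmod, hlast⟩)
    · intro f hfB hdet ⟨z, hz⟩ hns
      rw [hr2] at hz
      exact suff_two hF hp2 n m (by omega) hmn h hfB hdet z hz
    · intro f hfB hdet ⟨z, hz⟩ hns
      exact suff_odd hF n m (by omega) hmn r h2r hrp i b c hi hb hc hmod hlast hfB hdet z hz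

end Main

end Cfsg.Agent.Lib.Helper2.Uti
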