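import Mathlib
import Cfsg.Agent.Lib.Helper2.UtiO
set_option autoImplicit false
set_option maxHeartbeats 1000000
set_option linter.unusedVariables false
set_option linter.unusedSectionVars false
set_option linter.style.longLine false
set_option linter.unusedSimpArgs false
set_option linter.deprecated false
set_option linter.style.haveILetI false

/-! Nondegenerate subspaces of unitary spaces fixed by isometries (part A): stacking of
nondegenerate invariant atoms and the semisimple case. -/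

namespace Cfsg.Agent.Lib.Helper2.Und

open Module Polynomial Cfsg Cfsg.Agent.Lib.Helper2 Cfsg.Agent.Lib.Helper5
open Cfsg.Agent.Lib.Helper2.Uti

universe u v

section Stack

variable {F : Type u} [Field F] {σ : F →+* F} {V : Type v} [AddCommGroup V] [Module F V]
variable [FiniteDimensional F V]
variable (B : V →ₛₗ[σ] V →ₗ[F] F)

/-- orthogonal nondegenerate subspaces are disjoint and their dimensions add -/
theorem finrank_sup_orth (hS : B.IsSymm) {X Y : Submodule F V} (hX : ND B X)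
    (hXY : Orth B X Y) : finrank F (X ⊔ Y : Submodule F V) = finrank F X + finrank F Y := by
  apply Elus.finrank_sup_of_disjoint
  rw [Submodule.disjoint_def]
  intro x hx1 hx2
  apply (nd_iff B hS).mp hX x hx1
  intro v hv
  exact swap_zero B hS (hXY v hv x hx2)

/-- stacking nondegenerate invariant atoms of dimension `a` -/
theorem nd_stack (hσ2 : ∀ a, σ (σ a) = a) (hS : B.IsSymm) (hB : B.Nondegenerate)
    {y : Module.End F V} (hperp : ∀ W : Submodule F V, Elus.Inv y W → Elus.Inv y (perp B W))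
    (a : ℕ) (ha : 0 < a) {M : Submodule F V} (hM : ND B M) (hMi : Elus.Inv y M)
    (hatom : ∀ N : Submodule F V, N ≤ M → ND B N → Elus.Inv y N → N ≠ ⊥ →
      ∃ U : Submodule F V, U ≤ N ∧ ND B U ∧ Elus.Inv y U ∧ finrank F U = a) :
    ∀ k : ℕ, a * k ≤ finrank F M →
      ∃ W : Submodule F V, W ≤ M ∧ ND B W ∧ Elus.Inv y W ∧ finrank F W = a * k := by
  intro k
  induction k with
  | zero =>
    intro _
    exact ⟨⊥, bot_le, nd_bot B, Elus.inv_bot y, by rw [finrank_bot, mul_zero]⟩
  | succ k ih =>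
    intro hk
    obtain ⟨W, hWM, hWnd, hWi, hWfin⟩ := ih (by rw [Nat.mul_succ] at hk; omega)
    have hNnd : ND B (M ⊓ perp B W) := nd_perp_in B hσ2 hS hB hM hWnd hWM
    have hNfin := finrank_perp_in B hσ2 hB hM hWM
    have hNi : Elus.Inv y (M ⊓ perp B W) := by
      intro x hx
      exact ⟨hMi x hx.1, hperp W hWi x hx.2⟩
    have hN0 : M ⊓ perp B W ≠ ⊥ := by
      intro h
      rw [h, finrank_bot, hWfin] at hNfin
      rw [Nat.mul_succ] at hk
      omega
    obtain ⟨U, hUN, hUnd, hUi, hUfin⟩ := hatom _ inf_le_left hNnd hNi hN0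
    have horth : Orth B W U := (orth_iff_le_perp B).mpr (hUN.trans inf_le_right)
    refine ⟨W ⊔ U, sup_le hWM (hUN.trans inf_le_left), nd_sup B hS hWnd hUnd horth,
      hWi.sup hUi, ?_⟩
    rw [finrank_sup_orth B hS hWnd horth, hWfin, hUfin, Nat.mul_succ]

end Stack

section Semisimple

variable {F : Type u} [Field F] [Fintype F] {q : ℕ} (hF : Fintype.card F = q ^ 2)
variable {V : Type v} [AddCommGroup V] [Module F V] [FiniteDimensional F V]
variable (B : V →ₛₗ[HermBridge.sigma hF] V →ₗ[F] F)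

include hF in
/-- sufficiency in the semisimple case: an isometry of prime order `r ≠ p` fixes a
nondegenerate `m`-space when `m mod c ≤ n mod c` -/
theorem nd_suff {p : ℕ} [hp : Fact p.Prime] [CharP F p] (hS : B.IsSymm) (hB : B.Nondegenerate)
    (r : ℕ) [hr : Fact r.Prime] (hrp : r ≠ p) (hrF : (r : F) ≠ 0) (hrq : ¬ r ∣ q) (b c : ℕ)
    (hb : b = orderOf ((Fintype.card F : ℕ) : ZMod r)) (hc : c = orderOf (-(q : ZMod r)))
    (htype : (c = b ∧ ∃ e, r ∣ q ^ (2 * e + 1) + 1) ∨ c = 2 * b) (hc0 : 0 < c) (n m : ℕ)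
    (hn : finrank F V = n) (hmn : m ≤ n) (hmod : m % c ≤ n % c) {y : Module.End F V}
    (hyB : IsIsom B y) (hy : y ^ r = 1) :
    ∃ W : Submodule F V, finrank F W = m ∧ ND B W ∧ Elus.Inv y W := by
  classical
  have hσ2 := HermBridge.sigma_sigma hF
  have hrpos : 0 < r := hr.out.pos
  have hperp : ∀ W : Submodule F V, Elus.Inv y W → Elus.Inv y (perp B W) :=
    fun W hW => inv_perp B hyB hrpos hy hW
  have htopi : Elus.Inv y (⊤ : Submodule F V) := fun x _ => Submodule.mem_top
  have hCnd := nd_fix B hS hyB hrF hy (nd_top B hB) htopi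
  obtain ⟨M, -, hMnd, hMi, hMC, hMfin, horth, hdisj⟩ :=
    moving_part B hσ2 hS hB hyB hrpos hrF hy (nd_top B hB) htopi
  have hmodc := herm_mod hF B hS hB hyB r hrF hrq hy (nd_top B hB) htopi
  rw [← hc, ← hMfin] at hmodc
  rw [finrank_top, hn] at hMfin
  obtain ⟨C, hCdef⟩ : ∃ C : Submodule F V, C = ⊤ ⊓ LinearMap.ker (y - 1) := ⟨_, rfl⟩
  rw [← hCdef] at hCnd hMfin horth hdisj
  have hCle : C ≤ LinearMap.ker (y - 1) := by
    rw [hCdef]
    exact inf_le_right
  have hCn : finrank F C ≤ n := by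
    rw [← hn]
    exact Submodule.finrank_le C
  obtain ⟨l, hl⟩ := hmodc
  -- atoms in the moving part
  have hatom : ∀ N : Submodule F V, N ≤ M → ND B N → Elus.Inv y N → N ≠ ⊥ →
      ∃ U : Submodule F V, U ≤ N ∧ ND B U ∧ Elus.Inv y U ∧ finrank F U = c := by
    intro N hNM hNnd hNi hN0
    have hNC : N ⊓ LinearMap.ker (y - 1) = ⊥ := by
      rw [eq_bot_iff, ← hMC]
      exact inf_le_inf_right _ hNM
    exact exists_nd_block hF B hS hB r hrp hrF hrq hyB hy b c hb hc htype hNnd hNi hNC hN0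
  have hstack := nd_stack B hσ2 hS hB hperp c hc0 hMnd hMi hatom
  -- arithmetic: choose the number of blocks
  obtain ⟨l', a, hl'l, hal', haC⟩ : ∃ l' a : ℕ, l' ≤ l ∧ a + c * l' = m ∧ a ≤ finrank F C := by
    have h1 := Nat.div_add_mod m c
    have h2 := Nat.div_add_mod n c
    by_cases hlm : m / c ≤ l
    · refine ⟨m / c, m % c, hlm, by omega, ?_⟩
      have h3 : n % c = finrank F C % c := by
        have h4 : n = finrank F C + c * l := by omega
        rw [h4, Nat.add_mul_mod_self_left]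
      have h5 := Nat.mod_le (finrank F C) c
      omega
    · refine ⟨l, m - c * l, le_refl _, ?_, ?_⟩
      · have h3 : c * l ≤ c * (m / c) := Nat.mul_le_mul_left c (by omega)
        omega
      · omega
  obtain ⟨WM, hWMle, hWMnd, hWMi, hWMfin⟩ := hstack l' (by
    rw [hl]
    exact Nat.mul_le_mul_left c hl'l)
  obtain ⟨C', hC'le, hC'nd, hC'fin⟩ := exists_nd_sub hF B hS hCnd a haC
  have hC'i : Elus.Inv y C' := Elus.inv_of_le_ker (hC'le.trans hCle)
  have horth' : Orth B C' WM := fun u hu v hv => horth u (hC'le hu) v (hWMle hv)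
  refine ⟨C' ⊔ WM, ?_, nd_sup B hS hC'nd hWMnd horth', hC'i.sup hWMi⟩
  rw [finrank_sup_orth B hS hC'nd horth', hC'fin, hWMfin]
  exact hal'

include hF in
/-- necessity in the semisimple case -/
theorem nd_nec {p : ℕ} [hp : Fact p.Prime] [CharP F p] (hS : B.IsSymm) (hB : B.Nondegenerate)
    (r : ℕ) [hr : Fact r.Prime] (hrp : r ≠ p) (hrF : (r : F) ≠ 0) (hrq : ¬ r ∣ q) (b c : ℕ)
    (hb : b = orderOf ((Fintype.card F : ℕ) : ZMod r)) (hc : c = orderOf (-(q : ZMod r)))
    (htype : (c = b ∧ ∃ e, r ∣ q ^ (2 * e + 1) + 1) ∨ c = 2 * b) (hc0 : 0 < c) (n m : ℕ)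
    (hn : finrank F V = n) {y₀ : Module.End F V} (hy₀B : IsIsom B y₀) (hy₀ : y₀ ^ r = 1)
    (hy₀1 : y₀ ≠ 1)
    (H : ∀ y : Module.End F V, IsIsom B y → y ^ r = 1 → y ≠ 1 →
      ∃ W : Submodule F V, finrank F W = m ∧ ND B W ∧ Elus.Inv y W) :
    m % c ≤ n % c := by
  classical
  obtain ⟨hcn, hex⟩ := exists_iso_elt hF B hS hB r hrp hrF hrq b c hb hc htype hy₀B hy₀ hy₀1 n hn
  obtain ⟨y, hyB, hy, hyfin⟩ := hex (n / c) (Nat.mul_div_le n c)
  have h1 := Nat.div_add_mod n c
  have hl1 : 1 ≤ n / c := (Nat.one_le_div_iff hc0).mpr hcn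
  have hy1 : y ≠ 1 := by
    intro h
    rw [h, sub_self, LinearMap.ker_zero, finrank_top, hn] at hyfin
    have : c * (n / c) = 0 := by omega
    have h2 : 0 < c * (n / c) := Nat.mul_pos hc0 hl1
    omega
  obtain ⟨W, hWfin, hWnd, hWi⟩ := H y hyB hy hy1
  have hmodc := herm_mod hF B hS hB hyB r hrF hrq hy hWnd hWi
  rw [← hc, hWfin] at hmodc
  have h2 : finrank F (W ⊓ LinearMap.ker (y - 1) : Submodule F V) ≤
      finrank F (LinearMap.ker (y - 1)) := Submodule.finrank_mono inf_le_right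
  have h3 : finrank F (W ⊓ LinearMap.ker (y - 1) : Submodule F V) ≤ m := by
    rw [← hWfin]
    exact Submodule.finrank_mono inf_le_left
  obtain ⟨k, hk⟩ := hmodc
  have h4 : m = finrank F (W ⊓ LinearMap.ker (y - 1) : Submodule F V) + c * k := by omega
  have h5 : m % c = finrank F (W ⊓ LinearMap.ker (y - 1) : Submodule F V) % c := by
    rw [h4, Nat.add_mul_mod_self_left]
  have h6 := Nat.mod_le (finrank F (W ⊓ LinearMap.ker (y - 1) : Submodule F V)) c
  omega

end Semisimple

end Cfsg.Agent.Lib.Helper2.Und
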