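import Mathlib
import Cfsg.Agent.Lib.Helper2.UndA
set_option autoImplicit false
set_option maxHeartbeats 1000000
set_option linter.unusedVariables false
set_option linter.unusedSectionVars false
set_option linter.style.longLine false
set_option linter.unusedSimpArgs false
set_option linter.deprecated false
set_option linter.style.haveILetI false

/-! Nondegenerate subspaces of unitary spaces (part B): counting nondegenerate subspaces through
orthonormal frames. -/

namespace Cfsg.Agent.Lib.Helper2.Und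

open Module Polynomial Cfsg Cfsg.Agent.Lib.Helper2 Cfsg.Agent.Lib.Helper5
open Cfsg.Agent.Lib.Helper2.Uti

universe u v

section Frames

variable {F : Type u} [Field F] [Fintype F] {q : ℕ} (hF : Fintype.card F = q ^ 2)
variable {V : Type v} [AddCommGroup V] [Module F V] [FiniteDimensional F V]
variable (B : V →ₛₗ[HermBridge.sigma hF] V →ₗ[F] F)

/-- orthonormal frames inside `Z` -/
def IsOFrame (Z : Submodule F V) {k : ℕ} (s : Fin k → V) : Prop :=
  (∀ i, s i ∈ Z) ∧ ∀ i j, B (s i) (s j) = if i = j then 1 else 0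

omit [FiniteDimensional F V] in
theorem isOFrame_cons (hS : B.IsSymm) (Z : Submodule F V) {k : ℕ} (v : V) (s : Fin k → V) :
    IsOFrame hF B Z (Fin.cons v s : Fin (k + 1) → V) ↔
      IsOFrame hF B Z s ∧ (v ∈ Z ∧ (∀ i, B (s i) v = 0) ∧ B v v = 1) := by
  unfold IsOFrame
  constructor
  · rintro ⟨h1, h3⟩
    refine ⟨⟨fun i => ?_, fun i j => ?_⟩, ?_, fun i => ?_, ?_⟩
    · simpa using h1 i.succ
    · simpa using h3 i.succ j.succ
    · simpa using h1 0
    · have := h3 i.succ 0
      simpa [Fin.succ_ne_zero] using this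
    · simpa using h3 0 0
  · rintro ⟨⟨h1, h3⟩, h2, h4, h5⟩
    refine ⟨fun i => ?_, fun i j => ?_⟩
    · refine Fin.cases ?_ (fun a => ?_) i
      · simpa using h2
      · simpa using h1 a
    · refine Fin.cases ?_ (fun a => ?_) i <;> refine Fin.cases ?_ (fun b => ?_) j
      · simp only [Fin.cons_zero, if_true]
        exact h5
      · simp only [Fin.cons_zero, Fin.cons_succ]
        rw [if_neg (Fin.succ_ne_zero b).symm]
        exact swap_zero B hS (h4 b)
      · simp only [Fin.cons_zero, Fin.cons_succ]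
        rw [if_neg (Fin.succ_ne_zero a)]
        exact h4 a
      · simp only [Fin.cons_succ]
        rw [h3 a b]
        simp [Fin.succ_inj]

/-- peeling off the first vector of an orthonormal frame -/
def oframeEquiv (hS : B.IsSymm) (Z : Submodule F V) (k : ℕ) :
    {s : Fin (k + 1) → V // IsOFrame hF B Z s} ≃
      Σ s : {s : Fin k → V // IsOFrame hF B Z s},
        {v : V // v ∈ Z ∧ (∀ i, B (s.1 i) v = 0) ∧ B v v = 1} where
  toFun s := ⟨⟨Fin.tail s.1, by
      have := s.2
      rw [← Fin.cons_self_tail s.1, isOFrame_cons hF B hS] at this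
      exact this.1⟩, ⟨s.1 0, by
      have := s.2
      rw [← Fin.cons_self_tail s.1, isOFrame_cons hF B hS] at this
      exact this.2⟩⟩
  invFun p := ⟨Fin.cons p.2.1 p.1.1, (isOFrame_cons hF B hS Z _ _).mpr ⟨p.1.2, p.2.2⟩⟩
  left_inv s := by
    apply Subtype.ext
    simp
  right_inv p := by
    obtain ⟨⟨s, hs⟩, ⟨v, hv⟩⟩ := p
    refine Sigma.ext (Subtype.ext ?_) ?_
    · simp
    · apply (Subtype.heq_iff_coe_eq ?_).mpr
      · simp
      · intro x
        simp

omit [FiniteDimensional F V] in
theorem mem_perp_span {k : ℕ} (s : Fin k → V) (v : V) :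
    v ∈ perp B (Submodule.span F (Set.range s)) ↔ ∀ i, B (s i) v = 0 := by
  rw [mem_perp]
  constructor
  · intro h i
    exact h (s i) (Submodule.subset_span ⟨i, rfl⟩)
  · intro h w hw
    induction hw using Submodule.span_induction with
    | mem x hx =>
      obtain ⟨i, rfl⟩ := hx
      exact h i
    | zero => rw [map_zero, LinearMap.zero_apply]
    | add x y _ _ hx hy => rw [map_add, LinearMap.add_apply, hx, hy, add_zero]
    | smul a x _ hx => rw [map_smulₛₗ, LinearMap.smul_apply, hx, smul_zero]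

include hF in
theorem card_ofiber (hS : B.IsSymm) (hB : B.Nondegenerate) {Z : Submodule F V} (hZ : ND B Z)
    {k : ℕ} (s : Fin k → V) (hs : IsOFrame hF B Z s) :
    Nat.card {v : V // v ∈ Z ∧ (∀ i, B (s i) v = 0) ∧ B v v = 1} =
      HermCount.A F q (finrank F Z - k) 1 := by
  classical
  have hσ2 := HermBridge.sigma_sigma hF
  obtain ⟨hUnd, hUfin⟩ := nd_span_orthonormal B hσ2 hS s hs.2
  have hUZ : Submodule.span F (Set.range s) ≤ Z := by
    apply Submodule.span_le.mpr
    rintro _ ⟨i, rfl⟩
    exact hs.1 i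
  have hNnd := nd_perp_in B hσ2 hS hB hZ hUnd hUZ
  have hNfin := finrank_perp_in B hσ2 hB hZ hUZ
  rw [hUfin] at hNfin
  rw [← hNfin, ← card_norm_one_nd hF B hS hNnd]
  apply Nat.card_congr
  refine ⟨fun v => ⟨⟨v.1, ⟨v.2.1, (mem_perp_span hF B s v.1).mpr v.2.2.1⟩⟩, v.2.2.2⟩,
    fun w => ⟨w.1.1, w.1.2.1, (mem_perp_span hF B s w.1.1).mp w.1.2.2, w.2⟩, ?_, ?_⟩
  · intro v
    rfl
  · intro w
    rfl

include hF in
/-- the number of orthonormal `k`-frames in a nondegenerate subspace -/
theorem card_oframe (hS : B.IsSymm) (hB : B.Nondegenerate) {Z : Submodule F V} (hZ : ND B Z)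
    (k : ℕ) :
    Nat.card {s : Fin k → V // IsOFrame hF B Z s} =
      ∏ j ∈ Finset.range k, HermCount.A F q (finrank F Z - j) 1 := by
  classical
  haveI : Finite V := Module.finite_of_finite F
  induction k with
  | zero =>
    rw [Finset.range_zero, Finset.prod_empty]
    have : Unique {s : Fin 0 → V // IsOFrame hF B Z s} :=
      { default := ⟨fun i => i.elim0, fun i => i.elim0, fun i => i.elim0⟩
        uniq := fun s => Subtype.ext (funext fun i => i.elim0) }
    exact Nat.card_unique
  | succ k ih =>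
    have : Fintype {s : Fin k → V // IsOFrame hF B Z s} := Fintype.ofFinite _
    rw [Nat.card_congr (oframeEquiv hF B hS Z k), Nat.card_sigma]
    have : ∀ s : {s : Fin k → V // IsOFrame hF B Z s},
        Nat.card {v : V // v ∈ Z ∧ (∀ i, B (s.1 i) v = 0) ∧ B v v = 1} =
          HermCount.A F q (finrank F Z - k) 1 := fun s => card_ofiber hF B hS hB hZ s.1 s.2
    simp only [this]
    rw [Finset.sum_const, Finset.card_univ, smul_eq_mul, Finset.prod_range_succ, ← ih,
      Nat.card_eq_fintype_card]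

/-- frames in `V` are frames in their span -/
def spanEquiv (hS : B.IsSymm) (m : ℕ) :
    {s : Fin m → V // IsOFrame hF B ⊤ s} ≃
      Σ W : {W : Submodule F V // finrank F W = m ∧ ND B W},
        {s : Fin m → V // IsOFrame hF B W.1 s} where
  toFun s := ⟨⟨Submodule.span F (Set.range s.1),
      (nd_span_orthonormal B (HermBridge.sigma_sigma hF) hS s.1 s.2.2).2,
      (nd_span_orthonormal B (HermBridge.sigma_sigma hF) hS s.1 s.2.2).1⟩,
    ⟨s.1, fun i => Submodule.subset_span ⟨i, rfl⟩, s.2.2⟩⟩
  invFun p := ⟨p.2.1, fun i => Submodule.mem_top, p.2.2.2⟩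
  left_inv s := rfl
  right_inv p := by
    obtain ⟨⟨W, hWfin, hWnd⟩, ⟨s, hs1, hs2⟩⟩ := p
    have hle : Submodule.span F (Set.range s) ≤ W := by
      apply Submodule.span_le.mpr
      rintro _ ⟨i, rfl⟩
      exact hs1 i
    have hfin := (nd_span_orthonormal B (HermBridge.sigma_sigma hF) hS s hs2).2
    have heq : Submodule.span F (Set.range s) = W :=
      Submodule.eq_of_le_of_finrank_eq hle (by rw [hfin, hWfin])
    subst heq
    rfl

include hF in
/-- the number of nondegenerate `m`-subspaces -/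
theorem card_nd_mul (hS : B.IsSymm) (hB : B.Nondegenerate) (m : ℕ) :
    Nat.card {W : Submodule F V // finrank F W = m ∧ ND B W} *
        ∏ j ∈ Finset.range m, HermCount.A F q (m - j) 1 =
      ∏ j ∈ Finset.range m, HermCount.A F q (finrank F V - j) 1 := by
  classical
  haveI : Finite V := Module.finite_of_finite F
  haveI : Finite (Submodule F V) := Imp.finite_submodule
  have h1 := card_oframe hF B hS hB (nd_top B hB) m
  rw [finrank_top] at h1
  rw [← h1, Nat.card_congr (spanEquiv hF B hS m)]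
  have : Fintype {W : Submodule F V // finrank F W = m ∧ ND B W} := Fintype.ofFinite _
  rw [Nat.card_sigma]
  have h2 : ∀ W : {W : Submodule F V // finrank F W = m ∧ ND B W},
      Nat.card {s : Fin m → V // IsOFrame hF B W.1 s} =
        ∏ j ∈ Finset.range m, HermCount.A F q (m - j) 1 := by
    intro W
    rw [card_oframe hF B hS hB W.2.2 m, W.2.1]
  simp only [h2]
  rw [Finset.sum_const, Finset.card_univ, smul_eq_mul, Nat.card_eq_fintype_card]

end Frames

section Concrete

variable {F : Type u} [Field F] [Fintype F] {q : ℕ} (hF : Fintype.card F = q ^ 2) (n : ℕ)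

include hF in
/-- a prime divisor (different from the characteristic) of the number of nondegenerate
`m`-spaces -/
theorem exists_of_dvd_card_nd (m : ℕ) (hmn : m ≤ n) (r : ℕ) [hr : Fact r.Prime] (hrq : ¬ r ∣ q)
    (h : r ∣ Nat.card {W : Submodule F (Fin n → F) // finrank F W = m ∧
        ∀ u ∈ W, u ≠ 0 → ∃ v ∈ W, hermForm n F q u v ≠ 0}) :
    ∃ t : ℕ, n < t + m ∧ t ≤ n ∧ 1 ≤ t ∧ (-(q : ZMod r)) ^ t = 1 := by
  classical
  have hS := HermBridge.hermSesq_isSymm hF n
  have hB := HermBridge.hermSesq_nondegenerate hF n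
  have hcongr : Nat.card {W : Submodule F (Fin n → F) // finrank F W = m ∧
        ∀ u ∈ W, u ≠ 0 → ∃ v ∈ W, hermForm n F q u v ≠ 0} =
      Nat.card {W : Submodule F (Fin n → F) // finrank F W = m ∧
        ND (HermBridge.hermSesq hF n) W} := by
    apply Nat.card_congr
    apply Equiv.subtypeEquivRight
    intro W
    rw [nd_iff' (HermBridge.hermSesq hF n) hS]
    constructor
    · rintro ⟨h1, h2⟩
      refine ⟨h1, fun u hu hu0 => ?_⟩
      obtain ⟨v, hv, hne⟩ := h2 u hu hu0
      refine ⟨v, hv, ?_⟩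
      intro h0
      apply hne
      have := swap_zero (HermBridge.hermSesq hF n) hS h0
      rw [HermBridge.hermSesq_apply] at this
      exact this
    · rintro ⟨h1, h2⟩
      refine ⟨h1, fun u hu hu0 => ?_⟩
      obtain ⟨v, hv, hne⟩ := h2 u hu hu0
      refine ⟨v, hv, ?_⟩
      intro h0
      apply hne
      apply swap_zero (HermBridge.hermSesq hF n) hS
      rw [HermBridge.hermSesq_apply]
      exact h0
  rw [hcongr] at h
  have h1 : r ∣ ∏ j ∈ Finset.range m, HermCount.A F q (n - j) 1 := by
    have := card_nd_mul hF (HermBridge.hermSesq hF n) hS hB m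
    rw [Module.finrank_fin_fun] at this
    rw [← this]
    exact dvd_mul_of_dvd_left h _
  obtain ⟨j, hj, hdvd⟩ := (Nat.Prime.prime hr.out).exists_mem_finset_dvd h1
  have hj' := Finset.mem_range.mp hj
  have hAint := HermCount.A_one_int hF (n - j)
  have hz : ((q : ℤ) * (HermCount.A F q (n - j) 1 : ℤ) : ZMod r) = 0 := by
    have h3 := (ZMod.natCast_eq_zero_iff _ _).mpr hdvd
    push_cast
    rw [h3, mul_zero]
  have h4 : (((q : ℤ) ^ (2 * (n - j)) - (-(q : ℤ)) ^ (n - j) : ℤ) : ZMod r) = 0 := by
    rw [← hAint]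
    exact_mod_cast hz
  push_cast at h4
  have hq0 : (q : ZMod r) ≠ 0 := by
    intro h0
    exact hrq ((ZMod.natCast_eq_zero_iff _ _).mp h0)
  have h5 : (-(q : ZMod r)) ^ (n - j) * ((-(q : ZMod r)) ^ (n - j) - 1) = 0 := by
    have h6 : (q : ZMod r) ^ (2 * (n - j)) = (-(q : ZMod r)) ^ (n - j) * (-(q : ZMod r)) ^ (n - j) := by
      rw [← pow_add, ← two_mul, pow_mul, pow_mul, neg_sq]
    rw [h6] at h4
    linear_combination h4
  have h7 : (-(q : ZMod r)) ^ (n - j) = 1 := by
    rcases mul_eq_zero.mp h5 with h8 | h8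
    · exact absurd (pow_eq_zero_iff (by omega : n - j ≠ 0) |>.mp h8) (neg_ne_zero.mpr hq0)
    · exact sub_eq_zero.mp h8
  have ht1 : 1 ≤ n - j := by omega
  exact ⟨n - j, by omega, by omega, ht1, h7⟩

end Concrete

end Cfsg.Agent.Lib.Helper2.Und
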