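import Mathlib
import Cfsg.Agent.Lib.Helper2.UndB
set_option autoImplicit false
set_option maxHeartbeats 1000000
set_option linter.unusedVariables false
set_option linter.unusedSectionVars false
set_option linter.style.longLine false
set_option linter.unusedSimpArgs false
set_option linter.deprecated false
set_option linter.style.haveILetI false

/-! Nondegenerate subspaces of unitary spaces (part C): hyperbolic planes, determinants of
operators with two eigenspaces, the case B of scalar `r`-th power, and isometries with scalar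
square. -/

namespace Cfsg.Agent.Lib.Helper2.Und

open Module Polynomial Cfsg Cfsg.Agent.Lib.Helper2 Cfsg.Agent.Lib.Helper5
open Cfsg.Agent.Lib.Helper2.Uti

universe u v

section Gen

variable {F : Type u} [Field F] {σ : F →+* F} {V : Type v} [AddCommGroup V] [Module F V]
variable [FiniteDimensional F V]
variable (B : V →ₛₗ[σ] V →ₗ[F] F)

omit [FiniteDimensional F V] in
/-- the plane spanned by a hyperbolic pair is nondegenerate of dimension two -/
theorem nd_plane (hS : B.IsSymm) {u v : V} (huu : B u u = 0) (hvv : B v v = 0)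
    (huv : B u v ≠ 0) :
    ND B (Submodule.span F {u, v}) ∧ finrank F (Submodule.span F ({u, v} : Set V)) = 2 := by
  have hvu : B v u ≠ 0 := fun h => huv (swap_zero B hS h)
  constructor
  · rw [nd_iff B hS]
    intro w hw hw2
    obtain ⟨a, b, rfl⟩ := Submodule.mem_span_pair.mp hw
    have h1 := hw2 u (Submodule.subset_span (by simp))
    have h2 := hw2 v (Submodule.subset_span (by simp))
    rw [map_add, map_smulₛₗ, map_smulₛₗ, LinearMap.add_apply, LinearMap.smul_apply,
      LinearMap.smul_apply, huu, smul_zero, zero_add, smul_eq_mul] at h1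
    rw [map_add, map_smulₛₗ, map_smulₛₗ, LinearMap.add_apply, LinearMap.smul_apply,
      LinearMap.smul_apply, hvv, smul_zero, add_zero, smul_eq_mul] at h2
    have hb : σ b = 0 := by
      rcases mul_eq_zero.mp h1 with h | h
      · exact h
      · exact absurd h hvu
    have ha : σ a = 0 := by
      rcases mul_eq_zero.mp h2 with h | h
      · exact h
      · exact absurd h huv
    have ha0 : a = 0 := (map_eq_zero σ).mp ha
    have hb0 : b = 0 := (map_eq_zero σ).mp hb
    rw [ha0, hb0, zero_smul, zero_smul, add_zero]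
  · have hli : LinearIndependent F ![u, v] := by
      rw [LinearIndependent.pair_iff]
      intro a b hab
      have h1 : B u (a • u + b • v) = 0 := by rw [hab, map_zero]
      have h2 : B v (a • u + b • v) = 0 := by rw [hab, map_zero]
      rw [map_add, map_smul, map_smul, huu, smul_zero, zero_add, smul_eq_mul] at h1
      rw [map_add, map_smul, map_smul, hvv, smul_zero, add_zero, smul_eq_mul] at h2
      constructor
      · rcases mul_eq_zero.mp h2 with h | h
        · exact h
        · exact absurd h hvu
      · rcases mul_eq_zero.mp h1 with h | h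
        · exact h
        · exact absurd h huv
    have h3 := finrank_span_eq_card hli
    rw [Fintype.card_fin] at h3
    have h4 : Set.range ![u, v] = ({u, v} : Set V) := by
      ext x
      simp only [Matrix.range_cons, Matrix.range_empty, Set.union_empty, Set.union_singleton,
        Set.mem_insert_iff, Set.mem_singleton_iff]
      tauto
    rw [h4] at h3
    exact h3

/-- the determinant of an operator with two complementary eigenspaces -/
theorem det_eigen_compl (x : Module.End F V) {U W : Submodule F V} (hc : IsCompl U W) (a b : F)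
    (hU : ∀ u ∈ U, x u = a • u) (hW : ∀ w ∈ W, x w = b • w) :
    LinearMap.det x = a ^ finrank F U * b ^ finrank F W := by
  classical
  obtain ⟨Bc, hBc⟩ : ∃ Bc : Basis (Fin (finrank F U) ⊕ Fin (finrank F W)) F V,
      Bc = ((finBasis F U).prod (finBasis F W)).map (Submodule.prodEquivOfIsCompl U W hc) :=
    ⟨_, rfl⟩
  have hl : ∀ j, Bc (Sum.inl j) ∈ U := by
    intro j
    rw [hBc]
    simp
  have hr : ∀ j, Bc (Sum.inr j) ∈ W := by
    intro j
    rw [hBc]
    simp
  have hmat : LinearMap.toMatrix Bc Bc x =
      Matrix.diagonal (Sum.elim (fun _ => a) (fun _ => b)) := by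
    ext i j
    rw [LinearMap.toMatrix_apply]
    rcases j with j | j
    · rw [hU _ (hl j), map_smul, Basis.repr_self, Finsupp.smul_single, smul_eq_mul, mul_one,
        Finsupp.single_apply, Matrix.diagonal_apply]
      by_cases hij : i = Sum.inl j
      · rw [if_pos hij.symm, if_pos hij, hij, Sum.elim_inl]
      · rw [if_neg (fun h => hij h.symm), if_neg hij]
    · rw [hW _ (hr j), map_smul, Basis.repr_self, Finsupp.smul_single, smul_eq_mul, mul_one,
        Finsupp.single_apply, Matrix.diagonal_apply]
      by_cases hij : i = Sum.inr j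
      · rw [if_pos hij.symm, if_pos hij, hij, Sum.elim_inr]
      · rw [if_neg (fun h => hij h.symm), if_neg hij]
  rw [← LinearMap.det_toMatrix Bc, hmat, Matrix.det_diagonal, Fintype.prod_sum_type]
  simp only [Sum.elim_inl, Sum.elim_inr, Finset.prod_const, Finset.card_univ, Fintype.card_fin]

end Gen

section Fin

variable {F : Type u} [Field F] [Fintype F] {q : ℕ} (hF : Fintype.card F = q ^ 2)
variable {V : Type v} [AddCommGroup V] [Module F V] [FiniteDimensional F V]
variable (B : V →ₛₗ[HermBridge.sigma hF] V →ₗ[F] F)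

include hF in
/-- a vector of norm one in a nonzero nondegenerate subspace -/
theorem exists_norm_one (hS : B.IsSymm) {Z : Submodule F V} (hZ : ND B Z) (hZ0 : Z ≠ ⊥) :
    ∃ u ∈ Z, B u u = 1 := by
  obtain ⟨b, hb⟩ := exists_orthonormal hF B hS hZ
  have hpos : 0 < finrank F Z := by
    rw [Nat.pos_iff_ne_zero]
    intro h
    exact hZ0 (Submodule.finrank_eq_zero.mp h)
  refine ⟨(b ⟨0, hpos⟩ : V), (b ⟨0, hpos⟩).2, ?_⟩
  rw [hb, if_pos rfl]

include hF in
/-- case B: if `f ^ r` is a scalar which is not an `r`-th power, then `f` fixes nondegenerate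
subspaces of every dimension divisible by `r` -/
theorem nd_suff_caseB (hS : B.IsSymm) (hB : B.Nondegenerate) (r : ℕ) [hr : Fact r.Prime]
    (z : F) (hznp : ∀ b : F, b ^ r ≠ z) {f : Module.End F V}
    (hfB : IsIsom B f) (hfr : f ^ r = z • 1) (n m : ℕ) (hn : finrank F V = n)
    (hmn : m ≤ n) (hrm : r ∣ m) :
    ∃ W : Submodule F V, finrank F W = m ∧ ND B W ∧ Elus.Inv f W := by
  classical
  have hσ2 := HermBridge.sigma_sigma hF
  have hrpos : 0 < r := hr.out.pos
  have hz0 : z ≠ 0 := by
    intro h
    exact hznp 0 (by rw [zero_pow hr.out.ne_zero, h])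
  obtain ⟨fi, hfi⟩ : ∃ fi : Module.End F V, fi = z⁻¹ • f ^ (r - 1) := ⟨_, rfl⟩
  have hr1 : r - 1 + 1 = r := by omega
  have h1 : ∀ w, f (fi w) = w := by
    intro w
    rw [hfi, LinearMap.smul_apply, map_smul, ← Module.End.mul_apply, ← pow_succ', hr1, hfr,
      LinearMap.smul_apply, Module.End.one_apply, smul_smul, inv_mul_cancel₀ hz0, one_smul]
  have hinv : ∀ W : Submodule F V, Elus.Inv f W → Elus.Inv fi W := by
    intro W hW x hx
    rw [hfi, LinearMap.smul_apply]
    exact W.smul_mem _ (inv_pow' hW (r - 1) x hx)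
  have hperp : ∀ W : Submodule F V, Elus.Inv f W → Elus.Inv f (perp B W) := by
    intro W hW
    exact inv_perp_gen B hfB h1 (hinv W hW)
  have htopi : Elus.Inv f (⊤ : Submodule F V) := fun x _ => Submodule.mem_top
  have hatom : ∀ N : Submodule F V, N ≤ ⊤ → ND B N → Elus.Inv f N → N ≠ ⊥ →
      ∃ U : Submodule F V, U ≤ N ∧ ND B U ∧ Elus.Inv f U ∧ finrank F U = r := by
    intro N _ hNnd hNi hN0
    obtain ⟨u, hu, huu⟩ := exists_norm_one hF B hS hNnd hN0
    have hu0 : u ≠ 0 := by
      rintro rfl
      rw [map_zero] at huu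
      exact zero_ne_one huu
    have hUi : Elus.Inv f (Elus.cyc f r u) := Elus.cyc_inv hfr hrpos u
    have hUle : Elus.cyc f r u ≤ N := by
      apply Submodule.span_le.mpr
      rintro _ ⟨k, rfl⟩
      exact inv_pow' hNi _ u hu
    have humem := Elus.mem_cyc f r hrpos u
    have hU0 : Elus.cyc f r u ≠ ⊥ := by
      intro h
      rw [h, Submodule.mem_bot] at humem
      exact hu0 humem
    have hUfin : finrank F (Elus.cyc f r u) = r := by
      have h3 := Elus.dvd_finrank_of_inv f r z hfr hznp _ hUi
      have h4 := Elus.finrank_cyc_le f r u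
      have h5 : 0 < finrank F (Elus.cyc f r u) := by
        rw [Nat.pos_iff_ne_zero]
        intro h
        exact hU0 (Submodule.finrank_eq_zero.mp h)
      have h6 := Nat.le_of_dvd h5 h3
      omega
    refine ⟨_, hUle, ?_, hUi, hUfin⟩
    have hRi : Elus.Inv f (Elus.cyc f r u ⊓ perp B (Elus.cyc f r u)) := by
      intro x hx
      exact ⟨hUi x hx.1, hperp _ hUi x hx.2⟩
    have h3 := Elus.dvd_finrank_of_inv f r z hfr hznp _ hRi
    have h4 : finrank F (Elus.cyc f r u ⊓ perp B (Elus.cyc f r u) : Submodule F V) ≤ r := by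
      have h40 := Submodule.finrank_mono
        (inf_le_left : Elus.cyc f r u ⊓ perp B (Elus.cyc f r u) ≤ Elus.cyc f r u)
      omega
    have h5 : finrank F (Elus.cyc f r u ⊓ perp B (Elus.cyc f r u) : Submodule F V) = 0 := by
      by_contra hne
      have h6 := Nat.le_of_dvd (Nat.pos_of_ne_zero hne) h3
      have h7 : finrank F (Elus.cyc f r u ⊓ perp B (Elus.cyc f r u) : Submodule F V) =
          finrank F (Elus.cyc f r u) := by omega
      have h8 := Submodule.eq_of_le_of_finrank_eq (inf_le_left) h7
      have h9 : u ∈ (Elus.cyc f r u ⊓ perp B (Elus.cyc f r u) : Submodule F V) := by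
        rw [h8]
        exact humem
      have h10 := (mem_perp B).mp h9.2 u humem
      rw [huu] at h10
      exact one_ne_zero h10
    unfold ND
    rw [disjoint_iff]
    exact Submodule.finrank_eq_zero.mp h5
  obtain ⟨k, hk⟩ := hrm
  obtain ⟨W, -, hWnd, hWi, hWfin⟩ := nd_stack B hσ2 hS hB hperp r hrpos (nd_top B hB) htopi hatom k
    (by rw [finrank_top, hn, ← hk]; exact hmn)
  exact ⟨W, by rw [hWfin, hk], hWnd, hWi⟩

end Fin

end Cfsg.Agent.Lib.Helper2.Und
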