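import Mathlib
import Cfsg.Agent.Lib.Helper2.UndC
set_option autoImplicit false
set_option maxHeartbeats 1000000
set_option linter.unusedVariables false
set_option linter.unusedSectionVars false
set_option linter.style.longLine false
set_option linter.unusedSimpArgs false
set_option linter.deprecated false
set_option linter.style.haveILetI false

/-! Nondegenerate subspaces of unitary spaces (part D): isometries whose square is `ν²` with `ν`
of norm `-1`. -/

namespace Cfsg.Agent.Lib.Helper2.Und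

open Module Polynomial Cfsg Cfsg.Agent.Lib.Helper2 Cfsg.Agent.Lib.Helper5
open Cfsg.Agent.Lib.Helper2.Uti

universe u v

section Arith

variable {F : Type u} [Field F]

/-- a 2-adic obstruction -/
theorem pow_ne_one_of_val (h2F : (2 : F) ≠ 0) (w : F) (n' h : ℕ) (hn' : n' ≠ 0) (hh : h ≠ 0)
    (hv : padicValNat 2 n' ≤ padicValNat 2 h) (hwh : w ^ h = -1) : w ^ n' ≠ 1 := by
  intro hwn
  have h3 : w ^ (2 * h) = 1 := by
    rw [mul_comm, pow_mul, hwh, neg_one_sq]
  have ho1 : orderOf w ∣ n' := orderOf_dvd_of_pow_eq_one hwn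
  have ho2 : orderOf w ∣ 2 * h := orderOf_dvd_of_pow_eq_one h3
  have ho0 : orderOf w ≠ 0 := by
    intro h0
    rw [h0] at ho1
    exact hn' (Nat.eq_zero_of_zero_dvd ho1)
  obtain ⟨e, m, hm, ho⟩ := Nat.exists_eq_two_pow_mul_odd ho0
  have h4 : 2 ^ e ∣ n' := dvd_trans ⟨m, ho⟩ ho1
  have h5 : e ≤ padicValNat 2 n' := (padicValNat_dvd_iff_le hn').mp h4
  have h6 : 2 ^ e ∣ h := (padicValNat_dvd_iff_le hh).mpr (by omega)
  have h7 : m ∣ 2 * h := dvd_trans ⟨2 ^ e, by rw [ho]; ring⟩ ho2
  have h8 : Nat.Coprime m 2 := Nat.Coprime.symm (Nat.coprime_two_left.mpr hm)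
  have h9 : m ∣ h := Nat.Coprime.dvd_of_dvd_mul_left h8 h7
  have h10 : Nat.Coprime (2 ^ e) m := Nat.Coprime.pow_left e (Nat.coprime_two_left.mpr hm)
  have h11 : orderOf w ∣ h := by
    rw [ho]
    exact Nat.Coprime.mul_dvd_of_dvd_of_dvd h10 h6 h9
  have h12 : w ^ h = 1 := orderOf_dvd_iff_pow_eq_one.mp h11
  rw [h12] at hwh
  apply h2F
  have : (1 : F) + 1 = 0 := by
    nth_rw 1 [hwh]
    exact neg_add_cancel 1
  rw [← one_add_one_eq_two]
  exact this

end Arith

section Anti

variable {F : Type u} [Field F] [Fintype F] {q : ℕ} (hF : Fintype.card F = q ^ 2)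
variable {V : Type v} [AddCommGroup V] [Module F V] [FiniteDimensional F V]
variable (B : V →ₛₗ[HermBridge.sigma hF] V →ₗ[F] F)

include hF in
/-- the eigenspace structure of an isometry with `f² = ν²`, `ν` of norm `-1` -/
theorem anti_struct (hB : B.Nondegenerate) (h2F : (2 : F) ≠ 0) {f : Module.End F V}
    (hfB : IsIsom B f) (ν : F) (hν : ν * ν ^ q = -1) (hf2 : f ^ 2 = ν ^ 2 • 1) :
    ∃ Vp Vm : Submodule F V, TI B Vp ∧ TI B Vm ∧ IsCompl Vp Vm ∧ (∀ v ∈ Vp, f v = ν • v) ∧
      (∀ v ∈ Vm, f v = (-ν) • v) ∧ 2 * finrank F Vp = finrank F V ∧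
      2 * finrank F Vm = finrank F V := by
  classical
  have hσ2 := HermBridge.sigma_sigma hF
  have hν0 : ν ≠ 0 := by
    rintro rfl
    rw [zero_mul] at hν
    exact one_ne_zero (α := F) (by linear_combination hν)
  obtain ⟨y, hy⟩ : ∃ y : Module.End F V, y = ν⁻¹ • f := ⟨_, rfl⟩
  have hy2 : y ^ 2 = 1 := by
    rw [hy]
    exact Elus.scale_pow f 2 ν hν0 hf2
  have hyy : ∀ v, y (y v) = v := by
    intro v
    rw [← Module.End.mul_apply, ← pow_two, hy2, Module.End.one_apply]
  have hfy : ∀ v, f v = ν • y v := by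
    intro v
    rw [hy, LinearMap.smul_apply, smul_smul, mul_inv_cancel₀ hν0, one_smul]
  have hanti : ∀ u v, B (y u) (y v) = - B u v := by
    intro u v
    rw [hy, LinearMap.smul_apply, LinearMap.smul_apply, form_smul_smul, hfB u v, inv_pow]
    have h3 : (ν ^ q)⁻¹ * ν⁻¹ = -1 := by
      rw [← mul_inv, mul_comm (ν ^ q) ν, hν, inv_neg, inv_one]
    rw [h3, neg_one_mul]
  obtain ⟨Vp, hVp⟩ : ∃ Vp : Submodule F V, Vp = LinearMap.ker (y - 1) := ⟨_, rfl⟩
  obtain ⟨Vm, hVm⟩ : ∃ Vm : Submodule F V, Vm = LinearMap.ker (y + 1) := ⟨_, rfl⟩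
  have memVp : ∀ v, v ∈ Vp ↔ y v = v := by
    intro v
    rw [hVp]
    exact Elus.mem_ker_sub_one
  have memVm : ∀ v, v ∈ Vm ↔ y v = -v := by
    intro v
    rw [hVm, LinearMap.mem_ker, LinearMap.add_apply, Module.End.one_apply]
    exact add_eq_zero_iff_eq_neg
  have hVpti : TI B Vp := by
    intro u hu v hv
    have h1 := hanti u v
    rw [(memVp u).mp hu, (memVp v).mp hv] at h1
    have h3 : (2 : F) * B u v = 0 := by linear_combination h1
    rcases mul_eq_zero.mp h3 with h4 | h4
    · exact absurd h4 h2F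
    · exact h4
  have hVmti : TI B Vm := by
    intro u hu v hv
    have h1 := hanti u v
    rw [(memVm u).mp hu, (memVm v).mp hv, map_neg, map_neg, LinearMap.neg_apply, neg_neg] at h1
    have h3 : (2 : F) * B u v = 0 := by linear_combination h1
    rcases mul_eq_zero.mp h3 with h4 | h4
    · exact absurd h4 h2F
    · exact h4
  have hsup : Vp ⊔ Vm = ⊤ := by
    rw [eq_top_iff]
    intro v _
    have hp : v + y v ∈ Vp := by
      rw [memVp, map_add, hyy, add_comm]
    have hm : v - y v ∈ Vm := by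
      rw [memVm, map_sub, hyy, neg_sub]
    have h1 : v = (2 : F)⁻¹ • (v + y v) + (2 : F)⁻¹ • (v - y v) := by
      rw [← smul_add]
      have h3 : (v + y v) + (v - y v) = (2 : F) • v := by
        rw [two_smul]
        abel
      rw [h3, smul_smul, inv_mul_cancel₀ h2F, one_smul]
    rw [h1]
    exact Submodule.add_mem_sup (Submodule.smul_mem _ _ hp) (Submodule.smul_mem _ _ hm)
  have hinf : Vp ⊓ Vm = ⊥ := by
    rw [eq_bot_iff]
    intro v hv
    have h1 := (memVp v).mp hv.1
    have h3 := (memVm v).mp hv.2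
    have h4 : (2 : F) • v = 0 := by
      rw [two_smul]
      nth_rw 1 [← h1]
      rw [h3, neg_add_cancel]
    rcases smul_eq_zero.mp h4 with h5 | h5
    · exact absurd h5 h2F
    · rw [Submodule.mem_bot]
      exact h5
  have hcompl : IsCompl Vp Vm := ⟨disjoint_iff.mpr hinf, codisjoint_iff.mpr hsup⟩
  have h1 := ti_finrank_le B hσ2 hB hVpti le_top (nd_top B hB)
  have h2 := ti_finrank_le B hσ2 hB hVmti le_top (nd_top B hB)
  rw [finrank_top] at h1 h2
  have h3 := Submodule.finrank_add_eq_of_isCompl hcompl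
  refine ⟨Vp, Vm, hVpti, hVmti, hcompl, ?_, ?_, by omega, by omega⟩
  · intro v hv
    rw [hfy, (memVp v).mp hv]
  · intro v hv
    rw [hfy, (memVm v).mp hv, smul_neg, neg_smul]

include hF in
/-- the determinant in the anti-isometry case -/
theorem anti_det (hB : B.Nondegenerate) (h2F : (2 : F) ≠ 0) {f : Module.End F V}
    (hfB : IsIsom B f) (ν : F) (hν : ν * ν ^ q = -1) (hf2 : f ^ 2 = ν ^ 2 • 1) :
    ∃ n' : ℕ, finrank F V = 2 * n' ∧ LinearMap.det f = (-(ν ^ 2)) ^ n' := by
  obtain ⟨Vp, Vm, -, -, hcompl, hp, hm, hdp, hdm⟩ := anti_struct hF B hB h2F hfB ν hν hf2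
  refine ⟨finrank F Vp, hdp.symm, ?_⟩
  rw [det_eigen_compl f hcompl ν (-ν) hp hm]
  have : finrank F Vm = finrank F Vp := by omega
  rw [this, ← mul_pow]
  congr 1
  ring

include hF in
/-- invariant nondegenerate subspaces have even dimension in the anti-isometry case -/
theorem anti_parity (hB : B.Nondegenerate) (h2F : (2 : F) ≠ 0) {f : Module.End F V}
    (hfB : IsIsom B f) (ν : F) (hν : ν * ν ^ q = -1) (hf2 : f ^ 2 = ν ^ 2 • 1)
    {W : Submodule F V} (hW : ND B W) (hWi : Elus.Inv f W) : Even (finrank F W) := by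
  classical
  have hσ2 := HermBridge.sigma_sigma hF
  have hν0 : ν ≠ 0 := by
    rintro rfl
    rw [zero_mul] at hν
    exact one_ne_zero (α := F) (by linear_combination hν)
  obtain ⟨Vp, Vm, hVpti, hVmti, hcompl, hp, hm, -, -⟩ := anti_struct hF B hB h2F hfB ν hν hf2
  have h2ν : (2 : F) * ν ≠ 0 := mul_ne_zero h2F hν0
  have hff : ∀ v, f (f v) = (ν ^ 2) • v := by
    intro v
    rw [← Module.End.mul_apply, ← pow_two, hf2, LinearMap.smul_apply, Module.End.one_apply]
  have hsup : (W ⊓ Vp) ⊔ (W ⊓ Vm) = W := by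
    apply le_antisymm (sup_le inf_le_left inf_le_left)
    intro w hw
    have hfw := hWi w hw
    obtain ⟨a, ha, b, hb, hab⟩ := Submodule.mem_sup.mp
      (show w ∈ Vp ⊔ Vm by rw [hcompl.sup_eq_top]; exact Submodule.mem_top)
    have hfw' : f w = ν • a - ν • b := by
      rw [← hab, map_add, hp a ha, hm b hb, neg_smul, sub_eq_add_neg]
    have haW : a ∈ W := by
      have h1 : (2 * ν) • a = ν • w + f w := by
        rw [hfw', ← hab, smul_add, mul_smul, two_smul]
        abel
      have h3 : a = (2 * ν)⁻¹ • (ν • w + f w) := by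
        rw [← h1, smul_smul, inv_mul_cancel₀ h2ν, one_smul]
      rw [h3]
      exact W.smul_mem _ (W.add_mem (W.smul_mem _ hw) hfw)
    have hbW : b ∈ W := by
      have h1 : b = w - a := by
        rw [← hab]
        abel
      rw [h1]
      exact W.sub_mem hw haW
    rw [← hab]
    exact Submodule.add_mem_sup ⟨haW, ha⟩ ⟨hbW, hb⟩
  have hdisj : Disjoint (W ⊓ Vp) (W ⊓ Vm) :=
    hcompl.disjoint.mono inf_le_right inf_le_right
  have h1 := Elus.finrank_sup_of_disjoint hdisj
  rw [hsup] at h1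
  have h3 := ti_finrank_le B hσ2 hB (hVpti.mono inf_le_right) inf_le_left hW
  have h4 := ti_finrank_le B hσ2 hB (hVmti.mono inf_le_right) inf_le_left hW
  exact ⟨finrank F (W ⊓ Vp : Submodule F V), by omega⟩

include hF in
/-- in the anti-isometry case nondegenerate invariant subspaces of every even dimension exist -/
theorem anti_suff (hS : B.IsSymm) (hB : B.Nondegenerate) (h2F : (2 : F) ≠ 0)
    {f : Module.End F V} (hfB : IsIsom B f) (ν : F) (hν : ν * ν ^ q = -1)
    (hf2 : f ^ 2 = ν ^ 2 • 1) (n m : ℕ) (hn : finrank F V = n) (hmn : m ≤ n) (hm : Even m) :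
    ∃ W : Submodule F V, finrank F W = m ∧ ND B W ∧ Elus.Inv f W := by
  classical
  have hσ2 := HermBridge.sigma_sigma hF
  have hν0 : ν ≠ 0 := by
    rintro rfl
    rw [zero_mul] at hν
    exact one_ne_zero (α := F) (by linear_combination hν)
  have hz0 : ν ^ 2 ≠ 0 := pow_ne_zero _ hν0
  obtain ⟨fi, hfi⟩ : ∃ fi : Module.End F V, fi = (ν ^ 2)⁻¹ • f := ⟨_, rfl⟩
  have h1 : ∀ w, f (fi w) = w := by
    intro w
    rw [hfi, LinearMap.smul_apply, map_smul, ← Module.End.mul_apply, ← pow_two, hf2,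
      LinearMap.smul_apply, Module.End.one_apply, smul_smul, inv_mul_cancel₀ hz0, one_smul]
  have hinv : ∀ W : Submodule F V, Elus.Inv f W → Elus.Inv fi W := by
    intro W hW x hx
    rw [hfi, LinearMap.smul_apply]
    exact W.smul_mem _ (hW x hx)
  have hperp : ∀ W : Submodule F V, Elus.Inv f W → Elus.Inv f (perp B W) := by
    intro W hW
    exact inv_perp_gen B hfB h1 (hinv W hW)
  have htopi : Elus.Inv f (⊤ : Submodule F V) := fun x _ => Submodule.mem_top
  obtain ⟨y, hy⟩ : ∃ y : Module.End F V, y = ν⁻¹ • f := ⟨_, rfl⟩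
  have hy2 : y ^ 2 = 1 := by
    rw [hy]
    exact Elus.scale_pow f 2 ν hν0 hf2
  have hyy : ∀ v, y (y v) = v := by
    intro v
    rw [← Module.End.mul_apply, ← pow_two, hy2, Module.End.one_apply]
  have hfy : ∀ v, f v = ν • y v := by
    intro v
    rw [hy, LinearMap.smul_apply, smul_smul, mul_inv_cancel₀ hν0, one_smul]
  have hanti : ∀ u v, B (y u) (y v) = - B u v := by
    intro u v
    rw [hy, LinearMap.smul_apply, LinearMap.smul_apply, form_smul_smul, hfB u v, inv_pow]
    have h3 : (ν ^ q)⁻¹ * ν⁻¹ = -1 := by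
      rw [← mul_inv, mul_comm (ν ^ q) ν, hν, inv_neg, inv_one]
    rw [h3, neg_one_mul]
  have hatom : ∀ N : Submodule F V, N ≤ ⊤ → ND B N → Elus.Inv f N → N ≠ ⊥ →
      ∃ U : Submodule F V, U ≤ N ∧ ND B U ∧ Elus.Inv f U ∧ finrank F U = 2 := by
    intro N _ hNnd hNi hN0
    obtain ⟨u, hu, huu⟩ := exists_norm_one hF B hS hNnd hN0
    have hyu : y u ∈ N := by
      rw [hy, LinearMap.smul_apply]
      exact N.smul_mem _ (hNi u hu)
    obtain ⟨t, ht⟩ : ∃ t : F, t = B u (y u) := ⟨_, rfl⟩
    have hyuu : B (y u) u = -t := by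
      have h3 := hanti u (y u)
      rw [hyy] at h3
      rw [h3, ht]
    have hyuyu : B (y u) (y u) = -1 := by
      rw [hanti, huu]
    have ht1 : t ≠ 1 := by
      intro h
      have h3 := hS.eq u (y u)
      rw [← ht, hyuu, h, map_one] at h3
      apply h2F
      linear_combination h3
    have hpp : B (u + y u) (u + y u) = 0 := by
      simp only [map_add, LinearMap.add_apply]
      rw [huu, ← ht, hyuu, hyuyu]
      ring
    have hmm : B (u - y u) (u - y u) = 0 := by
      simp only [map_sub, LinearMap.sub_apply]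
      rw [huu, ← ht, hyuu, hyuyu]
      ring
    have hpm : B (u + y u) (u - y u) ≠ 0 := by
      simp only [map_add, map_sub, LinearMap.add_apply, LinearMap.sub_apply]
      rw [huu, ← ht, hyuu, hyuyu]
      intro h
      apply ht1
      have h3 : (2 : F) * (1 - t) = 0 := by linear_combination h
      rcases mul_eq_zero.mp h3 with h4 | h4
      · exact absurd h4 h2F
      · exact (sub_eq_zero.mp h4).symm
    obtain ⟨hUnd, hUfin⟩ := nd_plane B hS hpp hmm hpm
    refine ⟨Submodule.span F {u + y u, u - y u}, ?_, hUnd, ?_, hUfin⟩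
    · apply Submodule.span_le.mpr
      intro x hx
      rcases hx with rfl | rfl
      · exact N.add_mem hu hyu
      · exact N.sub_mem hu hyu
    · intro x hx
      obtain ⟨a, b, rfl⟩ := Submodule.mem_span_pair.mp hx
      have hfp : f (u + y u) = ν • (u + y u) := by
        rw [hfy, map_add, hyy, add_comm]
      have hfm : f (u - y u) = (-ν) • (u - y u) := by
        rw [hfy, map_sub, hyy, neg_smul, ← smul_neg, neg_sub]
      rw [map_add, map_smul, map_smul, hfp, hfm]
      apply Submodule.add_mem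
      · exact Submodule.smul_mem _ _ (Submodule.smul_mem _ _ (Submodule.subset_span (by simp)))
      · exact Submodule.smul_mem _ _ (Submodule.smul_mem _ _ (Submodule.subset_span (by simp)))
  obtain ⟨k, hk⟩ := hm
  obtain ⟨W, -, hWnd, hWi, hWfin⟩ := nd_stack B hσ2 hS hB hperp 2 (by norm_num) (nd_top B hB)
    htopi hatom k (by rw [finrank_top, hn]; omega)
  exact ⟨W, by rw [hWfin]; omega, hWnd, hWi⟩

end Anti

end Cfsg.Agent.Lib.Helper2.Und
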