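import Mathlib
import Cfsg.Agent.Lib.Helper2.UndD
set_option autoImplicit false
set_option maxHeartbeats 1000000
set_option linter.unusedVariables false
set_option linter.unusedSectionVars false
set_option linter.style.longLine false
set_option linter.unusedSimpArgs false
set_option linter.deprecated false
set_option linter.style.haveILetI false

/-! Nondegenerate subspaces of unitary spaces (part E): unipotent isometries. Rank sums of
multisets, Gram matrices, and the nondegenerate cyclic blocks of a unipotent isometry. -/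

namespace Cfsg.Agent.Lib.Helper2.Und

open Module Polynomial Cfsg Cfsg.Agent.Lib.Helper2 Cfsg.Agent.Lib.Helper5
open Cfsg.Agent.Lib.Helper2.Uti

universe u v

section Comb

/-- the rank sum of a multiset of sizes -/
def rsum (μ : Multiset ℕ) (k : ℕ) : ℕ := (μ.map (fun a => a - k)).sum

/-- number of parts exceeding `k` -/
def gtc (μ : Multiset ℕ) (k : ℕ) : ℕ := Multiset.card (μ.filter (fun a => k < a))

theorem gtc_zero (k : ℕ) : gtc 0 k = 0 := by
  simp [gtc]

theorem gtc_cons (a : ℕ) (μ : Multiset ℕ) (k : ℕ) :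
    gtc (a ::ₘ μ) k = gtc μ k + if k < a then 1 else 0 := by
  unfold gtc
  by_cases h : k < a
  · rw [Multiset.filter_cons_of_pos _ h, Multiset.card_cons, if_pos h]
  · rw [Multiset.filter_cons_of_neg _ h, if_neg h, add_zero]

theorem rsum_add (μ ν : Multiset ℕ) (k : ℕ) : rsum (μ + ν) k = rsum μ k + rsum ν k := by
  unfold rsum
  rw [Multiset.map_add, Multiset.sum_add]

theorem rsum_cons (a : ℕ) (μ : Multiset ℕ) (k : ℕ) : rsum (a ::ₘ μ) k = (a - k) + rsum μ k := by
  unfold rsum
  rw [Multiset.map_cons, Multiset.sum_cons]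

theorem rsum_zero (μ : Multiset ℕ) : rsum μ 0 = μ.sum := by
  unfold rsum
  simp

theorem rsum_nil (k : ℕ) : rsum 0 k = 0 := by
  simp [rsum]

theorem rsum_succ (μ : Multiset ℕ) (k : ℕ) : rsum μ k = rsum μ (k + 1) + gtc μ k := by
  induction μ using Multiset.induction with
  | empty => simp [rsum, gtc_zero]
  | cons a μ ih =>
    rw [rsum_cons, rsum_cons, gtc_cons, ih]
    split_ifs with h <;> omega

theorem card_filter_lt (μ : Multiset ℕ) (k : ℕ) :
    gtc μ k = gtc μ (k + 1) + μ.count (k + 1) := by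
  induction μ using Multiset.induction with
  | empty => simp [gtc_zero]
  | cons a μ ih =>
    rw [gtc_cons, gtc_cons, ih, Multiset.count_cons]
    split_ifs <;> omega

theorem count_add (μ : Multiset ℕ) (k : ℕ) :
    μ.count (k + 1) + 2 * rsum μ (k + 1) = rsum μ k + rsum μ (k + 2) := by
  have h1 := rsum_succ μ k
  have h2 : rsum μ (k + 1) = rsum μ (k + 2) + gtc μ (k + 1) := rsum_succ μ (k + 1)
  have h3 := card_filter_lt μ k
  omega

theorem eq_of_rsum_eq {μ μ' : Multiset ℕ} (hpos : ∀ a ∈ μ, 0 < a) (hpos' : ∀ a ∈ μ', 0 < a)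
    (h : ∀ k, rsum μ k = rsum μ' k) : μ = μ' := by
  ext j
  rcases Nat.eq_zero_or_pos j with rfl | hj
  · rw [Multiset.count_eq_zero_of_notMem, Multiset.count_eq_zero_of_notMem]
    · intro h0; exact absurd (hpos' 0 h0) (lt_irrefl 0)
    · intro h0; exact absurd (hpos 0 h0) (lt_irrefl 0)
  · obtain ⟨k, rfl⟩ : ∃ k, j = k + 1 := ⟨j - 1, by omega⟩
    have h1 := count_add μ k
    have h2 := count_add μ' k
    rw [h k, h (k + 1), h (k + 2)] at h1
    omega

theorem rsum_eq_zero_iff (μ : Multiset ℕ) (k : ℕ) : rsum μ k = 0 ↔ ∀ a ∈ μ, a ≤ k := by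
  unfold rsum
  rw [Multiset.sum_eq_zero_iff]
  constructor
  · intro h a ha
    have := h (a - k) (Multiset.mem_map.2 ⟨a, ha, rfl⟩)
    omega
  · intro h x hx
    obtain ⟨a, ha, rfl⟩ := Multiset.mem_map.1 hx
    have := h a ha
    omega

end Comb

section Gram

variable {F : Type u} [Field F] {σ : F →+* F} {V : Type v} [AddCommGroup V] [Module F V]
variable (B : V →ₛₗ[σ] V →ₗ[F] F)

/-- a family with an invertible Gram matrix against a family with the same span is linearly
independent and spans a nondegenerate subspace -/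
theorem gram_nd (hS : B.IsSymm) {e : ℕ} (s t : Fin e → V)
    (hspan : Submodule.span F (Set.range s) = Submodule.span F (Set.range t))
    (hdet : (Matrix.of fun i j => B (s i) (t j)).det ≠ 0) :
    LinearIndependent F t ∧ ND B (Submodule.span F (Set.range t)) := by
  classical
  have key : ∀ c : Fin e → F, (∀ i, B (s i) (∑ j, c j • t j) = 0) → c = 0 := by
    intro c hc
    apply Matrix.eq_zero_of_mulVec_eq_zero hdet
    funext i
    have h1 := hc i
    rw [map_sum] at h1
    rw [Matrix.mulVec, dotProduct, Pi.zero_apply, ← h1]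
    apply Finset.sum_congr rfl
    intro j _
    rw [map_smul, smul_eq_mul, Matrix.of_apply, mul_comm]
  constructor
  · rw [Fintype.linearIndependent_iff]
    intro c hc i
    have h1 := key c (fun i => by rw [hc, map_zero])
    rw [h1, Pi.zero_apply]
  · rw [nd_iff B hS]
    intro w hw hw2
    obtain ⟨c, rfl⟩ := (Submodule.mem_span_range_iff_exists_fun F).mp hw
    have h1 := key c (fun i => by
      apply swap_zero B hS
      apply hw2
      rw [← hspan]
      exact Submodule.subset_span ⟨i, rfl⟩)
    rw [h1]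
    simp

end Gram

section Unip

variable {F : Type u} [Field F] {σ : F →+* F} {V : Type v} [AddCommGroup V] [Module F V]
variable [FiniteDimensional F V]
variable (B : V →ₛₗ[σ] V →ₗ[F] F)

omit [FiniteDimensional F V] in
theorem unip_I1 {y : Module.End F V} (hyB : IsIsom B y) (a b : V) :
    B ((y - 1) a) (y b) = - B a ((y - 1) b) := by
  rw [LinearMap.sub_apply, LinearMap.sub_apply, Module.End.one_apply, Module.End.one_apply,
    map_sub, LinearMap.sub_apply, map_sub, hyB a b]
  ring

omit [FiniteDimensional F V] in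
theorem unip_comm (y : Module.End F V) (k : ℕ) (b : V) :
    (y - 1) ((y ^ k) b) = (y ^ k) ((y - 1) b) := by
  have h : Commute (y - 1) (y ^ k) :=
    ((Commute.refl y).sub_left (Commute.one_left y)).pow_right k
  rw [← Module.End.mul_apply, h.eq, Module.End.mul_apply]

omit [FiniteDimensional F V] in
theorem unip_comm' (y : Module.End F V) (k : ℕ) (b : V) :
    ((y - 1) ^ k) (y b) = y (((y - 1) ^ k) b) := by
  have h : Commute ((y - 1) ^ k) y :=
    ((Commute.refl y).sub_left (Commute.one_left y)).pow_left k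
  rw [← Module.End.mul_apply, h.eq, Module.End.mul_apply]

omit [FiniteDimensional F V] in
/-- `B (N^k a) (y^k b) = (-1)^k B a (N^k b)` -/
theorem unip_C {y : Module.End F V} (hyB : IsIsom B y) (k : ℕ) :
    ∀ a b : V, B (((y - 1) ^ k) a) ((y ^ k) b) = (-1) ^ k * B a (((y - 1) ^ k) b) := by
  induction k with
  | zero =>
    intro a b
    simp
  | succ k ih =>
    intro a b
    have e1 : ((y - 1) ^ (k + 1)) a = (y - 1) (((y - 1) ^ k) a) := by
      rw [pow_succ', Module.End.mul_apply]
    have e2 : (y ^ (k + 1)) b = y ((y ^ k) b) := by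
      rw [pow_succ', Module.End.mul_apply]
    have e3 : ((y - 1) ^ (k + 1)) b = ((y - 1) ^ k) ((y - 1) b) := by
      rw [pow_succ, Module.End.mul_apply]
    rw [e1, e2, e3, unip_I1 B hyB, unip_comm, ih, pow_succ]
    ring

omit [FiniteDimensional F V] in
/-- `B (N^i a) (N^j z) = (-1)^j B (N^(i+j) a) (y^j z)` -/
theorem unip_G {y : Module.End F V} (hyB : IsIsom B y) (j : ℕ) :
    ∀ (i : ℕ) (a z : V), B (((y - 1) ^ i) a) (((y - 1) ^ j) z) =
      (-1) ^ j * B (((y - 1) ^ (i + j)) a) ((y ^ j) z) := by
  induction j with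
  | zero =>
    intro i a z
    simp
  | succ j ih =>
    intro i a z
    have h1 : ((y - 1) ^ (j + 1)) z = (y - 1) (((y - 1) ^ j) z) := by
      rw [pow_succ', Module.End.mul_apply]
    have h2 := unip_I1 B hyB (((y - 1) ^ i) a) (((y - 1) ^ j) z)
    have h3 : (y - 1) (((y - 1) ^ i) a) = ((y - 1) ^ (i + 1)) a := by
      rw [pow_succ', Module.End.mul_apply]
    have h4 : (y ^ j) (y z) = (y ^ (j + 1)) z := by
      rw [pow_succ, Module.End.mul_apply]
    have h5 : i + 1 + j = i + (j + 1) := by ring
    rw [h3, ← unip_comm', ih (i + 1) a (y z), h4, h5] at h2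
    rw [h1, pow_succ]
    linear_combination h2

omit [FiniteDimensional F V] in
/-- `B (N^(e-1) a) (y^k b) = B (N^(e-1) a) b` when `N^e a = 0` -/
theorem unip_B {y : Module.End F V} (hyB : IsIsom B y) {e : ℕ} (he : 1 ≤ e) {a : V}
    (ha : ((y - 1) ^ e) a = 0) (k : ℕ) :
    ∀ b : V, B (((y - 1) ^ (e - 1)) a) ((y ^ k) b) = B (((y - 1) ^ (e - 1)) a) b := by
  induction k with
  | zero =>
    intro b
    simp
  | succ k ih =>
    intro b
    have h1 : (y ^ (k + 1)) b = (y ^ k) b + (y - 1) ((y ^ k) b) := by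
      rw [pow_succ', Module.End.mul_apply, LinearMap.sub_apply, Module.End.one_apply]
      abel
    have h2 : B (((y - 1) ^ (e - 1)) a) ((y - 1) ((y ^ k) b)) = 0 := by
      have h3 := unip_I1 B hyB (((y - 1) ^ (e - 1)) a) ((y ^ k) b)
      have h4 : (y - 1) (((y - 1) ^ (e - 1)) a) = ((y - 1) ^ e) a := by
        rw [← Module.End.mul_apply, ← pow_succ', Nat.sub_add_cancel he]
      rw [h4, ha, map_zero, LinearMap.zero_apply] at h3
      have := neg_eq_zero.mp h3.symm
      exact this
    rw [h1, map_add, h2, add_zero, ih]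

omit [FiniteDimensional F V] in
/-- `B (N^(e-1) a) b = (-1)^(e-1) B a (N^(e-1) b)` when `N^e a = 0` -/
theorem unip_K {y : Module.End F V} (hyB : IsIsom B y) {e : ℕ} (he : 1 ≤ e) {a : V}
    (ha : ((y - 1) ^ e) a = 0) (b : V) :
    B (((y - 1) ^ (e - 1)) a) b = (-1) ^ (e - 1) * B a (((y - 1) ^ (e - 1)) b) := by
  rw [← unip_B B hyB he ha (e - 1) b, unip_C B hyB]

omit [FiniteDimensional F V] in
theorem inv_sub_one {y : Module.End F V} {W : Submodule F V} (hW : Elus.Inv y W) :
    Elus.Inv (y - 1) W := by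
  intro x hx
  rw [LinearMap.sub_apply, Module.End.one_apply]
  exact W.sub_mem (hW x hx) hx

omit [FiniteDimensional F V] in
/-- an anisotropic vector for the form `B a (N^(e-1) b)` -/
theorem exists_aniso (hσ : σ ≠ RingHom.id F) (hS : B.IsSymm) {y : Module.End F V}
    (hyB : IsIsom B y) {W : Submodule F V} (hW : ND B W) (hWi : Elus.Inv y W) {e : ℕ}
    (he : 1 ≤ e) (hNe : ∀ w ∈ W, ((y - 1) ^ e) w = 0) {w₀ : V} (hw₀ : w₀ ∈ W)
    (hw₀e : ((y - 1) ^ (e - 1)) w₀ ≠ 0) :
    ∃ u ∈ W, B u (((y - 1) ^ (e - 1)) u) ≠ 0 := by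
  by_contra hcon
  push_neg at hcon
  have hNi : Elus.Inv ((y - 1) ^ (e - 1)) W := inv_pow' (inv_sub_one hWi) (e - 1)
  obtain ⟨v, hv, hne⟩ := (nd_iff' B hS).mp hW _ (hNi w₀ hw₀) hw₀e
  rw [unip_K B hyB he (hNe w₀ hw₀)] at hne
  obtain ⟨t, ht⟩ : ∃ t : F, t = B w₀ (((y - 1) ^ (e - 1)) v) := ⟨_, rfl⟩
  rw [← ht] at hne
  have ht0 : t ≠ 0 := by
    intro h
    rw [h, mul_zero] at hne
    exact hne rfl
  have hε : σ ((-1 : F) ^ (e - 1)) = (-1) ^ (e - 1) := by
    rw [map_pow, map_neg, map_one]
  have hvw : B v (((y - 1) ^ (e - 1)) w₀) = (-1) ^ (e - 1) * σ t := by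
    rw [← hS.eq, unip_K B hyB he (hNe w₀ hw₀), ← ht, map_mul, hε]
  have key : ∀ c : F, c * t + σ c * ((-1) ^ (e - 1) * σ t) = 0 := by
    intro c
    have h1 := hcon (w₀ + c • v) (W.add_mem hw₀ (W.smul_mem c hv))
    have h2 := hcon w₀ hw₀
    have h3 := hcon v hv
    simp only [map_add, LinearMap.add_apply, map_smul, map_smulₛₗ, LinearMap.smul_apply,
      smul_eq_mul] at h1
    rw [h2, ← ht, hvw, h3] at h1
    simp only [mul_zero, add_zero, zero_add] at h1
    linear_combination h1
  have h1 := key 1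
  rw [one_mul, map_one, one_mul] at h1
  apply hσ
  apply RingHom.ext
  intro c
  have h2 := key c
  have h3 : (c - σ c) * t = 0 := by linear_combination h2 - σ c * h1
  rcases mul_eq_zero.mp h3 with h4 | h4
  · rw [RingHom.id_apply]
    exact (sub_eq_zero.mp h4).symm
  · exact absurd h4 ht0

/-- the cyclic block generated by an anisotropic vector -/
theorem block_props (hS : B.IsSymm) {y : Module.End F V} (hyB : IsIsom B y) {e : ℕ}
    (he : 1 ≤ e) {u : V} (hNe : ((y - 1) ^ e) u = 0)
    (hd : B u (((y - 1) ^ (e - 1)) u) ≠ 0) :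
    Elus.Inv y (Elus.cyc (y - 1) e u) ∧ ND B (Elus.cyc (y - 1) e u) ∧
      finrank F (Elus.cyc (y - 1) e u) = e ∧
      ∀ k, finrank F ((Elus.cyc (y - 1) e u).map ((y - 1) ^ k)) = e - k := by
  classical
  obtain ⟨t, ht⟩ : ∃ t : Fin e → V, t = fun j : Fin e => ((y - 1) ^ (j : ℕ)) u := ⟨_, rfl⟩
  have hD : Elus.cyc (y - 1) e u = Submodule.span F (Set.range t) := by
    rw [ht]
    rfl
  have hzero : ∀ k, e ≤ k → ((y - 1) ^ k) u = 0 := by
    intro k hk
    obtain ⟨d, rfl⟩ := Nat.exists_eq_add_of_le hk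
    rw [add_comm, pow_add, Module.End.mul_apply, hNe, map_zero]
  have hd' : B (((y - 1) ^ (e - 1)) u) u ≠ 0 := fun h => hd (swap_zero B hS h)
  -- the Gram matrix
  obtain ⟨s, hs⟩ : ∃ s : Fin e → V, s = t ∘ Fin.rev := ⟨_, rfl⟩
  have hspan : Submodule.span F (Set.range s) = Submodule.span F (Set.range t) := by
    rw [hs, Function.Surjective.range_comp Fin.rev_surjective]
  have hlow : (Matrix.of fun i j => B (s i) (t j)).IsLowerTriangular := by
    intro i j hij
    have hij' : i < j := OrderDual.toDual_lt_toDual.mp hij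
    rw [Matrix.of_apply, hs, ht]
    simp only [Function.comp_apply, Fin.val_rev]
    rw [unip_G B hyB, hzero _ (by
      have := i.isLt
      have := j.isLt
      have h1 : (i : ℕ) < (j : ℕ) := hij'
      omega), map_zero, LinearMap.zero_apply, mul_zero]
  have hdiag : ∀ i, (Matrix.of fun i j => B (s i) (t j)) i i ≠ 0 := by
    intro i
    rw [Matrix.of_apply, hs, ht]
    simp only [Function.comp_apply, Fin.val_rev]
    have h1 : e - ((i : ℕ) + 1) + (i : ℕ) = e - 1 := by
      have := i.isLt
      omega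
    rw [unip_G B hyB, h1, unip_B B hyB he hNe]
    exact mul_ne_zero (pow_ne_zero _ (neg_ne_zero.mpr one_ne_zero)) hd'
  have hdet : (Matrix.of fun i j => B (s i) (t j)).det ≠ 0 := by
    rw [Matrix.det_of_isLowerTriangular _ hlow]
    exact Finset.prod_ne_zero_iff.mpr (fun i _ => hdiag i)
  obtain ⟨hli, hnd⟩ := gram_nd B hS s t hspan hdet
  have hNinv : Elus.Inv (y - 1) (Submodule.span F (Set.range t)) := by
    have h0 : Submodule.span F (Set.range t) ≤ (Submodule.span F (Set.range t)).comap (y - 1) := by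
      apply Submodule.span_le.mpr
      rintro _ ⟨k, rfl⟩
      rw [SetLike.mem_coe, Submodule.mem_comap, ht]
      simp only
      rw [← Module.End.mul_apply, ← pow_succ']
      by_cases hk : (k : ℕ) + 1 < e
      · exact Submodule.subset_span ⟨⟨(k : ℕ) + 1, hk⟩, rfl⟩
      · rw [hzero _ (by omega)]
        exact Submodule.zero_mem _
    exact fun x hx => h0 hx
  refine ⟨?_, ?_, ?_, ?_⟩
  · rw [hD]
    intro x hx
    have h1 := hNinv x hx
    rw [LinearMap.sub_apply, Module.End.one_apply] at h1
    have h2 := Submodule.add_mem _ h1 hx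
    rwa [sub_add_cancel] at h2
  · rw [hD]
    exact hnd
  · rw [hD, finrank_span_eq_card hli, Fintype.card_fin]
  · intro k
    rw [hD, Submodule.map_span, ← Set.range_comp]
    by_cases hk : k ≤ e
    · obtain ⟨t', ht'⟩ : ∃ t' : Fin (e - k) → V,
          t' = fun j : Fin (e - k) => t ⟨k + (j : ℕ), by have := j.isLt; omega⟩ := ⟨_, rfl⟩
      have hli' : LinearIndependent F t' := by
        rw [ht']
        apply hli.comp (fun j : Fin (e - k) => (⟨k + (j : ℕ), by have := j.isLt; omega⟩ : Fin e))
        intro a b hab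
        have := congrArg Fin.val hab
        simp only at this
        apply Fin.ext
        omega
      have hsp : Submodule.span F (Set.range (⇑((y - 1) ^ k) ∘ t)) =
          Submodule.span F (Set.range t') := by
        apply le_antisymm
        · apply Submodule.span_le.mpr
          rintro _ ⟨j, rfl⟩
          simp only [Function.comp_apply]
          rw [ht]
          simp only
          rw [← Module.End.mul_apply, ← pow_add]
          by_cases hj : k + (j : ℕ) < e
          · apply Submodule.subset_span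
            refine ⟨⟨(j : ℕ), by omega⟩, ?_⟩
            rw [ht', ht]
          · rw [hzero _ (by omega)]
            exact Submodule.zero_mem _
        · apply Submodule.span_le.mpr
          rintro _ ⟨j, rfl⟩
          apply Submodule.subset_span
          refine ⟨⟨(j : ℕ), by have := j.isLt; omega⟩, ?_⟩
          simp only [Function.comp_apply]
          rw [ht', ht]
          simp only
          rw [← Module.End.mul_apply, ← pow_add]
      rw [hsp, finrank_span_eq_card hli', Fintype.card_fin]
    · have h0 : Submodule.span F (Set.range (⇑((y - 1) ^ k) ∘ t)) = ⊥ := by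
        rw [Submodule.span_eq_bot]
        rintro _ ⟨j, rfl⟩
        simp only [Function.comp_apply]
        rw [ht]
        simp only
        rw [← Module.End.mul_apply, ← pow_add, hzero _ (by omega)]
      rw [h0, finrank_bot]
      omega

end Unip

end Cfsg.Agent.Lib.Helper2.Und
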