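import Mathlib
import Cfsg.Agent.Lib.Helper2.UndE
set_option autoImplicit false
set_option maxHeartbeats 1000000
set_option linter.unusedVariables false
set_option linter.unusedSectionVars false
set_option linter.style.longLine false
set_option linter.unusedSimpArgs false
set_option linter.deprecated false
set_option linter.style.haveILetI false

/-! Nondegenerate subspaces of unitary spaces (part F): the Jordan type of a unipotent isometry
on a nondegenerate invariant subspace. -/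

namespace Cfsg.Agent.Lib.Helper2.Und

open Module Polynomial Cfsg Cfsg.Agent.Lib.Helper2 Cfsg.Agent.Lib.Helper5
open Cfsg.Agent.Lib.Helper2.Uti

universe u v

section JType

variable {F : Type u} [Field F] {σ : F →+* F} {V : Type v} [AddCommGroup V] [Module F V]
variable [FiniteDimensional F V]
variable (B : V →ₛₗ[σ] V →ₗ[F] F)

/-- `W` has Jordan type `μ` under the unipotent isometry `y`, and all sub-multisets of `μ` are
realised by nondegenerate invariant subspaces of `W` -/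
def HasType (y : Module.End F V) (P : ℕ) (W : Submodule F V) (μ : Multiset ℕ) : Prop :=
  (∀ a ∈ μ, 0 < a ∧ a ≤ P) ∧ μ.sum = finrank F W ∧
    (∀ k, finrank F (W.map ((y - 1) ^ k)) = rsum μ k) ∧
    ∀ ν ≤ μ, ∃ W₁ : Submodule F V, W₁ ≤ W ∧ ND B W₁ ∧ Elus.Inv y W₁ ∧ finrank F W₁ = ν.sum

omit [FiniteDimensional F V] in
theorem inv_inf' {f : Module.End F V} {X Y : Submodule F V} (hX : Elus.Inv f X)
    (hY : Elus.Inv f Y) : Elus.Inv f (X ⊓ Y) :=
  fun x hx => ⟨hX x hx.1, hY x hx.2⟩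

/-- ranks add over invariant disjoint subspaces -/
theorem rank_split {y : Module.End F V} {X Y : Submodule F V} (hd : Disjoint X Y)
    (hX : Elus.Inv y X) (hY : Elus.Inv y Y) (k : ℕ) :
    finrank F ((X ⊔ Y).map ((y - 1) ^ k)) =
      finrank F (X.map ((y - 1) ^ k)) + finrank F (Y.map ((y - 1) ^ k)) := by
  rw [Submodule.map_sup]
  apply Elus.finrank_sup_of_disjoint
  have h1 : X.map ((y - 1) ^ k) ≤ X := Elus.inv_iff_map_le.mp (inv_pow' (inv_sub_one hX) k)
  have h2 : Y.map ((y - 1) ^ k) ≤ Y := Elus.inv_iff_map_le.mp (inv_pow' (inv_sub_one hY) k)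
  exact hd.mono h1 h2

theorem exists_type (hσ : σ ≠ RingHom.id F) (hσ2 : ∀ a, σ (σ a) = a) (hS : B.IsSymm)
    (hB : B.Nondegenerate) {y : Module.End F V} (hyB : IsIsom B y) {P : ℕ} (hP : 0 < P)
    (hy : y ^ P = 1) (hN : (y - 1) ^ P = 0) :
    ∀ (d : ℕ) (W : Submodule F V), finrank F W = d → ND B W → Elus.Inv y W →
      ∃ μ : Multiset ℕ, HasType B y P W μ := by
  intro d
  induction d using Nat.strong_induction_on with
  | _ d ih =>
  intro W hd hW hWi
  by_cases hbot : W = ⊥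
  · refine ⟨0, ?_, ?_, ?_, ?_⟩
    · intro a ha
      exact absurd ha (Multiset.notMem_zero a)
    · rw [hbot, finrank_bot, Multiset.sum_zero]
    · intro k
      rw [hbot, Submodule.map_bot, finrank_bot, rsum_nil]
    · intro ν hν
      have h0 : ν = 0 := Multiset.le_zero.mp hν
      refine ⟨⊥, bot_le, nd_bot B, Elus.inv_bot y, ?_⟩
      rw [h0, finrank_bot, Multiset.sum_zero]
  · classical
    have hex : ∃ e : ℕ, ∀ w ∈ W, ((y - 1) ^ e) w = 0 :=
      ⟨P, fun w _ => by rw [hN, LinearMap.zero_apply]⟩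
    obtain ⟨e, he, hmin⟩ : ∃ e : ℕ, (∀ w ∈ W, ((y - 1) ^ e) w = 0) ∧
        ∀ e' < e, ¬ ∀ w ∈ W, ((y - 1) ^ e') w = 0 :=
      ⟨Nat.find hex, Nat.find_spec hex, fun e' h => Nat.find_min hex h⟩
    have heP : e ≤ P := by
      by_contra h
      exact hmin P (not_le.mp h) (fun w _ => by rw [hN, LinearMap.zero_apply])
    have he1 : 1 ≤ e := by
      rcases Nat.eq_zero_or_pos e with h0 | h0
      · exfalso
        apply hbot
        rw [Submodule.eq_bot_iff]
        intro w hw
        have h1 := he w hw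
        rwa [h0, pow_zero, Module.End.one_apply] at h1
      · exact h0
    obtain ⟨w₀, hw₀, hw₀e⟩ : ∃ w₀ ∈ W, ((y - 1) ^ (e - 1)) w₀ ≠ 0 := by
      have h1 := hmin (e - 1) (by omega)
      push_neg at h1
      exact h1
    obtain ⟨u, hu, hud⟩ := exists_aniso B hσ hS hyB hW hWi he1 he hw₀ hw₀e
    obtain ⟨hDi, hDnd, hDf, hDr⟩ := block_props B hS hyB he1 (he u hu) hud
    have hNi : Elus.Inv (y - 1) W := inv_sub_one hWi
    have hDW : Elus.cyc (y - 1) e u ≤ W := by
      apply Submodule.span_le.mpr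
      rintro _ ⟨k, rfl⟩
      exact inv_pow' hNi (k : ℕ) u hu
    obtain ⟨D, hDdef⟩ : ∃ D : Submodule F V, D = Elus.cyc (y - 1) e u := ⟨_, rfl⟩
    rw [← hDdef] at hDi hDnd hDf hDr hDW
    obtain ⟨W', hW'def⟩ : ∃ W' : Submodule F V, W' = W ⊓ perp B D := ⟨_, rfl⟩
    have hW'nd : ND B W' := by
      rw [hW'def]
      exact nd_perp_in B hσ2 hS hB hW hDnd hDW
    have hW'f : finrank F W' = finrank F W - e := by
      rw [hW'def, finrank_perp_in B hσ2 hB hW hDW, hDf]
    have hW'i : Elus.Inv y W' := by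
      rw [hW'def]
      exact inv_inf' hWi (inv_perp B hyB hP hy hDi)
    obtain ⟨hdisj, hsup⟩ := nd_rel B hσ2 hB hDnd hDW
    rw [← hW'def] at hdisj hsup
    have heW : e ≤ finrank F W := by
      rw [← hDf]
      exact Submodule.finrank_mono hDW
    obtain ⟨μ', hμ1, hμ2, hμ3, hμ4⟩ :=
      ih (finrank F W') (by rw [hW'f, ← hd]; omega) W' rfl hW'nd hW'i
    refine ⟨e ::ₘ μ', ?_, ?_, ?_, ?_⟩
    · intro a ha
      rcases Multiset.mem_cons.mp ha with rfl | ha
      · exact ⟨he1, heP⟩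
      · exact hμ1 a ha
    · rw [Multiset.sum_cons, hμ2, hW'f]
      omega
    · intro k
      rw [rsum_cons, ← hμ3 k, ← hDr k, ← hsup]
      exact rank_split hdisj hDi hW'i k
    · intro ν hν
      by_cases heν : e ∈ ν
      · have h1 : ν.erase e ≤ μ' := Multiset.erase_le_iff_le_cons.mpr hν
        obtain ⟨W₁, hW₁le, hW₁nd, hW₁i, hW₁f⟩ := hμ4 _ h1
        refine ⟨D ⊔ W₁, ?_, ?_, ?_, ?_⟩
        · rw [← hsup]
          exact sup_le_sup_left hW₁le D
        · apply nd_sup B hS hDnd hW₁nd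
          rw [orth_iff_le_perp]
          exact hW₁le.trans (by rw [hW'def]; exact inf_le_right)
        · exact hDi.sup hW₁i
        · rw [Elus.finrank_sup_of_disjoint (hdisj.mono le_rfl hW₁le), hDf, hW₁f,
            Multiset.sum_erase heν]
      · have h1 : ν ≤ μ' := (Multiset.le_cons_of_notMem heν).mp hν
        obtain ⟨W₁, hW₁le, hW₁nd, hW₁i, hW₁f⟩ := hμ4 _ h1
        exact ⟨W₁, hW₁le.trans (by rw [hW'def]; exact inf_le_left), hW₁nd, hW₁i, hW₁f⟩

/-- necessity: an invariant nondegenerate subspace has the type of a sub-multiset -/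
theorem type_nec (hσ : σ ≠ RingHom.id F) (hσ2 : ∀ a, σ (σ a) = a) (hS : B.IsSymm)
    (hB : B.Nondegenerate) {y : Module.End F V} (hyB : IsIsom B y) {P : ℕ} (hP : 0 < P)
    (hy : y ^ P = 1) (hN : (y - 1) ^ P = 0) (μ : Multiset ℕ) (hμpos : ∀ a ∈ μ, 0 < a)
    (hμr : ∀ k, finrank F ((⊤ : Submodule F V).map ((y - 1) ^ k)) = rsum μ k)
    {W : Submodule F V} (hW : ND B W) (hWi : Elus.Inv y W) :
    ∃ ν ≤ μ, ν.sum = finrank F W := by
  obtain ⟨ν, hν1, hν2, hν3, -⟩ := exists_type B hσ hσ2 hS hB hyB hP hy hN _ W rfl hW hWi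
  have hpi : Elus.Inv y (perp B W) := inv_perp B hyB hP hy hWi
  have hpnd : ND B (perp B W) := (nd_perp B hσ2 hS hB hW).1
  obtain ⟨ν', hν'1, hν'2, hν'3, -⟩ :=
    exists_type B hσ hσ2 hS hB hyB hP hy hN _ (perp B W) rfl hpnd hpi
  have hc := nd_isCompl B hσ2 hB hW
  have hμeq : μ = ν + ν' := by
    apply eq_of_rsum_eq hμpos
    · intro a ha
      rcases Multiset.mem_add.mp ha with h | h
      · exact (hν1 a h).1
      · exact (hν'1 a h).1
    · intro k
      rw [rsum_add, ← hμr k, ← hν3 k, ← hν'3 k, ← hc.sup_eq_top]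
      exact rank_split hc.disjoint hWi hpi k
  refine ⟨ν, ?_, hν2⟩
  rw [hμeq]
  exact Multiset.le_add_right ν ν'

end JType

end Cfsg.Agent.Lib.Helper2.Und
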