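import Mathlib
import Cfsg.Agent.Lib.Helper2.UndF
set_option autoImplicit false
set_option maxHeartbeats 1000000
set_option linter.unusedVariables false
set_option linter.unusedSectionVars false
set_option linter.style.longLine false
set_option linter.unusedSimpArgs false
set_option linter.deprecated false
set_option linter.style.haveILetI false

/-! Nondegenerate subspaces of unitary spaces (part G): the model of a nondegenerate Jordan
block: the anti-diagonal hermitian form and the shift. -/

namespace Cfsg.Agent.Lib.Helper2.Und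

open Module Polynomial Cfsg Cfsg.Agent.Lib.Helper2 Cfsg.Agent.Lib.Helper5
open Cfsg.Agent.Lib.Helper2.Uti

universe u v

section Model

variable {F : Type u} [Field F] (σ : F →+* F)

/-- the anti-diagonal form `∑ σ(u_i) (-1)^i lam v_{rev i}` -/
def blockForm (lam : F) (e' : ℕ) : (Fin (e' + 1) → F) →ₛₗ[σ] (Fin (e' + 1) → F) →ₗ[F] F :=
  LinearMap.mk₂'ₛₗ σ (RingHom.id F)
    (fun u v => ∑ i, σ (u i) * ((-1) ^ (i : ℕ) * lam) * v (Fin.rev i))
    (fun u u' v => by
      simp only [Pi.add_apply, map_add, add_mul, Finset.sum_add_distrib])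
    (fun c u v => by
      simp only [Pi.smul_apply, smul_eq_mul, map_mul, Finset.mul_sum, mul_assoc])
    (fun u v v' => by
      simp only [Pi.add_apply, mul_add, Finset.sum_add_distrib])
    (fun c u v => by
      simp only [Pi.smul_apply, smul_eq_mul, RingHom.id_apply, Finset.mul_sum]
      apply Finset.sum_congr rfl
      intro i _
      ring)

theorem blockForm_apply (lam : F) (e' : ℕ) (u v : Fin (e' + 1) → F) :
    blockForm σ lam e' u v = ∑ i, σ (u i) * ((-1) ^ (i : ℕ) * lam) * v (Fin.rev i) := rfl

theorem blockForm_isSymm (hσ2 : ∀ a, σ (σ a) = a) {lam : F} {e' : ℕ}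
    (hlam : σ lam = (-1) ^ e' * lam) : (blockForm σ lam e').IsSymm := by
  constructor
  intro u v
  rw [blockForm_apply, blockForm_apply, map_sum, ← Equiv.sum_comp Fin.revPerm]
  apply Finset.sum_congr rfl
  intro j _
  rw [Fin.revPerm_apply, map_mul, map_mul, map_mul, map_pow, map_neg, map_one, hσ2, hlam,
    Fin.rev_rev, Fin.val_rev]
  have hj : (j : ℕ) < e' + 1 := j.isLt
  obtain ⟨d, hd⟩ : ∃ d, e' = (j : ℕ) + d := ⟨e' - (j : ℕ), by omega⟩
  have h1 : e' + 1 - ((j : ℕ) + 1) = d := by omega
  rw [h1]
  have h2 : ((-1 : F)) ^ d * ((-1) ^ e' * lam) = (-1) ^ (j : ℕ) * lam := by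
    have h4 : (-1 : F) ^ e' = (-1) ^ (j : ℕ) * (-1) ^ d := by
      rw [← pow_add, ← hd]
    have h3 : ((-1 : F)) ^ d * (-1) ^ d = 1 := by
      rw [← pow_add, ← two_mul, pow_mul]
      simp
    rw [h4]
    linear_combination ((-1 : F) ^ (j : ℕ) * lam) * h3
  rw [h2]
  ring

theorem blockForm_nondeg {lam : F} (hlam0 : lam ≠ 0) (e' : ℕ) :
    (blockForm σ lam e').Nondegenerate := by
  classical
  have hc : ∀ i : Fin (e' + 1), ((-1 : F) ^ (i : ℕ) * lam) ≠ 0 := fun i =>
    mul_ne_zero (pow_ne_zero _ (neg_ne_zero.mpr one_ne_zero)) hlam0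
  constructor
  · intro x hx
    funext i
    have h1 := hx (Pi.single (Fin.rev i) 1)
    rw [blockForm_apply, Finset.sum_eq_single i] at h1
    · rw [Pi.single_eq_same, mul_one] at h1
      rcases mul_eq_zero.mp h1 with h2 | h2
      · exact (map_eq_zero σ).mp h2
      · exact absurd h2 (hc i)
    · intro k _ hk
      rw [Pi.single_eq_of_ne (fun h => hk (Fin.rev_injective h)), mul_zero]
    · intro h
      exact absurd (Finset.mem_univ i) h
  · intro y hy
    funext i
    have h1 := hy (Pi.single (Fin.rev i) 1)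
    rw [blockForm_apply, Finset.sum_eq_single (Fin.rev i)] at h1
    · rw [Pi.single_eq_same, map_one, one_mul, Fin.rev_rev] at h1
      rcases mul_eq_zero.mp h1 with h2 | h2
      · exact absurd h2 (hc _)
      · exact h2
    · intro k _ hk
      rw [Pi.single_eq_of_ne hk, map_zero, zero_mul, zero_mul]
    · intro h
      exact absurd (Finset.mem_univ _) h

/-- the shift -/
def blockShift (e : ℕ) : Module.End F (Fin e → F) where
  toFun v i := if h : (i : ℕ) = 0 then 0 else v ⟨(i : ℕ) - 1, by have := i.isLt; omega⟩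
  map_add' u v := by
    funext i
    simp only [Pi.add_apply]
    split_ifs
    · rw [add_zero]
    · rfl
  map_smul' c v := by
    funext i
    simp only [Pi.smul_apply, RingHom.id_apply, smul_eq_mul]
    split_ifs
    · rw [mul_zero]
    · rfl

theorem blockShift_apply (e : ℕ) (v : Fin e → F) (i : Fin e) :
    blockShift e v i =
      if h : (i : ℕ) = 0 then 0 else v ⟨(i : ℕ) - 1, by have := i.isLt; omega⟩ := rfl

theorem blockShift_zero (e' : ℕ) (v : Fin (e' + 1) → F) : blockShift (e' + 1) v 0 = 0 := by
  rw [blockShift_apply, dif_pos (by simp)]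

theorem blockShift_succ (e' : ℕ) (v : Fin (e' + 1) → F) (k : Fin e') :
    blockShift (e' + 1) v k.succ = v k.castSucc := by
  rw [blockShift_apply, dif_neg (by simp)]
  congr 1

theorem blockShift_pow_apply (e : ℕ) (j : ℕ) : ∀ (v : Fin e → F) (i : Fin e),
    ((blockShift e) ^ j) v i =
      if h : j ≤ (i : ℕ) then v ⟨(i : ℕ) - j, by have := i.isLt; omega⟩ else 0 := by
  induction j with
  | zero =>
    intro v i
    simp
  | succ j ih =>
    intro v i
    rw [pow_succ', Module.End.mul_apply, blockShift_apply]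
    by_cases h0 : (i : ℕ) = 0
    · rw [dif_pos h0, dif_neg (by omega)]
    · rw [dif_neg h0, ih]
      by_cases hj : j + 1 ≤ (i : ℕ)
      · rw [dif_pos hj, dif_pos (by simp only; omega)]
        congr 1
        apply Fin.ext
        simp only
        omega
      · rw [dif_neg hj, dif_neg (by simp only; omega)]

theorem blockShift_pow_self (e : ℕ) : (blockShift (F := F) e) ^ e = 0 := by
  apply LinearMap.ext
  intro v
  funext i
  rw [blockShift_pow_apply, dif_neg (by have := i.isLt; omega)]
  rfl

theorem blockShift_pow_ne_zero (e' : ℕ) : (blockShift (F := F) (e' + 1)) ^ e' ≠ 0 := by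
  classical
  intro h
  have h1 := congrFun (LinearMap.congr_fun h (Pi.single 0 1)) (Fin.last e')
  rw [blockShift_pow_apply, dif_pos (by simp)] at h1
  have h2 : ∀ (hh : ((Fin.last e' : Fin (e' + 1)) : ℕ) - e' < e' + 1),
      (⟨((Fin.last e' : Fin (e' + 1)) : ℕ) - e', hh⟩ : Fin (e' + 1)) = 0 := by
    intro hh
    apply Fin.ext
    simp
  rw [h2, Pi.single_eq_same] at h1
  exact one_ne_zero h1

/-- the shift is skew-adjoint for the anti-diagonal form -/
theorem blockShift_skew (lam : F) (e' : ℕ) (u v : Fin (e' + 1) → F) :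
    blockForm σ lam e' (blockShift (e' + 1) u) v +
      blockForm σ lam e' u (blockShift (e' + 1) v) = 0 := by
  rw [blockForm_apply, blockForm_apply, Fin.sum_univ_succ, Fin.sum_univ_castSucc]
  rw [blockShift_zero, map_zero, zero_mul, zero_mul, zero_add, Fin.rev_last, blockShift_zero,
    mul_zero, add_zero, ← Finset.sum_add_distrib]
  apply Finset.sum_eq_zero
  intro k _
  rw [blockShift_succ, Fin.rev_succ, Fin.rev_castSucc, blockShift_succ, Fin.val_succ,
    Fin.val_castSucc, pow_succ]
  ring

end Model

end Cfsg.Agent.Lib.Helper2.Und
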