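import Mathlib
import Cfsg.Agent.Lib.Helper2.UndG
import Cfsg.Agent.Lib.Helper5.SpUnip.CayRing
set_option autoImplicit false
set_option maxHeartbeats 1000000
set_option linter.unusedVariables false
set_option linter.unusedSectionVars false
set_option linter.style.longLine false
set_option linter.unusedSimpArgs false
set_option linter.deprecated false
set_option linter.style.haveILetI false

/-! Nondegenerate subspaces of unitary spaces (part H): unipotent isometries from skew-adjoint
nilpotent maps, and their transport to a nondegenerate subspace. -/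

namespace Cfsg.Agent.Lib.Helper2.Und

open Module Polynomial Cfsg Cfsg.Agent.Lib.Helper2 Cfsg.Agent.Lib.Helper5
open Cfsg.Agent.Lib.Helper2.Uti

universe u v w

section Cayley

variable {F : Type u} [Field F] {σ : F →+* F} {V : Type v} [AddCommGroup V] [Module F V]
variable (B : V →ₛₗ[σ] V →ₗ[F] F)

/-- skew-adjoint endomorphisms -/
def IsSkew (N : Module.End F V) : Prop := ∀ u v, B (N u) v + B u (N v) = 0

/-- a unipotent isometry from a nilpotent skew-adjoint map of nilpotency index at most `p` -/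
theorem exists_unip_of_skew {p : ℕ} [hp : Fact p.Prime] [CharP F p] {N : Module.End F V}
    (hN : IsSkew B N) {e : ℕ} (he1 : 1 ≤ e) (hep : e ≤ p) (hNe : N ^ e = 0)
    (hNe' : N ^ (e - 1) ≠ 0) :
    ∃ y : Module.End F V, IsIsom B y ∧ y ^ p = 1 ∧ (y - 1) ^ e = 0 ∧ (y - 1) ^ (e - 1) ≠ 0 := by
  by_cases h2 : (2 : F) = 0
  · -- characteristic two
    have hp2 : p = 2 := by
      have h3 : ((2 : ℕ) : F) = 0 := by exact_mod_cast h2
      have h4 := (CharP.cast_eq_zero_iff F p 2).mp h3
      exact ((Nat.prime_dvd_prime_iff_eq hp.out Nat.prime_two).mp h4)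
    have hN2 : N ^ 2 = 0 := by
      have h3 : 2 = e + (2 - e) := by omega
      rw [h3, pow_add, hNe, zero_mul]
    have hNN : ∀ v, N (N v) = 0 := by
      intro v
      have := LinearMap.congr_fun hN2 v
      rwa [pow_two, Module.End.mul_apply, LinearMap.zero_apply] at this
    have hdbl : N + N = 0 := by
      have : N + N = (2 : F) • N := by rw [two_smul]
      rw [this, h2, zero_smul]
    refine ⟨1 + N, ?_, ?_, ?_, ?_⟩
    · intro u v
      have h3 := hN u v
      have h4 := hN u (N v)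
      rw [hNN, map_zero, add_zero] at h4
      simp only [LinearMap.add_apply, Module.End.one_apply, map_add]
      linear_combination h3 + h4
    · rw [hp2]
      have : (1 + N) ^ 2 = 1 + (N + N) + N ^ 2 := by
        rw [pow_two, pow_two]
        noncomm_ring
      rw [this, hdbl, hN2, add_zero, add_zero]
    · rw [add_sub_cancel_left, hNe]
    · rw [add_sub_cancel_left]
      exact hNe'
  · -- odd characteristic: the Cayley transform
    obtain ⟨a, ha1, ha2, ha3⟩ :=
      Cfsg.Agent.Lib.Helper5.SpUnip.exists_of_nilpotent (n := N) ⟨e, hNe⟩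
    have ha1' : (1 - N) * a = 1 + N := (Cfsg.Agent.Lib.Helper5.SpUnip.cayRel_iff a N).mp ha1
    obtain ⟨W, hW⟩ := (show IsNilpotent N from ⟨e, hNe⟩).isUnit_one_sub
    have hsurj : ∀ u : V, ∃ u', u = (1 - N) u' := by
      intro u
      refine ⟨((W⁻¹ : (Module.End F V)ˣ) : Module.End F V) u, ?_⟩
      rw [← hW, ← Module.End.mul_apply, Units.mul_inv, Module.End.one_apply]
    have hau : ∀ u', a ((1 - N) u') = (1 + N) u' := by
      intro u'
      rw [← Module.End.mul_apply, ha2]
    refine ⟨a, ?_, ?_, ha3 e hNe, ?_⟩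
    · intro u v
      obtain ⟨u', rfl⟩ := hsurj u
      obtain ⟨v', rfl⟩ := hsurj v
      rw [hau, hau]
      have h3 := hN u' v'
      simp only [LinearMap.add_apply, LinearMap.sub_apply, Module.End.one_apply, map_add, map_sub]
      linear_combination (2 : F) * h3
    · have h3 := Cfsg.Agent.Lib.Helper5.SpUnip.sub_one_pow_char (F := F) (p := p) a
      have h4 : (a - 1) ^ p = 0 := by
        have h5 : p = e + (p - e) := by omega
        rw [h5, pow_add, ha3 e hNe, zero_mul]
      rw [h4] at h3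
      exact (sub_eq_zero.mp h3.symm)
    · intro h3
      have hc : Commute (a - 1) (1 - N) := by
        have h4 : Commute a (1 - N) := by
          show a * (1 - N) = (1 - N) * a
          rw [ha2, ha1']
        exact h4.sub_left (Commute.one_left _)
      have h5 : (a - 1) * (1 - N) = (2 : F) • N := by
        rw [sub_mul, ha2, one_mul, two_smul]
        abel
      have h6 : ((a - 1) * (1 - N)) ^ (e - 1) = 0 := by
        rw [hc.mul_pow, h3, zero_mul]
      rw [h5, _root_.smul_pow] at h6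
      rcases smul_eq_zero.mp h6 with h7 | h7
      · exact h2 (pow_eq_zero_iff (by
          intro h8
          apply hNe'
          rw [h8, pow_zero] at h7 ⊢
          exact absurd h7 one_ne_zero) |>.mp h7)
      · exact hNe' h7

end Cayley

section Transport

variable {F : Type u} [Field F] {σ : F →+* F} {V : Type v} [AddCommGroup V] [Module F V]
variable [FiniteDimensional F V]
variable (B : V →ₛₗ[σ] V →ₗ[F] F)

/-- an isometry of a model space, placed on a nondegenerate subspace and extended by the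
identity on the orthogonal complement -/
theorem place_iso (hσ2 : ∀ a, σ (σ a) = a) (hS : B.IsSymm) (hB : B.Nondegenerate)
    {Z : Submodule F V} (hZ : ND B Z) {M : Type w} [AddCommGroup M] [Module F M]
    (BM : M →ₛₗ[σ] M →ₗ[F] F) {yM : Module.End F M} (hyM : IsIsom BM yM) (φ : M ≃ₗ[F] Z)
    (hφ : ∀ x x', B (φ x : V) (φ x' : V) = BM x x') :
    ∃ x : Module.End F V, IsIsom B x ∧ Elus.Inv x Z ∧ (∀ v ∈ perp B Z, x v = v) ∧
      ∀ w : M, x (φ w : V) = (φ (yM w) : V) := by
  have hc := nd_isCompl B hσ2 hB hZ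
  obtain ⟨x₁, hx₁⟩ : ∃ x₁ : Z →ₗ[F] V, ∀ z : Z, x₁ z = (φ (yM (φ.symm z)) : V) :=
    ⟨Z.subtype ∘ₗ (φ : M →ₗ[F] Z) ∘ₗ yM ∘ₗ (φ.symm : Z →ₗ[F] M), fun z => rfl⟩
  have hg1 : ∀ w : M, (LinearMap.ofIsCompl hc x₁ (perp B Z).subtype : Module.End F V)
      (φ w : V) = (φ (yM w) : V) := by
    intro w
    rw [LinearMap.ofIsCompl_left_apply hc (φ w), hx₁, φ.symm_apply_apply]
  have hg2 : ∀ v ∈ perp B Z, (LinearMap.ofIsCompl hc x₁ (perp B Z).subtype : Module.End F V) v
      = v := by
    intro v hv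
    exact LinearMap.ofIsCompl_right_apply hc (⟨v, hv⟩ : perp B Z)
  generalize (LinearMap.ofIsCompl hc x₁ (perp B Z).subtype : Module.End F V) = g at hg1 hg2
  have hdecomp : ∀ v : V, ∃ m : M, ∃ q ∈ perp B Z, v = (φ m : V) + q := by
    intro v
    have h : v ∈ Z ⊔ perp B Z := by
      rw [hc.sup_eq_top]
      trivial
    obtain ⟨p, hp, q, hq, rfl⟩ := Submodule.mem_sup.mp h
    refine ⟨φ.symm ⟨p, hp⟩, q, hq, ?_⟩
    rw [φ.apply_symm_apply]
  refine ⟨g, ?_, ?_, hg2, hg1⟩
  · intro u v
    obtain ⟨m, q, hq, rfl⟩ := hdecomp u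
    obtain ⟨m', q', hq', rfl⟩ := hdecomp v
    rw [map_add g, map_add g, hg1, hg1, hg2 q hq, hg2 q' hq']
    have e1 : B (φ (yM m) : V) q' = 0 := (mem_perp B).mp hq' _ (φ (yM m)).2
    have e2 : B q (φ (yM m') : V) = 0 := swap_zero B hS ((mem_perp B).mp hq _ (φ (yM m')).2)
    have e3 : B (φ m : V) q' = 0 := (mem_perp B).mp hq' _ (φ m).2
    have e4 : B q (φ m' : V) = 0 := swap_zero B hS ((mem_perp B).mp hq _ (φ m').2)
    have e5 := hφ (yM m) (yM m')
    have e6 := hφ m m'
    have e7 := hyM m m'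
    simp only [map_add, LinearMap.add_apply]
    linear_combination e1 + e2 - e3 - e4 + e5 - e6 + e7
  · intro u hu
    have h1 : u = (φ (φ.symm ⟨u, hu⟩) : V) := by rw [φ.apply_symm_apply]
    rw [h1, hg1]
    exact (φ _).2

omit [FiniteDimensional F V] in
theorem place_pow {Z : Submodule F V} {M : Type w} [AddCommGroup M] [Module F M]
    {x : Module.End F V} {yM : Module.End F M} (φ : M ≃ₗ[F] Z)
    (h : ∀ w : M, x (φ w : V) = (φ (yM w) : V)) (k : ℕ) :
    ∀ w : M, (x ^ k) (φ w : V) = (φ ((yM ^ k) w) : V) := by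
  induction k with
  | zero =>
    intro w
    rw [pow_zero, pow_zero, Module.End.one_apply, Module.End.one_apply]
  | succ k ih =>
    intro w
    rw [pow_succ, Module.End.mul_apply, h, ih, pow_succ, Module.End.mul_apply]

omit [FiniteDimensional F V] in
theorem place_sub_one {Z : Submodule F V} {M : Type w} [AddCommGroup M] [Module F M]
    {x : Module.End F V} {yM : Module.End F M} (φ : M ≃ₗ[F] Z)
    (h : ∀ w : M, x (φ w : V) = (φ (yM w) : V)) :
    ∀ w : M, (x - 1) (φ w : V) = (φ ((yM - 1) w) : V) := by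
  intro w
  rw [LinearMap.sub_apply, LinearMap.sub_apply, Module.End.one_apply, Module.End.one_apply, h,
    map_sub, Submodule.coe_sub]

omit [FiniteDimensional F V] in
theorem pow_fix {x : Module.End F V} {v : V} (h : x v = v) (k : ℕ) : (x ^ k) v = v := by
  induction k with
  | zero => rw [pow_zero, Module.End.one_apply]
  | succ k ih => rw [pow_succ, Module.End.mul_apply, h, ih]

end Transport

section Block

variable {F : Type u} [Field F] [Fintype F] {q : ℕ} (hF : Fintype.card F = q ^ 2)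
variable {V : Type v} [AddCommGroup V] [Module F V] [FiniteDimensional F V]
variable (B : V →ₛₗ[HermBridge.sigma hF] V →ₗ[F] F)

omit [FiniteDimensional F V] in
theorem exists_lam (e' : ℕ) :
    ∃ lam : F, lam ≠ 0 ∧ HermBridge.sigma hF lam = (-1) ^ e' * lam := by
  by_cases h : (-1 : F) ^ e' = 1
  · exact ⟨1, one_ne_zero, by rw [map_one, h, mul_one]⟩
  · have h1 : (-1 : F) ^ e' = -1 := by
      rcases neg_one_pow_eq_or F e' with h2 | h2
      · exact absurd h2 h
      · exact h2
    have hne := HermBridge.sigma_ne_id hF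
    obtain ⟨a, ha⟩ : ∃ a, HermBridge.sigma hF a ≠ a := by
      by_contra hcon
      push_neg at hcon
      exact hne (RingHom.ext hcon)
    refine ⟨a - HermBridge.sigma hF a, sub_ne_zero.mpr (Ne.symm ha), ?_⟩
    rw [map_sub, HermBridge.sigma_sigma, h1]
    ring

/-- a model hermitian space is isometric to any nondegenerate subspace of the same dimension -/
theorem exists_isometry_onto (hS : B.IsSymm) {Z : Submodule F V} (hZ : ND B Z)
    {M : Type w} [AddCommGroup M] [Module F M] [FiniteDimensional F M]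
    (BM : M →ₛₗ[HermBridge.sigma hF] M →ₗ[F] F) (hSM : BM.IsSymm) (hBM : BM.Nondegenerate)
    (hfin : finrank F M = finrank F Z) :
    ∃ φ : M ≃ₗ[F] Z, ∀ x x', B (φ x : V) (φ x' : V) = BM x x' := by
  classical
  obtain ⟨b₁, hb₁⟩ := HermBasis.exists_orthonormal_basis (HermBridge.sigma_ne_id hF)
    (HermBridge.sigma_sigma hF) BM hSM hBM
  obtain ⟨b₂, hb₂⟩ := exists_orthonormal hF B hS hZ
  let φ : M ≃ₗ[F] Z := b₁.equiv b₂ (finCongr hfin)
  have hφb : ∀ i, φ (b₁ i) = b₂ (finCongr hfin i) := fun i => Basis.equiv_apply b₁ i b₂ _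
  refine ⟨φ, ?_⟩
  intro x x'
  have hx : x = ∑ i, b₁.repr x i • b₁ i := (b₁.sum_repr x).symm
  have hx' : x' = ∑ i, b₁.repr x' i • b₁ i := (b₁.sum_repr x').symm
  rw [hx, hx']
  simp only [map_sum, map_smul, Submodule.coe_sum, Submodule.coe_smul, hφb, map_smulₛₗ,
    LinearMap.sum_apply, LinearMap.smul_apply, hb₁, hb₂, (finCongr hfin).injective.eq_iff]

/-- a unipotent isometry with a single Jordan block on a given nondegenerate subspace -/
theorem exists_block {p : ℕ} [hp : Fact p.Prime] [CharP F p] (hS : B.IsSymm)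
    (hB : B.Nondegenerate) {Z : Submodule F V} (hZ : ND B Z) (e' : ℕ)
    (hfin : finrank F Z = e' + 1) (hep : e' + 1 ≤ p) :
    ∃ x : Module.End F V, IsIsom B x ∧ x ^ p = 1 ∧ Elus.Inv x Z ∧ (∀ v ∈ perp B Z, x v = v) ∧
      (∀ u ∈ Z, ((x - 1) ^ (e' + 1)) u = 0) ∧ ∃ u ∈ Z, ((x - 1) ^ e') u ≠ 0 := by
  have hσ2 := HermBridge.sigma_sigma hF
  obtain ⟨lam, hlam0, hlam⟩ := exists_lam hF e'
  have hSM := blockForm_isSymm (HermBridge.sigma hF) hσ2 hlam
  have hBM := blockForm_nondeg (HermBridge.sigma hF) hlam0 e'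
  have hsk : IsSkew (blockForm (HermBridge.sigma hF) lam e') (blockShift (e' + 1)) :=
    blockShift_skew _ lam e'
  obtain ⟨yM, hyM, hyMp, hyMe, hyMe'⟩ := exists_unip_of_skew (p := p) (e := e' + 1) _ hsk
    (by omega) hep (blockShift_pow_self (e' + 1))
    (by rw [Nat.add_sub_cancel]; exact blockShift_pow_ne_zero (F := F) e')
  obtain ⟨φ, hφ⟩ := exists_isometry_onto hF B hS hZ _ hSM hBM (by rw [hfin]; simp)
  obtain ⟨x, hxB, hxZ, hxfix, hxφ⟩ := place_iso B hσ2 hS hB hZ _ hyM φ hφ
  have hc := nd_isCompl B hσ2 hB hZ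
  have hN := place_sub_one φ hxφ
  refine ⟨x, hxB, ?_, hxZ, hxfix, ?_, ?_⟩
  · apply LinearMap.ext
    intro v
    have h : v ∈ Z ⊔ perp B Z := by
      rw [hc.sup_eq_top]
      trivial
    obtain ⟨z, hz, t, ht, rfl⟩ := Submodule.mem_sup.mp h
    have h1 : z = (φ (φ.symm ⟨z, hz⟩) : V) := by rw [φ.apply_symm_apply]
    rw [map_add, pow_fix (hxfix t ht) p, h1, place_pow φ hxφ p, hyMp]
    rfl
  · intro u hu
    have h1 : u = (φ (φ.symm ⟨u, hu⟩) : V) := by rw [φ.apply_symm_apply]
    rw [h1, place_pow φ hN (e' + 1), hyMe, LinearMap.zero_apply, map_zero]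
    rfl
  · have h1 : ∃ w : Fin (e' + 1) → F, ((yM - 1) ^ e') w ≠ 0 := by
      by_contra hcon
      push_neg at hcon
      apply hyMe'
      apply LinearMap.ext
      intro w
      rw [Nat.add_sub_cancel, hcon w, LinearMap.zero_apply]
    obtain ⟨w, hw⟩ := h1
    refine ⟨(φ w : V), (φ w).2, ?_⟩
    rw [place_pow φ hN e']
    intro h2
    apply hw
    have h3 : φ (((yM - 1) ^ e') w) = 0 := Subtype.ext h2
    exact (LinearEquiv.map_eq_zero_iff φ).mp h3

/-- the ranks of the powers of `x - 1` on a single block -/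
theorem block_rank (hS : B.IsSymm) {x : Module.End F V} (hxB : IsIsom B x)
    {Z : Submodule F V} (hZ : ND B Z) (hxZ : Elus.Inv x Z) (e' : ℕ)
    (hfin : finrank F Z = e' + 1) (hz : ∀ u ∈ Z, ((x - 1) ^ (e' + 1)) u = 0)
    (hnz : ∃ u ∈ Z, ((x - 1) ^ e') u ≠ 0) (k : ℕ) :
    finrank F (Z.map ((x - 1) ^ k)) = e' + 1 - k := by
  obtain ⟨w₀, hw₀, hw₀e⟩ := hnz
  have he1 : 1 ≤ e' + 1 := by omega
  obtain ⟨u, hu, hud⟩ := exists_aniso B (HermBridge.sigma_ne_id hF) hS hxB hZ hxZ
    (e := e' + 1) he1 hz hw₀ (by rw [Nat.add_sub_cancel]; exact hw₀e)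
  obtain ⟨hDi, hDnd, hDf, hDr⟩ := block_props B hS hxB (e := e' + 1) he1 (hz u hu) hud
  have hDZ : Elus.cyc (x - 1) (e' + 1) u ≤ Z := by
    apply Submodule.span_le.mpr
    rintro _ ⟨k, rfl⟩
    exact inv_pow' (inv_sub_one hxZ) (k : ℕ) u hu
  have hDeq : Elus.cyc (x - 1) (e' + 1) u = Z :=
    Submodule.eq_of_le_of_finrank_eq hDZ (by rw [hDf, hfin])
  rw [← hDeq]
  exact hDr k

end Block

end Cfsg.Agent.Lib.Helper2.Und
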