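import Mathlib
import Cfsg.Agent.Lib.Helper2.UndH
set_option autoImplicit false
set_option maxHeartbeats 1000000
set_option linter.unusedVariables false
set_option linter.unusedSectionVars false
set_option linter.style.longLine false
set_option linter.unusedSimpArgs false
set_option linter.deprecated false
set_option linter.style.haveILetI false

/-! Nondegenerate subspaces of unitary spaces (part I): unipotent isometries of every Jordan type,
and the case `r = p`. -/

namespace Cfsg.Agent.Lib.Helper2.Und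

open Module Polynomial Cfsg Cfsg.Agent.Lib.Helper2 Cfsg.Agent.Lib.Helper5
open Cfsg.Agent.Lib.Helper2.Uti

universe u v w

section CombTwo

/-- the sum of a multiset of ones and twos -/
theorem sum_ones_twos (μ : Multiset ℕ) (h : ∀ a ∈ μ, 0 < a ∧ a ≤ 2) :
    μ.sum = 2 * μ.count 2 + μ.count 1 := by
  induction μ using Multiset.induction with
  | empty => simp
  | cons a μ ih =>
    have h1 := ih (fun b hb => h b (Multiset.mem_cons_of_mem hb))
    obtain ⟨ha0, ha2⟩ := h a (Multiset.mem_cons_self a μ)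
    rw [Multiset.sum_cons, Multiset.count_cons, Multiset.count_cons, h1]
    have h3 : a = 1 ∨ a = 2 := by omega
    rcases h3 with rfl | rfl
    · simp
      omega
    · simp
      omega

/-- subset sums of multisets of ones and twos -/
theorem comb_two (n m : ℕ) (hmn : m ≤ n) :
    (∀ μ : Multiset ℕ, (∀ a ∈ μ, 0 < a ∧ a ≤ 2) → μ.sum = n → ∃ ν ≤ μ, ν.sum = m) ↔
      (Odd n ∨ Even m) := by
  constructor
  · intro h
    by_contra hcon
    push_neg at hcon
    obtain ⟨hn, hm⟩ := hcon
    rw [Nat.not_odd_iff_even] at hn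
    obtain ⟨k, hk⟩ := hn
    obtain ⟨ν, hν, hνs⟩ := h (Multiset.replicate k 2) (fun a ha => by
      rw [Multiset.eq_of_mem_replicate ha]
      omega) (by
      rw [Multiset.sum_replicate, smul_eq_mul]
      omega)
    obtain ⟨j, -, rfl⟩ := Multiset.le_replicate_iff.mp hν
    rw [Multiset.sum_replicate, smul_eq_mul] at hνs
    apply hm
    exact ⟨j, by omega⟩
  · intro h μ hμ hs
    have h1 := sum_ones_twos μ hμ
    obtain ⟨a', b', ha', hb', hab⟩ : ∃ a' b', a' ≤ μ.count 2 ∧ b' ≤ μ.count 1 ∧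
        2 * a' + b' = m := by
      rcases le_total (μ.count 2) (m / 2) with hc | hc
      · refine ⟨μ.count 2, m - 2 * μ.count 2, le_rfl, ?_, ?_⟩
        · omega
        · omega
      · refine ⟨m / 2, m % 2, hc, ?_, ?_⟩
        · rcases h with h | h
          · obtain ⟨t, ht⟩ := h
            omega
          · obtain ⟨t, ht⟩ := h
            omega
        · omega
    refine ⟨Multiset.replicate a' 2 + Multiset.replicate b' 1, ?_, ?_⟩
    · rw [Multiset.le_iff_count]
      intro x
      rw [Multiset.count_add, Multiset.count_replicate, Multiset.count_replicate]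
      by_cases hx2 : 2 = x
      · subst hx2
        simp
        exact ha'
      · by_cases hx1 : 1 = x
        · subst hx1
          simp
          exact hb'
        · rw [if_neg hx2, if_neg hx1]
          omega
    · rw [Multiset.sum_add, Multiset.sum_replicate, Multiset.sum_replicate, smul_eq_mul,
        smul_eq_mul]
      omega

end CombTwo

section Build

variable {F : Type u} [Field F] [Fintype F] {q : ℕ} (hF : Fintype.card F = q ^ 2)
variable {V : Type v} [AddCommGroup V] [Module F V] [FiniteDimensional F V]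
variable (B : V →ₛₗ[HermBridge.sigma hF] V →ₗ[F] F)

omit [Fintype F] [FiniteDimensional F V] in
theorem pow_sub_one_congr {g y : Module.End F V} {A : Submodule F V} (hA : Elus.Inv y A)
    (h : ∀ u ∈ A, g u = y u) (k : ℕ) : ∀ u ∈ A, ((g - 1) ^ k) u = ((y - 1) ^ k) u := by
  induction k with
  | zero =>
    intro u _
    rw [pow_zero, pow_zero]
  | succ k ih =>
    intro u hu
    have h1 : (g - 1) u = (y - 1) u := by
      rw [LinearMap.sub_apply, LinearMap.sub_apply, h u hu]
    rw [pow_succ, Module.End.mul_apply, pow_succ, Module.End.mul_apply, h1,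
      ih _ (inv_sub_one hA u hu)]

omit [Fintype F] [FiniteDimensional F V] in
theorem map_congr_on {f f' : Module.End F V} {A : Submodule F V} (h : ∀ u ∈ A, f u = f' u) :
    A.map f = A.map f' := by
  ext v
  constructor
  · rintro ⟨u, hu, rfl⟩
    exact ⟨u, hu, (h u hu).symm⟩
  · rintro ⟨u, hu, rfl⟩
    exact ⟨u, hu, h u hu⟩

/-- unipotent isometries of every Jordan type -/
theorem build {p : ℕ} [hp : Fact p.Prime] [CharP F p] (hS : B.IsSymm) (hB : B.Nondegenerate) :
    ∀ μ : Multiset ℕ, (∀ a ∈ μ, 0 < a ∧ a ≤ p) → μ.sum ≤ finrank F V →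
      ∃ (y : Module.End F V) (A : Submodule F V), IsIsom B y ∧ y ^ p = 1 ∧ ND B A ∧
        Elus.Inv y A ∧ (∀ v ∈ perp B A, y v = v) ∧ finrank F A = μ.sum ∧
        ∀ k, finrank F (A.map ((y - 1) ^ k)) = rsum μ k := by
  have hσ2 := HermBridge.sigma_sigma hF
  intro μ
  induction μ using Multiset.induction with
  | empty =>
    intro _ _
    refine ⟨1, ⊥, isIsom_one B, one_pow p, nd_bot B, Elus.inv_bot 1, fun v _ => rfl, by simp, ?_⟩
    intro k
    rw [Submodule.map_bot, finrank_bot, rsum_nil]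
  | cons a μ ih =>
    intro hparts hsum
    rw [Multiset.sum_cons] at hsum
    obtain ⟨y, A, hyB, hyp, hAnd, hAi, hAfix, hAfin, hArk⟩ :=
      ih (fun b hb => hparts b (Multiset.mem_cons_of_mem hb)) (by omega)
    obtain ⟨ha0, hap⟩ := hparts a (Multiset.mem_cons_self a μ)
    obtain ⟨e', rfl⟩ : ∃ e', a = e' + 1 := ⟨a - 1, by omega⟩
    obtain ⟨hAp, hApfin⟩ := nd_perp B hσ2 hS hB hAnd
    obtain ⟨Z, hZA, hZ, hZfin⟩ := exists_nd_sub hF B hS hAp (e' + 1) (by omega)
    obtain ⟨x, hxB, hxp, hxZ, hxfix, hxz, hxnz⟩ := exists_block hF B hS hB hZ e' hZfin hap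
    have hZi : Elus.Inv y Z := fun v hv => by
      rw [hAfix v (hZA hv)]
      exact hv
    obtain ⟨g, hgB, hgp, hgZ, hgP⟩ := glue_iso B hσ2 hS hB hZ x y hxB hyB hxZ
      (inv_perp B hyB hp.out.pos hyp hZi) p hxp hyp
    have hAZp : A ≤ perp B Z := by
      intro u hu
      apply (mem_perp B).mpr
      intro z hz
      exact swap_zero B hS ((mem_perp B).mp (hZA hz) u hu)
    have hgA : ∀ u ∈ A, g u = y u := fun u hu => hgP u (hAZp hu)
    have hgAi : Elus.Inv g A := fun u hu => by
      rw [hgA u hu]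
      exact hAi u hu
    have hgZi : Elus.Inv g Z := fun u hu => by
      rw [hgZ u hu]
      exact hxZ u hu
    have hdisj : Disjoint A Z := hAnd.mono_right hZA
    refine ⟨g, A ⊔ Z, hgB, hgp, nd_sup B hS hAnd hZ ((orth_iff_le_perp B).mpr hZA),
      hgAi.sup hgZi, ?_, ?_, ?_⟩
    · intro v hv
      have hvZ : v ∈ perp B Z := perp_anti B le_sup_right hv
      have hvA : v ∈ perp B A := perp_anti B le_sup_left hv
      rw [hgP v hvZ, hAfix v hvA]
    · rw [Elus.finrank_sup_of_disjoint hdisj, hAfin, hZfin, Multiset.sum_cons, add_comm]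
    · intro k
      rw [rank_split hdisj hgAi hgZi k, rsum_cons,
        map_congr_on (pow_sub_one_congr hAi hgA k),
        map_congr_on (pow_sub_one_congr hxZ hgZ k), hArk k,
        block_rank hF B hS hxB hZ hxZ e' hZfin hxz hxnz k, add_comm]

end Build

section CaseP

variable {F : Type u} [Field F] [Fintype F] {q : ℕ} (hF : Fintype.card F = q ^ 2)
variable {V : Type v} [AddCommGroup V] [Module F V] [FiniteDimensional F V]
variable (B : V →ₛₗ[HermBridge.sigma hF] V →ₗ[F] F)

include hF in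
omit [FiniteDimensional F V] in
theorem p_not_dvd_succ {p : ℕ} [hp : Fact p.Prime] [CharP F p] : ¬ p ∣ q + 1 := by
  have hq2 := two_le_q' hF
  obtain ⟨k, hk⟩ := q_eq_pow hF (p := p)
  intro h
  have hk0 : k ≠ 0 := by
    rintro rfl
    rw [pow_zero] at hk
    omega
  have h1 : p ∣ q := by
    rw [hk]
    exact dvd_pow_self p hk0
  have h2 : p ∣ 1 := (Nat.dvd_add_right h1).mp h
  exact hp.out.one_lt.ne' (Nat.dvd_one.mp h2)

/-- sufficiency for `r = p` -/
theorem nd_suff_p {p : ℕ} [hp : Fact p.Prime] [CharP F p] (hS : B.IsSymm)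
    (hB : B.Nondegenerate) [Nontrivial V] {f : Module.End F V} (hfB : IsIsom B f) (z : F)
    (hf : f ^ p = z • 1) (n m : ℕ) (hn : finrank F V = n)
    (hcomb : ∀ μ : Multiset ℕ, (∀ a ∈ μ, 0 < a ∧ a ≤ p) → μ.sum = n → ∃ ν ≤ μ, ν.sum = m) :
    ∃ W : Submodule F V, finrank F W = m ∧ ND B W ∧ Elus.Inv f W := by
  have hσ2 := HermBridge.sigma_sigma hF
  have hq2 := two_le_q' hF
  have hzz := scalar_norm_one hF B hB hfB p z hf
  obtain ⟨c, hc1, hc2⟩ := exists_root_norm_one p (p_not_dvd_succ hF (p := p)) (by omega) z hzz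
  have hc0 : c ≠ 0 := by
    rintro rfl
    rw [zero_mul] at hc2
    exact zero_ne_one hc2
  have hyB := isIsom_scale hF B hfB c hc2
  have hy := Elus.scale_pow f p c hc0 (by rw [hc1]; exact hf)
  have hN : (c⁻¹ • f - 1) ^ p = 0 := by
    rw [Cfsg.Agent.Lib.Helper5.SpUnip.sub_one_pow_char (F := F) (p := p), hy, sub_self]
  obtain ⟨μ, hμ1, hμ2, hμ3, hμ4⟩ := exists_type B (HermBridge.sigma_ne_id hF) hσ2 hS hB hyB
    hp.out.pos hy hN _ ⊤ rfl (nd_top B hB) (fun x _ => Submodule.mem_top)
  rw [finrank_top, hn] at hμ2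
  obtain ⟨ν, hν, hνs⟩ := hcomb μ hμ1 hμ2
  obtain ⟨W₁, -, hW₁nd, hW₁i, hW₁f⟩ := hμ4 ν hν
  exact ⟨W₁, by rw [hW₁f, hνs], hW₁nd, Elus.scale_inv f c hc0 W₁ hW₁i⟩

/-- necessity for `r = p` -/
theorem nd_nec_p {p : ℕ} [hp : Fact p.Prime] [CharP F p] (hS : B.IsSymm)
    (hB : B.Nondegenerate) (n m : ℕ) (hn : finrank F V = n) (hmn : m ≤ n)
    (H : ∀ y : Module.End F V, IsIsom B y → y ^ p = 1 → y ≠ 1 →
      ∃ W : Submodule F V, finrank F W = m ∧ ND B W ∧ Elus.Inv y W) :
    ∀ μ : Multiset ℕ, (∀ a ∈ μ, 0 < a ∧ a ≤ p) → μ.sum = n → ∃ ν ≤ μ, ν.sum = m := by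
  have hσ2 := HermBridge.sigma_sigma hF
  intro μ hμ hs
  by_cases hone : ∀ a ∈ μ, a = 1
  · have h1 : μ = Multiset.replicate (Multiset.card μ) 1 := Multiset.eq_replicate_card.mpr hone
    have h2 : Multiset.card μ = n := by
      rw [h1, Multiset.sum_replicate, smul_eq_mul, mul_one] at hs
      exact hs
    refine ⟨Multiset.replicate m 1, ?_, ?_⟩
    · rw [h1, h2]
      exact Multiset.replicate_le_replicate 1 |>.mpr hmn
    · simp
  · push_neg at hone
    obtain ⟨a, ha, ha1⟩ := hone
    obtain ⟨y, A, hyB, hyp, hAnd, hAi, hAfix, hAfin, hArk⟩ :=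
      build hF B hS hB μ hμ (by rw [hs, hn])
    have hAtop : A = ⊤ := Submodule.eq_top_of_finrank_eq (by rw [hAfin, hs, hn])
    rw [hAtop] at hArk
    have hy1 : y ≠ 1 := by
      intro h
      have h1 := hArk 1
      rw [h, sub_self, pow_one, Submodule.map_zero, finrank_bot] at h1
      have h2 := (rsum_eq_zero_iff μ 1).mp h1.symm a ha
      have := (hμ a ha).1
      omega
    obtain ⟨W, hWf, hWnd, hWi⟩ := H y hyB hyp hy1
    have hN : (y - 1) ^ p = 0 := by
      rw [Cfsg.Agent.Lib.Helper5.SpUnip.sub_one_pow_char (F := F) (p := p), hyp, sub_self]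
    obtain ⟨ν, hν, hνs⟩ := type_nec B (HermBridge.sigma_ne_id hF) hσ2 hS hB hyB hp.out.pos hyp hN
      μ (fun a ha => (hμ a ha).1) hArk hWnd hWi
    exact ⟨ν, hν, by rw [hνs, hWf]⟩

end CaseP

end Cfsg.Agent.Lib.Helper2.Und
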