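import Mathlib
import Cfsg.Agent.Lib.Helper2.UndI
set_option autoImplicit false
set_option maxHeartbeats 1000000
set_option linter.unusedVariables false
set_option linter.unusedSectionVars false
set_option linter.style.longLine false
set_option linter.unusedSimpArgs false
set_option linter.deprecated false
set_option linter.style.haveILetI false

/-! Nondegenerate subspaces of unitary spaces (part J): the case `r = 2 ≠ p`. -/

namespace Cfsg.Agent.Lib.Helper2.Und

open Module Polynomial Cfsg Cfsg.Agent.Lib.Helper2 Cfsg.Agent.Lib.Helper5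
open Cfsg.Agent.Lib.Helper2.Uti

universe u v w

section TwoSuff

variable {F : Type u} [Field F] [Fintype F] {q : ℕ} (hF : Fintype.card F = q ^ 2)
variable {V : Type v} [AddCommGroup V] [Module F V] [FiniteDimensional F V]
variable (B : V →ₛₗ[HermBridge.sigma hF] V →ₗ[F] F)

theorem val_two_mul (k : ℕ) (hk : k ≠ 0) : padicValNat 2 (2 * k) = 1 + padicValNat 2 k := by
  haveI : Fact (Nat.Prime 2) := ⟨Nat.prime_two⟩
  rw [padicValNat.mul (by norm_num) hk, padicValNat_self]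

/-- sufficiency for `r = 2` -/
theorem nd_suff_two {p : ℕ} [hp : Fact p.Prime] [CharP F p] (hp2 : p ≠ 2) (hS : B.IsSymm)
    (hB : B.Nondegenerate) {f : Module.End F V} (hfB : IsIsom B f)
    (hdet : LinearMap.det f = 1) (z : F) (hf2 : f ^ 2 = z • 1) (n m : ℕ)
    (hn : finrank F V = n) (hn0 : 0 < n) (hmn : m ≤ n)
    (hcond : Odd n ∨ Even m ∨ (padicValNat 2 n ≤ padicValNat 2 (q + 1) ∧ q % 4 = 3)) :
    ∃ W : Submodule F V, finrank F W = m ∧ ND B W ∧ Elus.Inv f W := by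
  classical
  haveI : Nontrivial V := Module.nontrivial_of_finrank_pos (R := F) (by omega)
  have hpodd : Odd p := hp.out.odd_of_ne_two hp2
  obtain ⟨k, hk⟩ := q_eq_pow hF (p := p)
  have hq : Odd q := by
    rw [hk]
    exact hpodd.pow
  have h2F : (2 : F) ≠ 0 := Upp.two_ne_zero_of_odd hF hq
  have hzz := scalar_norm_one hF B hB hfB 2 z hf2
  have hz0 : z ≠ 0 := by
    rintro rfl
    rw [zero_mul] at hzz
    exact zero_ne_one hzz
  have hchar : ringChar F ≠ 2 := by
    rw [ringChar.eq F p]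
    exact hp2
  have hsq : IsSquare z := by
    rw [FiniteField.isSquare_iff hchar hz0, hF]
    obtain ⟨t, ht⟩ := hq
    have h1 : q ^ 2 / 2 = (q + 1) * t := by
      have h3 : q ^ 2 = 2 * ((q + 1) * t) + 1 := by
        rw [ht]
        ring
      rw [h3]
      omega
    rw [h1, pow_mul, pow_succ', hzz, one_pow]
  obtain ⟨lam, hlam⟩ := hsq
  have hlam0 : lam ≠ 0 := by
    rintro rfl
    rw [mul_zero] at hlam
    exact hz0 hlam
  have heps : (lam * lam ^ q) * (lam * lam ^ q) = 1 := by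
    calc (lam * lam ^ q) * (lam * lam ^ q) = (lam * lam) * (lam * lam) ^ q := by ring
      _ = 1 := by rw [← hlam, hzz]
  have hcases : lam * lam ^ q = 1 ∨ lam * lam ^ q = -1 := by
    have h1 : (lam * lam ^ q - 1) * (lam * lam ^ q + 1) = 0 := by linear_combination heps
    rcases mul_eq_zero.mp h1 with h3 | h3
    · left
      exact sub_eq_zero.mp h3
    · right
      exact eq_neg_of_add_eq_zero_left h3
  have hf2' : f ^ 2 = lam ^ 2 • 1 := by
    rw [hf2, hlam, pow_two]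
  rcases hcases with hε | hε
  · have hyB := isIsom_scale hF B hfB lam hε
    have hy2 := Elus.scale_pow f 2 lam hlam0 hf2'
    haveI : Fact (Nat.Prime 2) := ⟨Nat.prime_two⟩
    have hqodd2 : ¬ 2 ∣ q := hq.not_two_dvd_nat
    have hb : (1 : ℕ) = orderOf ((Fintype.card F : ℕ) : ZMod 2) := by
      have h1 : ((Fintype.card F : ℕ) : ZMod 2) = 1 := by
        rw [ZMod.natCast_eq_one_iff_odd, hF]
        exact hq.pow
      rw [h1, orderOf_one]
    have hc : (1 : ℕ) = orderOf (-(q : ZMod 2)) := by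
      have h1 : (-(q : ZMod 2)) = 1 := by
        rw [ZMod.neg_eq_self_mod_two, ZMod.natCast_eq_one_iff_odd]
        exact hq
      rw [h1, orderOf_one]
    have htype : ((1 : ℕ) = 1 ∧ ∃ e, 2 ∣ q ^ (2 * e + 1) + 1) ∨ (1 : ℕ) = 2 * 1 := by
      left
      refine ⟨rfl, 0, ?_⟩
      obtain ⟨t, ht⟩ := hq
      exact ⟨t + 1, by rw [ht]; ring⟩
    have hmod : m % 1 ≤ n % 1 := by
      rw [Nat.mod_one, Nat.mod_one]
    have h2F' : ((2 : ℕ) : F) ≠ 0 := by exact_mod_cast h2F
    obtain ⟨W, hWfin, hWnd, hWi⟩ := nd_suff hF B hS hB 2 (Ne.symm hp2) h2F'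
      hqodd2 1 1 hb hc htype (by omega) n m hn hmn hmod hyB hy2
    exact ⟨W, hWfin, hWnd, Elus.scale_inv f lam hlam0 W hWi⟩
  · obtain ⟨n', hn', hdet'⟩ := anti_det hF B hB h2F hfB lam hε hf2'
    rw [hdet] at hdet'
    rcases hcond with h | h | ⟨hv, hq4⟩
    · exfalso
      obtain ⟨t, ht⟩ := h
      omega
    · exact anti_suff hF B hS hB h2F hfB lam hε hf2' n m hn hmn h
    · exfalso
      have hn'0 : n' ≠ 0 := by omega
      obtain ⟨t, ht⟩ : ∃ t, q = 4 * t + 3 := ⟨q / 4, by omega⟩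
      have hh0 : 2 * (t + 1) ≠ 0 := by omega
      have hq1 : q + 1 = 2 * (2 * (t + 1)) := by omega
      have hnn : n = 2 * n' := by omega
      have hv' : padicValNat 2 n' ≤ padicValNat 2 (2 * (t + 1)) := by
        rw [hnn, hq1, val_two_mul n' hn'0, val_two_mul _ hh0] at hv
        omega
      have hwh : (-(lam ^ 2)) ^ (2 * (t + 1)) = -1 := by
        have h1 : (-(lam ^ 2)) ^ (2 * (t + 1)) = lam * lam ^ q := by
          rw [← pow_succ', hq1, pow_mul (-(lam ^ 2)), neg_pow_two, ← pow_mul, ← pow_mul]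
        rw [h1, hε]
      exact pow_ne_one_of_val h2F (-(lam ^ 2)) n' (2 * (t + 1)) hn'0 hh0 hv' hwh hdet'.symm

end TwoSuff

section TwoNec

variable {F : Type u} [Field F] [Fintype F] {q : ℕ} (hF : Fintype.card F = q ^ 2)

include hF in
/-- elements of `Fˣ` of every order dividing `q² - 1` -/
theorem exists_order (d : ℕ) (hd : d ∣ (q + 1) * (q - 1)) : ∃ γ : Fˣ, orderOf γ = d := by
  obtain ⟨γ₀, hγ₀⟩ := IsCyclic.exists_ofOrder_eq_natCard (α := Fˣ)
  have hcard : Nat.card Fˣ = (q + 1) * (q - 1) := Cfsg.Agent.Lib.Helper5.HermCount.card_units hF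
  have hq := two_le_q' hF
  have hcpos : 0 < Nat.card Fˣ := by
    rw [hcard]
    exact Nat.mul_pos (by omega) (by omega)
  have hdvd : d ∣ Nat.card Fˣ := by
    rw [hcard]
    exact hd
  have hd0 : 0 < d := Nat.pos_of_dvd_of_pos hdvd hcpos
  obtain ⟨e, he⟩ := hdvd
  have he0 : e ≠ 0 := by
    rintro rfl
    rw [mul_zero] at he
    omega
  refine ⟨γ₀ ^ e, ?_⟩
  rw [orderOf_pow_of_dvd he0 (by rw [hγ₀, he]; exact Dvd.intro_left _ rfl), hγ₀, he,
    Nat.mul_div_cancel _ (Nat.pos_of_ne_zero he0)]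

/-- an isometry of determinant one whose square is `ν²` with `ν` of norm `-1` -/
theorem exists_anti_elt (hq : Odd q) (ν : F) (hν : ν * ν ^ q = -1) (n n' : ℕ)
    (hn : n = 2 * n') (hn' : 0 < n') (hdet : (-(ν ^ 2)) ^ n' = 1) :
    ∃ f : Module.End F (Fin n → F), IsIsom (HermBridge.hermSesq hF n) f ∧
      LinearMap.det f = 1 ∧ f ^ 2 = ν ^ 2 • 1 ∧ ∀ z : F, f ≠ z • 1 := by
  classical
  haveI : Fact (Nat.Prime 2) := ⟨Nat.prime_two⟩
  have hB := HermBridge.hermSesq_nondegenerate hF n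
  have h2F := Upp.two_ne_zero_of_odd hF hq
  have hz1 : ν ^ 2 * (ν ^ 2) ^ q = 1 := by
    have h1 : ν ^ 2 * (ν ^ 2) ^ q = (ν * ν ^ q) ^ 2 := by ring
    rw [h1, hν]
    ring
  have hcard : Fintype.card (Fin n' × ZMod 2) = n := by
    rw [Fintype.card_prod, Fintype.card_fin, ZMod.card, hn, mul_comm]
  obtain ⟨eι, -⟩ : ∃ eι : Fin n' × ZMod 2 ≃ Fin n, True :=
    ⟨Fintype.equivFinOfCardEq hcard, trivial⟩
  obtain ⟨T, hT⟩ : ∃ T : (Fin n → F) ≃ₗ[F] (Fin n' × ZMod 2 → F),
      ∀ v x, T v x = v (eι x) := ⟨LinearEquiv.funCongrLeft F F eι, fun v x => rfl⟩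
  obtain ⟨f, hf⟩ : ∃ f : Module.End F (Fin n → F),
      f = T.symm.toLinearMap ∘ₗ shiftEnd n' 2 (ν ^ 2) ∘ₗ T.symm.symm.toLinearMap := ⟨_, rfl⟩
  have hfapp : ∀ v, f v = T.symm (shiftEnd n' 2 (ν ^ 2) (T v)) := by
    intro v
    rw [hf]
    rfl
  have hfr : f ^ 2 = ν ^ 2 • 1 := by
    apply LinearMap.ext
    intro v
    rw [hf, Elus.conj_pow, shiftEnd_pow_self, LinearMap.smul_apply, Module.End.one_apply,
      map_smul, LinearEquiv.symm_symm, LinearEquiv.symm_apply_apply]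
    rfl
  have hfB : IsIsom (HermBridge.hermSesq hF n) f := by
    intro u v
    rw [HermBridge.hermSesq_apply, HermBridge.hermSesq_apply]
    unfold hermForm
    have h1 : ∀ w w' : Fin n → F, ∑ i, w i * (w' i) ^ q = ∑ x, T w x * (T w' x) ^ q := by
      intro w w'
      rw [← Equiv.sum_comp eι]
      apply Finset.sum_congr rfl
      intro x _
      rw [hT, hT]
    rw [h1 (f v) (f u), h1 v u, hfapp, hfapp, LinearEquiv.apply_symm_apply,
      LinearEquiv.apply_symm_apply]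
    exact shiftEnd_herm n' 2 (ν ^ 2) q hz1 (T v) (T u)
  have hfin : finrank F (Fin n → F) = n := Module.finrank_fin_fun F
  refine ⟨f, hfB, ?_, hfr, ?_⟩
  · obtain ⟨n'', h1, h2⟩ := anti_det hF (HermBridge.hermSesq hF n) hB h2F hfB ν hν hfr
    have h3 : n'' = n' := by
      rw [hfin] at h1
      omega
    rw [h2, h3, hdet]
  · intro c hc
    haveI : Nontrivial (Fin n → F) :=
      Module.nontrivial_of_finrank_pos (R := F) (by rw [hfin]; omega)
    have hcc := scalar_norm_one hF (HermBridge.hermSesq hF n) hB hfB 1 c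
      (by rw [pow_one]; exact hc)
    have hc2 : c ^ 2 = ν ^ 2 := by
      rw [hc, _root_.smul_pow, one_pow] at hfr
      exact Elus.smul_one_inj (by omega) hfr
    obtain ⟨t, ht⟩ := hq
    have h1 : c * c ^ q = ν * ν ^ q := by
      rw [← pow_succ', ← pow_succ', (by omega : q + 1 = 2 * (t + 1)), pow_mul, pow_mul, hc2]
    rw [hcc, hν] at h1
    apply h2F
    linear_combination h1

/-- necessity for `r = 2` -/
theorem nd_nec_two {p : ℕ} [hp : Fact p.Prime] [CharP F p] (hp2 : p ≠ 2) (n m : ℕ)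
    (hn : 0 < n)
    (H : ∀ f : Module.End F (Fin n → F), IsIsom (HermBridge.hermSesq hF n) f →
      LinearMap.det f = 1 → (∃ z : F, f ^ 2 = z • 1) → (∀ z : F, f ≠ z • 1) →
      ∃ W : Submodule F (Fin n → F), finrank F W = m ∧ ND (HermBridge.hermSesq hF n) W ∧
        Elus.Inv f W) :
    Odd n ∨ Even m ∨ (padicValNat 2 n ≤ padicValNat 2 (q + 1) ∧ q % 4 = 3) := by
  classical
  haveI : Fact (Nat.Prime 2) := ⟨Nat.prime_two⟩
  by_contra hcon
  push_neg at hcon
  obtain ⟨hn1, hm1, hvq⟩ := hcon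
  rw [Nat.not_odd_iff_even] at hn1
  obtain ⟨n', hn'⟩ := hn1
  have hnn : n = 2 * n' := by omega
  have hn'0 : 0 < n' := by omega
  have hpodd : Odd p := hp.out.odd_of_ne_two hp2
  obtain ⟨k, hk⟩ := q_eq_pow hF (p := p)
  have hq : Odd q := by
    rw [hk]
    exact hpodd.pow
  have h2F : (2 : F) ≠ 0 := Upp.two_ne_zero_of_odd hF hq
  have hB := HermBridge.hermSesq_nondegenerate hF n
  have hq2 := two_le_q' hF
  obtain ⟨a, ha⟩ : ∃ a, a = padicValNat 2 (q + 1) := ⟨_, rfl⟩
  have h2a : 2 ^ a ∣ q + 1 := by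
    rw [ha]
    exact pow_padicValNat_dvd
  have h2a' : ¬ 2 ^ (a + 1) ∣ q + 1 := by
    rw [ha]
    exact pow_succ_padicValNat_not_dvd (by omega)
  have hdvd : 2 ^ (a + 1) ∣ (q + 1) * (q - 1) := by
    rw [pow_succ]
    obtain ⟨t, ht⟩ := hq
    exact Nat.mul_dvd_mul h2a ⟨t, by omega⟩
  obtain ⟨γ, hγ⟩ := exists_order hF (2 ^ (a + 1)) hdvd
  have hν1 : (γ : F) ^ (2 ^ (a + 1)) = 1 := by
    rw [← Units.val_pow_eq_pow_val, ← hγ, pow_orderOf_eq_one, Units.val_one]
  have hνq : (γ : F) ^ (q + 1) ≠ 1 := by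
    intro h
    apply h2a'
    rw [← hγ]
    apply orderOf_dvd_of_pow_eq_one
    apply Units.ext
    rw [Units.val_pow_eq_pow_val, h, Units.val_one]
  have hνq2 : ((γ : F) ^ (q + 1)) ^ 2 = 1 := by
    obtain ⟨t, ht⟩ := h2a
    rw [← pow_mul, ht, (by ring : 2 ^ a * t * 2 = 2 ^ (a + 1) * t), pow_mul, hν1, one_pow]
  have hν : (γ : F) * (γ : F) ^ q = -1 := by
    rw [← pow_succ']
    have h1 : ((γ : F) ^ (q + 1) - 1) * ((γ : F) ^ (q + 1) + 1) = 0 := by
      linear_combination hνq2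
    rcases mul_eq_zero.mp h1 with h3 | h3
    · exact absurd (sub_eq_zero.mp h3) hνq
    · exact eq_neg_of_add_eq_zero_left h3
  have hνa : (γ : F) ^ (2 ^ a) = -1 := by
    have h0 : (γ : F) ^ (2 ^ a) ≠ 1 := by
      intro h
      have h1 : orderOf γ ∣ 2 ^ a := by
        apply orderOf_dvd_of_pow_eq_one
        apply Units.ext
        rw [Units.val_pow_eq_pow_val, h, Units.val_one]
      rw [hγ] at h1
      have h2 := Nat.le_of_dvd (by positivity) h1
      rw [pow_succ] at h2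
      have h3 : 0 < 2 ^ a := by positivity
      omega
    have h1 : ((γ : F) ^ (2 ^ a) - 1) * ((γ : F) ^ (2 ^ a) + 1) = 0 := by
      have h2 : ((γ : F) ^ (2 ^ a)) ^ 2 = 1 := by
        rw [← pow_mul, ← pow_succ, hν1]
      linear_combination h2
    rcases mul_eq_zero.mp h1 with h3 | h3
    · exact absurd (sub_eq_zero.mp h3) h0
    · exact eq_neg_of_add_eq_zero_left h3
  have hdet : (-((γ : F) ^ 2)) ^ n' = 1 := by
    have hq4 : q % 4 = 1 ∨ q % 4 = 3 := by
      obtain ⟨t, ht⟩ := hq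
      omega
    rcases hq4 with hq4 | hq4
    · have ha1 : a = 1 := by
        obtain ⟨t, ht⟩ : ∃ t, q = 4 * t + 1 := ⟨q / 4, by omega⟩
        rw [ha, (by omega : q + 1 = 2 * (2 * t + 1)), val_two_mul _ (by omega)]
        have h1 : padicValNat 2 (2 * t + 1) = 0 := padicValNat.eq_zero_of_not_dvd (by omega)
        omega
      rw [ha1, pow_one] at hνa
      rw [hνa, neg_neg, one_pow]
    · have hlt : a < padicValNat 2 n := by
        by_contra h
        exact hvq (by rw [← ha]; omega) hq4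
      have hdn : 2 ^ (a + 1) ∣ n := (padicValNat_dvd_iff_le (by omega)).mpr (by omega)
      have ha2 : 1 ≤ a := by
        have h4 : 2 ^ 1 ∣ q + 1 := ⟨q / 2 + 1, by omega⟩
        have h5 := (padicValNat_dvd_iff_le (p := 2) (by omega : q + 1 ≠ 0)).mp h4
        omega
      obtain ⟨s, hs⟩ := hdn
      have hn's : n' = 2 ^ a * s := by
        rw [hnn, pow_succ] at hs
        have h6 : 2 * n' = 2 * (2 ^ a * s) := by
          rw [hs]
          ring
        exact Nat.eq_of_mul_eq_mul_left (by norm_num) h6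
      have hev : Even (2 ^ a) := (Nat.even_pow.mpr ⟨even_two, by omega⟩)
      have h8 : (-((γ : F) ^ 2)) ^ (2 ^ a) = 1 := by
        rw [Even.neg_pow hev, ← pow_mul, mul_comm, pow_mul, hνa]
        simp
      rw [hn's, pow_mul, h8, one_pow]
  obtain ⟨f, hfB, hfdet, hf2, hfns⟩ := exists_anti_elt hF hq (γ : F) hν n n' hnn hn'0 hdet
  obtain ⟨W, hWf, hWnd, hWi⟩ := H f hfB hfdet ⟨_, hf2⟩ hfns
  have h7 := anti_parity hF (HermBridge.hermSesq hF n) hB h2F hfB (γ : F) hν hf2 hWnd hWi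
  rw [hWf] at h7
  exact hm1 h7

end TwoNec

end Cfsg.Agent.Lib.Helper2.Und
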