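import Mathlib
import Cfsg.Agent.Lib.Helper2.UndJ
set_option autoImplicit false
set_option maxHeartbeats 1000000
set_option linter.unusedVariables false
set_option linter.unusedSectionVars false
set_option linter.style.longLine false
set_option linter.unusedSimpArgs false
set_option linter.deprecated false
set_option linter.style.haveILetI false

/-! Nondegenerate subspaces of unitary spaces (part K): odd `r ≠ p` and the main theorem. -/

namespace Cfsg.Agent.Lib.Helper2.Und

open Module Polynomial Cfsg Cfsg.Agent.Lib.Helper2 Cfsg.Agent.Lib.Helper5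
open Cfsg.Agent.Lib.Helper2.Uti

universe u v w

section Main

variable {F : Type u} [Field F] [Fintype F] {q : ℕ} (hF : Fintype.card F = q ^ 2)

/-- every non-scalar isometry of determinant one whose `r`-th power is scalar fixes a
nondegenerate `m`-space -/
def NdProp (n m r : ℕ) : Prop :=
  ∀ f : Module.End F (Fin n → F), IsIsom (HermBridge.hermSesq hF n) f → LinearMap.det f = 1 →
    (∃ z : F, f ^ r = z • 1) → (∀ z : F, f ≠ z • 1) →
    ∃ W : Submodule F (Fin n → F), finrank F W = m ∧ ND (HermBridge.hermSesq hF n) W ∧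
      Elus.Inv f W

include hF in
/-- sufficiency for odd `r ≠ p` -/
theorem suff_odd' {p : ℕ} [hp : Fact p.Prime] [CharP F p] (n m : ℕ) (hn : 0 < n)
    (hmn : m ≤ n) (r : ℕ) [hr : Fact r.Prime] (h2r : 2 < r) (hrp : r ≠ p) (i b c : ℕ)
    (hi : i = orderOf (q : ZMod r)) (hb : b = if Even i then i / 2 else i)
    (hc : c = if i % 4 = 0 then i else if i % 4 = 2 then i / 2 else 2 * i)
    (hcond : (i ≠ 2 ∧ c ≤ m ∧ m % c ≤ n % c) ∨
      (i = 2 ∧ (r ∣ m ∨ padicValNat r n ≤ padicValNat r (q + 1))))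
    {f : Module.End F (Fin n → F)} (hfB : IsIsom (HermBridge.hermSesq hF n) f)
    (hdet : LinearMap.det f = 1) (z : F) (hfr : f ^ r = z • 1) :
    ∃ W : Submodule F (Fin n → F), finrank F W = m ∧ ND (HermBridge.hermSesq hF n) W ∧
      Elus.Inv f W := by
  classical
  have hS := HermBridge.hermSesq_isSymm hF n
  have hB := HermBridge.hermSesq_nondegenerate hF n
  have hr2 : r ≠ 2 := by omega
  have hrq := not_dvd_q hF r hrp
  have hrF := cast_ne_zero' (F := F) r hrp
  have hq2 := two_le_q' hF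
  have hfin : finrank F (Fin n → F) = n := Module.finrank_fin_fun F
  haveI : Nontrivial (Fin n → F) := Module.nontrivial_of_finrank_pos (R := F) (by omega)
  have hi0 : 0 < i := by
    rw [hi]
    exact Elus.ord_pos r q hrq
  obtain ⟨hbc1, hbc2, hb0⟩ := bc_facts i b c hi0 hb hc
  have hb' : b = orderOf ((Fintype.card F : ℕ) : ZMod r) := by
    rw [hF]
    exact (ord_sq r q hrq i b hi hb).symm
  have hc' : c = orderOf (-(q : ZMod r)) := (ord_neg r hr2 q hrq i c hi hc).symm
  have htype : (c = b ∧ ∃ e, r ∣ q ^ (2 * e + 1) + 1) ∨ c = 2 * b := by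
    by_cases h42 : i % 4 = 2
    · exact Or.inl ⟨hbc1 h42, sd_type r q hrq i hi h42⟩
    · exact Or.inr (hbc2 h42)
  have hc0 : 0 < c := by
    rcases htype with ⟨h, -⟩ | h <;> omega
  have hzz := scalar_norm_one hF (HermBridge.hermSesq hF n) hB hfB r z hfr
  by_cases hμ : ∃ μ : F, μ ^ r = z ∧ μ * μ ^ q = 1
  · obtain ⟨μ, hμr, hμq⟩ := hμ
    have hμ0 : μ ≠ 0 := by
      rintro rfl
      rw [zero_mul] at hμq
      exact zero_ne_one hμq
    have hyB := isIsom_scale hF (HermBridge.hermSesq hF n) hfB μ hμq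
    have hy := Elus.scale_pow f r μ hμ0 (by rw [hμr]; exact hfr)
    have hmod : m % c ≤ n % c := by
      rcases hcond with ⟨-, -, h⟩ | ⟨hi2, -⟩
      · exact h
      · have hc1 : c = 1 := by
          rw [hi2] at hc
          simpa using hc
        rw [hc1, Nat.mod_one, Nat.mod_one]
    obtain ⟨W, hWfin, hWnd, hWi⟩ := nd_suff hF (HermBridge.hermSesq hF n) hS hB r hrp hrF hrq b c
      hb' hc' htype hc0 n m hfin hmn hmod hyB hy
    exact ⟨W, hWfin, hWnd, Elus.scale_inv f μ hμ0 W hWi⟩
  · push_neg at hμ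
    have hrq1 : r ∣ q + 1 := by
      by_contra h
      obtain ⟨μ, h1, h2⟩ := exists_root_norm_one r h (by omega) z hzz
      exact hμ μ h1 h2
    have hi2 : i = 2 := by
      rw [hi]
      exact (ord_two_iff r hr2 q).mpr hrq1
    have hznp : ∀ β : F, β ^ r ≠ z := by
      intro β hβ
      exact hμ β hβ (norm_one_of_pow hF r hr2 hrq1 β (by rw [hβ]; exact hzz))
    have hrn : r ∣ n := by
      have h1 := Elus.dvd_finrank_of_inv f r z hfr hznp ⊤ (fun x _ => Submodule.mem_top)
      rw [finrank_top, hfin] at h1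
      exact h1
    obtain ⟨k, hk⟩ := hrn
    have hzk : z ^ k = 1 := by
      have h1 := Elus.det_of_pow_eq_smul r z hznp k (Fin n → F) f hfr (by rw [hfin, hk])
      rw [hdet] at h1
      have hodd : Odd r := hr.out.odd_of_ne_two hr2
      have h2 : ((-1 : F)) ^ (r + 1) = 1 := by
        apply Even.neg_one_pow
        exact Odd.add_odd hodd odd_one
      rw [h2, one_mul] at h1
      exact h1.symm
    have hdiv := Elus.pow_dvd_of_nonpow r z hznp k hzk
    rw [hF, padic_sq_sub_one r hr2 q hq2 hrq1] at hdiv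
    have hdiv2 : r ^ (padicValNat r (q + 1) + 1) ∣ n := by
      rw [hk, pow_succ']
      exact Nat.mul_dvd_mul_left r hdiv
    have hval := (padicValNat_dvd_iff_le (p := r) (by omega : n ≠ 0)).mp hdiv2
    have hrm : r ∣ m := by
      rcases hcond with ⟨h, -⟩ | ⟨-, h | h⟩
      · exact absurd hi2 h
      · exact h
      · omega
    exact nd_suff_caseB hF (HermBridge.hermSesq hF n) hS hB r z hznp hfB hfr n m hfin hmn hrm

include hF in
/-- necessity for odd `r ≠ p` -/
theorem nec_odd' {p : ℕ} [hp : Fact p.Prime] [CharP F p] (n m : ℕ) (hn : 0 < n) (hm : 1 ≤ m)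
    (hmn : m ≤ n) (r : ℕ) [hr : Fact r.Prime] (h2r : 2 < r) (hrp : r ≠ p)
    (hrΩ : r ∣ Nat.card {W : Submodule F (Fin n → F) // finrank F W = m ∧
      ∀ u ∈ W, u ≠ 0 → ∃ v ∈ W, hermForm n F q u v ≠ 0})
    (i b c : ℕ)
    (hi : i = orderOf (q : ZMod r)) (hb : b = if Even i then i / 2 else i)
    (hc : c = if i % 4 = 0 then i else if i % 4 = 2 then i / 2 else 2 * i)
    (H : NdProp hF n m r) :
    (i ≠ 2 ∧ c ≤ m ∧ m % c ≤ n % c) ∨
      (i = 2 ∧ (r ∣ m ∨ padicValNat r n ≤ padicValNat r (q + 1))) := by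
  classical
  have hS := HermBridge.hermSesq_isSymm hF n
  have hB := HermBridge.hermSesq_nondegenerate hF n
  have hr2 : r ≠ 2 := by omega
  have hrq := not_dvd_q hF r hrp
  have hrF := cast_ne_zero' (F := F) r hrp
  have hq2 := two_le_q' hF
  have hfin : finrank F (Fin n → F) = n := Module.finrank_fin_fun F
  haveI : Nontrivial (Fin n → F) := Module.nontrivial_of_finrank_pos (R := F) (by omega)
  have hi0 : 0 < i := by
    rw [hi]
    exact Elus.ord_pos r q hrq
  obtain ⟨hbc1, hbc2, hb0⟩ := bc_facts i b c hi0 hb hc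
  have hb' : b = orderOf ((Fintype.card F : ℕ) : ZMod r) := by
    rw [hF]
    exact (ord_sq r q hrq i b hi hb).symm
  have hc' : c = orderOf (-(q : ZMod r)) := (ord_neg r hr2 q hrq i c hi hc).symm
  have htype : (c = b ∧ ∃ e, r ∣ q ^ (2 * e + 1) + 1) ∨ c = 2 * b := by
    by_cases h42 : i % 4 = 2
    · exact Or.inl ⟨hbc1 h42, sd_type r q hrq i hi h42⟩
    · exact Or.inr (hbc2 h42)
  have hc0 : 0 < c := by
    rcases htype with ⟨h, -⟩ | h <;> omega
  by_cases hrq1 : r ∣ q + 1
  · have hi2 : i = 2 := by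
      rw [hi]
      exact (ord_two_iff r hr2 q).mpr hrq1
    right
    refine ⟨hi2, ?_⟩
    by_contra hcon
    push_neg at hcon
    obtain ⟨hrm, hv⟩ := hcon
    obtain ⟨f, hfB, hdet, hfr, hns, hdvd⟩ := exists_caseB_elt hF r hr2 hrq1 n hn hv
    obtain ⟨W, hWfin, hWnd, hWi⟩ := H f hfB hdet hfr hns
    have h1 := hdvd W hWi
    rw [hWfin] at h1
    exact hrm h1
  · have hne : i ≠ 2 := by
      intro h
      apply hrq1
      rw [← ord_two_iff r hr2 q, ← hi]
      exact h
    left
    have hcop : Nat.Coprime r (q + 1) := (Nat.Prime.coprime_iff_not_dvd hr.out).mpr hrq1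
    have hone : ∀ d : F, d * d ^ q = 1 → d ^ r = 1 → d = 1 := by
      intro d h1 h2
      have h3 : d ^ (q + 1) = 1 := by
        rw [pow_succ']
        exact h1
      have h4 := pow_gcd_eq_one.mpr ⟨h2, h3⟩
      rw [Nat.Coprime.gcd_eq_one hcop, pow_one] at h4
      exact h4
    have H' : ∀ y : Module.End F (Fin n → F), IsIsom (HermBridge.hermSesq hF n) y → y ^ r = 1 →
        y ≠ 1 → ∃ W : Submodule F (Fin n → F), finrank F W = m ∧
          ND (HermBridge.hermSesq hF n) W ∧ Elus.Inv y W := by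
      intro y hyB hy hy1
      apply H y hyB ?_ ⟨1, by rw [hy, one_smul]⟩ ?_
      · apply hone _ (det_norm_one hF hyB)
        rw [← map_pow, hy, map_one]
      · intro z hz
        have h1 : z * z ^ q = 1 :=
          scalar_norm_one hF (HermBridge.hermSesq hF n) hB hyB 1 z (by rw [pow_one, hz])
        have h2 : z ^ r = 1 := by
          have h3 : (z ^ r) • (1 : Module.End F (Fin n → F)) = (1 : F) • 1 := by
            rw [one_smul]
            calc (z ^ r) • (1 : Module.End F (Fin n → F)) = (z • 1) ^ r := by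
                  rw [_root_.smul_pow, one_pow]
              _ = 1 := by rw [← hz, hy]
          exact Elus.smul_one_inj hn h3
        apply hy1
        rw [hz, hone z h1 h2, one_smul]
    obtain ⟨t, ht1, htn, ht0, ht⟩ := exists_of_dvd_card_nd hF n m hmn r hrq hrΩ
    have hct : c ∣ t := by
      rw [hc']
      exact orderOf_dvd_of_pow_eq_one ht
    obtain ⟨y₀, hy₀B, hy₀, hy₀1⟩ := exists_order_r hF n r t ht0 htn ht
    have hmod := nd_nec hF (HermBridge.hermSesq hF n) hS hB r hrp hrF hrq b c hb' hc' htype hc0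
      n m hfin hy₀B hy₀ hy₀1 H'
    refine ⟨hne, ?_, hmod⟩
    by_contra hcm
    push_neg at hcm
    obtain ⟨s, hs⟩ := hct
    have h1 : m % c = m := Nat.mod_eq_of_lt hcm
    have h2 : n % c = n - t := by
      have h3 : n = c * s + (n - t) := by omega
      have h4 : (c * s + (n - t)) % c = (n - t) % c := Nat.mul_add_mod c s (n - t)
      rw [← h3] at h4
      rw [h4]
      exact Nat.mod_eq_of_lt (by omega)
    omega

include hF in
/-- the main theorem for isometries of determinant one -/
theorem nd_main {p : ℕ} [hp : Fact p.Prime] [CharP F p] (n m : ℕ) (hn : 3 ≤ n) (hm : 1 ≤ m)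
    (hmn : 2 * m < n) (r : ℕ) [hr : Fact r.Prime]
    (hrΩ : r ∣ Nat.card {W : Submodule F (Fin n → F) // finrank F W = m ∧
      ∀ u ∈ W, u ≠ 0 → ∃ v ∈ W, hermForm n F q u v ≠ 0})
    (i b c : ℕ) (hi : i = orderOf (q : ZMod r)) (hb : b = if Even i then i / 2 else i)
    (hc : c = if i % 4 = 0 then i else if i % 4 = 2 then i / 2 else 2 * i) :
    NdProp hF n m r ↔
    ((r = p ∧ 2 < p ∧ (∀ μ : Multiset ℕ, (∀ a ∈ μ, 0 < a ∧ a ≤ p) → μ.sum = n →
        ∃ ν : Multiset ℕ, ν ≤ μ ∧ ν.sum = m)) ∨
     (r = p ∧ p = 2 ∧ (Odd n ∨ Even m)) ∨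
     (r = 2 ∧ p ≠ 2 ∧ (Odd n ∨ Even m ∨
        (padicValNat 2 n ≤ padicValNat 2 (q + 1) ∧ q % 4 = 3))) ∨
     (r ≠ p ∧ 2 < r ∧ ((i ≠ 2 ∧ c ≤ m ∧ m % c ≤ n % c) ∨
        (i = 2 ∧ (r ∣ m ∨ padicValNat r n ≤ padicValNat r (q + 1)))))) := by
  classical
  have hS := HermBridge.hermSesq_isSymm hF n
  have hB := HermBridge.hermSesq_nondegenerate hF n
  have hfin : finrank F (Fin n → F) = n := Module.finrank_fin_fun F
  haveI : Nontrivial (Fin n → F) := Module.nontrivial_of_finrank_pos (R := F) (by omega)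
  constructor
  · intro H
    by_cases hrp : r = p
    · have hone : ∀ d : F, d ^ p = 1 → d = 1 := by
        intro d hd
        have h1 : (d - 1) ^ p = 0 := by
          rw [sub_pow_char, hd, one_pow, sub_self]
        exact sub_eq_zero.mp ((pow_eq_zero_iff hp.out.ne_zero).mp h1)
      have H' : ∀ y : Module.End F (Fin n → F), IsIsom (HermBridge.hermSesq hF n) y →
          y ^ p = 1 → y ≠ 1 → ∃ W : Submodule F (Fin n → F), finrank F W = m ∧
            ND (HermBridge.hermSesq hF n) W ∧ Elus.Inv y W := by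
        intro y hyB hy hy1
        apply H y hyB ?_ ⟨1, by rw [hrp, hy, one_smul]⟩ ?_
        · apply hone
          rw [← map_pow, hy, map_one]
        · intro z hz
          have h2 : z ^ p = 1 := by
            have h3 : (z ^ p) • (1 : Module.End F (Fin n → F)) = (1 : F) • 1 := by
              rw [one_smul]
              calc (z ^ p) • (1 : Module.End F (Fin n → F)) = (z • 1) ^ p := by
                    rw [_root_.smul_pow, one_pow]
                _ = 1 := by rw [← hz, hy]
            exact Elus.smul_one_inj (by omega) h3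
          apply hy1
          rw [hz, hone z h2, one_smul]
      have hcomb := nd_nec_p hF (HermBridge.hermSesq hF n) hS hB n m hfin (by omega) H'
      by_cases hp2 : p = 2
      · right
        left
        refine ⟨hrp, hp2, ?_⟩
        apply (comb_two n m (by omega)).mp
        intro μ hμ hs
        exact hcomb μ (by rw [hp2]; exact hμ) hs
      · left
        exact ⟨hrp, by have := hp.out.two_le; omega, hcomb⟩
    · by_cases hr2 : r = 2
      · right
        right
        left
        have hp2 : p ≠ 2 := fun h => hrp (by rw [hr2, h])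
        refine ⟨hr2, hp2, ?_⟩
        apply nd_nec_two hF hp2 n m (by omega)
        intro f hfB hdet hz hns
        exact H f hfB hdet (by rw [hr2]; exact hz) hns
      · right
        right
        right
        have h2r : 2 < r := by
          have := hr.out.two_le
          omega
        exact ⟨hrp, h2r, nec_odd' hF n m (by omega) hm (by omega) r h2r hrp hrΩ i b c hi hb hc H⟩
  · rintro (⟨hrp, hp2, hcomb⟩ | ⟨hrp, hp2, h⟩ | ⟨hr2, hp2, h⟩ | ⟨hrp, h2r, h⟩)
    · intro f hfB hdet ⟨z, hz⟩ hns
      rw [hrp] at hz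
      exact nd_suff_p hF _ hS hB hfB z hz n m hfin hcomb
    · intro f hfB hdet ⟨z, hz⟩ hns
      rw [hrp] at hz
      apply nd_suff_p hF _ hS hB hfB z hz n m hfin
      intro μ hμ hs
      exact (comb_two n m (by omega)).mpr h μ (by rw [← hp2]; exact hμ) hs
    · intro f hfB hdet ⟨z, hz⟩ hns
      rw [hr2] at hz
      exact nd_suff_two hF _ hp2 hS hB hfB hdet z hz n m hfin (by omega) (by omega) h
    · intro f hfB hdet ⟨z, hz⟩ hns
      exact suff_odd' hF n m (by omega) (by omega) r h2r hrp i b c hi hb hc h hfB hdet z hz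

/-- nondegeneracy in terms of `hermForm` -/
theorem nd_iff_herm (n : ℕ) (W : Submodule F (Fin n → F)) :
    ND (HermBridge.hermSesq hF n) W ↔
      ∀ u ∈ W, u ≠ 0 → ∃ v ∈ W, hermForm n F q u v ≠ 0 := by
  have hS := HermBridge.hermSesq_isSymm hF n
  rw [nd_iff' (HermBridge.hermSesq hF n) hS]
  constructor
  · intro h2 u hu hu0
    obtain ⟨v, hv, hne⟩ := h2 u hu hu0
    refine ⟨v, hv, ?_⟩
    intro h0
    apply hne
    apply swap_zero (HermBridge.hermSesq hF n) hS
    rw [HermBridge.hermSesq_apply]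
    exact h0
  · intro h2 u hu hu0
    obtain ⟨v, hv, hne⟩ := h2 u hu hu0
    refine ⟨v, hv, ?_⟩
    intro h0
    apply hne
    have h1 := swap_zero (HermBridge.hermSesq hF n) hS h0
    rw [HermBridge.hermSesq_apply] at h1
    exact h1

end Main

end Cfsg.Agent.Lib.Helper2.Und
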