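import Cfsg.Agent.Lib.Helper2.SimpCrit2
import Cfsg.Agent.Lib.Helper2.UniTri3

set_option autoImplicit false

/-! The fusion system of `PSL_n(K)`, `n ≥ 3`, in the defining characteristic is simple. -/

namespace Cfsg.Agent.Lib.Helper2.UniTri

open Matrix Cfsg Cfsg.Agent.Lib.Helper2.SimpCrit2
open scoped Pointwise

variable {K : Type*} [Field K] [Fintype K] {n : ℕ}

local notation "SLn" => Matrix.SpecialLinearGroup (Fin n) K
local notation "PSLn" => Matrix.ProjectiveSpecialLinearGroup (Fin n) K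

omit [Fintype K] in
theorem center_pow_eq_one (p : ℕ) [Fact p.Prime] [CharP K p] [NeZero n] {z : SLn}
    (hz : z ∈ Subgroup.center SLn) (k : ℕ) (hk : z ^ p ^ k = 1) : z = 1 := by
  obtain ⟨r, -, hr⟩ := Matrix.SpecialLinearGroup.mem_center_iff.mp hz
  have h1 := congrArg Subtype.val hk
  rw [Matrix.SpecialLinearGroup.coe_pow, Matrix.SpecialLinearGroup.coe_one, ← hr, ← map_pow]
    at h1
  have h2 : r ^ p ^ k = 1 := by
    have h3 := congrFun (congrFun h1 0) 0
    rw [Matrix.scalar_apply, Matrix.diagonal_apply_eq, Matrix.one_apply_eq] at h3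
    exact h3
  have h4 : (r - 1) ^ p ^ k = 0 := by rw [sub_pow_char_pow, h2, one_pow, sub_self]
  have h5 : r - 1 = 0 :=
    (pow_eq_zero_iff (pow_ne_zero k (Fact.out : p.Prime).ne_zero)).mp h4
  have h6 : r = 1 := by linear_combination h5
  apply Subtype.ext
  rw [← hr, h6, map_one, Matrix.SpecialLinearGroup.coe_one]

theorem psl_simple (p : ℕ) [Fact p.Prime] [CharP K p] (hn : 3 ≤ n) (S : Sylow p PSLn) :
    (groupFusionSystem (S : Subgroup PSLn)).IsSimple p := by
  haveI : NeZero n := ⟨by omega⟩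
  have hp : p.Prime := Fact.out
  obtain ⟨z, hzdef⟩ : ∃ z : Fin n, (z : ℕ) = 0 := ⟨⟨0, by omega⟩, rfl⟩
  obtain ⟨m, hmdef⟩ : ∃ m : Fin n, (m : ℕ) = 1 := ⟨⟨1, by omega⟩, rfl⟩
  obtain ⟨l, hldef⟩ : ∃ l : Fin n, (l : ℕ) = n - 1 := ⟨⟨n - 1, by omega⟩, rfl⟩
  have hz : ∀ a : Fin n, z ≤ a := fun a => by rw [Fin.le_def]; omega
  have hl : ∀ a : Fin n, a ≤ l := fun a => by rw [Fin.le_def]; have := a.2; omega
  have hzm : z < m := by rw [Fin.lt_def]; omega
  have hml : m < l := by rw [Fin.lt_def]; omega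
  have hmz : m ≠ z := ne_of_gt hzm
  have hml' : m ≠ l := ne_of_lt hml
  have hzl' : z ≠ l := ne_of_lt (hzm.trans hml)
  obtain ⟨π, hπdef⟩ : ∃ π : SLn →* PSLn, π = QuotientGroup.mk' (Subgroup.center SLn) :=
    ⟨_, rfl⟩
  have hπker : π.ker = Subgroup.center SLn := by rw [hπdef]; exact QuotientGroup.ker_mk' _
  have hπsurj : Function.Surjective π := by rw [hπdef]; exact QuotientGroup.mk'_surjective _
  have hUp := UT_isPGroup (K := K) (n := n) p
  have hkc : π.ker ≤ Subgroup.center SLn := le_of_eq hπker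
  have hkp : ∀ z ∈ π.ker, ∀ k : ℕ, z ^ p ^ k = 1 → z = 1 := by
    intro z hz k hk
    rw [hπker] at hz
    exact center_pow_eq_one p hz k hk
  -- the image of the unitriangular group is a Sylow subgroup
  obtain ⟨Q, hQ⟩ : ∃ Q : Sylow p PSLn, (Q : Subgroup PSLn) = (UT : Subgroup SLn).map π := by
    apply exists_sylow_eq _ (hUp.map π)
    intro xb hxb hxp
    obtain ⟨x, rfl⟩ := hπsurj xb
    have hxN := lift_mem_normalizer π hkc hkp UT hUp hxb
    obtain ⟨d, hd, u, hu, rfl⟩ := normalizer_decomp hxN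
    obtain ⟨k, hk⟩ := hxp
    have hPz : IsPGroup p (Subgroup.zpowers (π (d * u))) := by
      rintro ⟨y, hy⟩
      obtain ⟨i, rfl⟩ := Subgroup.mem_zpowers_iff.mp hy
      refine ⟨k, Subtype.ext ?_⟩
      rw [Subgroup.coe_pow, Subgroup.coe_one]
      show (π (d * u) ^ i) ^ p ^ k = 1
      rw [← zpow_natCast, ← _root_.zpow_mul, mul_comm, _root_.zpow_mul, zpow_natCast, hk, _root_.one_zpow]
    have hPsup := IsPGroup.to_sup_of_normal_right' hPz (hUp.map π)
      (Subgroup.zpowers_le.mpr hxb)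
    have hdmem : π d ∈ Subgroup.zpowers (π (d * u)) ⊔ (UT : Subgroup SLn).map π := by
      have h1 : π d = π (d * u) * (π u)⁻¹ := by rw [map_mul, mul_inv_cancel_right]
      rw [h1]
      exact Subgroup.mul_mem _ (Subgroup.mem_sup_left (Subgroup.mem_zpowers _))
        (Subgroup.inv_mem _ (Subgroup.mem_sup_right (Subgroup.mem_map_of_mem π hu)))
    obtain ⟨j, hj⟩ := hPsup ⟨π d, hdmem⟩
    have hj' : (π d) ^ p ^ j = 1 := by
      have h2 := congrArg Subtype.val hj
      simpa using h2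
    have hq' : (π d) ^ (Fintype.card K - 1) = 1 := by rw [← map_pow, DD_pow hd, map_one]
    have hcop : Nat.Coprime (p ^ j) (Fintype.card K - 1) := by
      apply Nat.Coprime.pow_left
      rw [Nat.Prime.coprime_iff_not_dvd hp]
      intro h
      obtain ⟨f, -, hf⟩ := FiniteField.card K p
      have hpq : p ∣ Fintype.card K := by rw [hf]; exact dvd_pow_self p f.ne_zero
      have hq1 : 1 < Fintype.card K := Fintype.one_lt_card
      have h5 : p ∣ (Fintype.card K - 1) + 1 := by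
        rw [Nat.sub_add_cancel hq1.le]
        exact hpq
      have h3 := (Nat.dvd_add_right h).mp h5
      exact hp.one_lt.ne' (Nat.dvd_one.mp h3)
    have hd1 : π d = 1 := by
      have h1 := orderOf_dvd_of_pow_eq_one hj'
      have h2 := orderOf_dvd_of_pow_eq_one hq'
      have h3 := Nat.dvd_gcd h1 h2
      rw [Nat.Coprime.gcd_eq_one hcop, Nat.dvd_one] at h3
      exact orderOf_eq_one_iff.mp h3
    rw [map_mul, hd1, one_mul]
    exact Subgroup.mem_map_of_mem π hu
  -- an arbitrary Sylow subgroup is a conjugate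
  obtain ⟨g, hg⟩ := MulAction.exists_smul_eq PSLn Q S
  obtain ⟨ψ, hψdef⟩ : ∃ ψ : SLn →* PSLn, ψ = (MulAut.conj g).toMonoidHom.comp π := ⟨_, rfl⟩
  have hψker : ψ.ker = Subgroup.center SLn := by
    ext x
    have h1 : x ∈ ψ.ker ↔ x ∈ π.ker := by
      rw [MonoidHom.mem_ker, MonoidHom.mem_ker, hψdef, MonoidHom.comp_apply]
      exact (MulAut.conj g).map_eq_one_iff
    rw [h1, hπker]
  have hψsurj : Function.Surjective ψ := by
    rw [hψdef]
    exact (MulAut.conj g).surjective.comp hπsurj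
  have hSU : (S : Subgroup PSLn) = (UT : Subgroup SLn).map ψ := by
    rw [← hg, Sylow.coe_subgroup_smul, hψdef, ← Subgroup.map_map, ← hQ]
    rfl
  have hkpψ : ∀ z ∈ ψ.ker, ∀ k : ℕ, z ^ p ^ k = 1 → z = 1 := by
    intro z hz k hk
    rw [hψker] at hz
    exact center_pow_eq_one p hz k hk
  have hU1 : (UT : Subgroup SLn) ≠ ⊥ := by
    intro h
    have h1 : tv z m (ne_of_lt hzm) (1 : K) ∈ (UT : Subgroup SLn) := tv_mem_UT hzm 1
    rw [h, Subgroup.mem_bot] at h1
    have h2 : (tv z m (ne_of_lt hzm) (1 : K)).1 z m = (1 : SLn).1 z m := by rw [h1]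
    rw [tv_apply, if_pos ⟨rfl, rfl⟩, Matrix.SpecialLinearGroup.coe_one,
      Matrix.one_apply_ne (ne_of_lt hzm), zero_add] at h2
    exact one_ne_zero h2
  apply simple_of_cover ψ hψsurj (le_of_eq hψker) hkpψ UT hUp hU1 S hSU
    (fun T h1 h2 h3 => UT_closed_eq p z m l hz hl hzm hml T h1 h2 h3)
    {A1 z, Al l} ?_ (torusGen m) ?_ (normalizer_le m)
  · intro R hR
    rcases hR with rfl | hR
    · exact ⟨A1_le_UT hz, fun u hu r hr => A1_conj_UT hz hu hr,
        fun u hu hc => A1_selfCentralizing hu hc⟩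
    · rw [Set.mem_singleton_iff] at hR
      subst hR
      exact ⟨Al_le_UT hl, fun u hu r hr => Al_conj_UT hl hu hr,
        fun u hu hc => Al_selfCentralizing hu hc⟩
  · rintro y ⟨i, hi, s, hs, rfl⟩
    refine ⟨DD_le_normalizer (hh_mem_DD i m hi s hs), ?_⟩
    by_cases hiz : i = z
    · have hil : i ≠ l := by rw [hiz]; exact hzl'
      refine ⟨Al l, Set.mem_insert_of_mem _ (Set.mem_singleton _),
        hh_mem_closure p (Al l) i m hi ?_ s⟩
      intro c
      exact ⟨fun r hr => Al_conj_tv hi hil hml' c hr,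
        fun r hr => Al_conj_tv hi.symm hml' hil c hr⟩
    · refine ⟨A1 z, Set.mem_insert _ _, hh_mem_closure p (A1 z) i m hi ?_ s⟩
      intro c
      exact ⟨fun r hr => A1_conj_tv hi hiz hmz c hr,
        fun r hr => A1_conj_tv hi.symm hmz hiz c hr⟩

end Cfsg.Agent.Lib.Helper2.UniTri
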