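import Mathlib
import Cfsg.Agent.Lib.Helper2.FldC
import Cfsg.Agent.Lib.Helper2.JordA
set_option autoImplicit false
set_option maxHeartbeats 1000000
set_option linter.unusedVariables false
set_option linter.unusedSectionVars false
set_option linter.style.longLine false
set_option linter.unusedSimpArgs false
set_option linter.deprecated false
set_option linter.style.haveILetI false

/-! Elements of order three of `PSL_n(3^f)` and subfield subgroups (part A): splitting off a maximal
cyclic subspace of a nilpotent operator, weak Jordan bases, determinants of centralizing elements. -/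

namespace Cfsg.Agent.Lib.Helper2.Unip

open Module Cfsg.Agent.Lib.Helper2 Cfsg.Agent.Lib.Helper2.SpInv Cfsg.Agent.Lib.Helper2.Jord

universe u v

section Split

variable {F : Type u} [Field F] {V : Type v} [AddCommGroup V] [Module F V]
  [FiniteDimensional F V]

/-- a cyclic subspace of maximal length of a nilpotent operator has an invariant complement -/
theorem exists_cyc_split (N : Module.End F V) (e : ℕ) (hN : N ^ e = 0)
    (hV : 0 < finrank F V) :
    ∃ (j : ℕ) (v : V) (W' : Submodule F V), N ^ (j + 1) = 0 ∧ (N ^ j) v ≠ 0 ∧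
      LinearIndependent F (fun t : Fin (j + 1) => (N ^ (t : ℕ)) v) ∧ Elus.Inv N W' ∧
      IsCompl (cyc N v (j + 1)) W' := by
  classical
  have hex : ∃ k, N ^ k = 0 := ⟨e, hN⟩
  obtain ⟨k0, hk0def⟩ : ∃ k0, k0 = Nat.find hex := ⟨_, rfl⟩
  have hk0 : N ^ k0 = 0 := by
    rw [hk0def]
    exact Nat.find_spec hex
  have hk0pos : k0 ≠ 0 := by
    intro h0
    rw [h0, pow_zero] at hk0
    obtain ⟨x, hx⟩ := Module.finrank_pos_iff_exists_ne_zero.mp hV
    apply hx
    have h1 := LinearMap.congr_fun hk0 x
    rw [Module.End.one_apply, LinearMap.zero_apply] at h1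
    exact h1
  obtain ⟨j, hj⟩ := Nat.exists_eq_succ_of_ne_zero hk0pos
  have hjnot : N ^ j ≠ 0 := by
    rw [hk0def] at hj
    exact Nat.find_min hex (by omega)
  obtain ⟨v, hvj⟩ : ∃ v, (N ^ j) v ≠ 0 := by
    by_contra hcon
    push Not at hcon
    exact hjnot (LinearMap.ext hcon)
  have hNj1 : N ^ (j + 1) = 0 := by
    rw [← Nat.succ_eq_add_one, ← hj]
    exact hk0
  have hvk0 : (N ^ (j + 1)) v = 0 := by
    rw [hNj1, LinearMap.zero_apply]
  obtain ⟨f, hf⟩ : ∃ f : Module.Dual F V, f ((N ^ j) v) ≠ 0 := by
    by_contra hcon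
    push Not at hcon
    exact hvj ((Module.forall_dual_apply_eq_zero_iff F _).mp hcon)
  have hli : LinearIndependent F (fun t : Fin (j + 1) => (N ^ (t : ℕ)) v) := by
    rw [Fintype.linearIndependent_iff]
    intro c hc
    apply key N v j hvk0 f hf c
    intro i
    rw [hc, map_zero, map_zero]
  obtain ⟨C, hC⟩ : ∃ C : Submodule F V, C = cyc N v (j + 1) := ⟨_, rfl⟩
  have hCfin : finrank F C = j + 1 := by
    rw [hC]
    exact cyc_finrank N v (j + 1) hli
  obtain ⟨Φ, hΦ⟩ : ∃ Φ : V →ₗ[F] (Fin (j + 1) → F),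
      ∀ x i, Φ x i = f ((N ^ (i : ℕ)) x) :=
    ⟨LinearMap.pi (fun i => f ∘ₗ (N ^ (i : ℕ))), fun x i => rfl⟩
  obtain ⟨W', hW'⟩ : ∃ W' : Submodule F V, W' = LinearMap.ker Φ := ⟨_, rfl⟩
  have hmemW' : ∀ x, x ∈ W' ↔ ∀ i : Fin (j + 1), f ((N ^ (i : ℕ)) x) = 0 := by
    intro x
    rw [hW', LinearMap.mem_ker]
    constructor
    · intro h2 i
      have h3 := congrFun h2 i
      rw [hΦ] at h3
      exact h3
    · intro h2
      funext i
      rw [hΦ]
      exact h2 i
  have hW'inv : Elus.Inv N W' := by
    intro x hx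
    rw [hmemW'] at hx ⊢
    intro i
    have h1 : (N ^ (i : ℕ)) (N x) = (N ^ ((i : ℕ) + 1)) x := by
      rw [pow_succ, Module.End.mul_apply]
    rw [h1]
    by_cases hi : (i : ℕ) + 1 < j + 1
    · exact hx ⟨(i : ℕ) + 1, hi⟩
    · have h2 : (i : ℕ) + 1 = j + 1 := by
        have := i.2
        omega
      rw [h2, hNj1, LinearMap.zero_apply, map_zero]
  have hdisj : Disjoint C W' := by
    rw [Submodule.disjoint_def]
    intro x hxC hxW'
    rw [hC] at hxC
    unfold cyc at hxC
    obtain ⟨c, rfl⟩ := (Submodule.mem_span_range_iff_exists_fun F).mp hxC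
    have hc0 := key N v j hvk0 f hf c ((hmemW' _).mp hxW')
    apply Finset.sum_eq_zero
    intro t _
    rw [hc0 t, zero_smul]
  have hW'fin : finrank F V ≤ finrank F W' + (j + 1) := by
    have h1 := LinearMap.finrank_range_add_finrank_ker Φ
    have h2 : finrank F (LinearMap.range Φ) ≤ j + 1 := by
      have h3 := Submodule.finrank_le (LinearMap.range Φ)
      rw [Module.finrank_fin_fun] at h3
      exact h3
    rw [← hW'] at h1
    omega
  have hsupfin : finrank F (C ⊔ W' : Submodule F V) = finrank F C + finrank F W' :=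
    Elus.finrank_sup_of_disjoint hdisj
  have hsup : C ⊔ W' = ⊤ := by
    apply Submodule.eq_top_of_finrank_eq
    have h1 := Submodule.finrank_le (C ⊔ W')
    omega
  refine ⟨j, v, W', hNj1, hvj, hli, hW'inv, ?_⟩
  rw [← hC]
  exact ⟨hdisj, codisjoint_iff.mpr hsup⟩

end Split

section Basis

variable {F : Type u} [Field F]

/-- a basis on which a nilpotent operator maps each vector to zero or to another basis vector -/
theorem exists_jordan_basis (e : ℕ) : ∀ (k : ℕ) (V : Type v) [AddCommGroup V] [Module F V]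
    [FiniteDimensional F V] (N : Module.End F V), finrank F V = k → N ^ e = 0 →
    ∃ (ι : Type) (_ : Fintype ι) (_ : DecidableEq ι) (b : Basis ι F V),
      ∀ j, N (b j) = 0 ∨ ∃ j', N (b j) = b j' := by
  intro k
  induction k using Nat.strong_induction_on with
  | _ k ih =>
    intro V _ _ _ N hfin hN
    classical
    by_cases hk0 : k = 0
    · subst hk0
      refine ⟨Fin (finrank F V), inferInstance, inferInstance, Module.finBasis F V, ?_⟩
      intro j
      exact absurd j.2 (by omega)
    · obtain ⟨j, v, W', hNj1, hvj, hli, hW'inv0, hcompl⟩ :=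
        exists_cyc_split N e hN (by omega)
      have hW'inv : ∀ x ∈ W', N x ∈ W' := hW'inv0
      have hsum := Submodule.finrank_add_eq_of_isCompl hcompl
      rw [cyc_finrank N v (j + 1) hli] at hsum
      obtain ⟨ι', instF, instD, b', hb'⟩ := ih (k - (j + 1)) (by omega) W' (N.restrict hW'inv)
        (by omega) (by
          rw [Module.End.pow_restrict e hW'inv]
          refine LinearMap.ext fun x => Subtype.ext ?_
          show (N ^ e) (x : V) = 0
          rw [hN, LinearMap.zero_apply])
      obtain ⟨bP, hbP⟩ : ∃ bP : Basis (Fin (j + 1)) F (cyc N v (j + 1)),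
          ∀ t, ((bP t : cyc N v (j + 1)) : V) = (N ^ (t : ℕ)) v := by
        have hcd : Submodule.span F (Set.range (fun t : Fin (j + 1) => (N ^ (t : ℕ)) v)) =
            cyc N v (j + 1) := rfl
        refine ⟨(Basis.span hli).map (LinearEquiv.ofEq _ _ hcd), fun t => ?_⟩
        rw [Basis.map_apply, LinearEquiv.coe_ofEq_apply, Basis.span_apply]
      refine ⟨Fin (j + 1) ⊕ ι', inferInstance, inferInstance,
        (bP.prod b').map ((cyc N v (j + 1)).prodEquivOfIsCompl W' hcompl), ?_⟩
      have hinl : ∀ i, ((bP.prod b').map ((cyc N v (j + 1)).prodEquivOfIsCompl W' hcompl))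
          (Sum.inl i) = (N ^ (i : ℕ)) v := by
        intro i
        rw [Basis.map_apply, Basis.prod_apply, ← hbP]
        simp
      have hinr : ∀ i, ((bP.prod b').map ((cyc N v (j + 1)).prodEquivOfIsCompl W' hcompl))
          (Sum.inr i) = (b' i : V) := by
        intro i
        rw [Basis.map_apply, Basis.prod_apply]
        simp
      rintro (i | i)
      · rw [hinl]
        have h1 : N ((N ^ (i : ℕ)) v) = (N ^ ((i : ℕ) + 1)) v := by
          rw [pow_succ', Module.End.mul_apply]
        rw [h1]
        by_cases hi : (i : ℕ) + 1 < j + 1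
        · right
          refine ⟨Sum.inl ⟨(i : ℕ) + 1, hi⟩, ?_⟩
          rw [hinl]
        · left
          have h2 : (i : ℕ) + 1 = j + 1 := by
            have := i.2
            omega
          rw [h2, hNj1, LinearMap.zero_apply]
      · rw [hinr]
        rcases hb' i with h | ⟨i', h⟩
        · left
          have h1 := congrArg Subtype.val h
          rw [LinearMap.restrict_coe_apply] at h1
          exact h1
        · right
          refine ⟨Sum.inr i', ?_⟩
          rw [hinr]
          have h1 := congrArg Subtype.val h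
          rw [LinearMap.restrict_coe_apply] at h1
          exact h1

end Basis

section Cent

variable {F : Type u} [Field F] [Fintype F] {V : Type v} [AddCommGroup V] [Module F V]
  [FiniteDimensional F V]

omit [Fintype F] [FiniteDimensional F V] in
theorem isCompl_span_ker (f : V →ₗ[F] F) (v₁ : V) (hf : f v₁ ≠ 0) :
    IsCompl (Submodule.span F {v₁}) (LinearMap.ker f) := by
  constructor
  · rw [Submodule.disjoint_def]
    intro x hx hxk
    obtain ⟨c, rfl⟩ := Submodule.mem_span_singleton.mp hx
    rw [LinearMap.mem_ker, map_smul, smul_eq_mul] at hxk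
    rcases mul_eq_zero.mp hxk with h | h
    · rw [h, zero_smul]
    · exact absurd h hf
  · rw [codisjoint_iff, eq_top_iff]
    intro u _
    rw [Submodule.mem_sup]
    refine ⟨(f u * (f v₁)⁻¹) • v₁, Submodule.mem_span_singleton.mpr ⟨_, rfl⟩,
      u - (f u * (f v₁)⁻¹) • v₁, ?_, by abel⟩
    rw [LinearMap.mem_ker, map_sub, map_smul, smul_eq_mul, mul_assoc, inv_mul_cancel₀ hf, mul_one,
      sub_self]

/-- determinants of elements centralizing a nilpotent operator with `N³ = 0` in characteristic
three: all of them, or all squares and the operator is of type `2^m` -/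
theorem cent_tri [CharP F 3] (N : Module.End F V) (hN : N ^ 3 = 0) (hV : 0 < finrank F V) :
    (∀ δ : F, ∃ h : Module.End F V, h * N = N * h ∧ LinearMap.det h = δ) ∨
    ((∀ δ : F, ∃ h : Module.End F V, h * N = N * h ∧ LinearMap.det h = δ * δ) ∧
      (∀ u, N (N u) = 0) ∧ (∀ v, N v = 0 → ∃ u, v = N u)) := by
  classical
  obtain ⟨j, v, W', hNj1, hvj, hli, hW'inv, hcompl⟩ := exists_cyc_split N 3 hN hV
  have hPinv : Elus.Inv N (cyc N v (j + 1)) := cyc_inv N v (j + 1) (by
    rw [hNj1, LinearMap.zero_apply])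
  have hPfin : finrank F (cyc N v (j + 1)) = j + 1 := cyc_finrank N v (j + 1) hli
  have hj3 : j < 3 := by
    by_contra hge
    push Not at hge
    apply hvj
    have h1 : j = 3 + (j - 3) := by omega
    rw [h1, pow_add, hN, zero_mul, LinearMap.zero_apply]
  have hblock : ∀ δ : F, ∃ h : Module.End F V, h * N = N * h ∧ LinearMap.det h = δ ^ (j + 1) := by
    intro δ
    obtain ⟨h, h1, h2⟩ := exists_cent hcompl N hPinv hW'inv
      (δ • (1 : Module.End F (cyc N v (j + 1)))) (by
        rw [smul_mul_assoc, one_mul, mul_smul_comm, mul_one])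
    refine ⟨h, h1, ?_⟩
    rw [h2, LinearMap.det_smul, hPfin, map_one, mul_one]
  have hcube : ∀ τ : F, ∃ δ : F, δ ^ 3 = τ := by
    intro τ
    have hinj : Function.Injective (frobenius F 3) := frobenius_inj F 3
    obtain ⟨δ, hδ⟩ := (Finite.injective_iff_surjective.mp hinj) τ
    exact ⟨δ, by rw [← frobenius_def]; exact hδ⟩
  rcases (by omega : j = 0 ∨ j = 2 ∨ j = 1) with rfl | rfl | rfl
  · left
    intro δ
    obtain ⟨h, h1, h2⟩ := hblock δ
    exact ⟨h, h1, by rw [h2, zero_add, pow_one]⟩
  · left
    intro τ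
    obtain ⟨δ, hδ⟩ := hcube τ
    obtain ⟨h, h1, h2⟩ := hblock δ
    exact ⟨h, h1, by rw [h2, hδ]⟩
  · have hNN : ∀ u, N (N u) = 0 := by
      intro u
      have h1 := LinearMap.congr_fun hNj1 u
      rw [pow_two, Module.End.mul_apply, LinearMap.zero_apply] at h1
      exact h1
    by_cases hkr : ∀ v', N v' = 0 → ∃ u, v' = N u
    · right
      refine ⟨fun δ => ?_, hNN, hkr⟩
      obtain ⟨h, h1, h2⟩ := hblock δ
      exact ⟨h, h1, by rw [h2, pow_two]⟩
    · left
      push Not at hkr
      obtain ⟨v₁, hv₁, hv₁r⟩ := hkr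
      have hnot : v₁ ∉ LinearMap.range N := by
        rintro ⟨u, hu⟩
        exact hv₁r u hu.symm
      obtain ⟨f, hf1, hf2⟩ := Submodule.exists_le_ker_of_notMem hnot
      have hPC := isCompl_span_ker f v₁ hf1
      have hP : ∀ x ∈ Submodule.span F {v₁}, N x ∈ Submodule.span F {v₁} := by
        intro x hx
        obtain ⟨c, rfl⟩ := Submodule.mem_span_singleton.mp hx
        rw [map_smul, hv₁, smul_zero]
        exact zero_mem _
      have hC : ∀ x ∈ LinearMap.ker f, N x ∈ LinearMap.ker f := by
        intro x _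
        exact hf2 ⟨x, rfl⟩
      have hv₁0 : v₁ ≠ 0 := by
        rintro rfl
        exact hnot (zero_mem _)
      intro δ
      obtain ⟨h, h1, h2⟩ := exists_cent hPC N hP hC
        (δ • (1 : Module.End F (Submodule.span F {v₁}))) (by
          rw [smul_mul_assoc, one_mul, mul_smul_comm, mul_one])
      refine ⟨h, h1, ?_⟩
      rw [h2, LinearMap.det_smul, finrank_span_singleton hv₁0, map_one, mul_one, pow_one]

end Cent

end Cfsg.Agent.Lib.Helper2.Unip
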