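import Mathlib
import Cfsg.Agent.Lib.Helper2.UnipA
set_option autoImplicit false
set_option maxHeartbeats 1000000
set_option linter.unusedVariables false
set_option linter.unusedSectionVars false
set_option linter.style.longLine false
set_option linter.unusedSimpArgs false
set_option linter.deprecated false
set_option linter.style.haveILetI false

/-! Elements of order three of `PSL_n(3^f)` and subfield subgroups (part B): conjugacy of unipotent
operators of type `2^m`, determinants of their centralizers, descent to the subfield. -/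

namespace Cfsg.Agent.Lib.Helper2.Unip

open Module Cfsg.Agent.Lib.Helper2 Cfsg.Agent.Lib.Helper2.SpInv Cfsg.Agent.Lib.Helper2.Jord

universe u v

section Conj

variable {F : Type u} [Field F]

/-- two unipotent operators of type `2^m` on spaces of the same dimension are conjugate -/
theorem conj_unip2 : ∀ (k : ℕ) (V V' : Type v) [AddCommGroup V] [Module F V]
    [FiniteDimensional F V] [AddCommGroup V'] [Module F V'] [FiniteDimensional F V']
    (y : Module.End F V) (y' : Module.End F V'), finrank F V = k → finrank F V' = k →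
    (∀ u, y (y u) = ((1 : F) + 1) • y u + (-((1 : F) * 1)) • u) →
    (∀ u, y' (y' u) = ((1 : F) + 1) • y' u + (-((1 : F) * 1)) • u) →
    (∀ v, y v = v → ∃ u, v = y u - u) → (∀ v, y' v = v → ∃ u, v = y' u - u) →
    ∃ g : V ≃ₗ[F] V', ∀ u, g (y u) = y' (g u) := by
  have ht : -((1 : F) * 1) ≠ 0 := by
    rw [mul_one]
    exact neg_ne_zero.mpr one_ne_zero
  intro k
  induction k using Nat.strong_induction_on with
  | _ k ih =>
    intro V V' _ _ _ _ _ _ y y' hfin hfin' hrel hrel' hH hH'
    by_cases hk0 : k = 0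
    · subst hk0
      haveI : Subsingleton V' := Module.finrank_zero_iff.mp hfin'
      exact ⟨LinearEquiv.ofFinrankEq V V' (by rw [hfin, hfin']), fun u => Subsingleton.elim _ _⟩
    · have hexf : ∀ (W : Type v) [AddCommGroup W] [Module F W] [FiniteDimensional F W]
          (z : Module.End F W), finrank F W = k → (∀ v, z v = v → ∃ u, v = z u - u) →
          ∃ f, z f ≠ (1 : F) • f := by
        intro W _ _ _ z hW hz
        by_contra hcon
        push Not at hcon
        obtain ⟨x, hx⟩ := Module.finrank_pos_iff_exists_ne_zero.mp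
          (by rw [hW]; omega : 0 < finrank F W)
        apply hx
        obtain ⟨u, hu⟩ := hz x (by rw [hcon x, one_smul])
        rw [hu, hcon u, one_smul, sub_self]
      obtain ⟨f, hf⟩ := hexf V y hfin hH
      obtain ⟨f', hf'⟩ := hexf V' y' hfin' hH'
      obtain ⟨P, C, hPC, hP, hC, a, b, hfP, hli, hTa, hTb, -⟩ :=
        quad_split y _ _ hrel ht f (li_of_not_eigen y 1 hrel f hf)
      obtain ⟨P', C', hPC', hP', hC', a', b', hfP', hli', hTa', hTb', -⟩ :=
        quad_split y' _ _ hrel' ht f' (li_of_not_eigen y' 1 hrel' f' hf')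
      have hsum := Submodule.finrank_add_eq_of_isCompl hPC
      have hsum' := Submodule.finrank_add_eq_of_isCompl hPC'
      have hpass : ∀ (W : Type v) [AddCommGroup W] [Module F W] [FiniteDimensional F W]
          (z : Module.End F W)
          (P₁ C₁ : Submodule F W) (h₁ : IsCompl P₁ C₁) (hP₁ : ∀ x ∈ P₁, z x ∈ P₁)
          (hC₁ : ∀ x ∈ C₁, z x ∈ C₁), (∀ v, z v = v → ∃ u, v = z u - u) →
          ∀ v : C₁, (z.restrict hC₁) v = v → ∃ u : C₁, v = (z.restrict hC₁) u - u := by
        intro W _ _ _ z P₁ C₁ h₁ hP₁ hC₁ hz v hv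
        have hv' : z (v : W) = (v : W) := by
          have h1 := congrArg Subtype.val hv
          rw [LinearMap.restrict_coe_apply] at h1
          exact h1
        obtain ⟨u, hu⟩ := hz (v : W) hv'
        refine ⟨C₁.projectionOnto P₁ h₁.symm u, ?_⟩
        have h1 : C₁.projectionOnto P₁ h₁.symm (v : W) = v :=
          Submodule.projectionOnto_apply_left h₁.symm v
        rw [← proj_restrict h₁.symm z hC₁ hP₁, ← map_sub, ← hu, h1]
      obtain ⟨gC, hgC⟩ := ih (k - 2) (by omega) C C' (y.restrict hC) (y'.restrict hC')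
        (by omega) (by omega) (by
          intro u
          apply Subtype.ext
          rw [LinearMap.restrict_coe_apply, LinearMap.restrict_coe_apply, Submodule.coe_add,
            Submodule.coe_smul, Submodule.coe_smul, LinearMap.restrict_coe_apply]
          exact hrel _) (by
          intro u
          apply Subtype.ext
          rw [LinearMap.restrict_coe_apply, LinearMap.restrict_coe_apply, Submodule.coe_add,
            Submodule.coe_smul, Submodule.coe_smul, LinearMap.restrict_coe_apply]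
          exact hrel' _) (hpass V y P C hPC hP hC hH) (hpass V' y' P' C' hPC' hP' hC' hH')
      obtain ⟨bP, hb0, hb1⟩ := plane_basis a b hli hfP
      obtain ⟨bP', hb0', hb1'⟩ := plane_basis a' b' hli' hfP'
      obtain ⟨gP, hgPdef⟩ : ∃ gP : P ≃ₗ[F] P', gP = bP.equiv bP' (Equiv.refl _) := ⟨_, rfl⟩
      have hga : gP a = a' := by
        rw [hgPdef, ← hb0, Basis.equiv_apply, Equiv.refl_apply, hb0']
      have hgb : gP b = b' := by
        rw [hgPdef, ← hb1, Basis.equiv_apply, Equiv.refl_apply, hb1']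
      have hgP : ∀ u, gP (y.restrict hP u) = y'.restrict hP' (gP u) := by
        have h1 : (gP : P →ₗ[F] P') ∘ₗ (y.restrict hP) =
            (y'.restrict hP') ∘ₗ (gP : P →ₗ[F] P') := by
          apply bP.ext
          intro i
          have hi : i = 0 ∨ i = 1 := by
            rcases i with ⟨i, hi⟩
            interval_cases i
            · left; rfl
            · right; rfl
          rcases hi with rfl | rfl
          · rw [LinearMap.comp_apply, LinearMap.comp_apply, hb0, hTa]
            show gP ((0 : F) • a + (1 : F) • b) = y'.restrict hP' (gP a)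
            rw [hga, hTa', map_add, map_smul, map_smul, hga, hgb]
          · rw [LinearMap.comp_apply, LinearMap.comp_apply, hb1, hTb]
            show gP ((-((1 : F) * 1)) • a + ((1 : F) + 1) • b) = y'.restrict hP' (gP b)
            rw [hgb, hTb', map_add, map_smul, map_smul, hga, hgb]
        intro u
        exact LinearMap.congr_fun h1 u
      refine ⟨(P.prodEquivOfIsCompl C hPC).symm.trans ((gP.prodCongr gC).trans
        (P'.prodEquivOfIsCompl C' hPC')), ?_⟩
      intro u
      rw [LinearEquiv.trans_apply, LinearEquiv.trans_apply, LinearEquiv.trans_apply,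
        LinearEquiv.trans_apply, Submodule.prodEquivOfIsCompl_symm_apply,
        Submodule.prodEquivOfIsCompl_symm_apply, LinearEquiv.prodCongr_apply,
        LinearEquiv.prodCongr_apply, Submodule.coe_prodEquivOfIsCompl',
        Submodule.coe_prodEquivOfIsCompl']
      dsimp only
      rw [proj_restrict hPC y hP hC, proj_restrict hPC.symm y hC hP, hgP, hgC, map_add,
        LinearMap.restrict_coe_apply, LinearMap.restrict_coe_apply]

/-- an element centralizing a nilpotent operator of type `2^m` has square determinant -/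
theorem det_sq_of_comm {V : Type v} [AddCommGroup V] [Module F V] [FiniteDimensional F V]
    (N h : Module.End F V) (hNN : ∀ u, N (N u) = 0) (hker : ∀ v, N v = 0 → ∃ u, v = N u)
    (hcomm : h * N = N * h) : ∃ ρ : F, LinearMap.det h = ρ * ρ := by
  have hc : ∀ u, h (N u) = N (h u) := by
    intro u
    have h1 := LinearMap.congr_fun hcomm u
    rw [Module.End.mul_apply, Module.End.mul_apply] at h1
    exact h1
  have he : LinearMap.ker N ≤ (LinearMap.ker N).comap h := by
    intro x hx
    rw [LinearMap.mem_ker] at hx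
    rw [Submodule.mem_comap, LinearMap.mem_ker, ← hc, hx, map_zero]
  have hdet := LinearMap.det_eq_det_mul_det (LinearMap.ker N) h he
  have hrk : LinearMap.range N = LinearMap.ker N := by
    apply le_antisymm
    · rintro _ ⟨u, rfl⟩
      rw [LinearMap.mem_ker]
      exact hNN u
    · intro x hx
      rw [LinearMap.mem_ker] at hx
      obtain ⟨u, hu⟩ := hker x hx
      exact ⟨u, hu.symm⟩
  obtain ⟨ψ, hψ⟩ : ∃ ψ : (V ⧸ LinearMap.ker N) ≃ₗ[F] LinearMap.ker N,
      ∀ x : V, ((ψ (Submodule.Quotient.mk x) : LinearMap.ker N) : V) = N x := by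
    refine ⟨(LinearMap.quotKerEquivRange N).trans (LinearEquiv.ofEq _ _ hrk), fun x => ?_⟩
    rw [LinearEquiv.trans_apply, LinearEquiv.coe_ofEq_apply, LinearMap.quotKerEquivRange_apply_mk]
  have hint : ∀ q : V ⧸ LinearMap.ker N,
      ψ ((LinearMap.ker N).mapQ (LinearMap.ker N) h he q) = h.restrict he (ψ q) := by
    intro q
    induction q using Submodule.Quotient.induction_on with
    | _ x =>
      apply Subtype.ext
      rw [Submodule.mapQ_apply, hψ, LinearMap.restrict_coe_apply, hψ, hc]
  have h2 : (ψ : (V ⧸ LinearMap.ker N) →ₗ[F] LinearMap.ker N) ∘ₗ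
      ((LinearMap.ker N).mapQ (LinearMap.ker N) h he) ∘ₗ
      (ψ.symm : LinearMap.ker N →ₗ[F] (V ⧸ LinearMap.ker N)) = h.restrict he := by
    apply LinearMap.ext
    intro x
    rw [LinearMap.comp_apply, LinearMap.comp_apply]
    show ψ (((LinearMap.ker N).mapQ (LinearMap.ker N) h he) (ψ.symm x)) = _
    rw [hint, ψ.apply_symm_apply]
  have h3 := LinearMap.det_conj ((LinearMap.ker N).mapQ (LinearMap.ker N) h he) ψ
  rw [h2] at h3
  refine ⟨LinearMap.det (h.restrict he), ?_⟩
  rw [hdet, ← h3]

end Conj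

section Desc

variable {F : Type u} [Field F] {n : ℕ}

/-- a nonsquare of the subfield which stays a nonsquare, for an extension of odd degree -/
theorem exists_eps [Fintype F] (F₀ : Subfield F) (q₀ k : ℕ) (hk : Odd k)
    (hF₀ : Nat.card F₀ = q₀) (hq : Fintype.card F = q₀ ^ k) (hq₀ : Odd q₀) (h2 : (2 : F) ≠ 0) :
    ∃ ε₀ : F, ε₀ ∈ F₀ ∧ ε₀ ≠ 0 ∧ ∀ e : F, e * e ≠ ε₀ := by
  classical
  haveI : Fintype F₀ := Fintype.ofFinite _
  have hcard : Fintype.card F₀ = q₀ := by rw [Fintype.card_eq_nat_card, hF₀]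
  have h2' : (2 : F₀) ≠ 0 := by
    intro h0
    apply h2
    have h1 : ((1 : F₀) + 1 : F₀) = 0 := by
      rw [one_add_one_eq_two]
      exact h0
    have h3 := congrArg (fun x : F₀ => (x : F)) h1
    simp only [Subfield.coe_add, Subfield.coe_one, Subfield.coe_zero] at h3
    rw [← one_add_one_eq_two]
    exact h3
  have hchar₀ := Subf.ringChar_ne_two (F := F₀) h2'
  have hchar := Subf.ringChar_ne_two h2
  obtain ⟨a, ha⟩ := FiniteField.exists_nonsquare (F := F₀) hchar₀
  have ha0 : a ≠ 0 := by
    rintro rfl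
    exact ha ⟨0, by rw [mul_zero]⟩
  have hpow₀ : a ^ (q₀ / 2) = -1 := by
    rcases FiniteField.pow_dichotomy hchar₀ ha0 with h | h
    · exact absurd ((FiniteField.isSquare_iff hchar₀ ha0).mpr h) ha
    · rw [hcard] at h
      exact h
  have hpow : (a : F) ^ (q₀ / 2) = -1 := by
    have h1 := congrArg (fun x : F₀ => (x : F)) hpow₀
    simpa using h1
  obtain ⟨S, hSodd, hS⟩ := Subf.geom_odd q₀ k hq₀ hk
  obtain ⟨t, ht⟩ := hq₀
  have hq2 : Fintype.card F / 2 = q₀ / 2 * S := by
    have h3 : q₀ - 1 = 2 * t := by omega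
    have h4 : q₀ / 2 = t := by omega
    have h5 : 1 ≤ q₀ ^ k := Nat.one_le_pow _ _ (by omega)
    rw [hq, h4]
    rw [h3, mul_assoc] at hS
    generalize t * S = X at hS
    omega
  have ha0' : (a : F) ≠ 0 := by
    intro h0
    apply ha0
    exact Subtype.ext h0
  refine ⟨(a : F), a.2, ha0', ?_⟩
  intro e he
  have h1 : IsSquare (a : F) := ⟨e, he.symm⟩
  have h3 := (FiniteField.isSquare_iff hchar ha0').mp h1
  rw [hq2, pow_mul, hpow, hSodd.neg_one_pow] at h3
  apply h2
  have h4 : (1 : F) + 1 = 0 := by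
    nth_rewrite 1 [← h3]
    exact neg_add_cancel 1
  rw [← one_add_one_eq_two]
  exact h4

/-- a unipotent matrix of class two which is rational up to a scalar is rational -/
theorem entries_rat (F₀ : Subfield F) (h2 : (2 : F) ≠ 0) (M : Matrix (Fin n) (Fin n) F)
    (hMM : M * M = (2 : F) • M - 1) (hM1 : M ≠ 1) (c : F) (hc0 : c ≠ 0)
    (hc : ∀ i j, c * M i j ∈ F₀) : ∀ i j, M i j ∈ F₀ := by
  classical
  have hcF : c ∈ F₀ := by
    by_cases hoff : ∃ i j, i ≠ j ∧ M i j ≠ 0
    · obtain ⟨i, j, hij, hMij⟩ := hoff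
      have h1 := congrFun (congrFun hMM i) j
      rw [Matrix.mul_apply, Matrix.sub_apply, Matrix.smul_apply, Matrix.one_apply_ne hij,
        sub_zero, smul_eq_mul] at h1
      have h3 : (∑ l, (c * M i l) * (c * M l j)) = c * ((1 + 1) * (c * M i j)) := by
        have h4 : (∑ l, (c * M i l) * (c * M l j)) = c * c * ∑ l, M i l * M l j := by
          rw [Finset.mul_sum]
          apply Finset.sum_congr rfl
          intro l _
          ring
        rw [h4, h1]
        ring
      have hS : (∑ l, (c * M i l) * (c * M l j)) ∈ F₀ :=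
        Subfield.sum_mem F₀ (fun l _ => F₀.mul_mem (hc i l) (hc l j))
      have ha : (1 + 1) * (c * M i j) ∈ F₀ :=
        F₀.mul_mem (F₀.add_mem F₀.one_mem F₀.one_mem) (hc i j)
      have ha0 : (1 + 1) * (c * M i j) ≠ 0 := by
        rw [one_add_one_eq_two]
        exact mul_ne_zero h2 (mul_ne_zero hc0 hMij)
      have h5 : c = (∑ l, (c * M i l) * (c * M l j)) * ((1 + 1) * (c * M i j))⁻¹ := by
        rw [h3, mul_assoc, mul_inv_cancel₀ ha0, mul_one]
      rw [h5]
      exact F₀.mul_mem hS (F₀.inv_mem ha)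
    · exfalso
      push Not at hoff
      apply hM1
      ext i j
      by_cases hij : i = j
      · subst hij
        rw [Matrix.one_apply_eq]
        have h1 := congrFun (congrFun hMM i) i
        rw [Matrix.mul_apply, Matrix.sub_apply, Matrix.smul_apply, Matrix.one_apply_eq,
          smul_eq_mul, Finset.sum_eq_single i] at h1
        · have h3 : (M i i - 1) * (M i i - 1) = 0 := by linear_combination h1
          exact sub_eq_zero.mp (mul_self_eq_zero.mp h3)
        · intro l _ hl
          rw [hoff i l (fun h => hl h.symm), zero_mul]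
        · intro h
          exact absurd (Finset.mem_univ _) h
      · rw [Matrix.one_apply_ne hij]
        exact hoff i j hij
  intro i j
  have h1 : M i j = c⁻¹ * (c * M i j) := by
    rw [← mul_assoc, inv_mul_cancel₀ hc0, one_mul]
  rw [h1]
  exact F₀.mul_mem (F₀.inv_mem hcF) (hc i j)

/-- descent of the condition `ker ⊆ range` to the subfield -/
theorem H_descend (F₀ : Subfield F) (M₀ : Matrix (Fin n) (Fin n) F₀)
    (hH : ∀ v : Fin n → F, (M₀.map (F₀.subtype : F₀ →+* F)).mulVec v = v →
      ∃ u, v = (M₀.map (F₀.subtype : F₀ →+* F)).mulVec u - u) :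
    ∀ v₀ : Fin n → F₀, M₀.mulVec v₀ = v₀ → ∃ u₀, v₀ = M₀.mulVec u₀ - u₀ := by
  classical
  obtain ⟨ρ, hρ⟩ := LinearMap.exists_leftInverse_of_injective (Algebra.linearMap F₀ F)
    (LinearMap.ker_eq_bot.mpr (FaithfulSMul.algebraMap_injective F₀ F))
  have hρ1 : ∀ a : F₀, ρ (a : F) = a := by
    intro a
    have h1 := LinearMap.congr_fun hρ a
    rw [LinearMap.comp_apply, Algebra.linearMap_apply, LinearMap.id_apply] at h1
    exact h1
  have hρ2 : ∀ (a : F₀) (x : F), ρ ((a : F) * x) = a * ρ x := by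
    intro a x
    have h1 : (a : F) * x = a • x := by
      rw [Subfield.smul_def, smul_eq_mul]
    rw [h1, map_smul, smul_eq_mul]
  intro v₀ hv₀
  have hv : (M₀.map (F₀.subtype : F₀ →+* F)).mulVec (fun i => (v₀ i : F)) =
      fun i => (v₀ i : F) := by
    funext i
    have h1 := RingHom.map_mulVec (F₀.subtype : F₀ →+* F) M₀ v₀ i
    rw [hv₀] at h1
    exact h1.symm
  obtain ⟨u, hu⟩ := hH _ hv
  refine ⟨fun i => ρ (u i), ?_⟩
  funext i
  have h1 := congrArg ρ (congrFun hu i)
  rw [hρ1, Pi.sub_apply, map_sub, Matrix.mulVec, dotProduct, map_sum] at h1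
  rw [h1, Pi.sub_apply, Matrix.mulVec, dotProduct]
  congr 1
  apply Finset.sum_congr rfl
  intro l _
  rw [Matrix.map_apply]
  exact hρ2 _ _

/-- base change to a given rational basis, corrected to determinant one by a centralizing element
and a rational scalar -/
theorem exists_conj_of_basis_rat (F₀ : Subfield F) (hn : 0 < n) (y : Module.End F (Fin n → F))
    (b : Basis (Fin n) F (Fin n → F)) (hrat : ∀ i j, b.repr (y (b j)) i ∈ F₀)
    (hcent : ∀ δ : F, δ ≠ 0 → ∃ (h : Module.End F (Fin n → F)) (c : F), c ∈ F₀ ∧ c ≠ 0 ∧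
      h * y = y * h ∧ LinearMap.det h * c = δ) :
    ∃ g : (Fin n → F) ≃ₗ[F] (Fin n → F),
      LinearMap.det (g : (Fin n → F) →ₗ[F] (Fin n → F)) = 1 ∧
      ∀ i j, (LinearEquiv.conjAlgEquiv F g y) (Pi.single j 1) i ∈ F₀ := by
  classical
  obtain ⟨g₀, hg₀⟩ : ∃ g₀ : (Fin n → F) ≃ₗ[F] (Fin n → F), g₀ = b.equivFun := ⟨_, rfl⟩
  have hd0 : LinearMap.det (g₀ : (Fin n → F) →ₗ[F] (Fin n → F)) ≠ 0 :=
    (LinearEquiv.isUnit_det' g₀).ne_zero
  obtain ⟨h, c, hcF, hc0, hcomm, hdet⟩ :=
    hcent (LinearMap.det (g₀ : (Fin n → F) →ₗ[F] (Fin n → F)))⁻¹ (inv_ne_zero hd0)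
  have hh0 : LinearMap.det h ≠ 0 := by
    intro h0
    rw [h0, zero_mul] at hdet
    exact inv_ne_zero hd0 hdet.symm
  obtain ⟨hE, hhE⟩ : ∃ hE : (Fin n → F) ≃ₗ[F] (Fin n → F), ∀ u, hE u = h u :=
    ⟨LinearMap.equivOfDetNeZero h hh0, fun u => rfl⟩
  obtain ⟨d, hd⟩ : ∃ d : Fin n → F, d = fun i => if i = (⟨0, hn⟩ : Fin n) then c else 1 :=
    ⟨_, rfl⟩
  have hdF : ∀ i, d i ∈ F₀ := by
    intro i
    rw [hd]
    dsimp only
    split_ifs
    · exact hcF
    · exact F₀.one_mem
  have hd0' : ∀ i, d i ≠ 0 := by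
    intro i
    rw [hd]
    dsimp only
    split_ifs
    · exact hc0
    · exact one_ne_zero
  have hdetD : LinearMap.det (Matrix.toLin' (Matrix.diagonal d)) = c := by
    rw [LinearMap.det_toLin', Matrix.det_diagonal, hd,
      Finset.prod_ite_eq' Finset.univ (⟨0, hn⟩ : Fin n) (fun _ => c), if_pos (Finset.mem_univ _)]
  obtain ⟨D, hD⟩ : ∃ D : (Fin n → F) ≃ₗ[F] (Fin n → F), ∀ u i, D u i = d i * u i := by
    refine ⟨LinearMap.equivOfDetNeZero (Matrix.toLin' (Matrix.diagonal d)) (by
      rw [hdetD]; exact hc0), fun u i => ?_⟩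
    show (Matrix.toLin' (Matrix.diagonal d)) u i = _
    rw [Matrix.toLin'_apply, Matrix.mulVec_diagonal]
  have hDdet : LinearMap.det (D : (Fin n → F) →ₗ[F] (Fin n → F)) = c := by
    have h1 : (D : (Fin n → F) →ₗ[F] (Fin n → F)) = Matrix.toLin' (Matrix.diagonal d) := by
      apply LinearMap.ext
      intro u
      funext i
      show D u i = _
      rw [hD, Matrix.toLin'_apply, Matrix.mulVec_diagonal]
    rw [h1, hdetD]
  have hDsymm : ∀ u i, D.symm u i = (d i)⁻¹ * u i := by
    intro u i
    have h1 := hD (D.symm u) i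
    rw [D.apply_symm_apply] at h1
    rw [h1, ← mul_assoc, inv_mul_cancel₀ (hd0' i), one_mul]
  refine ⟨(hE.trans g₀).trans D, ?_, ?_⟩
  · have h1 : (((hE.trans g₀).trans D : (Fin n → F) ≃ₗ[F] (Fin n → F)) :
        (Fin n → F) →ₗ[F] (Fin n → F)) = (D : (Fin n → F) →ₗ[F] (Fin n → F)) ∘ₗ
        ((g₀ : (Fin n → F) →ₗ[F] (Fin n → F)) ∘ₗ h) := by
      apply LinearMap.ext
      intro u
      show D (g₀ (hE u)) = D (g₀ (h u))
      rw [hhE]
    rw [h1, LinearMap.det_comp, LinearMap.det_comp, hDdet]
    have h3 : LinearMap.det h = (LinearMap.det (g₀ : (Fin n → F) →ₗ[F] (Fin n → F)))⁻¹ * c⁻¹ := by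
      rw [← hdet, mul_assoc, mul_inv_cancel₀ hc0, mul_one]
    rw [h3]
    field_simp
  · intro i j
    rw [LinearEquiv.conjAlgEquiv_apply]
    show (D (g₀ (hE (y (hE.symm (g₀.symm (D.symm (Pi.single j 1)))))))) i ∈ F₀
    have h3 : ∀ v, hE (y (hE.symm v)) = y v := by
      intro v
      rw [hhE]
      have h4 := LinearMap.congr_fun hcomm (hE.symm v)
      rw [Module.End.mul_apply, Module.End.mul_apply] at h4
      rw [h4, ← hhE, hE.apply_symm_apply]
    have h5 : D.symm (Pi.single j 1) = (d j)⁻¹ • (Pi.single j 1 : Fin n → F) := by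
      funext l
      rw [hDsymm, Pi.smul_apply, smul_eq_mul]
      by_cases hl : l = j
      · rw [hl]
      · rw [Pi.single_eq_of_ne hl, mul_zero, mul_zero]
    have h2 : g₀.symm (Pi.single j 1) = b j := by
      rw [hg₀, Basis.equivFun_symm_apply]
      simp [Pi.single_apply]
    rw [h5, map_smul, h2, map_smul, map_smul, map_smul, h3, map_smul, map_smul, Pi.smul_apply,
      hD, hg₀, Basis.equivFun_apply, smul_eq_mul]
    exact F₀.mul_mem (F₀.inv_mem (hdF j)) (F₀.mul_mem (hdF i) (hrat i j))

end Desc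

end Cfsg.Agent.Lib.Helper2.Unip
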