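import Mathlib
import Cfsg.Agent.Lib.Helper2.UnipB
set_option autoImplicit false
set_option maxHeartbeats 1000000
set_option linter.unusedVariables false
set_option linter.unusedSectionVars false
set_option linter.style.longLine false
set_option linter.unusedSimpArgs false
set_option linter.deprecated false
set_option linter.style.haveILetI false

/-! Elements of order three of `PSL_n(3^f)` and subfield subgroups (part C): the standard unipotent
matrix of type `2^m` and the derangement for subfields of index two. -/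

namespace Cfsg.Agent.Lib.Helper2.Unip

open Module Cfsg.Agent.Lib.Helper2 Cfsg.Agent.Lib.Helper2.SpInv Cfsg.Agent.Lib.Helper2.Jord

universe u v

theorem conj_mul' {α : Type u} [Monoid α] (g g' a b : α) (h : g' * g = 1) :
    (g * a * g') * (g * b * g') = g * (a * b) * g' := by
  calc (g * a * g') * (g * b * g') = g * a * (g' * g) * b * g' := by simp only [mul_assoc]
    _ = g * (a * b) * g' := by
      rw [h, mul_one]
      simp only [mul_assoc]

section Std

variable {E : Type u} [Field E] (m : ℕ)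

/-- the standard nilpotent matrix of type `2^m` -/
def stdN : Matrix (Fin (m + m)) (Fin (m + m)) E :=
  fun i j => if (j : ℕ) = (i : ℕ) + m then 1 else 0

theorem stdN_apply (i j : Fin (m + m)) :
    stdN (E := E) m i j = if (j : ℕ) = (i : ℕ) + m then 1 else 0 := rfl

theorem stdN_mulVec (v : Fin (m + m) → E) (i : Fin (m + m)) :
    (stdN (E := E) m).mulVec v i =
      if h : (i : ℕ) < m then v ⟨(i : ℕ) + m, by omega⟩ else 0 := by
  classical
  show (∑ j, stdN (E := E) m i j * v j) = _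
  by_cases h : (i : ℕ) < m
  · rw [dif_pos h, Finset.sum_eq_single (⟨(i : ℕ) + m, by omega⟩ : Fin (m + m))]
    · rw [stdN_apply, if_pos rfl, one_mul]
    · intro j _ hj
      rw [stdN_apply, if_neg, zero_mul]
      intro hj'
      apply hj
      exact Fin.ext hj'
    · intro hh
      exact absurd (Finset.mem_univ _) hh
  · rw [dif_neg h]
    apply Finset.sum_eq_zero
    intro j _
    rw [stdN_apply, if_neg, zero_mul]
    have := j.2
    omega

theorem stdN_sq : stdN (E := E) m * stdN m = 0 := by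
  ext i k
  rw [Matrix.mul_apply, Matrix.zero_apply]
  apply Finset.sum_eq_zero
  intro j _
  rw [stdN_apply, stdN_apply]
  by_cases h1 : (j : ℕ) = (i : ℕ) + m
  · rw [if_pos h1, if_neg, mul_zero]
    have := k.2
    omega
  · rw [if_neg h1, zero_mul]

theorem stdY_rel : (1 + stdN (E := E) m) * (1 + stdN m) =
    (1 + stdN m) + (1 + stdN m) - 1 := by
  rw [add_mul, mul_add, mul_add, one_mul, one_mul, mul_one, stdN_sq]
  abel

theorem stdY_H (v : Fin (m + m) → E) (hv : (1 + stdN (E := E) m).mulVec v = v) :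
    ∃ u, v = (1 + stdN (E := E) m).mulVec u - u := by
  classical
  have hN : ∀ i, (stdN (E := E) m).mulVec v i = 0 := by
    intro i
    have h1 := congrFun hv i
    rw [Matrix.add_mulVec, Matrix.one_mulVec, Pi.add_apply] at h1
    exact add_eq_left.mp h1
  refine ⟨fun j => if h : m ≤ (j : ℕ) then v ⟨(j : ℕ) - m, by have := j.2; omega⟩ else 0, ?_⟩
  funext i
  rw [Matrix.add_mulVec, Matrix.one_mulVec, add_sub_cancel_left, stdN_mulVec]
  by_cases h : (i : ℕ) < m
  · rw [dif_pos h, dif_pos (by simp)]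
    congr 1
    apply Fin.ext
    simp
  · rw [dif_neg h]
    have h1 := hN ⟨(i : ℕ) - m, by have := i.2; omega⟩
    rw [stdN_mulVec, dif_pos (by have := i.2; simp only []; omega)] at h1
    rw [← h1]
    congr 1
    apply Fin.ext
    simp only []
    omega

theorem stdN_ne (hm : 0 < m) (z : E) : (1 + stdN (E := E) m) ≠ z • 1 := by
  intro h
  have h1 := congrFun (congrFun h (⟨0, by omega⟩ : Fin (m + m))) (⟨m, by omega⟩ : Fin (m + m))
  have hne : (⟨0, by omega⟩ : Fin (m + m)) ≠ (⟨m, by omega⟩ : Fin (m + m)) := by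
    intro h2
    have := congrArg Fin.val h2
    simp only [] at this
    omega
  rw [Matrix.add_apply, Matrix.smul_apply, Matrix.one_apply_ne hne, smul_zero, zero_add] at h1
  rw [stdN_apply, if_pos (by simp)] at h1
  exact one_ne_zero h1

theorem stdY_cube [CharP E 3] : (1 + stdN (E := E) m) ^ 3 = 1 := by
  have h3 : (3 : E) = 0 := by
    have := CharP.cast_eq_zero E 3
    exact_mod_cast this
  have e1 : (1 + stdN (E := E) m) ^ 3 = 1 + (3 : E) • stdN m := by
    rw [pow_succ, pow_two, stdY_rel]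
    simp only [add_mul, mul_add, sub_mul, one_mul, mul_one, stdN_sq]
    module
  rw [e1, h3, zero_smul, add_zero]

theorem stdY_det [CharP E 3] : (1 + stdN (E := E) m).det = 1 := by
  haveI := Nat.fact_prime_three
  have h1 : (1 + stdN (E := E) m).det ^ 3 = 1 := by
    rw [← Matrix.det_pow, stdY_cube, Matrix.det_one]
  have h2 : ((1 + stdN (E := E) m).det - 1) ^ 3 = 0 := by
    rw [sub_pow_char, h1, one_pow, sub_self]
  exact sub_eq_zero.mp ((pow_eq_zero_iff (by norm_num)).mp h2)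

theorem stdN_map {F : Type u} [Field F] (F₀ : Subfield F) :
    (stdN (E := F₀) m).map (F₀.subtype : F₀ →+* F) = stdN (E := F) m := by
  ext i j
  rw [Matrix.map_apply, stdN_apply, stdN_apply]
  split_ifs
  · exact map_one _
  · exact map_zero _

end Std

section Derange

variable {F : Type u} [Field F] [Fintype F] [CharP F 3]

open Matrix in
/-- for a subfield of index two, a unipotent element of type `2^m` none of whose conjugates under
`SL` lies in the subfield group -/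
theorem exists_derangement2 (F₀ : Subfield F) (q₀ : ℕ) (hF₀ : Nat.card F₀ = q₀)
    (hq : Fintype.card F = q₀ ^ 2) (m : ℕ) (hm : 0 < m) :
    ∃ x : Matrix.SpecialLinearGroup (Fin (m + m)) F,
      ((x ^ 3 : Matrix.SpecialLinearGroup (Fin (m + m)) F) : Matrix (Fin (m + m)) (Fin (m + m)) F) =
        (1 : F) • (1 : Matrix (Fin (m + m)) (Fin (m + m)) F) ∧
      (∀ z : F, (x : Matrix (Fin (m + m)) (Fin (m + m)) F) ≠ z • 1) ∧
      ∀ P : Matrix.SpecialLinearGroup (Fin (m + m)) F, P⁻¹ * x * P ∉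
        (Cfsg.Geo.subfieldSubgroup F₀ 1).comap (Matrix.SpecialLinearGroup.toGL :
          Matrix.SpecialLinearGroup (Fin (m + m)) F →* GL (Fin (m + m)) F) := by
  classical
  haveI := Nat.fact_prime_three
  have h2F : (2 : F) ≠ 0 := two_ne_zero_of_char (F := F) (p := 3) (by norm_num)
  have hqodd : Fintype.card F % 2 = 1 := card_odd_of_char (F := F) (p := 3) (by norm_num)
  have hq₀odd : Odd q₀ := by
    rw [hq] at hqodd
    exact (Nat.odd_pow_iff two_ne_zero).mp (Nat.odd_iff.mpr hqodd)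
  have hchar := Subf.ringChar_ne_two h2F
  obtain ⟨ν, hν⟩ := FiniteField.exists_nonsquare (F := F) hchar
  have hν0 : ν ≠ 0 := by
    rintro rfl
    exact hν ⟨0, by rw [mul_zero]⟩
  obtain ⟨i0, hi0⟩ : ∃ i0 : Fin (m + m), i0 = ⟨0, by omega⟩ := ⟨_, rfl⟩
  obtain ⟨d, hd⟩ : ∃ d : Fin (m + m) → F, d = fun i => if i = i0 then ν else 1 := ⟨_, rfl⟩
  obtain ⟨d', hd'⟩ : ∃ d' : Fin (m + m) → F, d' = fun i => if i = i0 then ν⁻¹ else 1 := ⟨_, rfl⟩
  obtain ⟨G, hG⟩ : ∃ G : Matrix (Fin (m + m)) (Fin (m + m)) F, G = Matrix.diagonal d := ⟨_, rfl⟩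
  obtain ⟨G', hG'⟩ : ∃ G' : Matrix (Fin (m + m)) (Fin (m + m)) F, G' = Matrix.diagonal d' :=
    ⟨_, rfl⟩
  have hdd' : (fun i => d i * d' i) = fun _ => (1 : F) := by
    funext i
    rw [hd, hd']
    dsimp only
    split_ifs
    · exact mul_inv_cancel₀ hν0
    · exact mul_one 1
  have hd'd : (fun i => d' i * d i) = fun _ => (1 : F) := by
    funext i
    have h1 : d i * d' i = 1 := congrFun hdd' i
    rw [mul_comm]
    exact h1
  have hGG' : G * G' = 1 := by
    rw [hG, hG', Matrix.diagonal_mul_diagonal, hdd', Matrix.diagonal_one]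
  have hG'G : G' * G = 1 := by
    rw [hG, hG', Matrix.diagonal_mul_diagonal, hd'd, Matrix.diagonal_one]
  have hdetG : G.det = ν := by
    rw [hG, Matrix.det_diagonal, hd, Finset.prod_ite_eq' Finset.univ i0 (fun _ => ν),
      if_pos (Finset.mem_univ _)]
  obtain ⟨Y₀, hY₀⟩ : ∃ Y₀ : Matrix (Fin (m + m)) (Fin (m + m)) F, Y₀ = 1 + stdN (E := F) m :=
    ⟨_, rfl⟩
  have hYrel : Y₀ * Y₀ = Y₀ + Y₀ - 1 := by
    rw [hY₀]
    exact stdY_rel m
  have hYH : ∀ v, Y₀.mulVec v = v → ∃ u, v = Y₀.mulVec u - u := by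
    rw [hY₀]
    exact stdY_H m
  have hYcube : Y₀ ^ 3 = 1 := by
    rw [hY₀]
    exact stdY_cube m
  have hYdet : Y₀.det = 1 := by
    rw [hY₀]
    exact stdY_det m
  have hYne : ∀ z : F, Y₀ ≠ z • 1 := by
    rw [hY₀]
    exact stdN_ne m hm
  obtain ⟨x₀, hx₀⟩ : ∃ x₀ : Matrix (Fin (m + m)) (Fin (m + m)) F, x₀ = G * Y₀ * G' := ⟨_, rfl⟩
  have hx₀det : x₀.det = 1 := by
    rw [hx₀, Matrix.det_mul, Matrix.det_mul, hYdet, mul_one, ← Matrix.det_mul, hGG',
      Matrix.det_one]
  obtain ⟨x, hx⟩ : ∃ x : Matrix.SpecialLinearGroup (Fin (m + m)) F,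
      (x : Matrix (Fin (m + m)) (Fin (m + m)) F) = x₀ := ⟨⟨x₀, hx₀det⟩, rfl⟩
  have hYfromx : Y₀ = G' * x₀ * G := by
    rw [hx₀]
    calc Y₀ = (G' * G) * Y₀ * (G' * G) := by rw [hG'G, Matrix.one_mul, Matrix.mul_one]
      _ = G' * (G * Y₀ * G') * G := by simp only [Matrix.mul_assoc]
  refine ⟨x, ?_, ?_, ?_⟩
  · rw [Matrix.SpecialLinearGroup.coe_pow, hx, one_smul, pow_succ, pow_two, hx₀,
      conj_mul' G G' Y₀ Y₀ hG'G, conj_mul' G G' (Y₀ * Y₀) Y₀ hG'G, ← pow_two, ← pow_succ, hYcube,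
      Matrix.mul_one, hGG']
  · intro z hz
    rw [hx] at hz
    apply hYne z
    rw [hYfromx, hz, Matrix.mul_smul, Matrix.mul_one, Matrix.smul_mul, hG'G]
  · intro P hP
    obtain ⟨c, hc0, hc⟩ := Subf.entries_of_mem F₀ _ hP
    obtain ⟨M, hM⟩ : ∃ M : Matrix (Fin (m + m)) (Fin (m + m)) F,
        M = ((P⁻¹ * x * P : Matrix.SpecialLinearGroup (Fin (m + m)) F) :
          Matrix (Fin (m + m)) (Fin (m + m)) F) := ⟨_, rfl⟩
    rw [← hM] at hc
    obtain ⟨R, hR⟩ : ∃ R : Matrix (Fin (m + m)) (Fin (m + m)) F,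
        R = ((P⁻¹ : Matrix.SpecialLinearGroup (Fin (m + m)) F) :
          Matrix (Fin (m + m)) (Fin (m + m)) F) * G := ⟨_, rfl⟩
    obtain ⟨R', hR'⟩ : ∃ R' : Matrix (Fin (m + m)) (Fin (m + m)) F,
        R' = G' * (P : Matrix (Fin (m + m)) (Fin (m + m)) F) := ⟨_, rfl⟩
    have hPP : ((P⁻¹ : Matrix.SpecialLinearGroup (Fin (m + m)) F) :
        Matrix (Fin (m + m)) (Fin (m + m)) F) * (P : Matrix (Fin (m + m)) (Fin (m + m)) F) = 1 := by
      rw [← Matrix.SpecialLinearGroup.coe_mul, inv_mul_cancel, Matrix.SpecialLinearGroup.coe_one]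
    have hPP' : (P : Matrix (Fin (m + m)) (Fin (m + m)) F) *
        ((P⁻¹ : Matrix.SpecialLinearGroup (Fin (m + m)) F) :
        Matrix (Fin (m + m)) (Fin (m + m)) F) = 1 := by
      rw [← Matrix.SpecialLinearGroup.coe_mul, mul_inv_cancel, Matrix.SpecialLinearGroup.coe_one]
    have hRR' : R * R' = 1 := by
      rw [hR, hR']
      calc ((P⁻¹ : Matrix.SpecialLinearGroup (Fin (m + m)) F) :
          Matrix (Fin (m + m)) (Fin (m + m)) F) * G * (G' * (P : Matrix (Fin (m + m)) (Fin (m + m)) F))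
          = ((P⁻¹ : Matrix.SpecialLinearGroup (Fin (m + m)) F) :
          Matrix (Fin (m + m)) (Fin (m + m)) F) * (G * G') *
          (P : Matrix (Fin (m + m)) (Fin (m + m)) F) := by simp only [Matrix.mul_assoc]
        _ = 1 := by rw [hGG', Matrix.mul_one, hPP]
    have hR'R : R' * R = 1 := by
      rw [hR, hR']
      calc G' * (P : Matrix (Fin (m + m)) (Fin (m + m)) F) *
          (((P⁻¹ : Matrix.SpecialLinearGroup (Fin (m + m)) F) :
          Matrix (Fin (m + m)) (Fin (m + m)) F) * G)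
          = G' * ((P : Matrix (Fin (m + m)) (Fin (m + m)) F) *
          ((P⁻¹ : Matrix.SpecialLinearGroup (Fin (m + m)) F) :
          Matrix (Fin (m + m)) (Fin (m + m)) F)) * G := by simp only [Matrix.mul_assoc]
        _ = 1 := by rw [hPP', Matrix.mul_one, hG'G]
    have hMR : M = R * Y₀ * R' := by
      rw [hM, Matrix.SpecialLinearGroup.coe_mul, Matrix.SpecialLinearGroup.coe_mul, hx, hx₀, hR,
        hR']
      simp only [Matrix.mul_assoc]
    have hMR1 : M * R = R * Y₀ := by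
      rw [hMR, Matrix.mul_assoc, hR'R, Matrix.mul_one]
    have hR'M : R' * M = Y₀ * R' := by
      rw [hMR, ← Matrix.mul_assoc, ← Matrix.mul_assoc, hR'R, Matrix.one_mul]
    have hMrel : M * M = M + M - 1 := by
      rw [hMR, conj_mul' R R' Y₀ Y₀ hR'R, hYrel, Matrix.mul_sub, Matrix.mul_add, Matrix.sub_mul,
        Matrix.add_mul, Matrix.mul_one, hRR']
    have hM1 : M ≠ 1 := by
      intro h1
      apply hYne 1
      have h3 : Y₀ = R' * M * R := by
        rw [hMR]
        calc Y₀ = (R' * R) * Y₀ * (R' * R) := by rw [hR'R, Matrix.one_mul, Matrix.mul_one]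
          _ = R' * (R * Y₀ * R') * R := by simp only [Matrix.mul_assoc]
      rw [h3, h1, Matrix.mul_one, hR'R, one_smul]
    have hMrat := entries_rat F₀ h2F M (by rw [hMrel, two_smul]) hM1 c hc0 hc
    obtain ⟨M₀, hM₀⟩ : ∃ M₀ : Matrix (Fin (m + m)) (Fin (m + m)) F₀,
        M₀.map (F₀.subtype : F₀ →+* F) = M :=
      ⟨fun i j => ⟨M i j, hMrat i j⟩, by ext i j; rfl⟩
    have hinj : Function.Injective (fun A : Matrix (Fin (m + m)) (Fin (m + m)) F₀ =>
        A.map (F₀.subtype : F₀ →+* F)) := Matrix.map_injective Subtype.val_injective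
    have hM₀rel : M₀ * M₀ = M₀ + M₀ - 1 := by
      apply hinj
      show (M₀ * M₀).map (F₀.subtype : F₀ →+* F) = (M₀ + M₀ - 1).map (F₀.subtype : F₀ →+* F)
      rw [← RingHom.mapMatrix_apply, ← RingHom.mapMatrix_apply, map_mul, map_sub, map_add, map_one,
        RingHom.mapMatrix_apply, hM₀, hMrel]
    have hMH : ∀ v, M.mulVec v = v → ∃ u, v = M.mulVec u - u := by
      intro v hv
      have h1 : Y₀.mulVec (R'.mulVec v) = R'.mulVec v := by
        rw [Matrix.mulVec_mulVec, ← hR'M, ← Matrix.mulVec_mulVec, hv]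
      obtain ⟨u', hu'⟩ := hYH _ h1
      refine ⟨R.mulVec u', ?_⟩
      rw [Matrix.mulVec_mulVec, hMR1, ← Matrix.mulVec_mulVec, ← Matrix.mulVec_sub, ← hu',
        Matrix.mulVec_mulVec, hRR', Matrix.one_mulVec]
    have hM₀H := H_descend F₀ M₀ (by rw [hM₀]; exact hMH)
    obtain ⟨Y₀₀, hY₀₀⟩ : ∃ Y₀₀ : Matrix (Fin (m + m)) (Fin (m + m)) F₀,
        Y₀₀ = 1 + stdN (E := F₀) m := ⟨_, rfl⟩
    have hY₀₀map : Y₀₀.map (F₀.subtype : F₀ →+* F) = Y₀ := by
      rw [hY₀₀, hY₀, ← RingHom.mapMatrix_apply, map_add, map_one, RingHom.mapMatrix_apply,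
        stdN_map]
    have hrelE : ∀ (A : Matrix (Fin (m + m)) (Fin (m + m)) F₀), A * A = A + A - 1 →
        ∀ u, Matrix.toLin' A (Matrix.toLin' A u) =
          ((1 : F₀) + 1) • Matrix.toLin' A u + (-((1 : F₀) * 1)) • u := by
      intro A hA u
      rw [Matrix.toLin'_apply, Matrix.toLin'_apply, Matrix.mulVec_mulVec, hA, Matrix.sub_mulVec,
        Matrix.add_mulVec, Matrix.one_mulVec]
      module
    obtain ⟨g₀, hg₀⟩ := conj_unip2 (F := F₀) (m + m) (Fin (m + m) → F₀) (Fin (m + m) → F₀)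
      (Matrix.toLin' M₀) (Matrix.toLin' Y₀₀) (Module.finrank_fin_fun F₀)
      (Module.finrank_fin_fun F₀) (hrelE M₀ hM₀rel) (hrelE Y₀₀ (by rw [hY₀₀]; exact stdY_rel m))
      (by
        intro v hv
        rw [Matrix.toLin'_apply] at hv
        obtain ⟨u, hu⟩ := hM₀H v hv
        exact ⟨u, by rw [Matrix.toLin'_apply]; exact hu⟩) (by
        intro v hv
        rw [Matrix.toLin'_apply, hY₀₀] at hv
        obtain ⟨u, hu⟩ := stdY_H m v hv
        exact ⟨u, by rw [Matrix.toLin'_apply, hY₀₀]; exact hu⟩)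
    obtain ⟨Q₀, hQ₀def⟩ : ∃ Q₀ : Matrix (Fin (m + m)) (Fin (m + m)) F₀,
        Q₀ = LinearMap.toMatrix' (g₀ : (Fin (m + m) → F₀) →ₗ[F₀] (Fin (m + m) → F₀)) := ⟨_, rfl⟩
    have hQ₀lin : Matrix.toLin' Q₀ = (g₀ : (Fin (m + m) → F₀) →ₗ[F₀] (Fin (m + m) → F₀)) := by
      rw [hQ₀def, Matrix.toLin'_toMatrix']
    have hQ₀ : Q₀ * M₀ = Y₀₀ * Q₀ := by
      apply Matrix.toLin'.injective
      apply LinearMap.ext
      intro u
      rw [Matrix.toLin'_mul, Matrix.toLin'_mul, LinearMap.comp_apply, LinearMap.comp_apply,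
        hQ₀lin]
      exact hg₀ u
    have hQ₀det : Q₀.det ≠ 0 := by
      rw [hQ₀def, LinearMap.det_toMatrix']
      exact (LinearEquiv.isUnit_det' g₀).ne_zero
    obtain ⟨Q, hQdef⟩ : ∃ Q : Matrix (Fin (m + m)) (Fin (m + m)) F,
        Q = Q₀.map (F₀.subtype : F₀ →+* F) := ⟨_, rfl⟩
    have hQ : Q * M = Y₀ * Q := by
      have h1 := congrArg (fun A : Matrix (Fin (m + m)) (Fin (m + m)) F₀ =>
        (F₀.subtype : F₀ →+* F).mapMatrix A) hQ₀
      simp only [map_mul, RingHom.mapMatrix_apply] at h1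
      rw [hM₀, hY₀₀map, ← hQdef] at h1
      exact h1
    have hQdet : Q.det = ((Q₀.det : F₀) : F) := by
      rw [hQdef, ← RingHom.mapMatrix_apply, ← RingHom.map_det]
      rfl
    obtain ⟨T, hT⟩ : ∃ T : Matrix (Fin (m + m)) (Fin (m + m)) F, T = Q * R := ⟨_, rfl⟩
    have hTY : T * Y₀ = Y₀ * T := by
      rw [hT, Matrix.mul_assoc, ← hMR1, ← Matrix.mul_assoc, hQ, Matrix.mul_assoc]
    have hTN : T * stdN (E := F) m = stdN (E := F) m * T := by
      rw [hY₀, Matrix.mul_add, Matrix.add_mul, Matrix.mul_one, Matrix.one_mul] at hTY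
      exact add_left_cancel hTY
    obtain ⟨ρ, hρ⟩ := det_sq_of_comm (Matrix.toLin' (stdN (E := F) m)) (Matrix.toLin' T) (by
        intro u
        rw [Matrix.toLin'_apply, Matrix.toLin'_apply, Matrix.mulVec_mulVec, stdN_sq,
          Matrix.zero_mulVec]) (by
        intro v hv
        rw [Matrix.toLin'_apply] at hv
        obtain ⟨u, hu⟩ := hYH v (by
          rw [hY₀, Matrix.add_mulVec, Matrix.one_mulVec, hv, add_zero])
        refine ⟨u, ?_⟩
        rw [Matrix.toLin'_apply, hu, hY₀, Matrix.add_mulVec, Matrix.one_mulVec,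
          add_sub_cancel_left]) (by
        rw [Module.End.mul_eq_comp, Module.End.mul_eq_comp, ← Matrix.toLin'_mul,
          ← Matrix.toLin'_mul, hTN])
    rw [LinearMap.det_toLin'] at hρ
    have hTdet : T.det = ((Q₀.det : F₀) : F) * ν := by
      rw [hT, Matrix.det_mul, hQdet, hR, Matrix.det_mul, hdetG]
      have h1 : ((P⁻¹ : Matrix.SpecialLinearGroup (Fin (m + m)) F) :
          Matrix (Fin (m + m)) (Fin (m + m)) F).det = 1 :=
        (P⁻¹ : Matrix.SpecialLinearGroup (Fin (m + m)) F).2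
      rw [h1, one_mul]
    obtain ⟨b, hb⟩ := Subf.subfield_sq F₀ q₀ hF₀ hq hq₀odd h2F ((Q₀.det : F₀) : F) (Q₀.det).2
    have hb0 : b ≠ 0 := by
      rintro rfl
      rw [mul_zero] at hb
      apply hQ₀det
      exact Subtype.ext hb.symm
    apply hν
    refine ⟨ρ * b⁻¹, ?_⟩
    have h5 : b * b * ν = ρ * ρ := by rw [hb, ← hTdet, hρ]
    apply mul_left_cancel₀ (mul_ne_zero hb0 hb0)
    rw [h5]
    have hbb : b * b⁻¹ = 1 := mul_inv_cancel₀ hb0
    calc ρ * ρ = ρ * ρ * ((b * b⁻¹) * (b * b⁻¹)) := by rw [hbb, mul_one, mul_one]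
      _ = b * b * (ρ * b⁻¹ * (ρ * b⁻¹)) := by ring

end Derange

end Cfsg.Agent.Lib.Helper2.Unip
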