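import Mathlib
import Cfsg.Agent.Lib.Helper2.UnipC
set_option autoImplicit false
set_option maxHeartbeats 1000000
set_option linter.unusedVariables false
set_option linter.unusedSectionVars false
set_option linter.style.longLine false
set_option linter.unusedSimpArgs false
set_option linter.deprecated false
set_option linter.style.haveILetI false

/-! Elements of order three of `PSL_n(3^f)` and subfield subgroups (part D): conjugating into the
subfield group. -/

namespace Cfsg.Agent.Lib.Helper2.Unip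

open Module Cfsg.Agent.Lib.Helper2 Cfsg.Agent.Lib.Helper2.SpInv Cfsg.Agent.Lib.Helper2.Jord

universe u v

section Main

variable {F : Type u} [Field F] [Fintype F] [CharP F 3]

/-- every element of `SL_n(3^f)` with scalar cube has a conjugate under `SL` in the subfield group,
when `n` is odd or the degree of the extension is odd -/
theorem conj_main3 (F₀ : Subfield F) (q₀ k : ℕ) (hk : k.Prime) (hF₀ : Nat.card F₀ = q₀)
    (hq : Fintype.card F = q₀ ^ k) (n : ℕ) (hn : 0 < n) (hcond : Odd n ∨ (Even n ∧ 2 < k))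
    (x : Matrix.SpecialLinearGroup (Fin n) F) (z : F)
    (hx : ((x ^ 3 : Matrix.SpecialLinearGroup (Fin n) F) : Matrix (Fin n) (Fin n) F) =
      z • (1 : Matrix (Fin n) (Fin n) F)) :
    ∃ P : Matrix.SpecialLinearGroup (Fin n) F, P⁻¹ * x * P ∈
      (Cfsg.Geo.subfieldSubgroup F₀ 1).comap
      (Matrix.SpecialLinearGroup.toGL : Matrix.SpecialLinearGroup (Fin n) F →* GL (Fin n) F) := by
  classical
  haveI := Nat.fact_prime_three
  haveI : Nonempty (Fin n) := ⟨⟨0, hn⟩⟩
  have h2F : (2 : F) ≠ 0 := two_ne_zero_of_char (F := F) (p := 3) (by norm_num)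
  have hqodd : Fintype.card F % 2 = 1 := card_odd_of_char (F := F) (p := 3) (by norm_num)
  have hq₀odd : Odd q₀ := by
    rw [hq] at hqodd
    exact (Nat.odd_pow_iff hk.ne_zero).mp (Nat.odd_iff.mpr hqodd)
  have hcube : ∀ τ : F, ∃ δ : F, δ ^ 3 = τ := by
    intro τ
    have hinj : Function.Injective (frobenius F 3) := frobenius_inj F 3
    obtain ⟨δ, hδ⟩ := (Finite.injective_iff_surjective.mp hinj) τ
    exact ⟨δ, by rw [← frobenius_def]; exact hδ⟩
  obtain ⟨X, hXdef⟩ : ∃ X : Module.End F (Fin n → F),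
      X = Matrix.toLin' (x : Matrix (Fin n) (Fin n) F) := ⟨_, rfl⟩
  have hX3 : X ^ 3 = z • 1 := by
    rw [hXdef]
    exact Elus.pow_of_SL x 3 z hx
  have hdet : LinearMap.det X = 1 := by
    rw [hXdef, LinearMap.det_toLin']
    exact x.2
  have hz0 : z ≠ 0 := by
    intro h0
    have h1 := congrArg LinearMap.det hX3
    rw [map_pow, hdet, one_pow, h0, zero_smul, LinearMap.det_zero, Module.finrank_fin_fun,
      zero_pow (by omega)] at h1
    exact one_ne_zero h1
  obtain ⟨w, hw⟩ := hcube z
  have hw0 : w ≠ 0 := by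
    rintro rfl
    rw [zero_pow (by norm_num)] at hw
    exact hz0 hw.symm
  obtain ⟨y, hy⟩ : ∃ y : Module.End F (Fin n → F), y = w⁻¹ • X := ⟨_, rfl⟩
  have hy3 : y ^ 3 = 1 := by
    rw [hy, smul_pow, hX3, smul_smul, ← hw, _root_.inv_pow, inv_mul_cancel₀ (pow_ne_zero 3 hw0), one_smul]
  obtain ⟨N, hN⟩ : ∃ N : Module.End F (Fin n → F), N = y - 1 := ⟨_, rfl⟩
  have hyN : y = N + 1 := by
    rw [hN, sub_add_cancel]
  have hN3 : N ^ 3 = 0 := by
    haveI : CharP (Module.End F (Fin n → F)) 3 :=
      charP_of_injective_algebraMap (algebraMap F _).injective 3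
    rw [hN, sub_pow_char_of_commute 3 (Commute.one_right y), hy3, one_pow, sub_self]
  -- Jordan basis
  obtain ⟨ι, instF, instD, b0, hb0⟩ := exists_jordan_basis (F := F) 3 n (Fin n → F) N
    (Module.finrank_fin_fun F) hN3
  have hcard : Fintype.card ι = n := by
    rw [← Module.finrank_eq_card_basis b0, Module.finrank_fin_fun]
  obtain ⟨b, hb⟩ : ∃ b : Basis (Fin n) F (Fin n → F),
      ∀ j, N (b j) = 0 ∨ ∃ j', N (b j) = b j' := by
    refine ⟨b0.reindex (Fintype.equivFinOfCardEq hcard), fun j => ?_⟩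
    rcases hb0 ((Fintype.equivFinOfCardEq hcard).symm j) with h | ⟨j', hj'⟩
    · left
      rw [Basis.reindex_apply]
      exact h
    · right
      refine ⟨Fintype.equivFinOfCardEq hcard j', ?_⟩
      rw [Basis.reindex_apply, Basis.reindex_apply, Equiv.symm_apply_apply]
      exact hj'
  have hrat : ∀ i j, b.repr (y (b j)) i ∈ F₀ := by
    intro i j
    rw [hyN, LinearMap.add_apply, Module.End.one_apply, map_add, Finsupp.add_apply]
    apply F₀.add_mem
    · rcases hb j with h | ⟨j', h⟩
      · rw [h, map_zero, Finsupp.zero_apply]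
        exact F₀.zero_mem
      · rw [h, Basis.repr_self, Finsupp.single_apply]
        split_ifs
        · exact F₀.one_mem
        · exact F₀.zero_mem
    · rw [Basis.repr_self, Finsupp.single_apply]
      split_ifs
      · exact F₀.one_mem
      · exact F₀.zero_mem
  have hcomm_of : ∀ h : Module.End F (Fin n → F), h * N = N * h → h * y = y * h := by
    intro h hh
    rw [hyN, mul_add, add_mul, hh, mul_one, one_mul]
  have hcent : ∀ δ : F, δ ≠ 0 → ∃ (h : Module.End F (Fin n → F)) (c : F), c ∈ F₀ ∧ c ≠ 0 ∧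
      h * y = y * h ∧ LinearMap.det h * c = δ := by
    rcases cent_tri N hN3 (by rw [Module.finrank_fin_fun]; exact hn) with hall | ⟨hsq, hNN, hker⟩
    · intro δ _
      obtain ⟨h, h1, h2⟩ := hall δ
      exact ⟨h, 1, F₀.one_mem, one_ne_zero, hcomm_of h h1, by rw [h2, mul_one]⟩
    · -- type 2^m: n is even
      have hrk : LinearMap.range N = LinearMap.ker N := by
        apply le_antisymm
        · rintro _ ⟨u, rfl⟩
          rw [LinearMap.mem_ker]
          exact hNN u
        · intro v hv
          rw [LinearMap.mem_ker] at hv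
          obtain ⟨u, hu⟩ := hker v hv
          exact ⟨u, hu.symm⟩
      have hsum := LinearMap.finrank_range_add_finrank_ker N
      rw [hrk, Module.finrank_fin_fun] at hsum
      have hk2 : 2 < k := by
        rcases hcond with hodd | ⟨-, h⟩
        · exfalso
          obtain ⟨t, ht⟩ := hodd
          omega
        · exact h
      have hkodd : Odd k := hk.eq_two_or_odd'.resolve_left (by omega)
      obtain ⟨ε₀, hε1, hε2, hε3⟩ := exists_eps F₀ q₀ k hkodd hF₀ hq hq₀odd h2F
      intro δ hδ
      by_cases hδsq : ∃ ρ : F, ρ * ρ = δ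
      · obtain ⟨ρ, hρ⟩ := hδsq
        obtain ⟨h, h1, h2⟩ := hsq ρ
        exact ⟨h, 1, F₀.one_mem, one_ne_zero, hcomm_of h h1, by rw [h2, mul_one, hρ]⟩
      · push Not at hδsq
        obtain ⟨β, hβ⟩ := Fld.exists_sq_ratio h2F δ ε₀ hδsq hε3
        obtain ⟨h, h1, h2⟩ := hsq β
        exact ⟨h, ε₀, hε1, hε2, hcomm_of h h1, by rw [h2, hβ]⟩
  obtain ⟨g, hg1, hg2⟩ := exists_conj_of_basis_rat F₀ hn y b hrat hcent
  refine Subf.conj_rat F₀ x g hg1 w hw0 (fun i j => ?_)
  have h3 : w⁻¹ * (LinearEquiv.conjAlgEquiv F g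
      (Matrix.toLin' (x : Matrix (Fin n) (Fin n) F))) (Pi.single j 1) i =
      (LinearEquiv.conjAlgEquiv F g y) (Pi.single j 1) i := by
    rw [hy, hXdef, map_smul, LinearMap.smul_apply, Pi.smul_apply, smul_eq_mul]
  rw [h3]
  exact hg2 i j

end Main

end Cfsg.Agent.Lib.Helper2.Unip
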