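import Mathlib
import Cfsg.Prelude
import Cfsg.Agent.Lib.Helper2.UppB
import Cfsg.Agent.Lib.Helper5.HermCard
import Cfsg.Agent.Lib.Helper5.HermCount
set_option autoImplicit false
set_option maxHeartbeats 1000000
set_option linter.unusedVariables false
set_option linter.unusedSectionVars false
set_option linter.style.longLine false
set_option linter.unusedSimpArgs false
set_option linter.deprecated false
set_option linter.style.haveILetI false

/-! Unitary groups and pairs of complementary totally singular subspaces (part C): the general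
linear group of one member inside the stabilizer, and the primes dividing the index. -/

namespace Cfsg.Agent.Lib.Helper2.Upp

open Module Matrix Cfsg Cfsg.Agent.Lib.Helper5.Herm Cfsg.Agent.Lib.Helper5.HermBridge
  Cfsg.Agent.Lib.Helper5.HermPair Cfsg.Agent.Lib.Helper5.HermPerp
  Cfsg.Agent.Lib.Helper5.SUSingularMax Cfsg.Agent.Lib.Helper5.HermEich
  Cfsg.Agent.Lib.Helper5.SUPairMax Cfsg.Agent.Lib.Helper5.HermCount

variable {F : Type*} [Field F] [Fintype F] {q : ℕ} (hF : Fintype.card F = q ^ 2) {n : ℕ}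

section conj

/-- matrices relative to a basis as matrices relative to the standard basis -/
noncomputable def basisConj {ι : Type*} [Fintype ι] [DecidableEq ι]
    (b : Basis ι F (Fin n → F)) : Matrix ι ι F ≃ₐ[F] Matrix (Fin n) (Fin n) F :=
  (Matrix.toLinAlgEquiv b).trans LinearMap.toMatrixAlgEquiv'

theorem basisConj_mulVec {ι : Type*} [Fintype ι] [DecidableEq ι]
    (b : Basis ι F (Fin n → F)) (M : Matrix ι ι F) (v : Fin n → F) :
    basisConj b M *ᵥ v = Matrix.toLin b b M v := by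
  show LinearMap.toMatrix' (Matrix.toLin b b M) *ᵥ v = _
  rw [LinearMap.toMatrix'_mulVec]

theorem basisConj_det {ι : Type*} [Fintype ι] [DecidableEq ι]
    (b : Basis ι F (Fin n → F)) (M : Matrix ι ι F) : (basisConj b M).det = M.det := by
  show (LinearMap.toMatrix' (Matrix.toLin b b M)).det = _
  rw [LinearMap.det_toMatrix', LinearMap.det_toLin]

end conj

section blocks

variable {k : ℕ}

/-- the inverse transpose conjugate -/
noncomputable def cmat (A : GL (Fin k) F) : Matrix (Fin k) (Fin k) F :=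
  ((A⁻¹ : GL (Fin k) F).val)ᵀ.map (Cfsg.Agent.Lib.Helper5.HermBridge.sigma hF)

theorem cmat_mul (A B : GL (Fin k) F) : cmat hF (A * B) = cmat hF A * cmat hF B := by
  unfold cmat
  rw [_root_.mul_inv_rev, Units.val_mul, Matrix.transpose_mul, Matrix.map_mul]

theorem cmat_one : cmat hF (1 : GL (Fin k) F) = 1 := by
  unfold cmat
  rw [inv_one, Units.val_one, Matrix.transpose_one, Matrix.map_one _ (map_zero _) (map_one _)]

theorem cmat_pow (A : GL (Fin k) F) (i l : Fin k) :
    (cmat hF A i l) ^ q = (A⁻¹ : GL (Fin k) F).val l i := by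
  unfold cmat
  rw [Matrix.map_apply, Matrix.transpose_apply, sigma_apply, pow_q_pow_q hF]

theorem sum_mul_cmat (A : GL (Fin k) F) (j l : Fin k) :
    ∑ i, A.val i j * (cmat hF A i l) ^ q = if j = l then 1 else 0 := by
  have h1 : (A⁻¹ : GL (Fin k) F).val * A.val = 1 := by
    rw [← Units.val_mul, inv_mul_cancel, Units.val_one]
  have h2 := congrFun (congrFun h1 l) j
  rw [Matrix.mul_apply, Matrix.one_apply] at h2
  rw [← (show (if l = j then (1 : F) else 0) = if j = l then 1 else 0 by simp only [eq_comm]),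
    ← h2]
  apply Finset.sum_congr rfl
  intro i _
  rw [cmat_pow, mul_comm]

theorem cmat_det (A : GL (Fin k) F) :
    (cmat hF A).det = ((A⁻¹ : GL (Fin k) F).val.det) ^ q := by
  unfold cmat
  rw [← RingHom.mapMatrix_apply, ← RingHom.map_det, Matrix.det_transpose, sigma_apply]

/-- the block matrix -/
noncomputable def bmat (A : GL (Fin k) F) : Matrix (Fin k ⊕ Fin k) (Fin k ⊕ Fin k) F :=
  Matrix.fromBlocks A.val 0 0 (cmat hF A)

theorem bmat_mul (A B : GL (Fin k) F) : bmat hF (A * B) = bmat hF A * bmat hF B := by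
  unfold bmat
  rw [Matrix.fromBlocks_multiply, cmat_mul, Units.val_mul]
  simp

theorem bmat_one : bmat hF (1 : GL (Fin k) F) = 1 := by
  unfold bmat
  rw [cmat_one, Units.val_one, Matrix.fromBlocks_one]

/-- the embedding of the general linear group -/
noncomputable def psiHom (b : Basis (Fin k ⊕ Fin k) F (Fin n → F)) :
    GL (Fin k) F →* GL (Fin n) F where
  toFun A := ⟨basisConj b (bmat hF A), basisConj b (bmat hF A⁻¹),
    by rw [← map_mul, ← bmat_mul, mul_inv_cancel, bmat_one, map_one],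
    by rw [← map_mul, ← bmat_mul, inv_mul_cancel, bmat_one, map_one]⟩
  map_one' := Units.ext (by
    show basisConj b (bmat hF 1) = 1
    rw [bmat_one, map_one])
  map_mul' A B := Units.ext (by
    show basisConj b (bmat hF (A * B)) = basisConj b (bmat hF A) * basisConj b (bmat hF B)
    rw [bmat_mul, map_mul])

theorem psiHom_val (b : Basis (Fin k ⊕ Fin k) F (Fin n → F)) (A : GL (Fin k) F) :
    (psiHom hF b A).val = basisConj b (bmat hF A) := rfl

theorem psiHom_injective (b : Basis (Fin k ⊕ Fin k) F (Fin n → F)) :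
    Function.Injective (psiHom hF b) := by
  intro A B h
  have h1 : basisConj b (bmat hF A) = basisConj b (bmat hF B) := by
    rw [← psiHom_val, ← psiHom_val, h]
  have h2 := (basisConj b).injective h1
  unfold bmat at h2
  rw [Matrix.fromBlocks_inj] at h2
  exact Units.ext h2.1

theorem psi_inl (b : Basis (Fin k ⊕ Fin k) F (Fin n → F)) (A : GL (Fin k) F) (j : Fin k) :
    (psiHom hF b A).val *ᵥ b (Sum.inl j) = ∑ i, A.val i j • b (Sum.inl i) := by
  rw [psiHom_val, basisConj_mulVec, Matrix.toLin_self, Fintype.sum_sum_type]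
  simp only [bmat, Matrix.fromBlocks_apply₁₁, Matrix.fromBlocks_apply₂₁, Matrix.zero_apply,
    zero_smul, Finset.sum_const_zero, add_zero]

theorem psi_inr (b : Basis (Fin k ⊕ Fin k) F (Fin n → F)) (A : GL (Fin k) F) (j : Fin k) :
    (psiHom hF b A).val *ᵥ b (Sum.inr j) = ∑ i, cmat hF A i j • b (Sum.inr i) := by
  rw [psiHom_val, basisConj_mulVec, Matrix.toLin_self, Fintype.sum_sum_type]
  simp only [bmat, Matrix.fromBlocks_apply₁₂, Matrix.fromBlocks_apply₂₂, Matrix.zero_apply,
    zero_smul, Finset.sum_const_zero, zero_add]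

theorem psi_det (b : Basis (Fin k ⊕ Fin k) F (Fin n → F)) (A : GL (Fin k) F) :
    (psiHom hF b A).val.det = A.val.det * ((A⁻¹ : GL (Fin k) F).val.det) ^ q := by
  rw [psiHom_val, basisConj_det]
  unfold bmat
  rw [Matrix.det_fromBlocks_zero₁₂, cmat_det]

include hF in
/-- the embedded matrices are unitary -/
theorem psi_mem_GU (b : Basis (Fin k ⊕ Fin k) F (Fin n → F))
    (hb : ∀ a c, hermForm n F q (b a) (b c) = gramStd F k a c) (A : GL (Fin k) F) :
    psiHom hF b A ∈ Cfsg.GU n F q := by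
  have hll : ∀ j j', hermForm n F q ((psiHom hF b A).val *ᵥ b (Sum.inl j))
      ((psiHom hF b A).val *ᵥ b (Sum.inl j')) = 0 := by
    intro j j'
    rw [psi_inl, psi_inl, hermForm_sum_left hF]
    apply Finset.sum_eq_zero
    intro i _
    rw [hermForm_sum_right hF]
    apply Finset.sum_eq_zero
    intro i' _
    rw [hermForm_smul_left, hermForm_smul_right, hb]
    simp [gramStd]
  have hrr : ∀ j j', hermForm n F q ((psiHom hF b A).val *ᵥ b (Sum.inr j))
      ((psiHom hF b A).val *ᵥ b (Sum.inr j')) = 0 := by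
    intro j j'
    rw [psi_inr, psi_inr, hermForm_sum_left hF]
    apply Finset.sum_eq_zero
    intro i _
    rw [hermForm_sum_right hF]
    apply Finset.sum_eq_zero
    intro i' _
    rw [hermForm_smul_left, hermForm_smul_right, hb]
    simp [gramStd]
  have hlr : ∀ j l, hermForm n F q ((psiHom hF b A).val *ᵥ b (Sum.inl j))
      ((psiHom hF b A).val *ᵥ b (Sum.inr l)) = if j = l then 1 else 0 := by
    intro j l
    rw [psi_inl, psi_inr, hermForm_sum_left hF, ← sum_mul_cmat hF A j l]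
    apply Finset.sum_congr rfl
    intro i _
    rw [hermForm_sum_right hF]
    have h1 : ∀ i' ∈ Finset.univ, hermForm n F q (A.val i j • b (Sum.inl i))
        (cmat hF A i' l • b (Sum.inr i')) =
        if i' = i then A.val i j * (cmat hF A i l) ^ q else 0 := by
      intro i' _
      rw [hermForm_smul_left, hermForm_smul_right, hb]
      by_cases hii : i' = i
      · rw [if_pos hii, hii]
        simp [gramStd]
      · rw [if_neg hii]
        have : ¬ i = i' := fun h => hii h.symm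
        simp [gramStd, this]
    rw [Finset.sum_congr rfl h1, Finset.sum_ite_eq' Finset.univ i, if_pos (Finset.mem_univ _)]
  have hrl : ∀ l j, hermForm n F q ((psiHom hF b A).val *ᵥ b (Sum.inr l))
      ((psiHom hF b A).val *ᵥ b (Sum.inl j)) = if l = j then 1 else 0 := by
    intro l j
    rw [← hermForm_conj hF, hlr]
    by_cases hjl : j = l
    · rw [if_pos hjl, if_pos hjl.symm, one_pow]
    · rw [if_neg hjl, if_neg (fun h => hjl h.symm), zero_pow (q_ne_zero hF)]
  rw [mem_GU_iff']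
  intro u v
  have := gram_ext hF b (Matrix.toLin' (psiHom hF b A).val) (by
    intro a c
    rw [Matrix.toLin'_apply, Matrix.toLin'_apply, hb]
    rcases a with i | i <;> rcases c with j | j
    · rw [hll]
      rfl
    · rw [hlr]
      rfl
    · rw [hrl]
      rfl
    · rw [hrr]
      rfl) u v
  rwa [Matrix.toLin'_apply, Matrix.toLin'_apply] at this

end blocks

section count

variable {k : ℕ}

/-- the map `A ↦ (det A) ^ (q - 1)` -/
noncomputable def phiHom (F : Type*) [Field F] (q k : ℕ) : GL (Fin k) F →* Fˣ :=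
  (powMonoidHom (q - 1)).comp Matrix.GeneralLinearGroup.det

include hF in
theorem phi_range_le : (phiHom F q k).range ≤ (normHom F q).ker := by
  rintro _ ⟨A, rfl⟩
  rw [MonoidHom.mem_ker]
  show ((Matrix.GeneralLinearGroup.det A) ^ (q - 1)) ^ (q + 1) = 1
  rw [← pow_mul, mul_comm, ← card_units hF]
  exact pow_card_eq_one'

include hF in
theorem psi_det_of_mem_ker (b : Basis (Fin k ⊕ Fin k) F (Fin n → F)) (A : GL (Fin k) F)
    (hA : A ∈ (phiHom F q k).ker) : (psiHom hF b A).val.det = 1 := by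
  rw [psi_det]
  rw [MonoidHom.mem_ker] at hA
  have h1 : (Matrix.GeneralLinearGroup.det A) ^ (q - 1) = 1 := hA
  have h2 : A.val.det ^ (q - 1) = 1 := by
    have := congrArg Units.val h1
    rwa [Units.val_pow_eq_pow_val, Matrix.GeneralLinearGroup.val_det_apply, Units.val_one] at this
  have hq := two_le_q hF
  have h3 : A.val.det ^ q = A.val.det := by
    have : q = (q - 1) + 1 := by omega
    rw [this, pow_succ, h2, one_mul]
  have h4 : (A⁻¹ : GL (Fin k) F).val.det * A.val.det = 1 := by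
    rw [← Matrix.det_mul, ← Units.val_mul, inv_mul_cancel, Units.val_one, Matrix.det_one]
  have h5 : ((A⁻¹ : GL (Fin k) F).val.det) ^ q * A.val.det ^ q = 1 := by
    rw [← mul_pow, h4, one_pow]
  rw [h3] at h5
  rw [mul_comm]
  exact h5

include hF in
/-- the index of the stabilizer times the order of the general linear group divides `(q + 1)`
times the order of the unitary group -/
theorem relIndex_mul_card_GL_dvd {D : Fin 2 → Submodule F (Fin n → F)}
    (hk : 2 * k = n) (hD : Cfsg.Geo.IsMDecomposition k D)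
    (hDs : ∀ i, Cfsg.Geo.IsTotallySingularFor (hermForm n F q) (D i)) :
    (Cfsg.Geo.decompositionStabilizer D).relIndex
        (Cfsg.GU n F q ⊓ Cfsg.Geo.specialLinear (Fin n) F) * Nat.card (GL (Fin k) F) ∣
      Nat.card ↥(Cfsg.GU n F q) * (q + 1) := by
  classical
  have hP := polarPair_of_decomp hD hDs
  obtain ⟨bU, bW, hd⟩ := Cfsg.Agent.Lib.Helper5.SUPairMax.exists_dual_bases hF hD hDs
  obtain ⟨b, hbdef⟩ : ∃ b : Basis (Fin k ⊕ Fin k) F (Fin n → F),
      b = frameBasis hP.compl bU bW := ⟨_, rfl⟩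
  have hb : ∀ a c, hermForm n F q (b a) (b c) = gramStd F k a c := by
    intro a c
    rw [hbdef]
    exact frame_gram hF hP bU bW hd a c
  have hbl : ∀ i, b (Sum.inl i) = (bU i : Fin n → F) := by
    intro i
    rw [hbdef, frameBasis_inl]
  have hbr : ∀ i, b (Sum.inr i) = (bW i : Fin n → F) := by
    intro i
    rw [hbdef, frameBasis_inr]
  obtain ⟨S, hS⟩ : ∃ S : Subgroup (GL (Fin n) F),
      S = Cfsg.GU n F q ⊓ Cfsg.Geo.specialLinear (Fin n) F := ⟨_, rfl⟩
  obtain ⟨N, hN⟩ : ∃ N : Subgroup (GL (Fin n) F),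
      N = Cfsg.Geo.decompositionStabilizer D := ⟨_, rfl⟩
  rw [← hS, ← hN]
  obtain ⟨M₀, hM₀⟩ : ∃ M₀ : Subgroup (GL (Fin k) F), M₀ = (phiHom F q k).ker := ⟨_, rfl⟩
  obtain ⟨Φ, hΦdef⟩ : ∃ Φ : ↥M₀ →* GL (Fin n) F, Φ = (psiHom hF b).comp M₀.subtype := ⟨_, rfl⟩
  have hΦ : ∀ A : ↥M₀, Φ A = psiHom hF b A.1 := by
    intro A
    rw [hΦdef]
    rfl
  have hΦinj : Function.Injective Φ := by
    rw [hΦdef]
    exact (psiHom_injective hF b).comp M₀.subtype_injective
  have hΦS : ∀ A, Φ A ∈ S := by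
    intro A
    rw [hS, hΦ, Subgroup.mem_inf]
    refine ⟨psi_mem_GU hF b hb A.1, ?_⟩
    show Matrix.GeneralLinearGroup.det (psiHom hF b A.1) = 1
    apply Units.ext
    rw [Matrix.GeneralLinearGroup.val_det_apply, Units.val_one]
    apply psi_det_of_mem_ker hF b A.1
    rw [← hM₀]
    exact A.2
  have hΦN : ∀ A, Φ A ∈ N := by
    intro A
    rw [hN, hΦ]
    apply mem_stab_of_fix hD
    · apply mapsInto_of_basis' bU
      intro j
      rw [← hbl, psi_inl]
      apply Submodule.sum_mem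
      intro i _
      rw [hbl]
      exact (D 0).smul_mem _ (bU i).2
    · apply mapsInto_of_basis' bW
      intro j
      rw [← hbr, psi_inr]
      apply Submodule.sum_mem
      intro i _
      rw [hbr]
      exact (D 1).smul_mem _ (bW i).2
  obtain ⟨Ψ₁, hΨ₁def⟩ : ∃ Ψ₁ : ↥M₀ →* ↥S, Ψ₁ = Φ.codRestrict S hΦS := ⟨_, rfl⟩
  have hΨ₁v : ∀ A, ((Ψ₁ A : ↥S) : GL (Fin n) F) = Φ A := by
    intro A
    rw [hΨ₁def]
    rfl
  have hΨ₁ : ∀ A, Ψ₁ A ∈ N.subgroupOf S := by
    intro A
    rw [Subgroup.mem_subgroupOf, hΨ₁v]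
    exact hΦN A
  obtain ⟨Ψ, hΨdef⟩ : ∃ Ψ : ↥M₀ →* ↥(N.subgroupOf S), Ψ = Ψ₁.codRestrict _ hΨ₁ := ⟨_, rfl⟩
  have hΨv : ∀ A, ((Ψ A : ↥(N.subgroupOf S)) : ↥S) = Ψ₁ A := by
    intro A
    rw [hΨdef]
    rfl
  have hΨinj : Function.Injective Ψ := by
    intro A A' h
    apply hΦinj
    rw [← hΨ₁v, ← hΨ₁v, ← hΨv, ← hΨv, h]
  have h1 := Subgroup.card_dvd_of_injective Ψ hΨinj
  have h2 := Subgroup.index_mul_card (N.subgroupOf S)
  have h3 : Nat.card ↥S ∣ Nat.card ↥(Cfsg.GU n F q) := by
    rw [hS]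
    exact Subgroup.card_dvd_of_le inf_le_left
  have h4 : Nat.card ↥M₀ * Nat.card ↥(phiHom F q k).range = Nat.card (GL (Fin k) F) := by
    rw [hM₀, ← Subgroup.index_ker, Subgroup.card_mul_index]
  have h5 : Nat.card ↥(phiHom F q k).range ∣ q + 1 := by
    rw [← card_ker hF]
    exact Subgroup.card_dvd_of_le (phi_range_le hF)
  obtain ⟨a, ha⟩ := h1
  obtain ⟨b', hb'⟩ := h3
  obtain ⟨c, hc⟩ := h5
  rw [Subgroup.relIndex, ← h4, hb', hc, ← h2, ha]
  exact Dvd.intro (a * b' * c) (by ring)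

end count

section arith

theorem prod_even_odd (q k : ℕ) :
    ∏ i ∈ Finset.range (2 * k), (if Even i then q ^ (i + 1) + 1 else q ^ (i + 1) - 1) =
      (∏ l ∈ Finset.range k, (q ^ (2 * l + 1) + 1)) *
        ∏ l ∈ Finset.range k, (q ^ (2 * l + 2) - 1) := by
  induction k with
  | zero => simp
  | succ k ih =>
    have h1 : 2 * (k + 1) = 2 * k + 1 + 1 := by ring
    rw [h1, Finset.prod_range_succ, Finset.prod_range_succ, ih, Finset.prod_range_succ,
      Finset.prod_range_succ]
    have h2 : Even (2 * k) := even_two_mul k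
    have h3 : ¬ Even (2 * k + 1) := by
      rw [Nat.not_even_iff_odd]
      exact odd_two_mul_add_one k
    rw [if_pos h2, if_neg h3]
    ring

theorem prod_dvd_card_GL (q k : ℕ) :
    (∏ l ∈ Finset.range k, (q ^ (2 * l + 2) - 1)) ∣
      ∏ i : Fin k, ((q ^ 2) ^ k - (q ^ 2) ^ (i : ℕ)) := by
  rw [Fin.prod_univ_eq_prod_range (fun i => (q ^ 2) ^ k - (q ^ 2) ^ i) k,
    ← Finset.prod_range_reflect (fun l => q ^ (2 * l + 2) - 1) k]
  apply Finset.prod_dvd_prod_of_dvd
  intro i hi
  rw [Finset.mem_range] at hi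
  have h1 : (q ^ 2) ^ k - (q ^ 2) ^ i = (q ^ 2) ^ i * ((q ^ 2) ^ (k - i) - 1) := by
    rw [Nat.mul_sub, mul_one, ← pow_add]
    congr 2
    omega
  have h2 : (q ^ 2) ^ (k - i) = q ^ (2 * (k - 1 - i) + 2) := by
    rw [← pow_mul]
    congr 1
    omega
  rw [h1, h2]
  exact Dvd.intro_left _ rfl

theorem prime_dvd_cases (q k N idx G r : ℕ) (hq : 2 ≤ q) (hk : 0 < k) (hr : r.Prime)
    (hG : (∏ l ∈ Finset.range k, (q ^ (2 * l + 2) - 1)) ∣ G)
    (h : idx * G ∣ (q ^ N * ∏ i ∈ Finset.range (2 * k),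
      (if Even i then q ^ (i + 1) + 1 else q ^ (i + 1) - 1)) * (q + 1))
    (hri : r ∣ idx) : r ∣ q ∨ ∃ l < k, r ∣ q ^ (2 * l + 1) + 1 := by
  rw [prod_even_odd] at h
  obtain ⟨Q', hQ'⟩ := hG
  obtain ⟨s, hs⟩ := h
  have hpos : 0 < ∏ l ∈ Finset.range k, (q ^ (2 * l + 2) - 1) := by
    apply Finset.prod_pos
    intro l _
    have : 2 ≤ q ^ (2 * l + 2) := by
      calc 2 ≤ q := hq
        _ = q ^ 1 := (pow_one q).symm
        _ ≤ q ^ (2 * l + 2) := Nat.pow_le_pow_right (by omega) (by omega)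
    omega
  have h1 : (q ^ N * (∏ l ∈ Finset.range k, (q ^ (2 * l + 1) + 1)) * (q + 1)) *
      (∏ l ∈ Finset.range k, (q ^ (2 * l + 2) - 1)) =
      (idx * Q' * s) * ∏ l ∈ Finset.range k, (q ^ (2 * l + 2) - 1) := by
    rw [hQ'] at hs
    calc _ = q ^ N * ((∏ l ∈ Finset.range k, (q ^ (2 * l + 1) + 1)) *
        ∏ l ∈ Finset.range k, (q ^ (2 * l + 2) - 1)) * (q + 1) := by ring
      _ = _ := by rw [hs]; ring
  have h2 := Nat.eq_of_mul_eq_mul_right hpos h1
  have h3 : r ∣ q ^ N * (∏ l ∈ Finset.range k, (q ^ (2 * l + 1) + 1)) * (q + 1) := by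
    rw [h2]
    exact Dvd.dvd.mul_right (Dvd.dvd.mul_right hri _) _
  rcases (Nat.Prime.dvd_mul hr).mp h3 with h4 | h4
  · rcases (Nat.Prime.dvd_mul hr).mp h4 with h5 | h5
    · left
      exact Nat.Prime.dvd_of_dvd_pow hr h5
    · right
      obtain ⟨l, hl, hrl⟩ := (Prime.dvd_finsetProd_iff (Nat.Prime.prime hr) _).mp h5
      exact ⟨l, Finset.mem_range.mp hl, hrl⟩
  · right
    exact ⟨0, hk, by simpa using h4⟩

end arith

include hF in
/-- the primes dividing the index of the stabilizer -/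
theorem prime_dvd_index {D : Fin 2 → Submodule F (Fin n → F)} {k : ℕ}
    (hk : 2 * k = n) (hD : Cfsg.Geo.IsMDecomposition k D)
    (hDs : ∀ i, Cfsg.Geo.IsTotallySingularFor (hermForm n F q) (D i))
    (r : ℕ) (hr : r.Prime)
    (hri : r ∣ (Cfsg.Geo.decompositionStabilizer D).relIndex
        (Cfsg.GU n F q ⊓ Cfsg.Geo.specialLinear (Fin n) F)) :
    r ∣ q ∨ ∃ l < k, r ∣ q ^ (2 * l + 1) + 1 := by
  subst hk
  have h1 := relIndex_mul_card_GL_dvd hF rfl hD hDs
  rw [Cfsg.Agent.Lib.Helper5.HermCard.card_GU hF (2 * k), Matrix.card_GL_field, hF] at h1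
  exact prime_dvd_cases q k _ _ _ r (two_le_q hF) hD.pos hr (prod_dvd_card_GL q k) h1 hri

end Cfsg.Agent.Lib.Helper2.Upp
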