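import Mathlib
import Cfsg.Prelude
import Cfsg.Agent.Lib.Helper2.UppC
import Cfsg.Agent.Lib.Helper2.UppE
set_option autoImplicit false
set_option maxHeartbeats 1000000
set_option linter.unusedVariables false
set_option linter.unusedSectionVars false
set_option linter.style.longLine false
set_option linter.unusedSimpArgs false
set_option linter.deprecated false
set_option linter.style.haveILetI false

/-! Unitary groups and pairs of complementary totally singular subspaces (part F): elements of
prime order modulo scalars and conjugates in the stabilizer. -/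

namespace Cfsg.Agent.Lib.Helper2.Upp

open Module Matrix Cfsg Cfsg.Agent.Lib.Helper5.Herm

variable {F : Type*} [Field F] [Fintype F] {q : ℕ}

theorem main_upp {p : ℕ} [Fact p.Prime] [CharP F p] (hF : Fintype.card F = q ^ 2)
    (n : ℕ) (hn : 4 ≤ n) (he : Even n) (D : Fin 2 → Submodule F (Fin n → F))
    (hD : Cfsg.Geo.IsMDecomposition (n / 2) D)
    (hDs : ∀ i, Cfsg.Geo.IsTotallySingularFor (Cfsg.hermForm n F q) (D i))
    (r : ℕ) [Fact r.Prime]
    (hΩ : r ∣ (Cfsg.Geo.decompositionStabilizer D).relIndex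
      (Cfsg.GU n F q ⊓ Cfsg.Geo.specialLinear (Fin n) F)) :
    (∀ x ∈ Cfsg.GU n F q ⊓ Cfsg.Geo.specialLinear (Fin n) F,
      (∃ z : F, ((x ^ r : GL (Fin n) F) : Matrix (Fin n) (Fin n) F) =
        z • (1 : Matrix (Fin n) (Fin n) F)) →
      (∀ z : F, (x : Matrix (Fin n) (Fin n) F) ≠ z • (1 : Matrix (Fin n) (Fin n) F)) →
      ∃ g ∈ Cfsg.GU n F q ⊓ Cfsg.Geo.specialLinear (Fin n) F,
        g⁻¹ * x * g ∈ Cfsg.Geo.decompositionStabilizer D) ↔
    (r = 2 ∧ Odd q ∧ padicValNat 2 (q + 1) ≤ padicValNat 2 n) := by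
  have hk : 2 * (n / 2) = n := by
    obtain ⟨a, ha⟩ := he
    omega
  have hrP : r.Prime := Fact.out
  have hpP : p.Prime := Fact.out
  constructor
  · intro hL
    have bad : ∀ x : GL (Fin n) F, x ∈ Cfsg.GU n F q ⊓ Cfsg.Geo.specialLinear (Fin n) F →
        (∃ z : F, ((x ^ r : GL (Fin n) F) : Matrix (Fin n) (Fin n) F) =
          z • (1 : Matrix (Fin n) (Fin n) F)) →
        (∀ z : F, (x : Matrix (Fin n) (Fin n) F) ≠ z • (1 : Matrix (Fin n) (Fin n) F)) →
        (∀ g ∈ Cfsg.GU n F q, g⁻¹ * x * g ∉ Cfsg.Geo.decompositionStabilizer D) → False := by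
      intro x hx h1 h2 h3
      obtain ⟨g, hg, hgN⟩ := hL x hx h1 h2
      exact h3 g (Subgroup.mem_inf.mp hg).1 hgN
    have hrp : r ≠ p := by
      intro hrp
      obtain ⟨x, hx, h1, h2, h3⟩ := exists_bad_transvection hF hn he hD hDs p
      exact bad x hx (by rw [hrp]; exact h1) h2 h3
    have hrq : ¬ r ∣ q := by
      intro h
      obtain ⟨e, -, he'⟩ := FiniteField.card F p
      have h1 : r ∣ p ^ (e : ℕ) := by
        rw [← he', hF]
        exact Dvd.dvd.pow h (by norm_num)
      exact hrp ((Nat.prime_dvd_prime_iff_eq hrP hpP).mp (hrP.dvd_of_dvd_pow h1))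
    by_cases hr2 : r = 2
    · have hqodd : Odd q := by
        by_contra hne
        rw [Nat.not_odd_iff_even] at hne
        apply hrq
        rw [hr2]
        exact hne.two_dvd
      refine ⟨hr2, hqodd, ?_⟩
      by_contra hlt
      push Not at hlt
      obtain ⟨x, hx, h1, h2, h3⟩ := exists_bad_involution hF hn he hD hDs hqodd hlt
      exact bad x hx (by rw [hr2]; exact h1) h2 h3
    · exfalso
      rcases prime_dvd_index hF hk hD hDs r hrP hΩ with h | ⟨l₀, hl₀, hrl⟩
      · exact hrq h
      · by_cases hq1 : r ∣ q + 1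
        · obtain ⟨x, hx, h1, h2, h3⟩ := exists_bad_diag hF hn hD hDs r hr2 hq1
          exact bad x hx h1 h2 h3
        · have hq2 := two_le_q hF
          obtain ⟨c, hcd, hrc, hord⟩ := exists_order_param r hr2 q (2 * l₀ + 1) (by omega)
            (odd_two_mul_add_one l₀) hrl
          have hcodd : Odd c := Odd.of_dvd_nat (odd_two_mul_add_one l₀) hcd
          have hcle : c ≤ 2 * l₀ + 1 := Nat.le_of_dvd (by omega) hcd
          have hcn : c < n := by omega
          obtain ⟨l, hl⟩ : ∃ l, n = c + l := ⟨n - c, by omega⟩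
          subst hl
          have hlodd : Odd l := by
            obtain ⟨a, ha⟩ := he
            obtain ⟨b, hb⟩ := hcodd
            exact ⟨a - b - 1, by omega⟩
          obtain ⟨x, hx, h1, h2, h3⟩ := exists_bad_block hF c l hcodd hlodd hD hDs r hr2 hrq hq1
            hrc hord
          exact bad x hx h1 h2 h3
  · rintro ⟨hr2, hqodd, hv⟩ x hx ⟨z, hz⟩ hns
    have hxGU := (Subgroup.mem_inf.mp hx).1
    have hxdet : x.val.det = 1 := by
      have h1 : Matrix.GeneralLinearGroup.det x = 1 := (Subgroup.mem_inf.mp hx).2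
      have h2 := congrArg Units.val h1
      rwa [Matrix.GeneralLinearGroup.val_det_apply, Units.val_one] at h2
    have hz' : x.val * x.val = z • (1 : Matrix (Fin n) (Fin n) F) := by
      rw [← hz, Units.val_pow_eq_pow_val, hr2, pow_two]
    obtain ⟨U', W', hP', hU, hW⟩ := exists_stable_pair hF (by omega) he hqodd hv x hxGU hxdet z hz'
    exact exists_conj_of_stable hF hk hD hDs x hP' hU hW

end Cfsg.Agent.Lib.Helper2.Upp
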