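import Mathlib
import Cfsg.Agent.Lib.Helper2.SsfH
import Cfsg.Agent.Lib.Helper5.SUCentres
set_option autoImplicit false
set_option maxHeartbeats 1000000
set_option linter.unusedVariables false
set_option linter.unusedSectionVars false
set_option linter.style.longLine false
set_option linter.unusedSimpArgs false
set_option linter.deprecated false
set_option linter.style.haveILetI false

/-! Subfield-type subgroups of `SU_n(q)` (part A): rational structures given by an invertible
matrix, membership in the subfield group in terms of rational vectors, the subfield of index two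
as the fixed field of the involution. -/

namespace Cfsg.Agent.Lib.Helper2.Usf

open Matrix Cfsg Cfsg.Agent.Lib.Helper5.Herm Cfsg.Agent.Lib.Helper5.HermBridge
  Cfsg.Agent.Lib.Helper5.HermTv Cfsg.Agent.Lib.Helper5.SUCentres Cfsg.Agent.Lib.Helper2.Ssf

universe u

section Struct

variable {F : Type u} [Field F] {ι : Type} [Fintype ι] [DecidableEq ι] (F₀ : Subfield F)
  (P : GL ι F)

/-- the rational vectors of the structure attached to `P` -/
def V0 (v : ι → F) : Prop := IsRatV F₀ ((P⁻¹).1 *ᵥ v)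

variable {F₀ P}

theorem V0.add {v w : ι → F} (hv : V0 F₀ P v) (hw : V0 F₀ P w) : V0 F₀ P (v + w) := by
  unfold V0 at *
  rw [Matrix.mulVec_add]; exact hv.add hw

theorem V0.sub {v w : ι → F} (hv : V0 F₀ P v) (hw : V0 F₀ P w) : V0 F₀ P (v - w) := by
  unfold V0 at *
  rw [Matrix.mulVec_sub]; exact hv.sub hw

theorem V0.neg {v : ι → F} (hv : V0 F₀ P v) : V0 F₀ P (-v) := by
  unfold V0 at *
  rw [Matrix.mulVec_neg]; exact hv.neg

theorem V0.smul {v : ι → F} {a : F} (ha : a ∈ F₀) (hv : V0 F₀ P v) : V0 F₀ P (a • v) := by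
  unfold V0 at *
  rw [Matrix.mulVec_smul]; exact hv.smul ha

theorem V0_zero : V0 F₀ P (0 : ι → F) := by
  unfold V0
  rw [Matrix.mulVec_zero]; exact isRatV_zero

theorem V0_mulVec {u : ι → F} (hu : IsRatV F₀ u) : V0 F₀ P (P.1 *ᵥ u) := by
  unfold V0
  rw [gl_inv_mulVec_cancel]; exact hu

theorem V0.exists_eq {v : ι → F} (hv : V0 F₀ P v) : ∃ u, IsRatV F₀ u ∧ v = P.1 *ᵥ u :=
  ⟨(P⁻¹).1 *ᵥ v, hv, (gl_mulVec_inv_cancel P v).symm⟩

/-- the columns of `P` -/
def col (P : GL ι F) (j : ι) : ι → F := P.1 *ᵥ Pi.single j 1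

theorem V0_col (j : ι) : V0 F₀ P (col P j) := V0_mulVec (isRatV_single j F₀.one_mem)

theorem mulVec_eq_sum_col (u : ι → F) : P.1 *ᵥ u = ∑ j, u j • col P j := by
  have h : u = ∑ j, u j • (Pi.single j (1 : F) : ι → F) := by
    funext i
    simp [Finset.sum_apply, Pi.single_apply]
  conv_lhs => rw [h]
  rw [Matrix.mulVec_sum]
  exact Finset.sum_congr rfl fun j _ => by rw [Matrix.mulVec_smul]; rfl

variable (F₀ P)

/-- membership in the subfield group attached to `P` in terms of rational vectors -/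
theorem mem_sfS_iff (g : GL ι F) :
    g ∈ Cfsg.Geo.subfieldSubgroup F₀ P ↔
      ∃ c : F, c ≠ 0 ∧ ∀ v, V0 F₀ P v → V0 F₀ P (c • (g.1 *ᵥ v)) := by
  have h1 : g ∈ Cfsg.Geo.subfieldSubgroup F₀ P ↔
      P⁻¹ * g * P ∈ Cfsg.Geo.subfieldSubgroup F₀ 1 := by
    rw [subfieldSubgroup_eq_map' F₀ P, Subgroup.mem_map]
    constructor
    · rintro ⟨y, hy, hyg⟩
      have : (MulAut.conj P) y = g := hyg
      rw [MulAut.conj_apply] at this
      rw [← this]
      have e : P⁻¹ * (P * y * P⁻¹) * P = y := by group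
      rw [e]; exact hy
    · intro h
      refine ⟨_, h, ?_⟩
      show (MulAut.conj P) (P⁻¹ * g * P) = g
      rw [MulAut.conj_apply]
      group
  rw [h1, mem_subfield_iff']
  constructor
  · rintro ⟨c, hc0, hc⟩
    refine ⟨c, hc0, fun v hv => ?_⟩
    unfold V0 at hv ⊢
    have e : (P⁻¹).1 *ᵥ (c • (g.1 *ᵥ v)) = (c • (P⁻¹ * g * P).1) *ᵥ ((P⁻¹).1 *ᵥ v) := by
      rw [Matrix.smul_mulVec, Matrix.mulVec_smul, gl_mul_mulVec, gl_mul_mulVec,
        gl_mulVec_inv_cancel]
    rw [e]
    exact IsRatM.mulVec (fun i j => by rw [Matrix.smul_apply, smul_eq_mul]; exact hc i j) hv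
  · rintro ⟨c, hc0, hc⟩
    refine ⟨c, hc0, fun i j => ?_⟩
    have h2 := hc (col P j) (V0_col j) i
    unfold col at h2
    rw [Matrix.mulVec_smul, Pi.smul_apply, smul_eq_mul] at h2
    have e : (P⁻¹).1 *ᵥ (g.1 *ᵥ (P.1 *ᵥ Pi.single j 1)) = (P⁻¹ * g * P).1 *ᵥ Pi.single j 1 := by
      rw [gl_mul_mulVec, gl_mul_mulVec]
    rw [e, Matrix.mulVec_single_one] at h2
    exact h2

end Struct

section Field

variable {F : Type u} [Field F] [Fintype F] {q : ℕ} (hF : Fintype.card F = q ^ 2)
  (F₀ : Subfield F) (hcard : Fintype.card F = Nat.card F₀ ^ 2)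

include hF hcard

theorem card_F₀ : Nat.card F₀ = q := by
  rw [hF] at hcard
  exact (Nat.pow_left_injective (by norm_num : 2 ≠ 0) hcard).symm

/-- elements of the subfield of index two are fixed by the involution -/
theorem pow_q_of_mem {x : F} (hx : x ∈ F₀) : x ^ q = x := by
  classical
  haveI : Fintype F₀ := Fintype.ofFinite F₀
  have h1 : Fintype.card F₀ = q := by
    rw [← Nat.card_eq_fintype_card]; exact card_F₀ hF F₀ hcard
  have h2 := FiniteField.pow_card (⟨x, hx⟩ : F₀)
  rw [h1] at h2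
  have := congrArg (fun y : F₀ => (y : F)) h2
  simpa using this

/-- elements fixed by the involution lie in the subfield of index two -/
theorem mem_of_pow_q {x : F} (hx : x ^ q = x) : x ∈ F₀ := by
  set E : Subfield F := RingHom.eqLocusField (Cfsg.Agent.Lib.Helper5.HermBridge.sigma hF) (RingHom.id F) with hE
  have hle : F₀ ≤ E := by
    intro y hy
    show Cfsg.Agent.Lib.Helper5.HermBridge.sigma hF y = y
    exact pow_q_of_mem hF F₀ hcard hy
  have hcard' : Fintype.card F = Nat.card F₀ ^ 2 := hcard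
  rcases Cfsg.Agent.Lib.Helper2.Sfm.subfield_eq_or_eq_top F₀ E hle 2 Nat.prime_two hcard' with h | h
  · rw [← h]
    show Cfsg.Agent.Lib.Helper5.HermBridge.sigma hF x = x
    exact hx
  · exfalso
    apply Cfsg.Agent.Lib.Helper5.HermBridge.sigma_ne_id hF
    ext y
    have : y ∈ E := by rw [h]; exact Subfield.mem_top y
    exact this

/-- norms lie in the subfield of index two -/
theorem norm_mem (x : F) : x * x ^ q ∈ F₀ := by
  apply mem_of_pow_q hF F₀ hcard
  rw [mul_pow, pow_q_pow_q hF, mul_comm]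

/-- an element outside the subfield -/
theorem exists_not_mem : ∃ θ : F, θ ∉ F₀ := by
  by_contra hcon
  push Not at hcon
  apply Cfsg.Agent.Lib.Helper5.HermBridge.sigma_ne_id hF
  ext y
  exact pow_q_of_mem hF F₀ hcard (hcon y)

/-- the field is two-dimensional over the subfield -/
theorem exists_decomp2 {θ : F} (hθ : θ ∉ F₀) (c : F) : ∃ a ∈ F₀, ∃ b ∈ F₀, c = a + θ * b := by
  classical
  haveI : Fintype F₀ := Fintype.ofFinite F₀
  let f : F₀ × F₀ → F := fun p => (p.1 : F) + θ * (p.2 : F)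
  have hinj : Function.Injective f := by
    rintro ⟨a, b⟩ ⟨a', b'⟩ h
    have h' : (a : F) + θ * (b : F) = (a' : F) + θ * (b' : F) := h
    have hb : (b : F) = (b' : F) := by
      by_contra hne
      apply hθ
      have h3 : θ * ((b : F) - (b' : F)) = (a' : F) - (a : F) := by linear_combination h'
      have h4 : (b : F) - (b' : F) ≠ 0 := sub_ne_zero.2 hne
      have h5 : θ = ((a' : F) - (a : F)) * ((b : F) - (b' : F))⁻¹ := by
        rw [← h3]; field_simp
      rw [h5]
      exact F₀.mul_mem (F₀.sub_mem a'.2 a.2) (F₀.inv_mem (F₀.sub_mem b.2 b'.2))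
    have ha : (a : F) = (a' : F) := by
      rw [hb] at h'
      exact add_right_cancel h'
    exact Prod.ext (Subtype.ext ha) (Subtype.ext hb)
  have hc : Fintype.card (F₀ × F₀) = Fintype.card F := by
    rw [Fintype.card_prod, hcard, Nat.card_eq_fintype_card, sq]
  have hbij : Function.Bijective f :=
    (Fintype.bijective_iff_injective_and_card f).2 ⟨hinj, hc⟩
  obtain ⟨⟨a, b⟩, hab⟩ := hbij.2 c
  exact ⟨a, a.2, b, b.2, hab.symm⟩

end Field

end Cfsg.Agent.Lib.Helper2.Usf
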