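import Mathlib
import Cfsg.Agent.Lib.Helper2.UsfA
set_option autoImplicit false
set_option maxHeartbeats 1000000
set_option linter.unusedVariables false
set_option linter.unusedSectionVars false
set_option linter.style.longLine false
set_option linter.unusedSimpArgs false
set_option linter.deprecated false
set_option linter.style.haveILetI false

/-! Subfield-type subgroups of `SU_n(q)` (part B): rational structures on which a multiple of the
Hermitian form is alternating; the rational transvections and the transitivity of the group they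
generate on rational vectors and on rational isotropic pairs. -/

namespace Cfsg.Agent.Lib.Helper2.Usf

open Matrix Cfsg Cfsg.Agent.Lib.Helper5.Herm Cfsg.Agent.Lib.Helper5.HermBridge
  Cfsg.Agent.Lib.Helper5.HermTv Cfsg.Agent.Lib.Helper5.SUCentres Cfsg.Agent.Lib.Helper2.Ssf

universe u

section Herm

variable {F : Type u} [Field F] [Fintype F] {q : ℕ} (hF : Fintype.card F = q ^ 2) {n : ℕ}

include hF

theorem herm_neg_right (u v : Fin n → F) : hermForm n F q u (-v) = - hermForm n F q u v := by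
  have := hermForm_smul_right n q (-1 : F) u v
  rwa [neg_one_smul, pow_q_neg_one hF, neg_one_mul] at this

theorem herm_neg_left (u v : Fin n → F) : hermForm n F q (-u) v = - hermForm n F q u v := by
  have := hermForm_smul_left n q (-1 : F) u v
  rwa [neg_one_smul, neg_one_mul] at this

theorem herm_sub_right (u v w : Fin n → F) :
    hermForm n F q u (v - w) = hermForm n F q u v - hermForm n F q u w := by
  rw [sub_eq_add_neg, hermForm_add_right hF, herm_neg_right hF, ← sub_eq_add_neg]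

theorem herm_sub_left (u v w : Fin n → F) :
    hermForm n F q (u - v) w = hermForm n F q u w - hermForm n F q v w := by
  rw [sub_eq_add_neg, hermForm_add_left, herm_neg_left hF, ← sub_eq_add_neg]

theorem herm_sum_right {κ : Type*} (s : Finset κ) (x : Fin n → F) (f : κ → Fin n → F) :
    hermForm n F q x (∑ j ∈ s, f j) = ∑ j ∈ s, hermForm n F q x (f j) := by
  classical
  induction s using Finset.induction_on with
  | empty => rw [Finset.sum_empty, Finset.sum_empty, hermForm_zero_right hF]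
  | insert a s ha ih => rw [Finset.sum_insert ha, Finset.sum_insert ha, hermForm_add_right hF, ih]

/-- non-degeneracy, tested on the columns of an invertible matrix -/
theorem exists_col_ne (P : GL (Fin n) F) {x : Fin n → F} (hx : x ≠ 0) :
    ∃ j, hermForm n F q x (col P j) ≠ 0 := by
  by_contra hcon
  push Not at hcon
  apply hx
  have h1 : ∀ u : Fin n → F, hermForm n F q x (P.1 *ᵥ u) = 0 := by
    intro u
    rw [mulVec_eq_sum_col, herm_sum_right hF]
    apply Finset.sum_eq_zero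
    intro j _
    rw [hermForm_smul_right, hcon, mul_zero]
  funext i
  have h2 := h1 ((P⁻¹).1 *ᵥ Pi.single i 1)
  rw [gl_mulVec_inv_cancel, hermForm_single_right n q (q_ne_zero hF)] at h2
  exact h2

end Herm

section Alt

variable {F : Type u} [Field F] [Fintype F] {q : ℕ} (hF : Fintype.card F = q ^ 2) {n : ℕ}
  (F₀ : Subfield F) (hcard : Fintype.card F = Nat.card F₀ ^ 2) (P : GL (Fin n) F)

/-- a rational structure on which `ζ` times the Hermitian form is alternating with values in the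
subfield -/
structure AltStr (q : ℕ) (F₀ : Subfield F) (P : GL (Fin n) F) (ζ : F) : Prop where
  zeta_ne : ζ ≠ 0
  val : ∀ a b, V0 F₀ P a → V0 F₀ P b → ζ * hermForm n F q a b ∈ F₀
  alt : ∀ a, V0 F₀ P a → hermForm n F q a a = 0

variable {F₀ P} {ζ : F} (S : AltStr q F₀ P ζ)

include hF S

theorem AltStr.skew {a b : Fin n → F} (ha : V0 F₀ P a) (hb : V0 F₀ P b) :
    hermForm n F q b a = - hermForm n F q a b := by
  have h := S.alt (a + b) (ha.add hb)
  rw [hermForm_add_left, hermForm_add_right hF, hermForm_add_right hF, S.alt a ha, S.alt b hb,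
    zero_add, add_zero] at h
  exact eq_neg_of_add_eq_zero_right h

theorem AltStr.conj {a b : Fin n → F} (ha : V0 F₀ P a) (hb : V0 F₀ P b) :
    hermForm n F q a b ^ q = - hermForm n F q a b := by
  rw [hermForm_conj hF, S.skew hF ha hb]

include hcard

/-- the coefficient of a rational transvection is rational -/
theorem AltStr.coef_mem {a b : Fin n → F} (ha : V0 F₀ P a) (hb : V0 F₀ P b) {c : F}
    (hc : c ^ q = -c) : c * hermForm n F q a b ∈ F₀ := by
  apply mem_of_pow_q hF F₀ hcard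
  rw [mul_pow, hc, S.conj hF ha hb, neg_mul_neg]

/-- ratios of values of the form on rational vectors are rational -/
theorem AltStr.ratio_mem {a b c d : Fin n → F} (ha : V0 F₀ P a) (hb : V0 F₀ P b)
    (hc : V0 F₀ P c) (hd : V0 F₀ P d) :
    hermForm n F q a b / hermForm n F q c d ∈ F₀ := by
  by_cases h0 : hermForm n F q c d = 0
  · rw [h0, div_zero]; exact F₀.zero_mem
  have : hermForm n F q a b / hermForm n F q c d =
      (ζ * hermForm n F q a b) * (ζ * hermForm n F q c d)⁻¹ := by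
    have := S.zeta_ne
    field_simp
  rw [this]
  exact F₀.mul_mem (S.val a b ha hb) (F₀.inv_mem (S.val c d hc hd))

omit hcard in
theorem AltStr.qcond {v : Fin n → F} (hv : V0 F₀ P v) {c : F} (hc : c ^ q = -c) :
    QCond n q v c := (qcond_iso n (S.alt v hv) c).mpr hc

/-- the rational transvections lie in the subfield group and in the special unitary group -/
theorem AltStr.tv_mem {v : Fin n → F} (hv : V0 F₀ P v) {c : F} (hc : c ^ q = -c) :
    ((qtv hF n v c (S.qcond hF hv hc) : ↥(Cfsg.GU n F q)) : GL (Fin n) F) ∈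
      Cfsg.Geo.subfieldSubgroup F₀ P ⊓ (Cfsg.GU n F q ⊓ Cfsg.Geo.specialLinear (Fin n) F) := by
  refine Subgroup.mem_inf.2 ⟨?_, ?_⟩
  · rw [mem_sfS_iff]
    refine ⟨1, one_ne_zero, fun w hw => ?_⟩
    rw [one_smul]
    have e : (((qtv hF n v c (S.qcond hF hv hc) : ↥(Cfsg.GU n F q)) : GL (Fin n) F) :
        Matrix (Fin n) (Fin n) F) *ᵥ w = w + (c * hermForm n F q w v) • v :=
      gact_qtv hF n v c _ w
    rw [e]
    exact hw.add (hv.smul (S.coef_mem hF hcard hw hv hc))
  · rw [mem_SU_iff]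
    refine ⟨(qtv hF n v c (S.qcond hF hv hc)).2, ?_⟩
    rw [qtv_coe, Cfsg.Agent.Lib.Helper5.HermGen.det_tv, S.alt v hv, mul_zero, add_zero]

end Alt

section Move

variable {F : Type u} [Field F] [Fintype F] {q : ℕ} (hF : Fintype.card F = q ^ 2) {n : ℕ}
  {F₀ : Subfield F} (hcard : Fintype.card F = Nat.card F₀ ^ 2) {P : GL (Fin n) F} {ζ : F}
  (S : AltStr q F₀ P ζ)

include hF hcard S

/-- the subgroup in which the rational transvections live -/
abbrev M0 (q : ℕ) (F₀ : Subfield F) (P : GL (Fin n) F) : Subgroup (GL (Fin n) F) :=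
  Cfsg.Geo.subfieldSubgroup F₀ P ⊓ (Cfsg.GU n F q ⊓ Cfsg.Geo.specialLinear (Fin n) F)

/-- one rational transvection moving `x` to `y`, fixing `a` -/
theorem move_step {x y a : Fin n → F} (hx : V0 F₀ P x) (hy : V0 F₀ P y)
    (hxy : hermForm n F q x y ≠ 0) (ha : hermForm n F q a x = hermForm n F q a y) :
    ∃ g ∈ M0 q F₀ P, g.1 *ᵥ x = y ∧ g.1 *ᵥ a = a := by
  have hc : ((hermForm n F q x y)⁻¹) ^ q = -(hermForm n F q x y)⁻¹ := by
    rw [inv_pow, S.conj hF hx hy, inv_neg]
  have hv : V0 F₀ P (x - y) := hx.sub hy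
  refine ⟨_, S.tv_mem hF hcard hv hc, ?_, ?_⟩
  · have e := gact_qtv hF n (x - y) _ (S.qcond hF hv hc) x
    unfold gact at e
    rw [e, herm_sub_right hF, S.alt x hx, zero_sub, mul_neg, inv_mul_cancel₀ hxy]
    module
  · have e := gact_qtv hF n (x - y) _ (S.qcond hF hv hc) a
    unfold gact at e
    rw [e, herm_sub_right hF, ha, sub_self, mul_zero, zero_smul, add_zero]

/-- two rational transvections moving `x` to `y`, fixing `a` -/
theorem move_two {x y a z₁ z₂ : Fin n → F} (hx : V0 F₀ P x) (hy : V0 F₀ P y)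
    (hz₁ : V0 F₀ P z₁) (hz₂ : V0 F₀ P z₂) (hxa : hermForm n F q a x = 0)
    (hya : hermForm n F q a y = 0) (hz₁a : hermForm n F q a z₁ = 0)
    (hz₂a : hermForm n F q a z₂ = 0) (h1 : hermForm n F q x z₁ ≠ 0)
    (h2 : hermForm n F q y z₂ ≠ 0) :
    ∃ g ∈ M0 q F₀ P, g.1 *ᵥ x = y ∧ g.1 *ᵥ a = a := by
  by_cases hxy : hermForm n F q x y = 0
  · obtain ⟨z, hz, hza, hxz, hyz⟩ : ∃ z, V0 F₀ P z ∧ hermForm n F q a z = 0 ∧
        hermForm n F q x z ≠ 0 ∧ hermForm n F q y z ≠ 0 := by
      by_cases h3 : hermForm n F q y z₁ = 0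
      · by_cases h4 : hermForm n F q x z₂ = 0
        · refine ⟨z₁ + z₂, hz₁.add hz₂, ?_, ?_, ?_⟩
          · rw [hermForm_add_right hF, hz₁a, hz₂a, add_zero]
          · rw [hermForm_add_right hF, h4, add_zero]; exact h1
          · rw [hermForm_add_right hF, h3, zero_add]; exact h2
        · exact ⟨z₂, hz₂, hz₂a, h4, h2⟩
      · exact ⟨z₁, hz₁, hz₁a, h1, h3⟩
    obtain ⟨g₁, hg₁, hg₁x, hg₁a⟩ := move_step hF hcard S hx hz hxz (by rw [hxa, hza])
    have hzy : hermForm n F q z y ≠ 0 := by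
      rw [S.skew hF hy hz]; exact neg_ne_zero.2 hyz
    obtain ⟨g₂, hg₂, hg₂z, hg₂a⟩ := move_step hF hcard S hz hy hzy (by rw [hza, hya])
    refine ⟨g₂ * g₁, (M0 q F₀ P).mul_mem hg₂ hg₁, ?_, ?_⟩
    · rw [gl_mul_mulVec, hg₁x, hg₂z]
    · rw [gl_mul_mulVec, hg₁a, hg₂a]
  · exact move_step hF hcard S hx hy hxy (by rw [hxa, hya])

/-- transitivity on non-zero rational vectors -/
theorem exists_move_vec {x y : Fin n → F} (hx : V0 F₀ P x) (hy : V0 F₀ P y) (hx0 : x ≠ 0)
    (hy0 : y ≠ 0) : ∃ g ∈ M0 q F₀ P, g.1 *ᵥ x = y := by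
  obtain ⟨j₁, hj₁⟩ := exists_col_ne hF P hx0
  obtain ⟨j₂, hj₂⟩ := exists_col_ne hF P hy0
  obtain ⟨g, hg, hgx, -⟩ := move_two hF hcard S (a := 0) hx hy (V0_col j₁) (V0_col j₂)
    (hermForm_zero_left n q _) (hermForm_zero_left n q _) (hermForm_zero_left n q _)
    (hermForm_zero_left n q _) hj₁ hj₂
  exact ⟨g, hg, hgx⟩

/-- a rational vector orthogonal to `a` and not to `x` -/
theorem exists_perp_ne {a x : Fin n → F} (ha : V0 F₀ P a) (hx : V0 F₀ P x) (ha0 : a ≠ 0)
    (hind : ∀ c : F, x ≠ c • a) :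
    ∃ z, V0 F₀ P z ∧ hermForm n F q a z = 0 ∧ hermForm n F q x z ≠ 0 := by
  obtain ⟨j₀, hj₀⟩ := exists_col_ne hF P ha0
  set c' := col P j₀ with hc'
  have hc'r : V0 F₀ P c' := V0_col j₀
  by_contra hcon
  push Not at hcon
  -- the test vectors
  have hz : ∀ j, hermForm n F q x (col P j) =
      (hermForm n F q a (col P j) / hermForm n F q a c') * hermForm n F q x c' := by
    intro j
    set lam := hermForm n F q a (col P j) / hermForm n F q a c' with hlam
    have hlam0 : lam ∈ F₀ := S.ratio_mem hF hcard ha (V0_col j) ha hc'r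
    have hlamq : lam ^ q = lam := pow_q_of_mem hF F₀ hcard hlam0
    have h1 := hcon (col P j - lam • c') ((V0_col j).sub (hc'r.smul hlam0)) (by
      rw [herm_sub_right hF, hermForm_smul_right, hlamq, hlam, div_mul_cancel₀ _ hj₀, sub_self])
    rw [herm_sub_right hF, hermForm_smul_right, hlamq] at h1
    exact sub_eq_zero.1 h1
  set μ := hermForm n F q x c' / hermForm n F q a c' with hμ
  have hw : x - μ • a = 0 := by
    by_contra hne
    obtain ⟨j, hj⟩ := exists_col_ne hF P hne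
    apply hj
    rw [herm_sub_left hF, hermForm_smul_left, hz j, hμ]
    field_simp
    ring
  exact hind μ (sub_eq_zero.1 hw)

/-- moving a rational vector of `a^⊥` to another one while fixing `a` -/
theorem exists_move_fix {a x y : Fin n → F} (ha : V0 F₀ P a) (hx : V0 F₀ P x)
    (hy : V0 F₀ P y) (ha0 : a ≠ 0) (hax : hermForm n F q a x = 0)
    (hay : hermForm n F q a y = 0) (hindx : ∀ c : F, x ≠ c • a) (hindy : ∀ c : F, y ≠ c • a) :
    ∃ g ∈ M0 q F₀ P, g.1 *ᵥ x = y ∧ g.1 *ᵥ a = a := by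
  obtain ⟨z₁, hz₁, hz₁a, hz₁x⟩ := exists_perp_ne hF hcard S ha hx ha0 hindx
  obtain ⟨z₂, hz₂, hz₂a, hz₂y⟩ := exists_perp_ne hF hcard S ha hy ha0 hindy
  exact move_two hF hcard S hx hy hz₁ hz₂ hax hay hz₁a hz₂a hz₁x hz₂y

/-- transitivity on rational isotropic pairs -/
theorem exists_move_pair {a b a' b' : Fin n → F} (ha : V0 F₀ P a) (hb : V0 F₀ P b)
    (ha' : V0 F₀ P a') (hb' : V0 F₀ P b') (hab : hermForm n F q a b = 0)
    (hab' : hermForm n F q a' b' = 0) (ha0 : a ≠ 0) (ha'0 : a' ≠ 0)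
    (hind : ∀ c : F, b ≠ c • a) (hind' : ∀ c : F, b' ≠ c • a') :
    ∃ g ∈ M0 q F₀ P, g.1 *ᵥ a = a' ∧ g.1 *ᵥ b = b' := by
  obtain ⟨g₁, hg₁, hg₁a⟩ := exists_move_vec hF hcard S ha ha' ha0 ha'0
  have hg₁U : g₁ ∈ Cfsg.GU n F q := (Subgroup.mem_inf.1 (Subgroup.mem_inf.1 hg₁).2).1
  obtain ⟨c₀, hc₀, hc₀v⟩ := (mem_sfS_iff F₀ P g₁).1 (Subgroup.mem_inf.1 hg₁).1
  set x := g₁.1 *ᵥ b with hxdef
  -- `g₁` preserves the rational structure up to a scalar, which is rational
  have hc₀r : c₀ ∈ F₀ := by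
    have h1 := hc₀v a ha
    rw [hg₁a] at h1
    -- both `a'` and `c₀ a'` are rational
    obtain ⟨i, hi⟩ : ∃ i, ((P⁻¹).1 *ᵥ a') i ≠ 0 := by
      by_contra h; push Not at h
      apply ha'0
      have : (P⁻¹).1 *ᵥ a' = 0 := funext h
      exact gl_mulVec_eq_zero P⁻¹ this
    have h2 := h1 i
    rw [Matrix.mulVec_smul, Pi.smul_apply, smul_eq_mul] at h2
    have : c₀ = c₀ * ((P⁻¹).1 *ᵥ a') i * (((P⁻¹).1 *ᵥ a') i)⁻¹ := by
      field_simp
    rw [this]
    exact F₀.mul_mem h2 (F₀.inv_mem (ha' i))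
  have hx : V0 F₀ P x := by
    have h1 := hc₀v b hb
    have h2 : x = c₀⁻¹ • (c₀ • (g₁.1 *ᵥ b)) := by
      rw [smul_smul, inv_mul_cancel₀ hc₀, one_smul]
    rw [h2]
    exact h1.smul (F₀.inv_mem hc₀r)
  have hax : hermForm n F q a' x = 0 := by
    have h5 : hermForm n F q (g₁.1 *ᵥ a) (g₁.1 *ᵥ b) = hermForm n F q a b := hg₁U a b
    rw [← hg₁a, hxdef, h5, hab]
  have hindx : ∀ c : F, x ≠ c • a' := by
    intro c hc
    apply hind c
    have h3 : g₁.1 *ᵥ b = g₁.1 *ᵥ (c • a) := by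
      rw [Matrix.mulVec_smul, hg₁a]; exact hc
    have h4 := congrArg (fun y => (g₁⁻¹).1 *ᵥ y) h3
    simp only [gl_inv_mulVec_cancel] at h4
    exact h4
  obtain ⟨g₂, hg₂, hg₂x, hg₂a⟩ := exists_move_fix hF hcard S ha' hx hb' ha'0 hax hab' hindx hind'
  refine ⟨g₂ * g₁, (M0 q F₀ P).mul_mem hg₂ hg₁, ?_, ?_⟩
  · rw [gl_mul_mulVec, hg₁a, hg₂a]
  · rw [gl_mul_mulVec, ← hxdef, hg₂x]

end Move

end Cfsg.Agent.Lib.Helper2.Usf
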