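import Mathlib
import Cfsg.Agent.Lib.Helper2.UsfB
set_option autoImplicit false
set_option maxHeartbeats 1000000
set_option linter.unusedVariables false
set_option linter.unusedSectionVars false
set_option linter.style.longLine false
set_option linter.unusedSimpArgs false
set_option linter.deprecated false
set_option linter.style.haveILetI false

/-! Subfield-type subgroups of `SU_n(q)` (part C): the symplectic subfield subgroup `Sp_n(q)` of
`SU_n(q)` is maximal. -/

namespace Cfsg.Agent.Lib.Helper2.Usf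

open Matrix Cfsg Cfsg.Agent.Lib.Helper5.Herm Cfsg.Agent.Lib.Helper5.HermBridge
  Cfsg.Agent.Lib.Helper5.HermTv Cfsg.Agent.Lib.Helper5.SUCentres Cfsg.Agent.Lib.Helper2.Ssf

universe u

section Decomp

variable {F : Type u} [Field F] [Fintype F] {q : ℕ} (hF : Fintype.card F = q ^ 2) {n : ℕ}
  {F₀ : Subfield F} (hcard : Fintype.card F = Nat.card F₀ ^ 2) {P : GL (Fin n) F}

omit [Fintype F] in
theorem V0_sum {κ : Type*} (s : Finset κ) (f : κ → Fin n → F) (h : ∀ j ∈ s, V0 F₀ P (f j)) :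
    V0 F₀ P (∑ j ∈ s, f j) := by
  classical
  induction s using Finset.induction_on with
  | empty => rw [Finset.sum_empty]; exact V0_zero
  | insert a s ha ih =>
    rw [Finset.sum_insert ha]
    exact (h a (Finset.mem_insert_self a s)).add
      (ih fun j hj => h j (Finset.mem_insert_of_mem hj))

omit [Fintype F] in
/-- uniqueness of the decomposition along `1, θ` -/
theorem decomp_unique {θ : F} (hθ : θ ∉ F₀) {a b a' b' : F} (ha : a ∈ F₀) (hb : b ∈ F₀)
    (ha' : a' ∈ F₀) (hb' : b' ∈ F₀) (h : a + θ * b = a' + θ * b') : a = a' ∧ b = b' := by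
  have hbb : b = b' := by
    by_contra hne
    apply hθ
    have h3 : θ * (b - b') = a' - a := by linear_combination h
    have h4 : b - b' ≠ 0 := sub_ne_zero.2 hne
    have h5 : θ = (a' - a) * (b - b')⁻¹ := by
      rw [← h3]; field_simp
    rw [h5]
    exact F₀.mul_mem (F₀.sub_mem ha' ha) (F₀.inv_mem (F₀.sub_mem hb hb'))
  refine ⟨?_, hbb⟩
  rw [hbb] at h
  exact add_right_cancel h

include hF hcard

/-- every vector is `a + θ b` with `a, b` rational -/
theorem exists_vec_decomp {θ : F} (hθ : θ ∉ F₀) (u : Fin n → F) :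
    ∃ a b : Fin n → F, V0 F₀ P a ∧ V0 F₀ P b ∧ u = a + θ • b := by
  have h := fun i => exists_decomp2 hF F₀ hcard hθ (((P⁻¹).1 *ᵥ u) i)
  choose α hα β hβ hαβ using h
  refine ⟨P.1 *ᵥ α, P.1 *ᵥ β, V0_mulVec hα, V0_mulVec hβ, ?_⟩
  rw [← Matrix.mulVec_smul, ← Matrix.mulVec_add]
  have : (P⁻¹).1 *ᵥ u = α + θ • β := by
    funext i
    rw [hαβ i, Pi.add_apply, Pi.smul_apply, smul_eq_mul]
  rw [← this, gl_mulVec_inv_cancel]

end Decomp

section Main

variable {F : Type u} [Field F] [Fintype F] {q : ℕ} (hF : Fintype.card F = q ^ 2) {n : ℕ}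
  {F₀ : Subfield F} (hcard : Fintype.card F = Nat.card F₀ ^ 2) {P : GL (Fin n) F} {ζ : F}
  (S : AltStr q F₀ P ζ)

include hF hcard S

/-- rational vectors are centres of any overgroup of the subfield subgroup -/
theorem isCentre_rat {H : Subgroup (GL (Fin n) F)} (hMH : M0 q F₀ P ≤ H) {v : Fin n → F}
    (hv : V0 F₀ P v) : IsCentre hF n H v := by
  refine ⟨S.alt v hv, fun c hc => ?_⟩
  have hcq : c ^ q = -c := (qcond_iso n (S.alt v hv) c).mp hc
  exact hMH (S.tv_mem hF hcard hv hcq)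

/-- isotropy of `a + θ b` -/
theorem herm_decomp {θ : F} {a b : Fin n → F} (ha : V0 F₀ P a) (hb : V0 F₀ P b) :
    hermForm n F q (a + θ • b) (a + θ • b) = (θ ^ q - θ) * hermForm n F q a b := by
  rw [hermForm_add_left, hermForm_add_right hF, hermForm_add_right hF, hermForm_smul_left,
    hermForm_smul_left, hermForm_smul_right, hermForm_smul_right, S.alt a ha, S.alt b hb,
    S.skew hF ha hb]
  ring

/-- a unitary matrix mapping rational vectors to multiples of rational vectors lies in the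
subfield group -/
theorem mem_sfS_of_images (hn : 1 ≤ n) {g : GL (Fin n) F} (hgU : g ∈ Cfsg.GU n F q)
    (himg : ∀ v, V0 F₀ P v → v ≠ 0 → ∃ μ : F, μ ≠ 0 ∧ V0 F₀ P (μ • (g.1 *ᵥ v))) :
    g ∈ Cfsg.Geo.subfieldSubgroup F₀ P := by
  classical
  have hgh : ∀ x y, hermForm n F q (g.1 *ᵥ x) (g.1 *ᵥ y) = hermForm n F q x y := hgU
  have hprod : ∀ (v w : Fin n → F) (μ μ' : F), V0 F₀ P v → V0 F₀ P w →
      hermForm n F q v w ≠ 0 → V0 F₀ P (μ • (g.1 *ᵥ v)) → V0 F₀ P (μ' • (g.1 *ᵥ w)) →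
      μ * μ' ^ q ∈ F₀ := by
    intro v w μ μ' hv hw hne h1 h2
    have h3 := S.val _ _ h1 h2
    rw [hermForm_smul_left, hermForm_smul_right, hgh] at h3
    have h4 : μ * μ' ^ q = (ζ * (μ * (μ' ^ q * hermForm n F q v w))) *
        (ζ * hermForm n F q v w)⁻¹ := by
      have := S.zeta_ne
      field_simp
    rw [h4]
    exact F₀.mul_mem h3 (F₀.inv_mem (S.val v w hv hw))
  have hratio : ∀ (v w : Fin n → F) (μ μ' : F), V0 F₀ P v → V0 F₀ P w → μ' ≠ 0 →
      hermForm n F q v w ≠ 0 → V0 F₀ P (μ • (g.1 *ᵥ v)) → V0 F₀ P (μ' • (g.1 *ᵥ w)) →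
      μ / μ' ∈ F₀ := by
    intro v w μ μ' hv hw hμ' hne h1 h2
    have h3 := hprod v w μ μ' hv hw hne h1 h2
    have h4 := norm_mem hF F₀ hcard μ'
    have hq0 : μ' ^ q ≠ 0 := pow_ne_zero q hμ'
    have : μ / μ' = (μ * μ' ^ q) * (μ' * μ' ^ q)⁻¹ := by
      field_simp
    rw [this]
    exact F₀.mul_mem h3 (F₀.inv_mem h4)
  have hcol0 : ∀ j, col P j ≠ 0 := by
    intro j h
    have := gl_mulVec_eq_zero P h
    have h1 := congrFun this j
    simp at h1
  have hcol : ∀ l, ∃ μ : F, μ ≠ 0 ∧ V0 F₀ P (μ • (g.1 *ᵥ col P l)) :=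
    fun l => himg _ (V0_col l) (hcol0 l)
  choose μ hμ0 hμ using hcol
  set j₀ : Fin n := ⟨0, by omega⟩ with hj₀
  have key : ∀ l, μ j₀ / μ l ∈ F₀ := by
    intro l
    by_cases h1 : hermForm n F q (col P j₀) (col P l) ≠ 0
    · exact hratio _ _ _ _ (V0_col _) (V0_col _) (hμ0 l) h1 (hμ j₀) (hμ l)
    · obtain ⟨k₁, hk₁⟩ := exists_col_ne hF P (hcol0 j₀)
      obtain ⟨k₂, hk₂⟩ := exists_col_ne hF P (hcol0 l)
      obtain ⟨w, hw, hw1, hw2⟩ : ∃ w, V0 F₀ P w ∧ hermForm n F q (col P j₀) w ≠ 0 ∧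
          hermForm n F q (col P l) w ≠ 0 := by
        by_cases h3 : hermForm n F q (col P l) (col P k₁) = 0
        · by_cases h4 : hermForm n F q (col P j₀) (col P k₂) = 0
          · refine ⟨col P k₁ + col P k₂, (V0_col _).add (V0_col _), ?_, ?_⟩
            · rw [hermForm_add_right hF, h4, add_zero]; exact hk₁
            · rw [hermForm_add_right hF, h3, zero_add]; exact hk₂
          · exact ⟨col P k₂, V0_col _, h4, hk₂⟩
        · exact ⟨col P k₁, V0_col _, hk₁, h3⟩
      have hw0 : w ≠ 0 := by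
        intro h0
        apply hw1
        rw [h0, hermForm_zero_right hF]
      obtain ⟨ν, hν0, hν⟩ := himg w hw hw0
      have hw2' : hermForm n F q w (col P l) ≠ 0 := by
        rw [S.skew hF (V0_col l) hw]; exact neg_ne_zero.2 hw2
      have r1 := hratio _ _ (μ j₀) ν (V0_col j₀) hw hν0 hw1 (hμ j₀) hν
      have r2 := hratio _ _ ν (μ l) hw (V0_col l) (hμ0 l) hw2' hν (hμ l)
      have := F₀.mul_mem r1 r2
      rwa [div_mul_div_cancel₀ hν0] at this
  rw [mem_sfS_iff]
  refine ⟨μ j₀, hμ0 j₀, fun v hv => ?_⟩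
  obtain ⟨u, hu, rfl⟩ := hv.exists_eq
  rw [mulVec_eq_sum_col (P := P) u, Matrix.mulVec_sum, Finset.smul_sum]
  apply V0_sum
  intro l _
  rw [Matrix.mulVec_smul, smul_comm]
  apply V0.smul (hu l)
  have : μ j₀ • (g.1 *ᵥ col P l) = (μ j₀ / μ l) • (μ l • (g.1 *ᵥ col P l)) := by
    rw [smul_smul, div_mul_cancel₀ _ (hμ0 l)]
  rw [this]
  exact (hμ l).smul (key l)

/-- an overgroup of the subfield subgroup containing a non-rational centre contains all centres -/
theorem isCentre_all_of_nonrat {H : Subgroup (GL (Fin n) F)} (hMH : M0 q F₀ P ≤ H)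
    (hHS : H ≤ Cfsg.GU n F q ⊓ Cfsg.Geo.specialLinear (Fin n) F) {u : Fin n → F}
    (hu : IsCentre hF n H u) (hu0 : u ≠ 0) (hnr : ∀ μ : F, μ ≠ 0 → ¬ V0 F₀ P (μ • u))
    (u' : Fin n → F) (hu' : hermForm n F q u' u' = 0) : IsCentre hF n H u' := by
  obtain ⟨θ, hθ⟩ := exists_not_mem hF F₀ hcard
  have hθq : θ ^ q - θ ≠ 0 := by
    intro h
    exact hθ (mem_of_pow_q hF F₀ hcard (sub_eq_zero.1 h))
  have hθ0 : θ ≠ 0 := by
    intro h; apply hθ; rw [h]; exact F₀.zero_mem
  obtain ⟨a, b, ha, hb, hab⟩ := exists_vec_decomp hF hcard (P := P) hθ u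
  obtain ⟨a', b', ha', hb', hab'⟩ := exists_vec_decomp hF hcard (P := P) hθ u'
  have hpair : hermForm n F q a b = 0 := by
    have h := hu.1
    rw [hab, herm_decomp hF hcard S ha hb] at h
    rcases mul_eq_zero.1 h with h | h
    · exact absurd h hθq
    · exact h
  have hpair' : hermForm n F q a' b' = 0 := by
    have h := hu'
    rw [hab', herm_decomp hF hcard S ha' hb'] at h
    rcases mul_eq_zero.1 h with h | h
    · exact absurd h hθq
    · exact h
  -- the pair `(a, b)` is independent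
  have ha0 : a ≠ 0 := by
    intro h0
    apply hnr θ⁻¹ (inv_ne_zero hθ0)
    rw [hab, h0, zero_add, smul_smul, inv_mul_cancel₀ hθ0, one_smul]
    exact hb
  have hind : ∀ c : F, b ≠ c • a := by
    intro c hc
    have h1 : u = (1 + θ * c) • a := by
      rw [hab, hc, smul_smul, add_smul, one_smul]
    have h2 : 1 + θ * c ≠ 0 := by
      intro h
      apply hu0
      rw [h1, h, zero_smul]
    apply hnr (1 + θ * c)⁻¹ (inv_ne_zero h2)
    rw [h1, smul_smul, inv_mul_cancel₀ h2, one_smul]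
    exact ha
  by_cases ha'0 : a' = 0
  · rw [hab', ha'0, zero_add]
    exact isCentre_smul hF θ (isCentre_rat hF hcard S hMH hb')
  by_cases hind' : ∃ c : F, b' = c • a'
  · obtain ⟨c, hc⟩ := hind'
    have h1 : u' = (1 + θ * c) • a' := by
      rw [hab', hc, smul_smul, add_smul, one_smul]
    rw [h1]
    exact isCentre_smul hF _ (isCentre_rat hF hcard S hMH ha')
  push Not at hind'
  obtain ⟨g₀, hg₀, hg₀a, hg₀b⟩ := exists_move_pair hF hcard S ha hb ha' hb' hpair hpair' ha0 ha'0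
    hind hind'
  have h1 := isCentre_gact hF hHS g₀ (hMH hg₀) hu
  have h2 : g₀.1 *ᵥ u = u' := by
    rw [hab, Matrix.mulVec_add, Matrix.mulVec_smul, hg₀a, hg₀b, ← hab']
  rw [h2] at h1
  exact h1

end Main

end Cfsg.Agent.Lib.Helper2.Usf
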