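import Mathlib
import Cfsg.Agent.Lib.Helper2.UsfC
set_option autoImplicit false
set_option maxHeartbeats 1000000
set_option linter.unusedVariables false
set_option linter.unusedSectionVars false
set_option linter.style.longLine false
set_option linter.unusedSimpArgs false
set_option linter.deprecated false
set_option linter.style.haveILetI false

/-! Subfield-type subgroups of `SU_n(q)` (part D): maximality of the symplectic subfield
subgroup. -/

namespace Cfsg.Agent.Lib.Helper2.Usf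

open Matrix Cfsg Cfsg.Agent.Lib.Helper5.Herm Cfsg.Agent.Lib.Helper5.HermBridge
  Cfsg.Agent.Lib.Helper5.HermTv Cfsg.Agent.Lib.Helper5.SUCentres Cfsg.Agent.Lib.Helper2.Ssf

universe u

section Final

variable {F : Type u} [Field F] [Fintype F] {q : ℕ} (hF : Fintype.card F = q ^ 2) {n : ℕ}
  {F₀ : Subfield F} (hcard : Fintype.card F = Nat.card F₀ ^ 2) {P : GL (Fin n) F} {ζ : F}
  (S : AltStr q F₀ P ζ)

include hF hcard S

/-- the form against the image of a rational vector, as a rational linear functional -/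
theorem zeta_herm_mulVec (x : Fin n → F) {w : Fin n → F} (hw : IsRatV F₀ w) :
    ζ * hermForm n F q x (P.1 *ᵥ w) = (fun k => ζ * hermForm n F q x (col P k)) ⬝ᵥ w := by
  rw [mulVec_eq_sum_col, herm_sum_right hF, Finset.mul_sum]
  unfold dotProduct
  apply Finset.sum_congr rfl
  intro k _
  rw [hermForm_smul_right, pow_q_of_mem hF F₀ hcard (hw k)]
  ring

/-- a non-zero rational vector orthogonal to two given rational vectors -/
theorem exists_rat_perp_two (hn : 3 ≤ n) {a c : Fin n → F} (ha : V0 F₀ P a) (hc : V0 F₀ P c) :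
    ∃ b, V0 F₀ P b ∧ b ≠ 0 ∧ hermForm n F q a b = 0 ∧ hermForm n F q c b = 0 := by
  have hcard' : 2 < Fintype.card (Fin n) := by rw [Fintype.card_fin]; omega
  obtain ⟨w, hw, hw0, hperp⟩ := exists_rat_perp F₀
    (fun i : Fin 2 => fun k => ζ * hermForm n F q (![a, c] i) (col P k))
    (by
      intro i k
      fin_cases i
      · exact S.val _ _ ha (V0_col k)
      · exact S.val _ _ hc (V0_col k)) hcard'
  refine ⟨P.1 *ᵥ w, V0_mulVec hw, ?_, ?_, ?_⟩
  · intro h
    exact hw0 (gl_mulVec_eq_zero P h)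
  · have h1 := hperp 0
    have h2 := zeta_herm_mulVec hF hcard S a hw
    have h3 : ζ * hermForm n F q a (P.1 *ᵥ w) = 0 := by rw [h2]; exact h1
    rcases mul_eq_zero.1 h3 with h | h
    · exact absurd h S.zeta_ne
    · exact h
  · have h1 := hperp 1
    have h2 := zeta_herm_mulVec hF hcard S c hw
    have h3 : ζ * hermForm n F q c (P.1 *ᵥ w) = 0 := by rw [h2]; exact h1
    rcases mul_eq_zero.1 h3 with h | h
    · exact absurd h S.zeta_ne
    · exact h

/-- the symplectic subfield subgroup is a proper subgroup of the special unitary group -/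
theorem M0_ne (hn : 3 ≤ n) (hζq : ζ ^ q = -ζ) :
    M0 q F₀ P ≠ Cfsg.GU n F q ⊓ Cfsg.Geo.specialLinear (Fin n) F := by
  classical
  intro heq
  set j₀ : Fin n := ⟨0, by omega⟩ with hj₀
  set a := col P j₀ with ha
  have har : V0 F₀ P a := V0_col j₀
  have ha0 : a ≠ 0 := by
    intro h
    have := gl_mulVec_eq_zero P h
    have h1 := congrFun this j₀
    simp at h1
  obtain ⟨j₁, hj₁⟩ := exists_col_ne hF P ha0
  set c' := col P j₁ with hc'
  have hc'r : V0 F₀ P c' := V0_col j₁
  have hc'a : hermForm n F q c' a ≠ 0 := by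
    rw [S.skew hF har hc'r]; exact neg_ne_zero.2 hj₁
  obtain ⟨b, hbr, hb0, hab, hcb⟩ := exists_rat_perp_two hF hcard S hn har hc'r
  obtain ⟨θ, hθ⟩ := exists_not_mem hF F₀ hcard
  set u := a + θ • b with hu
  have hiso : hermForm n F q u u = 0 := by
    rw [hu, herm_decomp hF hcard S har hbr, hab, mul_zero]
  have hqc : QCond n q u ζ := (qcond_iso n hiso ζ).mpr hζq
  set T : GL (Fin n) F := ((qtv hF n u ζ hqc : ↥(Cfsg.GU n F q)) : GL (Fin n) F) with hT
  have hTv : ∀ x, T.1 *ᵥ x = x + (ζ * hermForm n F q x u) • u := fun x => gact_qtv hF n u ζ hqc x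
  have hTS : T ∈ Cfsg.GU n F q ⊓ Cfsg.Geo.specialLinear (Fin n) F := by
    rw [mem_SU_iff]
    refine ⟨(qtv hF n u ζ hqc).2, ?_⟩
    rw [hT, qtv_coe, Cfsg.Agent.Lib.Helper5.HermGen.det_tv, hiso, mul_zero, add_zero]
  rw [← heq] at hTS
  obtain ⟨c₀, hc₀, hc₀v⟩ := (mem_sfS_iff F₀ P T).1 (Subgroup.mem_inf.1 hTS).1
  -- `T` fixes `a`, so the scalar is rational
  have hau : hermForm n F q a u = 0 := by
    rw [hu, hermForm_add_right hF, hermForm_smul_right, S.alt a har, hab, mul_zero, add_zero]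
  have hTa : T.1 *ᵥ a = a := by rw [hTv, hau, mul_zero, zero_smul, add_zero]
  have hc₀r : c₀ ∈ F₀ := by
    have h1 := hc₀v a har
    rw [hTa] at h1
    have h2 := h1 j₀
    rw [Matrix.mulVec_smul, Pi.smul_apply, smul_eq_mul, ha] at h2
    unfold col at h2
    rw [gl_inv_mulVec_cancel, Pi.single_eq_same, mul_one] at h2
    exact h2
  -- `T` maps `c'` to a rational vector
  have h3 : V0 F₀ P (T.1 *ᵥ c') := by
    have h1 := hc₀v c' hc'r
    have h2 : T.1 *ᵥ c' = c₀⁻¹ • (c₀ • (T.1 *ᵥ c')) := by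
      rw [smul_smul, inv_mul_cancel₀ hc₀, one_smul]
    rw [h2]
    exact h1.smul (F₀.inv_mem hc₀r)
  have hc'u : hermForm n F q c' u = hermForm n F q c' a := by
    rw [hu, hermForm_add_right hF, hermForm_smul_right, hcb, mul_zero, add_zero]
  rw [hTv, hc'u] at h3
  have h4 : V0 F₀ P ((ζ * hermForm n F q c' a) • u) := by
    have := h3.sub hc'r
    rwa [add_sub_cancel_left] at this
  have hκ : ζ * hermForm n F q c' a ∈ F₀ := S.val _ _ hc'r har
  have hκ0 : ζ * hermForm n F q c' a ≠ 0 := mul_ne_zero S.zeta_ne hc'a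
  have h5 : V0 F₀ P u := by
    have h2 : u = (ζ * hermForm n F q c' a)⁻¹ • ((ζ * hermForm n F q c' a) • u) := by
      rw [smul_smul, inv_mul_cancel₀ hκ0, one_smul]
    rw [h2]
    exact h4.smul (F₀.inv_mem hκ)
  -- hence `b = 0`
  apply hb0
  have h6 : (P⁻¹).1 *ᵥ b = 0 := by
    funext i
    have h7 := h5 i
    rw [hu, Matrix.mulVec_add, Matrix.mulVec_smul, Pi.add_apply, Pi.smul_apply, smul_eq_mul] at h7
    have h8 := decomp_unique hθ (har i) (hbr i) h7 F₀.zero_mem
      (by rw [mul_zero, add_zero])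
    exact h8.2
  exact gl_mulVec_eq_zero P⁻¹ h6

/-- the symplectic subfield subgroup of the special unitary group is maximal -/
theorem isMaximalIn_alt (hn : 4 ≤ n) (hζq : ζ ^ q = -ζ) :
    Cfsg.Geo.IsMaximalIn (Cfsg.GU n F q ⊓ Cfsg.Geo.specialLinear (Fin n) F) (M0 q F₀ P) := by
  classical
  refine ⟨lt_of_le_of_ne inf_le_right (M0_ne hF hcard S (by omega) hζq), ?_⟩
  intro H hMH hHS
  by_cases hle : H ≤ Cfsg.Geo.subfieldSubgroup F₀ P
  · left
    exact le_antisymm (fun g hg => Subgroup.mem_inf.2 ⟨hle hg, hHS hg⟩) hMH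
  · right
    apply le_antisymm hHS
    obtain ⟨g, hgH, hgn⟩ := SetLike.not_le_iff_exists.1 hle
    have hgU : g ∈ Cfsg.GU n F q := (Subgroup.mem_inf.1 (hHS hgH)).1
    obtain ⟨v, hv, hv0, hnr⟩ : ∃ v, V0 F₀ P v ∧ v ≠ 0 ∧
        ∀ μ : F, μ ≠ 0 → ¬ V0 F₀ P (μ • (g.1 *ᵥ v)) := by
      by_contra hcon
      push Not at hcon
      exact hgn (mem_sfS_of_images hF hcard S (by omega) hgU hcon)
    have hu : IsCentre hF n H (g.1 *ᵥ v) :=
      isCentre_gact hF hHS g hgH (isCentre_rat hF hcard S hMH hv)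
    have hu0 : g.1 *ᵥ v ≠ 0 := fun h => hv0 (gl_mulVec_eq_zero g h)
    apply SU_le hF (by omega) (by omega)
    intro u' hu'
    exact isCentre_all_of_nonrat hF hcard S hMH hHS hu hu0 hnr u' hu'

end Final

end Cfsg.Agent.Lib.Helper2.Usf
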