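import Mathlib

set_option autoImplicit false
set_option linter.unusedVariables false
set_option linter.unusedSectionVars false
set_option linter.style.longLine false
set_option linter.unusedSimpArgs false

/-! # W2 = S4402: STEP5c (generic packaging) -/

namespace Cfsg.Agent.Lib.Helper2.W2

universe u

theorem card_perm8 : Nat.card (Equiv.Perm (Fin 8)) = 40320 := by
  rw [Nat.card_perm, Nat.card_eq_fintype_card (α := Fin 8), Fintype.card_fin]
  decide

theorem fact8 : (Nat.card (Equiv.Perm (Fin 8))).factorization 2 = 7 := by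
  rw [card_perm8]
  have h : (40320 : ℕ) = 2 ^ 7 * 315 := by norm_num
  rw [h, Nat.factorization_mul (by norm_num) (by norm_num), Nat.Prime.factorization_pow Nat.prime_two]
  have h2 : (315 : ℕ).factorization 2 = 0 := Nat.factorization_eq_zero_of_not_dvd (by norm_num)
  simp [h2]

/-- **STEP5c** (generic packaging): a group of order 256 with a subgroup of order 32 whose core is a normal subgroup `Z` of order 2
has `N0 ⧸ Z ≅ Syl₂(S₈)`. -/
theorem step5c {N0 : Type u} [Group N0] [Finite N0] (hc : Nat.card N0 = 256) (Y Z : Subgroup N0) [Z.Normal]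
    (hY : Nat.card Y = 32) (hZ : Nat.card Z = 2) (hcore : ∀ k : N0, (∀ n : N0, n⁻¹ * k * n ∈ Y) ↔ k ∈ Z) :
    ∃ T : Sylow 2 (Equiv.Perm (Fin 8)), Nonempty (N0 ⧸ Z ≃* ↥(T : Subgroup (Equiv.Perm (Fin 8)))) := by
  classical
  let φ : N0 →* Equiv.Perm (N0 ⧸ Y) := MulAction.toPermHom N0 (N0 ⧸ Y)
  have hker : φ.ker = Z := by
    rw [← Subgroup.normalCore_eq_ker]
    ext k
    rw [← hcore k]
    constructor
    · intro h n
      have h' : ∀ b : N0, b * k * b⁻¹ ∈ Y := h
      have := h' n⁻¹
      simpa using this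
    · intro h
      show ∀ b : N0, b * k * b⁻¹ ∈ Y
      intro n
      have := h n⁻¹
      simpa using this
  have hidx : Nat.card (N0 ⧸ Y) = 8 := by
    have h1 := Subgroup.card_mul_index Y
    rw [hY, hc] at h1
    have h2 : Y.index = 8 := by omega
    rw [← Subgroup.index_eq_card]
    exact h2
  have e : (N0 ⧸ Y) ≃ Fin 8 := Finite.equivFinOfCardEq hidx
  let ψ : N0 →* Equiv.Perm (Fin 8) := (e.permCongrHom).toMonoidHom.comp φ
  have hkerψ : ψ.ker = Z := by
    rw [← hker]
    ext k
    simp only [MonoidHom.mem_ker, ψ, MonoidHom.comp_apply]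
    constructor
    · intro h
      have : (e.permCongrHom) (φ k) = (e.permCongrHom) 1 := by
        rw [map_one]; exact h
      exact (e.permCongrHom).injective this
    · intro h
      rw [h]
      exact map_one _
  have e1 : N0 ⧸ ψ.ker ≃* ψ.range := QuotientGroup.quotientKerEquivRange ψ
  have hcardR : Nat.card ψ.range = 128 := by
    rw [← Nat.card_congr e1.toEquiv, hkerψ, ← Subgroup.index_eq_card]
    have h1 := Subgroup.card_mul_index Z
    rw [hZ, hc] at h1
    omega
  let T : Sylow 2 (Equiv.Perm (Fin 8)) := Sylow.ofCard ψ.range (by rw [hcardR, fact8]; norm_num)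
  refine ⟨T, ⟨?_⟩⟩
  exact (QuotientGroup.quotientMulEquivOfEq hkerψ.symm).trans e1

end Cfsg.Agent.Lib.Helper2.W2
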