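import Mathlib
import Cfsg.Prelude.Def_ChevStructure
import Cfsg.Agent.Lib.Helper2.WcS7
import Cfsg.Agent.Lib.Helper5.ChevRootSet
import Cfsg.Agent.Lib.Helper8.WCDefs

set_option autoImplicit false
set_option linter.style.haveILetI false

/-!
Weakly closed unipotent subgroups, unit U7: reflections at the fundamental roots outside `Psi`
preserve `Psi`.
-/

namespace Cfsg.Agent.Lib.Helper2.Wc

open Cfsg Cfsg.Lie Cfsg.Agent.Lib.Helper5.ChevSym Cfsg.Agent.Lib.Helper5.ChevStruct
open Cfsg.Agent.Lib.Helper8.WC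

variable {F : Type*} [Field F]

/-- **U7** -/
theorem reflect_mem_Psi (D : ChevalleyDatum) (hD : D ∈ Seven)
    (X : Subgroup (GL D.Idx F)) (hXU : X ≤ D.posUnipotent F)
    (hwc : ∀ g ∈ D.group F, X.map (MulAut.conj g).toMonoidHom ≤ D.posUnipotent F →
      X.map (MulAut.conj g).toMonoidHom = X)
    (heq : X = rootSetSub D F (Psi D hD X))
    (j : ℕ) (hj : j < D.rank) (hjn : D.simple j ∉ Psi D hD X)
    (r : ℕ) (hr : r ∈ Psi D hD X) : D.reflectRoot j r ∈ Psi D hD X := by
  have _ := hXU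
  have hn : (nGL D hD j : GL D.Idx F) ∈ D.group F :=
    monomial_le_group D hD (nGL_mem D hD j hj)
  have h1 : X.map (MulAut.conj (nGL D hD j : GL D.Idx F)).toMonoidHom ≤ D.posUnipotent F := by
    rw [Subgroup.map_le_iff_le_comap]
    refine heq.le.trans ?_
    unfold rootSetSub
    rw [Subgroup.closure_le]
    rintro g ⟨s, t, hs, hg⟩
    have hne : s ≠ D.simple j := by
      rintro rfl
      exact hjn hs
    have hpos := (checkCoLin_spec D j (chkCoLin_all D hD j hj) s hs.1.1).2 hs.1 hne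
    have hg' : g = xGL D hD s t := Units.ext hg
    subst hg'
    change (MulAut.conj (nGL D hD j : GL D.Idx F)).toMonoidHom (xGL D hD s t) ∈ D.posUnipotent F
    rw [MulEquiv.coe_toMonoidHom, MulAut.conj_apply, nGL_conj_xGL D hD j hj s hs.1.1 t]
    exact Subgroup.subset_closure ⟨_, _, hpos, rfl⟩
  have h2 := hwc _ hn h1
  have hne : r ≠ D.simple j := by
    rintro rfl
    exact hjn hr
  refine ⟨(checkCoLin_spec D j (chkCoLin_all D hD j hj) r hr.1.1).2 hr.1 hne, fun t => ?_⟩
  have hx : xGL D hD r ((eta D j r : F) * t) ∈ X := hr.2 _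
  rw [← h2, Subgroup.mem_map]
  refine ⟨_, hx, ?_⟩
  rw [MulEquiv.coe_toMonoidHom, MulAut.conj_apply, nGL_conj_xGL D hD j hj r hr.1.1, ← mul_assoc,
    eta_mul_eta D hD j hj r hr.1.1, one_mul]

end Cfsg.Agent.Lib.Helper2.Wc
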