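import Mathlib
import Cfsg.Prelude.Def_ChevStructure
import Cfsg.Agent.Lib.Helper5.ChevCoLin
import Cfsg.Agent.Lib.Helper5.ChevWRel
import Cfsg.Agent.Lib.Helper5.ChevWPerm
import Cfsg.Agent.Lib.Helper5.ChevConj

set_option autoImplicit false
set_option linter.style.haveILetI false

/-!
Root combinatorics for weakly closed unipotent subgroups: descent along fundamental reflections.
Every positive root that is not fundamental is lowered by a fundamental reflection; a set of
positive roots that is stable under the reflections `s_j`, `j ∈ J`, and contains no fundamental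
root `p_j`, `j ∈ J`, is disjoint from the root subsystem spanned by `J`.
-/

namespace Cfsg.Agent.Lib.Helper2.Wc

open Cfsg Cfsg.Lie Cfsg.Agent.Lib.Helper5.ChevSym Cfsg.Agent.Lib.Helper5.ChevStruct

/-- table property: every positive root is fundamental or has positive pairing with a
fundamental root -/
def DescOK (D : ChevalleyDatum) : Prop :=
  ∀ r ∈ List.range D.nroots, D.IsPosRoot r →
    r ∈ (List.range D.rank).map D.simple ∨ ∃ i ∈ List.range D.rank, 0 < pairVec D i (co D r)

instance (D : ChevalleyDatum) : Decidable (DescOK D) := by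
  unfold DescOK
  infer_instance

theorem descOK_G2 : DescOK chevG2 := by decide +kernel

theorem descOK_B2 : DescOK chevB2 := by decide +kernel

theorem descOK_D4 : DescOK chevD4 := by decide +kernel

theorem descOK_F4 : DescOK chevF4 := by decide +kernel

theorem descOK_E6 : DescOK chevE6 := by decide +kernel

theorem descOK_E7 : DescOK chevE7 := by decide +kernel

theorem descOK_E8 : DescOK chevE8 := by decide +kernel

theorem descOK_all (D : ChevalleyDatum) (hD : D ∈ Seven) : DescOK D := by
  simp only [List.mem_cons, List.not_mem_nil, or_false] at hD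
  rcases hD with rfl | rfl | rfl | rfl | rfl | rfl | rfl
  · exact descOK_G2
  · exact descOK_B2
  · exact descOK_D4
  · exact descOK_F4
  · exact descOK_E6
  · exact descOK_E7
  · exact descOK_E8

/-- the height of a root in coroot coordinates -/
def ht (D : ChevalleyDatum) (r : ℕ) : ℤ := ∑ k ∈ Finset.range D.rank, co D r k

theorem ht_nonneg (D : ChevalleyDatum) (hD : D ∈ Seven) (r : ℕ) (hr : D.IsPosRoot r) :
    0 ≤ ht D r := by
  unfold ht
  exact Finset.sum_nonneg fun k hk =>
    ((isPosRoot_iff_co D hD r).1 hr).2 k (Finset.mem_range.1 hk)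

/-- the descent step: a positive root is fundamental, or some fundamental reflection maps it to a
positive root of smaller height, changing only the `i`-th coordinate, which stays nonnegative and
was positive -/
theorem descent (D : ChevalleyDatum) (hD : D ∈ Seven) (r : ℕ) (hr : D.IsPosRoot r) :
    (∃ i < D.rank, r = D.simple i) ∨
    ∃ i < D.rank, r ≠ D.simple i ∧ D.IsPosRoot (D.reflectRoot i r) ∧
      0 < pairVec D i (co D r) ∧
      (∀ k < D.rank, co D (D.reflectRoot i r) k
        = co D r k - (if k = i then pairVec D i (co D r) else 0)) ∧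
      ht D (D.reflectRoot i r) < ht D r ∧ 0 < co D r i := by
  rcases descOK_all D hD r (List.mem_range.2 hr.1) hr with h | ⟨i, hi, hpos⟩
  · rw [List.mem_map] at h
    obtain ⟨i, hi, rfl⟩ := h
    exact Or.inl ⟨i, List.mem_range.1 hi, rfl⟩
  · have hi' := List.mem_range.1 hi
    by_cases hri : r = D.simple i
    · exact Or.inl ⟨i, hi', hri⟩
    · right
      have hspec := checkCoLin_spec D i (chkCoLin_all D hD i hi') r hr.1
      have hposr' := hspec.2 hr hri
      have hco : ∀ k < D.rank, co D (D.reflectRoot i r) k
          = co D r k - (if k = i then pairVec D i (co D r) else 0) := by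
        intro k hk
        rw [hspec.1 k hk]
        rfl
      refine ⟨i, hi', hri, hposr', hpos, hco, ?_, ?_⟩
      · unfold ht
        have : ∑ k ∈ Finset.range D.rank, co D (D.reflectRoot i r) k
            = ∑ k ∈ Finset.range D.rank,
              (co D r k - (if k = i then pairVec D i (co D r) else 0)) :=
          Finset.sum_congr rfl fun k hk => hco k (Finset.mem_range.1 hk)
        rw [this, Finset.sum_sub_distrib, Finset.sum_ite_eq' (Finset.range D.rank) i,
          if_pos (Finset.mem_range.2 hi')]
        linarith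
      · have h0 := ((isPosRoot_iff_co D hD _).1 hposr').2 i hi'
        rw [hco i hi', if_pos rfl] at h0
        linarith

/-- membership in the root subsystem in terms of `co` -/
theorem inRootSub_iff (D : ChevalleyDatum) (J : Set ℕ) (r : ℕ) :
    D.InRootSub J r ↔ r < D.nroots ∧ ∀ i < D.rank, i ∉ J → co D r i = 0 := Iff.rfl

/-- **S8 (root part)**: a set `Ψ` of positive roots stable under `s_j`, `j ∈ J`, containing no
`p_j`, `j ∈ J`, does not meet `Φ_J`. -/
theorem disjoint_rootSub (D : ChevalleyDatum) (hD : D ∈ Seven) (J : Set ℕ) (Ψ : ℕ → Prop)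
    (hJ : ∀ j ∈ J, j < D.rank → ¬ Ψ (D.simple j))
    (hrefl : ∀ j ∈ J, j < D.rank → ∀ r, D.IsPosRoot r → Ψ r → Ψ (D.reflectRoot j r))
    (r : ℕ) (hr : D.IsPosRoot r) (hrJ : D.InRootSub J r) : ¬ Ψ r := by
  have key : ∀ n : ℕ, ∀ r, D.IsPosRoot r → D.InRootSub J r → ht D r < n → ¬ Ψ r := by
    intro n
    induction n with
    | zero =>
      intro r hr _ hlt
      have := ht_nonneg D hD r hr
      omega
    | succ n ih =>
      intro r hr hrJ hlt hΨ
      rcases descent D hD r hr with ⟨i, hi, rfl⟩ | ⟨i, hi, hne, hpos', hpair, hco, hht, hci⟩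
      · by_cases hiJ : i ∈ J
        · exact hJ i hiJ hi hΨ
        · have h0 := ((inRootSub_iff D J _).1 hrJ).2 i hi hiJ
          rw [co_simple D hD i hi i hi] at h0
          unfold basisVec at h0
          simp at h0
      · have hiJ : i ∈ J := by
          by_contra hiJ
          have h0 := ((inRootSub_iff D J _).1 hrJ).2 i hi hiJ
          omega
        have hJ' : D.InRootSub J (D.reflectRoot i r) := by
          rw [inRootSub_iff]
          refine ⟨hpos'.1, fun k hk hkJ => ?_⟩
          have hki : k ≠ i := fun h => hkJ (h ▸ hiJ)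
          rw [hco k hk, if_neg hki, sub_zero]
          exact ((inRootSub_iff D J _).1 hrJ).2 k hk hkJ
        exact ih _ hpos' hJ' (by push_cast at hlt ⊢; omega) (hrefl i hiJ hi r hr hΨ)
  exact key ((ht D r).toNat + 1) r hr hrJ (by
    have := ht_nonneg D hD r hr
    push_cast
    omega)

/-- table property: the two Cartan pairings of a fundamental root and a root have the same sign -/
def SignOK (D : ChevalleyDatum) : Prop :=
  ∀ r ∈ List.range D.nroots, ∀ i ∈ List.range D.rank,
    (0 < pairVec D i (co D r) ↔ 0 < D.cartan i r) ∧ (pairVec D i (co D r) = 0 ↔ D.cartan i r = 0)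

instance (D : ChevalleyDatum) : Decidable (SignOK D) := by
  unfold SignOK
  infer_instance

theorem signOK_G2 : SignOK chevG2 := by decide +kernel

theorem signOK_B2 : SignOK chevB2 := by decide +kernel

theorem signOK_D4 : SignOK chevD4 := by decide +kernel

theorem signOK_F4 : SignOK chevF4 := by decide +kernel

theorem signOK_E6 : SignOK chevE6 := by decide +kernel

theorem signOK_E7 : SignOK chevE7 := by decide +kernel

theorem signOK_E8 : SignOK chevE8 := by decide +kernel

theorem signOK_all (D : ChevalleyDatum) (hD : D ∈ Seven) : SignOK D := by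
  simp only [List.mem_cons, List.not_mem_nil, or_false] at hD
  rcases hD with rfl | rfl | rfl | rfl | rfl | rfl | rfl
  · exact signOK_G2
  · exact signOK_B2
  · exact signOK_D4
  · exact signOK_F4
  · exact signOK_E6
  · exact signOK_E7
  · exact signOK_E8

/-- `⟨p_i, r^∨⟩ > 0 ↔ A_{p_i, r} > 0` -/
theorem pair_pos_iff_cartan_pos (D : ChevalleyDatum) (hD : D ∈ Seven) (r : ℕ) (hr : r < D.nroots)
    (i : ℕ) (hi : i < D.rank) : 0 < pairVec D i (co D r) ↔ 0 < D.cartan i r :=
  (signOK_all D hD r (List.mem_range.2 hr) i (List.mem_range.2 hi)).1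

theorem pair_zero_iff_cartan_zero (D : ChevalleyDatum) (hD : D ∈ Seven) (r : ℕ)
    (hr : r < D.nroots) (i : ℕ) (hi : i < D.rank) :
    pairVec D i (co D r) = 0 ↔ D.cartan i r = 0 :=
  (signOK_all D hD r (List.mem_range.2 hr) i (List.mem_range.2 hi)).2

/-- **S9 (root part)**: if `Ψ` contains the fundamental roots outside `J`, is stable under the
`s_j`, `j ∈ J`, and contains every positive root `r ≠ p_i` with `A_{p_i, r} > 0` for `i ∉ J`, then
`Ψ` contains all positive roots outside `Φ_J`. -/
theorem cover_outside (D : ChevalleyDatum) (hD : D ∈ Seven) (J : Set ℕ) (Ψ : ℕ → Prop)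
    (hsimple : ∀ j < D.rank, j ∉ J → Ψ (D.simple j))
    (hrefl : ∀ j ∈ J, j < D.rank → ∀ r, D.IsPosRoot r → Ψ r → Ψ (D.reflectRoot j r))
    (hstring : ∀ i < D.rank, i ∉ J → ∀ r, D.IsPosRoot r → r ≠ D.simple i → 0 < D.cartan i r →
      Ψ r)
    (r : ℕ) (hr : D.IsPosRoot r) (hrJ : ¬ D.InRootSub J r) : Ψ r := by
  have key : ∀ n : ℕ, ∀ r, D.IsPosRoot r → ¬ D.InRootSub J r → ht D r < n → Ψ r := by
    intro n
    induction n with
    | zero =>
      intro r hr _ hlt
      have := ht_nonneg D hD r hr
      omega
    | succ n ih =>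
      intro r hr hrJ hlt
      rcases descent D hD r hr with ⟨i, hi, rfl⟩ | ⟨i, hi, hne, hpos', hpair, hco, hht, hci⟩
      · by_cases hiJ : i ∈ J
        · exfalso
          apply hrJ
          rw [inRootSub_iff]
          refine ⟨hr.1, fun k hk hkJ => ?_⟩
          rw [co_simple D hD i hi k hk]
          unfold basisVec
          rw [if_neg]
          rintro rfl
          exact hkJ hiJ
        · exact hsimple i hi hiJ
      · by_cases hiJ : i ∈ J
        · have hJ' : ¬ D.InRootSub J (D.reflectRoot i r) := by
            intro h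
            apply hrJ
            rw [inRootSub_iff] at h ⊢
            refine ⟨hr.1, fun k hk hkJ => ?_⟩
            have hki : k ≠ i := fun h => hkJ (h ▸ hiJ)
            have := h.2 k hk hkJ
            rwa [hco k hk, if_neg hki, sub_zero] at this
          have h1 := ih _ hpos' hJ' (by push_cast at hlt ⊢; omega)
          have h2 := hrefl i hiJ hi _ hpos' h1
          rwa [(reflectRoot_invol D hD i hi r hr.1).2] at h2
        · exact hstring i hi hiJ r hr hne ((pair_pos_iff_cartan_pos D hD r hr.1 i hi).1 hpair)
  exact key ((ht D r).toNat + 1) r hr hrJ (by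
    have := ht_nonneg D hD r hr
    push_cast
    omega)

end Cfsg.Agent.Lib.Helper2.Wc
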