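import Mathlib
import Cfsg.Prelude.Def_ChevStructure
import Cfsg.Agent.Lib.Helper2.WcS8
import Cfsg.Agent.Lib.Helper5.ChevParaDef

set_option autoImplicit false
set_option linter.style.haveILetI false

/-!
Weakly closed unipotent subgroups, unit U8: a lowering reflection for every positive root that
is not fundamental.
-/

namespace Cfsg.Agent.Lib.Helper2.Wc

open Cfsg Cfsg.Lie Cfsg.Agent.Lib.Helper5.ChevSym Cfsg.Agent.Lib.Helper5.ChevStruct

theorem msum_cast_aux (f : ℕ → ℤ) (n : ℕ) (h : ∀ k < n, 0 ≤ f k) :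
    ((((List.range n).map fun i => (f i).natAbs).sum : ℕ) : ℤ) = ∑ k ∈ Finset.range n, f k := by
  induction n with
  | zero => simp
  | succ n ih =>
    rw [List.range_succ, List.map_append, List.sum_append, Finset.sum_range_succ]
    rw [Nat.cast_add, ih fun k hk => h k (Nat.lt_succ_of_lt hk)]
    simp only [List.map_cons, List.map_nil, List.sum_cons, List.sum_nil, add_zero]
    rw [Int.natAbs_of_nonneg (h n (Nat.lt_succ_self n))]

/-- for a positive root `msum` is the height -/
theorem msum_cast (D : ChevalleyDatum) (hD : D ∈ Seven) (r : ℕ) (hr : D.IsPosRoot r) :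
    ((msum D r : ℕ) : ℤ) = ht D r :=
  msum_cast_aux (fun i => crt D r i) D.rank ((isPosRoot_iff_co D hD r).1 hr).2

/-- **U8** -/
theorem exists_lowering (D : ChevalleyDatum) (hD : D ∈ Seven) (r : ℕ) (hr : D.IsPosRoot r)
    (hns : ∀ i < D.rank, r ≠ D.simple i) :
    ∃ i < D.rank, 0 < crt D r i ∧ 0 < D.cartan i r ∧ D.IsPosRoot (D.reflectRoot i r) ∧
      msum D (D.reflectRoot i r) < msum D r := by
  rcases descent D hD r hr with ⟨i, hi, h⟩ | ⟨i, hi, hne, hpos', hpair, hco, hht, hci⟩
  · exact absurd h (hns i hi)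
  · refine ⟨i, hi, hci, (pair_pos_iff_cartan_pos D hD r hr.1 i hi).1 hpair, hpos', ?_⟩
    have h1 := msum_cast D hD r hr
    have h2 := msum_cast D hD _ hpos'
    omega

end Cfsg.Agent.Lib.Helper2.Wc
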