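import Mathlib
import Cfsg.Prelude.Def_ChevStructure
import Cfsg.Agent.Lib.Helper5.ChevXGL

set_option autoImplicit false
set_option linter.style.haveILetI false

/-!
Weakly closed unipotent subgroups, unit U9 (table): for a positive root `r ≠ p_i` with
`A_{p_i, r} > 0` the bottom `b` of the `p_i`-string through `r` is a positive root, the terms of
the commutator formula for `(p_i, b)` are positive roots in increasing order, and `r` occurs among
them with exponent `1` of `b` and coefficient `±1`.
-/

namespace Cfsg.Agent.Lib.Helper2.Wc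

open Cfsg Cfsg.Lie Cfsg.Agent.Lib.Helper5.ChevStruct

/-- the conclusion of the unit for a candidate `b`, as a Boolean -/
def bottomOK (D : ChevalleyDatum) (r i b : ℕ) : Bool :=
  decide (D.IsPosRoot b) && decide (b ≠ D.simple i) && decide (b ≠ D.neg (D.simple i)) &&
  (D.commTerms (D.simple i) b).all (fun c => decide (D.IsPosRoot c.1)) &&
  decide (((D.commTerms (D.simple i) b).map fun c => c.1).Pairwise (· < ·)) &&
  (D.commTerms (D.simple i) b).any (fun c => decide (c.1 = r) && decide (c.2.2.2 = 1) &&
    (decide (c.2.1 = 1) || decide (c.2.1 = -1)))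

theorem bottomOK_spec (D : ChevalleyDatum) (r i b : ℕ) (h : bottomOK D r i b = true) :
    D.IsPosRoot b ∧ b ≠ D.simple i ∧ b ≠ D.neg (D.simple i) ∧
      (∀ c ∈ D.commTerms (D.simple i) b, D.IsPosRoot c.1) ∧
      ((D.commTerms (D.simple i) b).map fun c => c.1).Pairwise (· < ·) ∧
      ∃ c ∈ D.commTerms (D.simple i) b, c.1 = r ∧ c.2.2.2 = 1 ∧ (c.2.1 = 1 ∨ c.2.1 = -1) := by
  unfold bottomOK at h
  simp only [Bool.and_eq_true, decide_eq_true_eq, List.all_eq_true, List.any_eq_true,
    Bool.or_eq_true] at h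
  obtain ⟨⟨⟨⟨⟨h1, h2⟩, h3⟩, h4⟩, h5⟩, c, hc, ⟨h6, h7⟩, h8⟩ := h
  exact ⟨h1, h2, h3, h4, h5, c, hc, h6, h7, h8⟩

/-- the bottom of the `p_i`-string through `r` -/
def botOf (D : ChevalleyDatum) (r i : ℕ) : ℕ :=
  ((D.chainEntry (D.neg (D.simple i)) r).getLast?.map Prod.fst).getD r

/-- the table check -/
def checkBot (D : ChevalleyDatum) : Bool :=
  (List.range D.nroots).all fun r => (List.range D.rank).all fun i =>
    !(decide (D.IsPosRoot r) && decide (r ≠ D.simple i) && decide (0 < D.cartan i r)) ||
      bottomOK D r i (botOf D r i)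

theorem checkBot_G2 : checkBot chevG2 = true := by decide +kernel

theorem checkBot_B2 : checkBot chevB2 = true := by decide +kernel

theorem checkBot_D4 : checkBot chevD4 = true := by decide +kernel

theorem checkBot_F4 : checkBot chevF4 = true := by decide +kernel

theorem checkBot_E6 : checkBot chevE6 = true := by decide +kernel

theorem checkBot_E7 : checkBot chevE7 = true := by decide +kernel

theorem checkBot_E8 : checkBot chevE8 = true := by decide +kernel

theorem checkBot_all (D : ChevalleyDatum) (hD : D ∈ Seven) : checkBot D = true := by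
  simp only [List.mem_cons, List.not_mem_nil, or_false] at hD
  rcases hD with rfl | rfl | rfl | rfl | rfl | rfl | rfl
  · exact checkBot_G2
  · exact checkBot_B2
  · exact checkBot_D4
  · exact checkBot_F4
  · exact checkBot_E6
  · exact checkBot_E7
  · exact checkBot_E8

/-- **U9** -/
theorem exists_bottom (D : ChevalleyDatum) (hD : D ∈ Seven) (r : ℕ) (hr : D.IsPosRoot r)
    (i : ℕ) (hi : i < D.rank) (hri : r ≠ D.simple i) (hc : 0 < D.cartan i r) :
    ∃ b, D.IsPosRoot b ∧ b ≠ D.simple i ∧ b ≠ D.neg (D.simple i) ∧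
      (∀ c ∈ D.commTerms (D.simple i) b, D.IsPosRoot c.1) ∧
      ((D.commTerms (D.simple i) b).map fun c => c.1).Pairwise (· < ·) ∧
      ∃ c ∈ D.commTerms (D.simple i) b, c.1 = r ∧ c.2.2.2 = 1 ∧ (c.2.1 = 1 ∨ c.2.1 = -1) := by
  have h := checkBot_all D hD
  unfold checkBot at h
  rw [List.all_eq_true] at h
  have h1 := h r (List.mem_range.2 hr.1)
  rw [List.all_eq_true] at h1
  have h2 := h1 i (List.mem_range.2 hi)
  rw [Bool.or_eq_true] at h2
  rcases h2 with h2 | h2
  · exfalso
    rw [Bool.not_eq_true', Bool.and_eq_false_iff, Bool.and_eq_false_iff] at h2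
    simp only [decide_eq_false_iff_not] at h2
    rcases h2 with (h2 | h2) | h2
    · exact h2 hr
    · exact h2 hri
    · exact h2 hc
  · exact ⟨botOf D r i, bottomOK_spec D r i _ h2⟩

end Cfsg.Agent.Lib.Helper2.Wc
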