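import Mathlib
import Cfsg.Agent.Lib.Helper2.WRB
import Cfsg.Agent.Lib.Lead.WR1199

set_option autoImplicit false

/-!
# Wreathed 2-groups: classification of centric subgroups with odd-order automorphisms
-/

namespace Cfsg.Agent.Lib.Helper2.WRC

open Cfsg.Agent.Lib.Lead.QDArith Cfsg.Agent.Lib.Lead.WRCore Cfsg.Agent.Lib.Helper2.WRA
  Cfsg.Agent.Lib.Helper2.WRB

variable {S : Type*} [Group S] {n : ℕ} {x y z : S} (hw : WR S n x y z)
include hw

theorem a_pow_zero (k : ZMod (2 ^ n)) (c : ℕ) :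
    a n x y k 0 ^ c = a n x y ((c : ZMod (2 ^ n)) * k) 0 := by
  rw [hw.a_pow, mul_zero]

/-- Description of `X ∩ A` when `a(q,0) ∉ X`. -/
theorem mem_zero_or_hh [Finite S] {X : Subgroup S} (hP2 : a n x y (qq n) 0 ∉ X)
    (k : ZMod (2 ^ n)) (hk : a n x y k 0 ∈ X) : k = 0 ∨ k = hh n := by
  by_contra hcon
  push Not at hcon
  obtain ⟨c, hc⟩ := exists_mul_eq_qq hw.hn hcon.1 hcon.2
  have h1 : a n x y ((c : ZMod (2 ^ n)) * k) 0 ∈ X := by
    rw [← a_pow_zero hw]; exact X.pow_mem hk c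
  rcases hc with hc | hc
  · rw [hc] at h1; exact hP2 h1
  · rw [hc] at h1
    have h2 : a n x y (qq n) 0 = (a n x y (-qq n) 0)⁻¹ := by
      rw [← hw.a_neg, neg_neg, neg_zero]
    rw [h2] at hP2
    exact hP2 (X.inv_mem h1)

theorem mem_zero [Finite S] {X : Subgroup S} (hP1 : a n x y (hh n) 0 ∉ X)
    (k : ZMod (2 ^ n)) (hk : a n x y k 0 ∈ X) : k = 0 := by
  by_contra hcon
  obtain ⟨c, hc⟩ := exists_mul_eq_hh hw.n1 hcon
  have h1 : a n x y ((c : ZMod (2 ^ n)) * k) 0 ∈ X := by
    rw [← a_pow_zero hw]; exact X.pow_mem hk c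
  rw [hc] at h1
  exact hP1 h1

/-- Subgroups `X ⊄ A` containing `Z(S)` and `a(h,0)` but not `a(q,0)` are the `V_d`. -/
theorem eq_Vd [Finite S] {X : Subgroup S} (hD : Subgroup.center S ≤ X)
    {d : ZMod (2 ^ n)} (hd : b n x y z d 0 ∈ X) (hP1 : a n x y (hh n) 0 ∈ X)
    (hP2 : a n x y (qq n) 0 ∉ X) : X = Vd hw d := by
  have hI := mem_zero_or_hh hw hP2
  have hn1 := hw.n1
  have hmem : ∀ k : ZMod (2 ^ n), a n x y k 0 ∈ X ↔ 2 * k = 0 := by
    intro k
    constructor
    · intro h
      exact (two_mul_eq_zero_iff hn1 k).2 (hI k h)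
    · intro h
      rcases (two_mul_eq_zero_iff hn1 k).1 h with h0 | h0
      · rw [h0, hw.a_zero]; exact X.one_mem
      · rw [h0]; exact hP1
  ext g
  rcases hw.exists_rep g with ⟨i, j, rfl⟩ | ⟨i, j, rfl⟩
  · rw [a_mem_iff hw hD, a_mem_Vd, hmem]
  · rw [b_mem_iff hw hD hd, b_mem_Vd, hmem]

/-- Classification: a centric subgroup of a wreathed 2-group admitting a nontrivial automorphism of
odd order is `A` or some `V_d` with `d` even. -/
theorem centric_classify [Finite S] (X : Subgroup S)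
    (hC : Subgroup.centralizer (X : Set S) ≤ X) (α : MulAut X) (k : ℕ) (hk : Odd k)
    (hα : α ^ k = 1) (hne : α ≠ 1) : X = hw.A ∨ ∃ d, Even d ∧ X = Vd hw d := by
  have hD := center_le_of_centric hC
  by_cases hXA : X ≤ hw.A
  · left
    apply le_antisymm hXA
    refine le_trans ?_ hC
    rintro g ⟨i, j, rfl⟩
    rw [Subgroup.mem_centralizer_iff]
    intro v hv
    obtain ⟨i', j', rfl⟩ := hXA hv
    exact hw.a_comm _ _ _ _
  · right
    obtain ⟨d, hd⟩ := exists_b_mem hw hD hXA
    by_cases hP1 : a n x y (hh n) 0 ∈ X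
    · by_cases hP2 : a n x y (qq n) 0 ∈ X
      · exfalso
        exact hne (aut_trivial_of_preserves hw hD hd hP1 α k hk hα (preserves_of_qq hw hP2 α))
      · rcases even_or_odd d with hde | hdo
        · exact ⟨d, hde, eq_Vd hw hD hd hP1 hP2⟩
        · exfalso
          exact hne (aut_trivial_of_preserves hw hD hd hP1 α k hk hα
            (preserves_of_odd hw hD hd hP1 (mem_zero_or_hh hw hP2) hdo α))
    · exfalso
      exact hne (aut_trivial_of_abelian hw hD hd (mem_zero hw hP1) α k hk hα)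

theorem b_zero_mem_Vd (d : ZMod (2 ^ n)) : b n x y z d 0 ∈ Vd hw d :=
  (b_mem_Vd hw d d 0).2 (by ring)

theorem hh_zero_mem_Vd (d : ZMod (2 ^ n)) : a n x y (hh n) 0 ∈ Vd hw d :=
  (a_mem_Vd hw d (hh n) 0).2 (by have := two_hh (n := n) hw.n1; linear_combination this)

theorem center_le_Vd [Finite S] (d : ZMod (2 ^ n)) : Subgroup.center S ≤ Vd hw d := by
  intro g hg
  obtain ⟨k, rfl⟩ := (hw.mem_center_iff g).1 hg
  exact (a_mem_Vd hw d k k).2 (by ring)

theorem qq_zero_not_mem_Vd (d : ZMod (2 ^ n)) : a n x y (qq n) 0 ∉ Vd hw d := by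
  intro h
  have h1 := (a_mem_Vd hw d _ _).1 h
  have h2 := two_qq (n := n) hw.hn
  exact hh_ne_zero hw.n1 (by linear_combination h1 - h2)

/-- `V_d` is self-centralizing: `C_S(V_d) = Z(S)`. -/
theorem centralizer_Vd_le [Finite S] (d : ZMod (2 ^ n)) :
    Subgroup.centralizer (Vd hw d : Set S) ≤ Subgroup.center S := by
  intro g hg
  rw [Subgroup.mem_centralizer_iff] at hg
  rcases hw.exists_rep g with ⟨i, j, rfl⟩ | ⟨i, j, rfl⟩
  · have h1 := hg _ (b_zero_mem_Vd hw d)
    rw [hw.b_mul_a, hw.a_mul_b] at h1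
    have h2 := (hw.b_inj h1).1
    have h3 : i = j := by linear_combination -h2
    rw [h3]
    exact hw.diag_mem_center j
  · exfalso
    have h1 := hg _ (hh_zero_mem_Vd hw d)
    rw [hw.b_mul_a, hw.a_mul_b] at h1
    have h2 := (hw.b_inj h1).1
    exact hh_ne_zero hw.n1 (by linear_combination h2)

theorem centralizer_Vd_le_self [Finite S] (d : ZMod (2 ^ n)) :
    Subgroup.centralizer (Vd hw d : Set S) ≤ Vd hw d :=
  (centralizer_Vd_le hw d).trans (center_le_Vd hw d)

theorem a_mem_normalizer_Vd_iff [Finite S] (d k l : ZMod (2 ^ n)) :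
    a n x y k l ∈ Subgroup.normalizer (Vd hw d : Set S) ↔ 4 * (k - l) = 0 := by
  constructor
  · intro h
    have h1 := (Subgroup.mem_normalizer_iff.1 h (b n x y z d 0)).1 (b_zero_mem_Vd hw d)
    rw [hw.a_conj_b, b_mem_Vd] at h1
    linear_combination h1
  · intro h
    rw [Subgroup.mem_normalizer_iff]
    intro v
    rcases hw.exists_rep v with ⟨i, j, rfl⟩ | ⟨i, j, rfl⟩
    · rw [hw.a_conj_a]
    · rw [hw.a_conj_b, b_mem_Vd, b_mem_Vd]
      constructor
      · intro h1; linear_combination h1 + h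
      · intro h1; linear_combination h1 - h

theorem b_mem_normalizer_Vd_iff [Finite S] (d k l : ZMod (2 ^ n)) :
    b n x y z k l ∈ Subgroup.normalizer (Vd hw d : Set S) ↔ 4 * (k - l - d) = 0 := by
  constructor
  · intro h
    have h1 := (Subgroup.mem_normalizer_iff.1 h (b n x y z d 0)).1 (b_zero_mem_Vd hw d)
    rw [hw.b_conj_b, b_mem_Vd] at h1
    linear_combination h1
  · intro h
    rw [Subgroup.mem_normalizer_iff]
    intro v
    rcases hw.exists_rep v with ⟨i, j, rfl⟩ | ⟨i, j, rfl⟩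
    · rw [hw.b_conj_a, a_mem_Vd, a_mem_Vd]
      constructor
      · intro h1; linear_combination -h1
      · intro h1; linear_combination -h1
    · rw [hw.b_conj_b, b_mem_Vd, b_mem_Vd]
      constructor
      · intro h1; linear_combination -h1 + h
      · intro h1; linear_combination -h1 + h

/-- `|N_S(V_d) : V_d| = 2`. -/
theorem relIndex_normalizer_Vd [Finite S] (d : ZMod (2 ^ n)) :
    (Vd hw d).relIndex (Subgroup.normalizer (Vd hw d : Set S)) = 2 := by
  have hn1 := hw.n1
  have h2q := two_qq (n := n) hw.hn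
  have h2h := two_hh (n := n) hn1
  have hhne := hh_ne_zero (n := n) hn1
  rw [Subgroup.relIndex_eq_two_iff]
  refine ⟨a n x y (qq n) 0, (a_mem_normalizer_Vd_iff hw d _ _).2 (by linear_combination 2 * h2q + h2h),
    ?_⟩
  intro g hg
  rcases hw.exists_rep g with ⟨k, l, rfl⟩ | ⟨k, l, rfl⟩
  · have h4 := (a_mem_normalizer_Vd_iff hw d k l).1 hg
    rw [← hw.a_add, a_mem_Vd, a_mem_Vd]
    have h5 : (2 : ZMod (2 ^ n)) * (2 * (k - l)) = 0 := by linear_combination h4
    rcases (two_mul_eq_zero_iff hn1 _).1 h5 with h6 | h6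
    · right
      refine ⟨h6, ?_⟩
      intro h7
      exact hhne (by linear_combination h7 - h6 - h2q)
    · left
      refine ⟨by linear_combination h6 + h2q + h2h, ?_⟩
      intro h7
      exact hhne (by rw [← h6, h7])
  · have h4 := (b_mem_normalizer_Vd_iff hw d k l).1 hg
    rw [hw.b_mul_a, b_mem_Vd, b_mem_Vd]
    have h5 : (2 : ZMod (2 ^ n)) * (2 * (k - l - d)) = 0 := by linear_combination h4
    rcases (two_mul_eq_zero_iff hn1 _).1 h5 with h6 | h6
    · right
      refine ⟨h6, ?_⟩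
      intro h7
      exact hhne (by linear_combination -h7 + h6 - h2q)
    · left
      refine ⟨by linear_combination h6 - h2q, ?_⟩
      intro h7
      exact hhne (by rw [← h6, h7])

/-- Conjugating `V_d` by `a(k,0)` gives `V_{d+2k}`. -/
theorem map_conj_Vd [Finite S] (d k : ZMod (2 ^ n)) :
    (Vd hw d).map (MulAut.conj (a n x y k 0)).toMonoidHom = Vd hw (d + 2 * k) := by
  ext g
  rw [Subgroup.mem_map_equiv, MulAut.conj_symm_apply]
  have hinv : (a n x y k 0)⁻¹ = a n x y (-k) 0 := by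
    rw [← hw.a_neg, neg_zero]
  have e : (a n x y k 0)⁻¹ * g * a n x y k 0 =
      a n x y (-k) 0 * g * (a n x y (-k) 0)⁻¹ := by rw [← hinv, inv_inv]
  rw [e]
  rcases hw.exists_rep g with ⟨i, j, rfl⟩ | ⟨i, j, rfl⟩
  · rw [hw.a_conj_a, a_mem_Vd, a_mem_Vd]
  · rw [hw.a_conj_b, b_mem_Vd, b_mem_Vd]
    constructor
    · intro h1; linear_combination h1
    · intro h1; linear_combination h1

/-- The quaternion subgroup `Q_d = Y ∩ V_d`. -/
def Qd (d : ZMod (2 ^ n)) : Subgroup S := hw.Y ⊓ Vd hw d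

theorem a_mem_Y_iff (i j : ZMod (2 ^ n)) : a n x y i j ∈ hw.Y ↔ i + j = 0 := by
  constructor
  · rintro ⟨k, l, (⟨h, h1⟩ | ⟨h, h1⟩)⟩
    · obtain ⟨rfl, rfl⟩ := hw.a_inj h
      exact h1
    · exact absurd h.symm (hw.b_ne_a _ _ _ _)
  · exact fun h => hw.a_mem_Y h

theorem b_mem_Y_iff (i j : ZMod (2 ^ n)) : b n x y z i j ∈ hw.Y ↔ i + j = hh n := by
  constructor
  · rintro ⟨k, l, (⟨h, h1⟩ | ⟨h, h1⟩)⟩
    · exact absurd h (hw.b_ne_a _ _ _ _)
    · obtain ⟨rfl, rfl⟩ := hw.b_inj h
      exact h1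
  · exact fun h => hw.b_mem_Y h

theorem uu_mem_Qd (d : ZMod (2 ^ n)) : a n x y (qq n) (-qq n) ∈ Qd hw d := by
  have h2q := two_qq (n := n) hw.hn
  have h2h := two_hh (n := n) hw.n1
  exact ⟨hw.a_mem_Y (by ring), (a_mem_Vd hw d _ _).2 (by linear_combination 2 * h2q + h2h)⟩

theorem orderOf_uu : orderOf (a n x y (qq n) (-qq n)) = 4 := by
  have h2q := two_qq (n := n) hw.hn
  have h2h := two_hh (n := n) hw.n1
  have h4 : (4 : ℕ) = 2 ^ (1 + 1) := by norm_num
  rw [h4]
  apply orderOf_eq_prime_pow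
  · rw [pow_one, hw.a_pow]
    intro h
    have := ((hw.a_eq_one_iff _ _).1 h).1
    push_cast at this
    exact hh_ne_zero hw.n1 (by linear_combination this - h2q)
  · rw [hw.a_pow, hw.a_eq_one_iff]
    push_cast
    constructor
    · linear_combination 2 * h2q + h2h
    · linear_combination -2 * h2q - h2h

/-- Elements of `Q_d ∩ A` are powers of `u = a(q,-q)`. -/
theorem a_mem_Qd_zpowers (d i j : ZMod (2 ^ n)) (h : a n x y i j ∈ Qd hw d) :
    a n x y i j ∈ Subgroup.zpowers (a n x y (qq n) (-qq n)) := by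
  have h2q := two_qq (n := n) hw.hn
  have h2h := two_hh (n := n) hw.n1
  have h1 := (a_mem_Y_iff hw i j).1 h.1
  have h2 := (a_mem_Vd hw d i j).1 h.2
  have hj : j = -i := by linear_combination h1
  subst hj
  have h4 : 4 * i = 0 := by linear_combination h2
  have hpow : ∀ c : ℕ, a n x y ((c : ZMod (2 ^ n)) * qq n) (-((c : ZMod (2 ^ n)) * qq n)) ∈
      Subgroup.zpowers (a n x y (qq n) (-qq n)) := by
    intro c
    have : a n x y ((c : ZMod (2 ^ n)) * qq n) (-((c : ZMod (2 ^ n)) * qq n)) =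
        a n x y (qq n) (-qq n) ^ c := by
      rw [hw.a_pow]; congr 1; ring
    rw [this]
    exact Subgroup.pow_mem _ (Subgroup.mem_zpowers _) _
  rcases four_mul_eq_zero hw.hn h4 with h | h | h | h
  · have := hpow 0
    rw [h]; simpa using this
  · rw [h]; exact Subgroup.mem_zpowers _
  · have := hpow 2
    have e : ((2 : ℕ) : ZMod (2 ^ n)) * qq n = hh n := by push_cast; exact h2q
    rw [e] at this
    rw [h]; exact this
  · have := hpow 3
    have e : ((3 : ℕ) : ZMod (2 ^ n)) * qq n = hh n + qq n := by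
      push_cast; linear_combination h2q
    rw [e] at this
    rw [h]; exact this

theorem card_Qd [Finite S] (d : ZMod (2 ^ n)) (w : S) (hwQ : w ∈ Qd hw d) (hwA : w ∉ hw.A) :
    Nat.card (Qd hw d) = 8 := by
  set u := a n x y (qq n) (-qq n) with hu
  have hCQ : Subgroup.zpowers u ≤ Qd hw d := Subgroup.zpowers_le.mpr (uu_mem_Qd hw d)
  have hCA : Subgroup.zpowers u ≤ hw.A := Subgroup.zpowers_le.mpr (hw.a_mem _ _)
  have hrel : (Subgroup.zpowers u).relIndex (Qd hw d) = 2 := by
    rw [Subgroup.relIndex_eq_two_iff]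
    refine ⟨w, hwQ, ?_⟩
    intro g hg
    rcases hw.exists_rep g with ⟨i, j, rfl⟩ | ⟨i, j, rfl⟩
    · right
      refine ⟨a_mem_Qd_zpowers hw d i j hg, ?_⟩
      intro h
      apply hwA
      have h1 := hw.A.mul_mem (hw.A.inv_mem (hw.a_mem i j)) (hCA h)
      rwa [inv_mul_cancel_left] at h1
    · left
      constructor
      · have h1 : b n x y z i j * w ∈ Qd hw d := (Qd hw d).mul_mem hg hwQ
        rcases hw.exists_rep w with ⟨k, l, rfl⟩ | ⟨k, l, rfl⟩
        · exact absurd (hw.a_mem k l) hwA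
        · rw [hw.b_mul_b] at h1 ⊢
          exact a_mem_Qd_zpowers hw d _ _ h1
      · intro h
        exact hw.b_not_mem i j (hCA h)
  have h1 := Subgroup.relIndex_mul_relIndex ⊥ (Subgroup.zpowers u) (Qd hw d) bot_le hCQ
  rw [Subgroup.relIndex_bot_left, Subgroup.relIndex_bot_left, hrel, Nat.card_zpowers,
    orderOf_uu hw] at h1
  omega

theorem neg_qq : -qq n = qq n + hh n := by
  have h2q := two_qq (n := n) hw.hn
  have h2h := two_hh (n := n) hw.n1
  linear_combination -h2q - h2h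

theorem ww_mem_Qd (r : ZMod (2 ^ n)) : b n x y z (qq n + r) (qq n - r) ∈ Qd hw (r + r) := by
  have h2q := two_qq (n := n) hw.hn
  exact ⟨hw.b_mem_Y (by linear_combination h2q), (b_mem_Vd hw _ _ _).2 (by ring)⟩

/-- For even `d`, `Q_d ≅ Q_8`. -/
theorem Qd_quat [Finite S] (r : ZMod (2 ^ n)) :
    Nonempty (Qd hw (r + r) ≃* QuaternionGroup 2) := by
  have h2q := two_qq (n := n) hw.hn
  have h2h := two_hh (n := n) hw.n1
  apply Cfsg.Agent.Lib.Lead.QuatRecog.nonempty_mulEquiv_quaternionGroup 2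
    (⟨a n x y (qq n) (-qq n), uu_mem_Qd hw _⟩ : Qd hw (r + r))
    ⟨b n x y z (qq n + r) (qq n - r), ww_mem_Qd hw r⟩
  · rw [Subgroup.orderOf_mk, orderOf_uu hw]
  · intro h
    obtain ⟨k, hk⟩ := Subgroup.mem_zpowers_iff.1 h
    have h1 := congrArg Subtype.val hk
    rw [Subgroup.coe_zpow] at h1
    have h2 : a n x y (qq n) (-qq n) ^ k ∈ hw.A := hw.A.zpow_mem (hw.a_mem _ _) k
    have h3 : (a n x y (qq n) (-qq n)) ^ k = b n x y z (qq n + r) (qq n - r) := h1
    rw [h3] at h2
    exact hw.b_not_mem _ _ h2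
  · apply Subtype.ext
    rw [Subgroup.coe_mul, Subgroup.coe_pow]
    show b n x y z (qq n + r) (qq n - r) * b n x y z (qq n + r) (qq n - r) =
      a n x y (qq n) (-qq n) ^ 2
    rw [hw.b_mul_b, hw.a_pow]
    congr 1
    · push_cast; ring
    · push_cast; linear_combination 2 * h2q + h2h
  · apply Subtype.ext
    rw [Subgroup.coe_mul, Subgroup.coe_mul, Subgroup.coe_inv, Subgroup.coe_inv]
    show b n x y z (qq n + r) (qq n - r) * a n x y (qq n) (-qq n) *
      (b n x y z (qq n + r) (qq n - r))⁻¹ = (a n x y (qq n) (-qq n))⁻¹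
    rw [hw.b_conj_a, ← hw.a_neg, neg_neg]
  · exact card_Qd hw _ _ (ww_mem_Qd hw r) (hw.b_not_mem _ _)

/-- `V_d = Q_d Z(S)` for even `d`. -/
theorem Vd_eq_sup [Finite S] (r : ZMod (2 ^ n)) :
    Vd hw (r + r) = Qd hw (r + r) ⊔ Subgroup.center S := by
  have hn1 := hw.n1
  have h2q := two_qq (n := n) hw.hn
  have h2h := two_hh (n := n) hw.n1
  apply le_antisymm
  · intro g hg
    rcases hw.exists_rep g with ⟨i, j, rfl⟩ | ⟨i, j, rfl⟩
    · have h1 := (a_mem_Vd hw _ i j).1 hg
      rcases (two_mul_eq_zero_iff hn1 _).1 h1 with h | h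
      · have : i = j := sub_eq_zero.1 h
        rw [this]
        exact Subgroup.mem_sup_right (hw.diag_mem_center j)
      · have e : a n x y i j = a n x y (qq n) (-qq n) * a n x y (j + qq n) (j + qq n) := by
          rw [← hw.a_add]; congr 1
          · linear_combination h - h2q
          · ring
        rw [e]
        exact Subgroup.mul_mem_sup (uu_mem_Qd hw _) (hw.diag_mem_center _)
    · have h1 := (b_mem_Vd hw _ i j).1 hg
      rcases (two_mul_eq_zero_iff hn1 _).1 h1 with h | h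
      · have e : b n x y z i j = b n x y z (qq n + r) (qq n - r) *
            a n x y (r + j - qq n) (r + j - qq n) := by
          rw [hw.b_mul_a]; congr 1
          · linear_combination h
          · ring
        rw [e]
        exact Subgroup.mul_mem_sup (ww_mem_Qd hw r) (hw.diag_mem_center _)
      · have e : b n x y z i j = a n x y (qq n) (-qq n) * (b n x y z (qq n + r) (qq n - r) *
            a n x y (j + r) (j + r)) := by
          rw [hw.b_mul_a, hw.a_mul_b]; congr 1
          · linear_combination h - h2q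
          · ring
        rw [e]
        exact Subgroup.mul_mem _ (Subgroup.mem_sup_left (uu_mem_Qd hw _))
          (Subgroup.mul_mem_sup (ww_mem_Qd hw r) (hw.diag_mem_center _))
  · exact sup_le inf_le_right (center_le_Vd hw _)

/-- Every quaternion subgroup `Q ≅ Q_8` of `S` has `Q Z(S) = V_d` for an even `d`. -/
theorem quat_sup_center_eq_Vd [Finite S] (Q : Subgroup S) (e : Q ≃* QuaternionGroup 2) :
    ∃ r : ZMod (2 ^ n), Q ⊔ Subgroup.center S = Vd hw (r + r) := by
  have hn1 := hw.n1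
  have h2q := two_qq (n := n) hw.hn
  have h2h := two_hh (n := n) hw.n1
  let ψ : QuaternionGroup 2 →* S := Q.subtype.comp e.symm.toMonoidHom
  have hinj : Function.Injective ψ := Q.subtype_injective.comp e.symm.injective
  have hψQ : ∀ g, ψ g ∈ Q := fun g => (e.symm g).2
  have hQY : Q ≤ hw.Y := by
    intro g hg
    apply hw.quat_le_Y 2 le_rfl ψ hinj
    exact ⟨e ⟨g, hg⟩, by simp [ψ]⟩
  -- every element of `Q` has `g^4 = 1`
  have hexp : ∀ g ∈ Q, g ^ 4 = 1 := by
    intro g hg
    have h1 : (e ⟨g, hg⟩) ^ 4 = 1 := by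
      have h2 : Monoid.exponent (QuaternionGroup 2) = 4 := by
        rw [QuaternionGroup.exponent]; rfl
      rw [← h2]; exact Monoid.pow_exponent_eq_one _
    have h3 : (⟨g, hg⟩ : Q) ^ 4 = 1 := by
      apply e.injective; rw [map_pow, h1, map_one]
    have := congrArg Subtype.val h3
    rwa [Subgroup.coe_pow] at this
  -- a-type elements of `Q`
  have haQ : ∀ k l, a n x y k l ∈ Q → l = -k ∧ 4 * k = 0 := by
    intro k l h
    have h1 := (a_mem_Y_iff hw k l).1 (hQY h)
    have h2 := hexp _ h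
    rw [hw.a_pow, hw.a_eq_one_iff] at h2
    push_cast at h2
    exact ⟨by linear_combination h1, h2.1⟩
  set P := ψ (QuaternionGroup.xa 0) with hP
  set R := ψ (QuaternionGroup.xa 1) with hR
  have hPR : P * R ≠ R * P := by
    intro h
    rw [hP, hR, ← map_mul, ← map_mul] at h
    have := hinj h
    revert this
    decide
  -- a b-type element of `Q`
  have hb : ∃ i j, b n x y z i j ∈ Q := by
    rcases hw.exists_rep P with ⟨i, j, h1⟩ | ⟨i, j, h1⟩
    · rcases hw.exists_rep R with ⟨i', j', h2⟩ | ⟨i', j', h2⟩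
      · exfalso; apply hPR; rw [h1, h2]; exact hw.a_comm _ _ _ _
      · exact ⟨i', j', h2 ▸ hψQ _⟩
    · exact ⟨i, j, h1 ▸ hψQ _⟩
  obtain ⟨i, j, hbQ⟩ := hb
  have hij : i + j = hh n := (b_mem_Y_iff hw i j).1 (hQY hbQ)
  -- `u ∈ Q`
  have hsq : ∀ g : QuaternionGroup 2, orderOf g = 4 → ψ g ∈ hw.A →
      a n x y (qq n) (-qq n) ∈ Q := by
    intro g hg hA
    obtain ⟨k, l, hkl⟩ := hA
    have hmem : a n x y k l ∈ Q := hkl ▸ hψQ g
    obtain ⟨rfl, h4⟩ := haQ k l hmem
    have hne : 2 * k ≠ 0 := by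
      intro h2
      have h3 : ψ g ^ 2 = 1 := by
        rw [hkl, hw.a_pow, hw.a_eq_one_iff]
        push_cast
        exact ⟨h2, by linear_combination -h2⟩
      rw [← map_pow] at h3
      have h5 : g ^ 2 = 1 := hinj (by rw [h3, map_one])
      have := orderOf_dvd_of_pow_eq_one h5
      rw [hg] at this
      omega
    rcases four_mul_eq_zero hw.hn h4 with h | h | h | h
    · exfalso; apply hne; rw [h, mul_zero]
    · rw [h] at hmem; exact hmem
    · exfalso; apply hne; rw [h]; exact h2h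
    · have h5 : a n x y (qq n) (-qq n) = (a n x y k (-k))⁻¹ := by
        rw [← hw.a_neg, h, neg_neg]
        congr 1
        · linear_combination h2q + h2h
        · linear_combination -h2q - h2h
      rw [h5]
      exact Q.inv_mem hmem
  have huQ : a n x y (qq n) (-qq n) ∈ Q := by
    have ho : ∀ i : ZMod (2 * 2), orderOf (QuaternionGroup.xa i : QuaternionGroup 2) = 4 :=
      fun i => QuaternionGroup.orderOf_xa i
    by_cases hPA : P ∈ hw.A
    · exact hsq _ (ho 0) hPA
    · by_cases hRA : R ∈ hw.A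
      · exact hsq _ (ho 1) hRA
      · have h3 : ψ (QuaternionGroup.xa 0 * QuaternionGroup.xa 1) ∈ hw.A := by
          rw [map_mul]
          rcases hw.exists_rep P with ⟨i, j, h1⟩ | ⟨i, j, h1⟩
          · exact absurd ⟨i, j, h1⟩ hPA
          · rcases hw.exists_rep R with ⟨i', j', h2⟩ | ⟨i', j', h2⟩
            · exact absurd ⟨i', j', h2⟩ hRA
            · show P * R ∈ hw.A
              rw [h1, h2, hw.b_mul_b]; exact hw.a_mem _ _
        refine hsq _ ?_ h3
        have : (QuaternionGroup.xa 0 * QuaternionGroup.xa 1 : QuaternionGroup 2) =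
            (QuaternionGroup.a 1)⁻¹ := by decide
        rw [this, orderOf_inv, QuaternionGroup.orderOf_a_one]
  refine ⟨qq n - j, ?_⟩
  have hd : qq n - j + (qq n - j) = i - j := by linear_combination h2q - hij
  rw [hd]
  apply le_antisymm
  · apply sup_le _ (center_le_Vd hw _)
    intro g hg
    rcases hw.exists_rep g with ⟨k, l, rfl⟩ | ⟨k, l, rfl⟩
    · obtain ⟨rfl, h4⟩ := haQ k l hg
      exact (a_mem_Vd hw _ _ _).2 (by linear_combination h4)
    · have h1 : b n x y z k l * (b n x y z i j)⁻¹ ∈ Q := Q.mul_mem hg (Q.inv_mem hbQ)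
      rw [hw.b_inv, hw.b_mul_b] at h1
      obtain ⟨h5, h4⟩ := haQ _ _ h1
      exact (b_mem_Vd hw _ _ _).2 (by linear_combination h4 - 2 * h5)
  · intro g hg
    have hdiag : ∀ k l, 2 * (k - l) = 0 → a n x y k l ∈ Q ⊔ Subgroup.center S := by
      intro k l h1
      rcases (two_mul_eq_zero_iff hn1 _).1 h1 with h | h
      · have : k = l := sub_eq_zero.1 h
        rw [this]
        exact Subgroup.mem_sup_right (hw.diag_mem_center l)
      · have e' : a n x y k l = a n x y (qq n) (-qq n) * a n x y (l + qq n) (l + qq n) := by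
          rw [← hw.a_add]; congr 1
          · linear_combination h - h2q
          · ring
        rw [e']
        exact Subgroup.mul_mem_sup huQ (hw.diag_mem_center _)
    rcases hw.exists_rep g with ⟨k, l, rfl⟩ | ⟨k, l, rfl⟩
    · exact hdiag k l ((a_mem_Vd hw _ k l).1 hg)
    · have h1 := (b_mem_Vd hw _ k l).1 hg
      have e' : b n x y z k l = a n x y (k - i) (l - j) * b n x y z i j := by
        rw [hw.a_mul_b]; congr 1 <;> ring
      rw [e']
      exact Subgroup.mul_mem _ (hdiag _ _ (by linear_combination h1)) (Subgroup.mem_sup_left hbQ)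

end Cfsg.Agent.Lib.Helper2.WRC
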