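import Mathlib
import Cfsg.Agent.Lib.Helper2.WRC
import Cfsg.Agent.Lib.Helper2.QDFusB
import Cfsg.Agent.Lib.Helper7.AGRefined

set_option autoImplicit false

/-!
# Fusion in groups with a wreathed Sylow 2-subgroup: Alperin reduction
-/

namespace Cfsg.Agent.Lib.Helper2.WRD

open Cfsg Cfsg.Agent.Lib.Lead.QDArith Cfsg.Agent.Lib.Lead.WRCore Cfsg.Agent.Lib.Helper7
open Cfsg.Agent.Lib.Helper2.WRA Cfsg.Agent.Lib.Helper2.WRB Cfsg.Agent.Lib.Helper2.WRC
open Cfsg.Agent.Lib.Helper2.QDFusB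

local notation:max Q "⋏" g:max => Subgroup.map (MulEquiv.toMonoidHom (MulAut.conj g)) Q

section Amb

variable {G : Type*} [Group G] [Finite G]

/-- If `Aut(X)` is a 2-group and `X ≤ S` is fully normalized, then
`N_G(X) = (S ∩ N_G(X)) C_G(X)`. -/
theorem normalizer_decomp_of_isPGroup (S : Sylow 2 G) (X : Subgroup G)
    (hfn : ¬ 2 ∣ ((S : Subgroup G) ⊓ Subgroup.normalizer (X : Set G)).relIndex
      (Subgroup.normalizer (X : Set G)))
    (hp : IsPGroup 2 (MulAut X)) (x : G) (hx : x ∈ Subgroup.normalizer (X : Set G)) :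
    ∃ σ ∈ (S : Subgroup G) ⊓ Subgroup.normalizer (X : Set G),
      ∃ c ∈ Subgroup.centralizer (X : Set G), x = σ * c := by
  have hsyl : IsSylowIn 2 ((S : Subgroup G) ⊓ Subgroup.normalizer (X : Set G))
      (Subgroup.normalizer (X : Set G)) :=
    ⟨inf_le_right, S.2.to_le inf_le_left, hfn⟩
  have hpow : ∀ d ∈ Subgroup.normalizer (X : Set G), ∃ k : ℕ,
      d ^ (2 ^ k) ∈ Subgroup.centralizer (X : Set G) := by
    intro d hd
    obtain ⟨k, hk⟩ := hp (X.normalizerMonoidHom ⟨d, hd⟩)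
    refine ⟨k, ?_⟩
    rw [← map_pow] at hk
    have h1 : (⟨d, hd⟩ : ↥(Subgroup.normalizer (X : Set G))) ^ 2 ^ k ∈
        X.normalizerMonoidHom.ker := hk
    rw [Subgroup.normalizerMonoidHom_ker, Subgroup.mem_subgroupOf, Subgroup.coe_pow] at h1
    exact h1
  have hle := le_sup_inf_sylowIn hsyl le_rfl Subgroup.le_normalizer
    (Subgroup.centralizer_le_normalizer _) (normalizer_le_normalizer_centralizer X) hpow
  have hx' := hle hx
  rw [sup_comm] at hx'
  have hnorm : Subgroup.normalizer (X : Set G) ⊓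
      ((S : Subgroup G) ⊓ Subgroup.normalizer (X : Set G)) ≤
      Subgroup.normalizer ((Subgroup.centralizer (X : Set G) : Subgroup G) : Set G) :=
    inf_le_left.trans (normalizer_le_normalizer_centralizer X)
  have hset := Subgroup.coe_mul_of_left_le_normalizer_right _ _ hnorm
  have hx'' : x ∈ ((Subgroup.normalizer (X : Set G) ⊓
      ((S : Subgroup G) ⊓ Subgroup.normalizer (X : Set G)) ⊔
      Subgroup.centralizer (X : Set G) : Subgroup G) : Set G) := hx'
  rw [hset, Set.mem_mul] at hx''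
  obtain ⟨σ, hσ, c, hc, rfl⟩ := hx''
  exact ⟨σ, (Subgroup.mem_inf.mp hσ).2, c, hc, rfl⟩

/-- Transport of automorphisms: a subgroup of `S` (inside `G`) versus the corresponding
subgroup of the type `↥S`. -/
theorem exists_odd_aut_subgroupOf {S X : Subgroup G} (hXS : X ≤ S)
    (h : ¬ IsPGroup 2 (MulAut X)) :
    ∃ α : MulAut (X.subgroupOf S), Odd (orderOf α) ∧ α ≠ 1 := by
  obtain ⟨α, hodd, hne⟩ := exists_odd_of_not_isPGroup h
  let e : X.subgroupOf S ≃* X := Subgroup.subgroupOfEquivOfLe hXS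
  refine ⟨MulAut.congr e.symm α, ?_, ?_⟩
  · rw [MulEquiv.orderOf_eq]; exact hodd
  · intro h1
    apply hne
    have : MulAut.congr e.symm α = MulAut.congr e.symm 1 := by rw [h1, map_one]
    exact (MulAut.congr e.symm).injective this

end Amb

section WRsec

variable {G : Type*} [Group G] [Finite G] (S : Sylow 2 G) {n : ℕ}
  {x y z : ↥(S : Subgroup G)} (hw : WR ↥(S : Subgroup G) n x y z)

/-- The abelian subgroup of index 2, inside `G`. -/
def Ag : Subgroup G := hw.A.map (S : Subgroup G).subtype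

/-- The subgroups `V_d`, inside `G`. -/
def Vg (d : ZMod (2 ^ n)) : Subgroup G := (Vd hw d).map (S : Subgroup G).subtype

/-- The centre of `S`, inside `G`. -/
def Dg : Subgroup G := (Subgroup.center ↥(S : Subgroup G)).map (S : Subgroup G).subtype

theorem Ag_le : Ag S hw ≤ (S : Subgroup G) := Subgroup.map_subtype_le _

theorem Vg_le (d : ZMod (2 ^ n)) : Vg S hw d ≤ (S : Subgroup G) := Subgroup.map_subtype_le _

theorem coe_mem_Ag (t : ↥(S : Subgroup G)) : (t : G) ∈ Ag S hw ↔ t ∈ hw.A :=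
  mem_map_subtype_iff _ t

theorem coe_mem_Vg (d : ZMod (2 ^ n)) (t : ↥(S : Subgroup G)) :
    (t : G) ∈ Vg S hw d ↔ t ∈ Vd hw d :=
  mem_map_subtype_iff _ t

include hw in
theorem two_ne_zero_zmod : (2 : ZMod (2 ^ n)) ≠ 0 := by
  intro h
  have h1 : (2 : ZMod (2 ^ n)) * 1 = 0 := by rw [mul_one]; exact h
  rcases (two_mul_eq_zero_iff hw.n1 1).1 h1 with h2 | h2
  · exact hw.one_ne_zero' h2
  · have he : Even (1 : ZMod (2 ^ n)) := by rw [h2]; exact even_hh hw.hn
    exact not_even_and_odd hw.n1 1 ⟨he, odd_one⟩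

/-- Centric subgroups of `S` with an automorphism group that is not a 2-group. -/
theorem centric_G (X : Subgroup G) (hXS : X ≤ (S : Subgroup G))
    (hcen : (S : Subgroup G) ⊓ Subgroup.centralizer (X : Set G) ≤ X)
    (hp : ¬ IsPGroup 2 (MulAut X)) : X = Ag S hw ∨ ∃ r, X = Vg S hw (r + r) := by
  obtain ⟨α, hodd, hne⟩ := exists_odd_aut_subgroupOf hXS hp
  have hC' : Subgroup.centralizer ((X.subgroupOf (S : Subgroup G) :
      Subgroup ↥(S : Subgroup G)) : Set ↥(S : Subgroup G)) ≤ X.subgroupOf (S : Subgroup G) := by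
    intro g hg
    rw [Subgroup.mem_subgroupOf]
    apply hcen
    refine ⟨g.2, ?_⟩
    show (g : G) ∈ Subgroup.centralizer (X : Set G)
    rw [Subgroup.mem_centralizer_iff]
    intro h hh
    have := Subgroup.mem_centralizer_iff.1 hg ⟨h, hXS hh⟩ (by
      show (⟨h, hXS hh⟩ : ↥(S : Subgroup G)) ∈ X.subgroupOf (S : Subgroup G)
      rw [Subgroup.mem_subgroupOf]; exact hh)
    exact congrArg Subtype.val this
  have hmap : (X.subgroupOf (S : Subgroup G)).map (S : Subgroup G).subtype = X :=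
    Subgroup.map_subgroupOf_eq_of_le hXS
  rcases centric_classify hw _ hC' α (orderOf α) hodd (pow_orderOf_eq_one α) hne with
    h | ⟨d, ⟨r, rfl⟩, h⟩
  · left
    rw [← hmap, h]; rfl
  · right
    refine ⟨r, ?_⟩
    rw [← hmap, h]; rfl

/-- Alperin's conjugation family for a wreathed Sylow 2-subgroup. -/
def Fam : Set (Subgroup G) :=
  {T | T = (S : Subgroup G) ∨ T = Ag S hw ∨ ∃ r, T = Vg S hw (r + r)}

theorem freach (A : Set G) (g : G) (hA : A ⊆ (S : Subgroup G)) (hAg : cr g A ⊆ (S : Subgroup G)) :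
    FReach (Fam S hw) A g := by
  revert A g
  apply FusionRel.centric_induction S (FReach.fusionRel _)
    (fun A g g' h hag => FReach.congr A g g' h hag)
  intro X hXS hfn hcen _ x hx
  by_cases hp : IsPGroup 2 (MulAut X)
  · obtain ⟨σ, hσ, c, hc, rfl⟩ := normalizer_decomp_of_isPGroup S X hfn hp x hx
    refine ⟨σ * 1, FChain.cons (X : Set G) (S : Subgroup G) σ 1 (Or.inl rfl)
      (Subgroup.le_normalizer hσ.1) hXS (FChain.nil _), ?_⟩
    intro a ha
    have hb : σ⁻¹ * a * σ ∈ X := (Subgroup.mem_normalizer_iff''.1 hσ.2 a).1 ha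
    have hcb := Subgroup.mem_centralizer_iff.1 hc _ hb
    calc (σ * 1)⁻¹ * a * (σ * 1) = σ⁻¹ * a * σ := by rw [mul_one]
      _ = c⁻¹ * (c * (σ⁻¹ * a * σ)) := by group
      _ = c⁻¹ * ((σ⁻¹ * a * σ) * c) := by rw [hcb]
      _ = (σ * c)⁻¹ * a * (σ * c) := by group
  · have hmem : X ∈ Fam S hw := by
      rcases centric_G S hw X hXS hcen hp with h | ⟨r, h⟩
      · exact Or.inr (Or.inl h)
      · exact Or.inr (Or.inr ⟨r, h⟩)
    refine ⟨x * 1, FChain.cons (X : Set G) X x 1 hmem hx subset_rfl (FChain.nil _), ?_⟩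
    intro a _
    rw [mul_one]

include hw in
/-- `N_G(S) = S C_G(S)`. -/
theorem normalizer_S_decomp (g : G)
    (hg : g ∈ Subgroup.normalizer (((S : Subgroup G) : Subgroup G) : Set G)) :
    ∃ σ ∈ (S : Subgroup G), ∃ c ∈ Subgroup.centralizer (((S : Subgroup G) : Subgroup G) : Set G),
      g = σ * c := by
  have hp : IsPGroup 2 (MulAut (S : Subgroup G)) := by
    by_contra hp
    rcases centric_G S hw (S : Subgroup G) le_rfl inf_le_left hp with h | ⟨r, h⟩
    · have h1 : (z : G) ∈ Ag S hw := by rw [← h]; exact z.2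
      rw [coe_mem_Ag] at h1
      exact hw.z_not_mem h1
    · have h1 : ((a n x y 1 0 : ↥(S : Subgroup G)) : G) ∈ Vg S hw (r + r) := by
        rw [← h]; exact (a n x y 1 0).2
      rw [coe_mem_Vg, a_mem_Vd] at h1
      apply two_ne_zero_zmod S hw
      linear_combination h1
  obtain ⟨σ, hσ, c, hc, rfl⟩ := normalizer_decomp_of_isPGroup S (S : Subgroup G)
    (sylow_isSylowIn_normalizer S) hp g hg
  exact ⟨σ, hσ.1, c, hc, rfl⟩

/-- The invariance principle: a property of elements of `S` preserved by `S`, by `N_G(U)` on `U`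
and by the `N_G(V_d)` on `V_d` is preserved by all fusion in `S`. -/
theorem fusion_invariant (P : G → Prop)
    (hPS : ∀ σ ∈ (S : Subgroup G), ∀ a ∈ (S : Subgroup G), P a → P (σ⁻¹ * a * σ))
    (hPU : ∀ u ∈ Subgroup.normalizer ((Ag S hw : Subgroup G) : Set G), ∀ a ∈ Ag S hw,
      P a → P (u⁻¹ * a * u))
    (hPV : ∀ r, ∀ u ∈ Subgroup.normalizer ((Vg S hw (r + r) : Subgroup G) : Set G),
      ∀ a ∈ Vg S hw (r + r), P a → P (u⁻¹ * a * u))
    (a : G) (ha : a ∈ (S : Subgroup G)) (g : G) (hg : g⁻¹ * a * g ∈ (S : Subgroup G))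
    (hPa : P a) : P (g⁻¹ * a * g) := by
  have hfr := freach S hw {a} g (Set.singleton_subset_iff.2 ha) (by
    unfold cr
    rintro _ ⟨a', ha', rfl⟩
    rw [Set.mem_singleton_iff] at ha'
    subst ha'
    exact hg)
  obtain ⟨g', hch, hag⟩ := hfr
  rw [← hag a rfl]
  have key : ∀ (A : Set G) (g' : G), FChain (Fam S hw) A g' → ∀ a ∈ A, P a →
      P (g'⁻¹ * a * g') := by
    intro A g' hch
    induction hch with
    | nil A => intro a _ h; simpa using h
    | cons A T u g₁ hT hu hAT _ ih =>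
      intro a haA hPa
      have haT : a ∈ T := hAT haA
      have hstep : P (u⁻¹ * a * u) := by
        rcases hT with rfl | rfl | ⟨r, rfl⟩
        · obtain ⟨σ, hσ, c, hc, rfl⟩ := normalizer_S_decomp S hw u hu
          have hb : σ⁻¹ * a * σ ∈ (S : Subgroup G) :=
            Subgroup.mul_mem _ (Subgroup.mul_mem _ (Subgroup.inv_mem _ hσ) haT) hσ
          have hcb := Subgroup.mem_centralizer_iff.1 hc _ hb
          have e : (σ * c)⁻¹ * a * (σ * c) = σ⁻¹ * a * σ := by
            calc (σ * c)⁻¹ * a * (σ * c) = c⁻¹ * ((σ⁻¹ * a * σ) * c) := by group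
              _ = c⁻¹ * (c * (σ⁻¹ * a * σ)) := by rw [hcb]
              _ = σ⁻¹ * a * σ := by group
          rw [e]
          exact hPS σ hσ a haT hPa
        · exact hPU u hu a haT hPa
        · exact hPV r u hu a haT hPa
      have h2 := ih (u⁻¹ * a * u) ⟨a, haA, rfl⟩ hstep
      have e : (u * g₁)⁻¹ * a * (u * g₁) = g₁⁻¹ * (u⁻¹ * a * u) * g₁ := by group
      rw [e]; exact h2
  exact key {a} g' hch a rfl hPa

end WRsec

end Cfsg.Agent.Lib.Helper2.WRD
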