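import Mathlib
import Cfsg.Agent.Lib.Helper2.WRD
import Cfsg.Agent.Lib.Helper2.AutIndex
import Cfsg.Agent.Lib.Helper2.QuatAut
import Cfsg.Agent.Lib.Helper2.DihedralFour
import Cfsg.Agent.Lib.Lead.WR1198

set_option autoImplicit false

/-!
# Fusion in groups with a wreathed Sylow 2-subgroup: the local subgroups `N_G(U)` and `N_G(V)`
-/

namespace Cfsg.Agent.Lib.Helper2.WRE

open Cfsg Cfsg.Agent.Lib.Lead.QDArith Cfsg.Agent.Lib.Lead.WRCore Cfsg.Agent.Lib.Helper7
open Cfsg.Agent.Lib.Helper2.WRA Cfsg.Agent.Lib.Helper2.WRB Cfsg.Agent.Lib.Helper2.WRC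
open Cfsg.Agent.Lib.Helper2.WRD Cfsg.Agent.Lib.Helper2.QDFusB Cfsg.Agent.Lib.Helper2.AutIndex
open Cfsg.Agent.Lib.Helper2.QuatAut Cfsg.Agent.Lib.Helper2.DihedralFour

local notation:max Q "⋏" g:max => Subgroup.map (MulEquiv.toMonoidHom (MulAut.conj g)) Q

section Amb

variable {G : Type*} [Group G]

/-- For `K ≤ L` and `H ⊴ L`, `|K : K ∩ H|` divides `|L : H|`. -/
theorem relIndex_dvd_relIndex_of_normal {H K L : Subgroup G} (hKL : K ≤ L) (hHL : H ≤ L)
    (hnorm : L ≤ Subgroup.normalizer (H : Set G)) : H.relIndex K ∣ H.relIndex L := by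
  haveI : (H.subgroupOf L).Normal :=
    (Subgroup.normal_subgroupOf_iff_le_normalizer hHL).mpr hnorm
  have h1 : (H.subgroupOf L).relIndex (K.subgroupOf L) = H.relIndex K :=
    Subgroup.relIndex_subgroupOf hKL
  rw [← h1, ← Subgroup.relIndex_sup_right]
  have h2 := Subgroup.relIndex_mul_relIndex (H.subgroupOf L) (K.subgroupOf L ⊔ H.subgroupOf L) ⊤
    le_sup_right le_top
  rw [Subgroup.relIndex_top_right, Subgroup.relIndex_top_right] at h2
  have h3 : (H.subgroupOf L).index = H.relIndex L := rfl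
  rw [← h3, ← h2]
  exact dvd_mul_right _ _

/-- An element of odd order normalizing an abelian 2-subgroup `X` and centralizing its involutions
centralizes `X`. -/
theorem odd_centralizes_of_fix_invol (X : Subgroup G)
    (hcomm : ∀ a ∈ X, ∀ b ∈ X, a * b = b * a) (h2 : ∀ g ∈ X, ∃ e : ℕ, g ^ (2 ^ e) = 1)
    (d : G) (hd : d ∈ Subgroup.normalizer (X : Set G)) (hodd : Odd (orderOf d))
    (hfix : ∀ g ∈ X, g * g = 1 → d * g * d⁻¹ = g) :
    d ∈ Subgroup.centralizer (X : Set G) := by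
  set α : MulAut X := X.normalizerMonoidHom ⟨d, hd⟩ with hα
  have hαk : α ^ orderOf d = 1 := by
    rw [hα, ← map_pow]
    have : (⟨d, hd⟩ : ↥(Subgroup.normalizer (X : Set G))) ^ orderOf d = 1 := by
      apply Subtype.ext
      rw [Subgroup.coe_pow]
      exact pow_orderOf_eq_one d
    rw [this, map_one]
  have key : ∀ g : X, α g = g := by
    intro g
    obtain ⟨e, he⟩ := h2 g g.2
    have he' : g ^ (2 ^ e) = 1 := by
      apply Subtype.ext
      rw [Subgroup.coe_pow]; exact he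
    apply aut_fix_of_fix_invol α (orderOf d) hodd hαk ⊤ (fun _ _ => Subgroup.mem_top _) ?_ ?_
      e g (Subgroup.mem_top _) he'
    · intro u _ v _
      apply Subtype.ext
      rw [Subgroup.coe_mul, Subgroup.coe_mul]
      exact hcomm u u.2 v v.2
    · intro u _ hu
      apply Subtype.ext
      rw [hα, Subgroup.normalizerMonoidHom_apply_apply_coe]
      apply hfix u u.2
      have := congrArg Subtype.val hu
      rwa [Subgroup.coe_mul] at this
  rw [Subgroup.mem_centralizer_iff]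
  intro g hg
  have h1 := congrArg Subtype.val (key ⟨g, hg⟩)
  rw [hα, Subgroup.normalizerMonoidHom_apply_apply_coe] at h1
  simp only [] at h1
  calc g * d = (d * g * d⁻¹) * d := by rw [h1]
    _ = d * g := by group

end Amb

section WRsec

variable {G : Type*} [Group G] [Finite G] (S : Sylow 2 G) {n : ℕ}
  {x y z : ↥(S : Subgroup G)} (hw : WR ↥(S : Subgroup G) n x y z)

/-- `Ω₁(U)`, inside `G`. -/
def Tg : Subgroup G := hw.T.map (S : Subgroup G).subtype

theorem isKleinFour_Tg : IsKleinFour ↥(Tg S hw) := by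
  haveI := hw.T_klein
  exact isKleinFour_map _ (Subgroup.subtype_injective _) hw.T

theorem coe_mem_Tg (t : ↥(S : Subgroup G)) : (t : G) ∈ Tg S hw ↔ t ∈ hw.T :=
  mem_map_subtype_iff _ t

theorem Tg_le_Ag : Tg S hw ≤ Ag S hw := Subgroup.map_mono hw.T_le_A

include hw in
theorem two_pow_of_mem {g : G} (hg : g ∈ (S : Subgroup G)) : ∃ e : ℕ, g ^ (2 ^ e) = 1 := by
  obtain ⟨e, he⟩ := exists_two_pow_eq_one hw (⟨g, hg⟩ : ↥(S : Subgroup G))
  refine ⟨e, ?_⟩
  have := congrArg Subtype.val he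
  simpa using this

theorem Ag_comm : ∀ u ∈ Ag S hw, ∀ v ∈ Ag S hw, u * v = v * u := by
  rintro _ ⟨u, ⟨i, j, rfl⟩, rfl⟩ _ ⟨v, ⟨k, l, rfl⟩, rfl⟩
  have := hw.a_comm i j k l
  exact congrArg Subtype.val this

/-- Elements of `U` of order at most 2 lie in `Ω₁(U)`. -/
theorem mem_Tg_of_sq {u : G} (hu : u ∈ Ag S hw) (h : u * u = 1) : u ∈ Tg S hw := by
  obtain ⟨u', ⟨i, j, rfl⟩, rfl⟩ := hu
  show ((a n x y i j : ↥(S : Subgroup G)) : G) ∈ Tg S hw
  rw [coe_mem_Tg]
  have h1 : a n x y i j * a n x y i j = 1 := Subtype.ext h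
  obtain ⟨hi, hj⟩ := (hw.a_mul_self_eq_one_iff i j).1 h1
  exact ⟨i, j, rfl, (two_mul_eq_zero_iff hw.n1 i).2 hi, (two_mul_eq_zero_iff hw.n1 j).2 hj⟩

theorem normalizer_Ag_le_normalizer_Tg :
    Subgroup.normalizer ((Ag S hw : Subgroup G) : Set G) ≤
      Subgroup.normalizer ((Tg S hw : Subgroup G) : Set G) := by
  intro u hu
  apply mem_normalizer_of_map_conj_le
  rintro _ ⟨t, ht, rfl⟩
  show u * t * u⁻¹ ∈ Tg S hw
  haveI := isKleinFour_Tg S hw
  apply mem_Tg_of_sq S hw ((Subgroup.mem_normalizer_iff.mp hu t).mp (Tg_le_Ag S hw ht))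
  have h1 : t * t = 1 := Cfsg.Agent.Lib.Helper2.FourGroup.mul_self_of_mem (Tg S hw) ht
  calc u * t * u⁻¹ * (u * t * u⁻¹) = u * (t * t) * u⁻¹ := by group
    _ = 1 := by rw [h1]; group

theorem S_le_normalizer_Ag :
    (S : Subgroup G) ≤ Subgroup.normalizer ((Ag S hw : Subgroup G) : Set G) := by
  intro σ hσ
  apply mem_normalizer_of_map_conj_le
  rintro _ ⟨_, ⟨u, hu, rfl⟩, rfl⟩
  haveI := hw.A_normal
  have := hw.A_normal.conj_mem u hu ⟨σ, hσ⟩
  exact ⟨_, this, rfl⟩

theorem xone_mem_Tg : ((a n x y (hh n) 0 : ↥(S : Subgroup G)) : G) ∈ Tg S hw := by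
  rw [coe_mem_Tg]
  exact ⟨_, _, rfl, two_hh hw.n1, by ring⟩

theorem tt_mem_Tg : ((a n x y (hh n) (hh n) : ↥(S : Subgroup G)) : G) ∈ Tg S hw := by
  rw [coe_mem_Tg]
  exact ⟨_, _, rfl, two_hh hw.n1, two_hh hw.n1⟩

/-- `C_S(Ω₁(U)) = U`. -/
theorem S_inf_centralizer_Tg_le :
    (S : Subgroup G) ⊓ Subgroup.centralizer ((Tg S hw : Subgroup G) : Set G) ≤ Ag S hw := by
  rintro σ ⟨hσS, hσC⟩
  have h1 := Subgroup.mem_centralizer_iff.1 hσC _ (xone_mem_Tg S hw)
  rcases hw.exists_rep (⟨σ, hσS⟩ : ↥(S : Subgroup G)) with ⟨i, j, h⟩ | ⟨i, j, h⟩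
  · have : σ = ((a n x y i j : ↥(S : Subgroup G)) : G) := congrArg Subtype.val h
    rw [this, coe_mem_Ag]; exact hw.a_mem i j
  · exfalso
    have hσ : σ = ((b n x y z i j : ↥(S : Subgroup G)) : G) := congrArg Subtype.val h
    rw [hσ] at h1
    have h2 : a n x y (hh n) 0 * b n x y z i j = b n x y z i j * a n x y (hh n) 0 :=
      Subtype.ext h1
    rw [hw.a_mul_b, hw.b_mul_a] at h2
    have h3 := (hw.b_inj h2).1
    exact hh_ne_zero hw.n1 (by linear_combination h3)

/-- `N_G(U) ∩ C_G(Ω₁(U)) = C_G(U)`. -/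
theorem normalizer_inf_centralizer_Tg_le :
    Subgroup.normalizer ((Ag S hw : Subgroup G) : Set G) ⊓
      Subgroup.centralizer ((Tg S hw : Subgroup G) : Set G) ≤
      Subgroup.centralizer ((Ag S hw : Subgroup G) : Set G) := by
  set N := Subgroup.normalizer ((Ag S hw : Subgroup G) : Set G) with hN
  set C := Subgroup.centralizer ((Ag S hw : Subgroup G) : Set G) with hC
  set CT := Subgroup.centralizer ((Tg S hw : Subgroup G) : Set G) with hCT
  have hsyl : IsSylowIn 2 (S : Subgroup G) N := isSylowIn_of_sylow S (S_le_normalizer_Ag S hw)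
  have hCN : C ≤ N := Subgroup.centralizer_le_normalizer _
  have hCCT : C ≤ CT := Subgroup.centralizer_le (Tg_le_Ag S hw)
  have hNT : N ≤ Subgroup.normalizer ((Tg S hw : Subgroup G) : Set G) :=
    normalizer_Ag_le_normalizer_Tg S hw
  have hpow : ∀ d ∈ N ⊓ CT, ∃ k : ℕ, d ^ (2 ^ k) ∈ C := by
    rintro d ⟨hdN, hdC⟩
    obtain ⟨k, m, hm, hkm⟩ := Nat.exists_eq_two_pow_mul_odd (orderOf_pos d).ne'
    refine ⟨k, ?_⟩
    apply odd_centralizes_of_fix_invol (Ag S hw) (Ag_comm S hw)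
      (fun g hg => two_pow_of_mem S hw (Ag_le S hw hg)) _ (N.pow_mem hdN _)
    · have h1 : (d ^ 2 ^ k) ^ m = 1 := by rw [← pow_mul, ← hkm, pow_orderOf_eq_one]
      exact Odd.of_dvd_nat hm (orderOf_dvd_of_pow_eq_one h1)
    · intro g hg hgg
      have h1 := Subgroup.mem_centralizer_iff.1 (CT.pow_mem hdC (2 ^ k)) g
        (mem_Tg_of_sq S hw hg hgg)
      rw [← h1]; group
  have hle := le_sup_inf_sylowIn hsyl (inf_le_left : N ⊓ CT ≤ N)
    (le_trans (le_inf Subgroup.le_normalizer (hNT.trans (normalizer_le_normalizer_centralizer _)))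
      Subgroup.inf_normalizer_le_normalizer_inf)
    (le_inf hCN hCCT) (inf_le_left.trans (normalizer_le_normalizer_centralizer _)) hpow
  refine hle.trans (sup_le le_rfl ?_)
  intro σ hσ
  have h1 : σ ∈ Ag S hw := S_inf_centralizer_Tg_le S hw ⟨hσ.2, hσ.1.2⟩
  rw [hC, Subgroup.mem_centralizer_iff]
  intro u hu
  exact Ag_comm S hw u hu σ h1

theorem z_mem_normalizer_Ag :
    (z : G) ∈ Subgroup.normalizer ((Ag S hw : Subgroup G) : Set G) :=
  S_le_normalizer_Ag S hw z.2

theorem z_not_mem_centralizer_Ag :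
    (z : G) ∉ Subgroup.centralizer ((Ag S hw : Subgroup G) : Set G) := by
  intro h
  have h1 : (z : G) ∈ Ag S hw := by
    apply S_inf_centralizer_Tg_le S hw
    exact ⟨z.2, Subgroup.centralizer_le (Tg_le_Ag S hw) h⟩
  rw [coe_mem_Ag] at h1
  exact hw.z_not_mem h1

/-- `|N_G(U) : C_G(U)|` divides 6. -/
theorem relIndex_Ag_dvd_six :
    (Subgroup.centralizer ((Ag S hw : Subgroup G) : Set G)).relIndex
      (Subgroup.normalizer ((Ag S hw : Subgroup G) : Set G)) ∣ 6 := by
  haveI := isKleinFour_Tg S hw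
  set N := Subgroup.normalizer ((Ag S hw : Subgroup G) : Set G) with hN
  set C := Subgroup.centralizer ((Ag S hw : Subgroup G) : Set G) with hC
  set CT := Subgroup.centralizer ((Tg S hw : Subgroup G) : Set G) with hCT
  have h1 : C ⊓ N = CT ⊓ N := by
    apply le_antisymm
    · exact inf_le_inf_right _ (Subgroup.centralizer_le (Tg_le_Ag S hw))
    · refine le_inf ?_ inf_le_right
      rw [inf_comm]
      exact normalizer_inf_centralizer_Tg_le S hw
  have h2 : C.relIndex N = CT.relIndex N := by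
    rw [← Subgroup.inf_relIndex_right C N, h1, Subgroup.inf_relIndex_right]
  rw [h2]
  exact (relIndex_dvd_relIndex_of_normal (normalizer_Ag_le_normalizer_Tg S hw)
    (Subgroup.centralizer_le_normalizer _) (normalizer_le_normalizer_centralizer _)).trans
    (four_relIndex_dvd_six (Tg S hw))

/-- `|N_G(U) : C_G(U)| ∈ {2, 6}`. -/
theorem relIndex_Ag_cases :
    (Subgroup.centralizer ((Ag S hw : Subgroup G) : Set G)).relIndex
      (Subgroup.normalizer ((Ag S hw : Subgroup G) : Set G)) = 2 ∨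
    (Subgroup.centralizer ((Ag S hw : Subgroup G) : Set G)).relIndex
      (Subgroup.normalizer ((Ag S hw : Subgroup G) : Set G)) = 6 := by
  apply relIndex_two_or_six (Subgroup.centralizer_le_normalizer _)
    (normalizer_le_normalizer_centralizer _) (relIndex_Ag_dvd_six S hw) (z : G)
    (z_mem_normalizer_Ag S hw) (z_not_mem_centralizer_Ag S hw) 1
  have := hw.z_sq
  rw [pow_one, pow_two]
  exact congrArg Subtype.val this

/-- If `|N_G(U) : C_G(U)| = 2` then `N_G(U) = S C_G(U)`. -/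
theorem normalizer_Ag_decomp
    (h₁ : (Subgroup.centralizer ((Ag S hw : Subgroup G) : Set G)).relIndex
      (Subgroup.normalizer ((Ag S hw : Subgroup G) : Set G)) = 2)
    (u : G) (hu : u ∈ Subgroup.normalizer ((Ag S hw : Subgroup G) : Set G)) :
    ∃ σ ∈ (S : Subgroup G), ∃ c ∈ Subgroup.centralizer ((Ag S hw : Subgroup G) : Set G),
      u = σ * c := by
  by_cases huC : u ∈ Subgroup.centralizer ((Ag S hw : Subgroup G) : Set G)
  · exact ⟨1, Subgroup.one_mem _, u, huC, (one_mul u).symm⟩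
  · have h2 := Subgroup.mul_mem_iff_of_index_two h₁
      (a := (⟨(z : G)⁻¹, Subgroup.inv_mem _ (z_mem_normalizer_Ag S hw)⟩ :
        ↥(Subgroup.normalizer ((Ag S hw : Subgroup G) : Set G))))
      (b := ⟨u, hu⟩)
    have h3 : (z : G)⁻¹ * u ∈ Subgroup.centralizer ((Ag S hw : Subgroup G) : Set G) := by
      have : (⟨(z : G)⁻¹, Subgroup.inv_mem _ (z_mem_normalizer_Ag S hw)⟩ :
          ↥(Subgroup.normalizer ((Ag S hw : Subgroup G) : Set G))) * ⟨u, hu⟩ ∈
          (Subgroup.centralizer ((Ag S hw : Subgroup G) : Set G)).subgroupOf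
            (Subgroup.normalizer ((Ag S hw : Subgroup G) : Set G)) := by
        rw [h2]
        constructor
        · intro h
          exfalso
          rw [Subgroup.mem_subgroupOf] at h
          exact z_not_mem_centralizer_Ag S hw (by simpa using Subgroup.inv_mem _ h)
        · intro h
          exact absurd h huC
      exact this
    exact ⟨(z : G), z.2, _, h3, by group⟩

/-- If `|N_G(U) : C_G(U)| = 6`, some element of odd order of `N_G(U)` fixes no involution of `U`. -/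
theorem exists_odd_Ag
    (h₁ : (Subgroup.centralizer ((Ag S hw : Subgroup G) : Set G)).relIndex
      (Subgroup.normalizer ((Ag S hw : Subgroup G) : Set G)) = 6) :
    ∃ θ ∈ Subgroup.normalizer ((Ag S hw : Subgroup G) : Set G), Odd (orderOf θ) ∧
      ∀ u ∈ Ag S hw, θ * u * θ⁻¹ = u → u = 1 := by
  haveI := isKleinFour_Tg S hw
  obtain ⟨θ, hθN, hodd, hθC⟩ := exists_odd_not_mem (Subgroup.centralizer_le_normalizer _)
    (normalizer_le_normalizer_centralizer (Ag S hw)) (by rw [h₁]; norm_num)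
  refine ⟨θ, hθN, hodd, ?_⟩
  have hθT : θ ∉ Subgroup.centralizer ((Tg S hw : Subgroup G) : Set G) := fun h =>
    hθC (normalizer_inf_centralizer_Tg_le S hw ⟨hθN, h⟩)
  have hθNT := normalizer_Ag_le_normalizer_Tg S hw hθN
  intro u hu hfix
  by_contra hu1
  -- some power of `u` is an involution
  obtain ⟨e, he⟩ := two_pow_of_mem S hw (Ag_le S hw hu)
  have hex : ∃ e : ℕ, u ^ (2 ^ e) ≠ 1 ∧ u ^ (2 ^ (e + 1)) = 1 := by
    induction e with
    | zero => exfalso; rw [pow_zero, pow_one] at he; exact hu1 he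
    | succ e ih =>
      by_cases h : u ^ (2 ^ e) = 1
      · exact ih h
      · exact ⟨e, h, he⟩
  obtain ⟨e', hne, hsq⟩ := hex
  set v := u ^ (2 ^ e') with hv
  have hvA : v ∈ Ag S hw := Subgroup.pow_mem _ hu _
  have hvv : v * v = 1 := by rw [hv, ← pow_two, ← pow_mul, ← pow_succ]; exact hsq
  have hvT : v ∈ Tg S hw := mem_Tg_of_sq S hw hvA hvv
  have hvfix : θ * v * θ⁻¹ = v := by
    rw [hv, ← conj_pow, hfix]
  exact hθT (mem_centralizer_of_odd_fix (Tg S hw) hθNT hodd hvT hne hvfix)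

end WRsec

end Cfsg.Agent.Lib.Helper2.WRE
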