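import Mathlib
import Cfsg.Agent.Lib.Helper2.WRE
import Cfsg.Agent.Lib.Helper2.DihedralSub

set_option autoImplicit false

/-!
# Fusion in groups with a wreathed Sylow 2-subgroup: the subgroups `V = Q Z(S)`
-/

namespace Cfsg.Agent.Lib.Helper2.WRF

open Cfsg Cfsg.Agent.Lib.Lead.QDArith Cfsg.Agent.Lib.Lead.WRCore Cfsg.Agent.Lib.Helper7
open Cfsg.Agent.Lib.Helper2.WRA Cfsg.Agent.Lib.Helper2.WRB Cfsg.Agent.Lib.Helper2.WRC
open Cfsg.Agent.Lib.Helper2.WRD Cfsg.Agent.Lib.Helper2.WRE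
open Cfsg.Agent.Lib.Helper2.QDFusB Cfsg.Agent.Lib.Helper2.AutIndex
open Cfsg.Agent.Lib.Helper2.QuatAut Cfsg.Agent.Lib.Helper2.DihedralFour

local notation:max Q "⋏" g:max => Subgroup.map (MulEquiv.toMonoidHom (MulAut.conj g)) Q

section WRsec

variable {G : Type*} [Group G] [Finite G] (S : Sylow 2 G) {n : ℕ}
  {x y z : ↥(S : Subgroup G)} (hw : WR ↥(S : Subgroup G) n x y z)

/-- The quaternion subgroups `Q_d`, inside `G`. -/
def Qg (d : ZMod (2 ^ n)) : Subgroup G := (Qd hw d).map (S : Subgroup G).subtype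

theorem Qg_le (d : ZMod (2 ^ n)) : Qg S hw d ≤ (S : Subgroup G) := Subgroup.map_subtype_le _

theorem coe_mem_Qg (d : ZMod (2 ^ n)) (t : ↥(S : Subgroup G)) :
    (t : G) ∈ Qg S hw d ↔ t ∈ Qd hw d :=
  mem_map_subtype_iff _ t

theorem coe_mem_Dg (t : ↥(S : Subgroup G)) :
    (t : G) ∈ Dg S ↔ t ∈ Subgroup.center ↥(S : Subgroup G) :=
  mem_map_subtype_iff _ t

theorem Dg_le : Dg S ≤ (S : Subgroup G) := Subgroup.map_subtype_le _

theorem Vg_eq_sup (r : ZMod (2 ^ n)) : Vg S hw (r + r) = Qg S hw (r + r) ⊔ Dg S := by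
  unfold Vg Qg Dg
  rw [Vd_eq_sup hw r, Subgroup.map_sup]

theorem Qg_le_Vg (d : ZMod (2 ^ n)) : Qg S hw d ≤ Vg S hw d :=
  Subgroup.map_mono inf_le_right

theorem Dg_le_Vg (d : ZMod (2 ^ n)) : Dg S ≤ Vg S hw d :=
  Subgroup.map_mono (center_le_Vd hw d)

/-- `S` centralizes `Z(S)`. -/
theorem S_le_centralizer_Dg : (S : Subgroup G) ≤ Subgroup.centralizer ((Dg S : Subgroup G) : Set G) := by
  intro σ hσ
  rw [Subgroup.mem_centralizer_iff]
  rintro _ ⟨c, hc, rfl⟩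
  have := Subgroup.mem_center_iff.1 hc ⟨σ, hσ⟩
  exact (congrArg Subtype.val this).symm

/-- Any quaternion subgroup `Q ≅ Q_8` of `S` has `Q Z(S) = V_d` with `d` even. -/
theorem quat_sup_Dg (Q : Subgroup G) (hQS : Q ≤ (S : Subgroup G)) (e : Q ≃* QuaternionGroup 2) :
    ∃ r : ZMod (2 ^ n), Q ⊔ Dg S = Vg S hw (r + r) := by
  have e' : ↥(Q.subgroupOf (S : Subgroup G)) ≃* QuaternionGroup 2 :=
    (Subgroup.subgroupOfEquivOfLe hQS).trans e
  obtain ⟨r, hr⟩ := quat_sup_center_eq_Vd hw (Q.subgroupOf (S : Subgroup G)) e'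
  refine ⟨r, ?_⟩
  unfold Vg Dg
  rw [← hr, Subgroup.map_sup, Subgroup.map_subgroupOf_eq_of_le hQS]

/-- `C_S(V_d) = Z(S)`. -/
theorem S_inf_centralizer_Vg_le (d : ZMod (2 ^ n)) :
    (S : Subgroup G) ⊓ Subgroup.centralizer ((Vg S hw d : Subgroup G) : Set G) ≤ Dg S := by
  rintro σ ⟨hσS, hσC⟩
  have h1 : (⟨σ, hσS⟩ : ↥(S : Subgroup G)) ∈
      Subgroup.centralizer ((Vd hw d : Subgroup ↥(S : Subgroup G)) : Set ↥(S : Subgroup G)) := by
    rw [Subgroup.mem_centralizer_iff]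
    intro v hv
    apply Subtype.ext
    exact Subgroup.mem_centralizer_iff.1 hσC (v : G) ((coe_mem_Vg S hw d v).2 hv)
  exact ⟨_, centralizer_Vd_le hw d h1, rfl⟩

include hw in
/-- The centralizer in `S` of a quaternion subgroup is `Z(S)`. -/
theorem S_inf_centralizer_quat_le (Q : Subgroup G) (hQS : Q ≤ (S : Subgroup G))
    (e : Q ≃* QuaternionGroup 2) :
    (S : Subgroup G) ⊓ Subgroup.centralizer (Q : Set G) ≤ Dg S := by
  obtain ⟨r, hr⟩ := quat_sup_Dg S hw Q hQS e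
  rintro σ ⟨hσS, hσC⟩
  apply S_inf_centralizer_Vg_le S hw (r + r)
  refine ⟨hσS, ?_⟩
  show σ ∈ Subgroup.centralizer ((Vg S hw (r + r) : Subgroup G) : Set G)
  rw [← hr, Subgroup.mem_centralizer_iff]
  intro v hv
  have hsup : Q ⊔ Dg S ≤ Subgroup.centralizer ({σ} : Set G) := by
    apply sup_le
    · intro q hq
      rw [Subgroup.mem_centralizer_singleton_iff]
      exact (Subgroup.mem_centralizer_iff.1 hσC q hq)
    · intro c hc
      rw [Subgroup.mem_centralizer_singleton_iff]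
      exact (Subgroup.mem_centralizer_iff.1 (S_le_centralizer_Dg S hσS) c hc)
  have := hsup hv
  rw [Subgroup.mem_centralizer_singleton_iff] at this
  exact this

/-- Conjugating `V_d` by `a(k,0)`. -/
theorem Vg_conj (d k : ZMod (2 ^ n)) :
    (Vg S hw d) ⋏ ((a n x y k 0 : ↥(S : Subgroup G)) : G) = Vg S hw (d + 2 * k) := by
  apply map_conj_of_subgroupOf (Vg_le S hw d) (Vg_le S hw _) (a n x y k 0)
  unfold Vg
  rw [subgroupOf_map_subtype_eq, subgroupOf_map_subtype_eq]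
  exact map_conj_Vd hw d k

/-- A `G`-conjugate of `V_d` (`d` even) inside `S` is some `V_{d'}` (`d'` even). -/
theorem Vg_conj_of_le (r : ZMod (2 ^ n)) (g : G)
    (hg : (Vg S hw (r + r)) ⋏ g ≤ (S : Subgroup G)) :
    ∃ r' : ZMod (2 ^ n), (Vg S hw (r + r)) ⋏ g = Vg S hw (r' + r') := by
  have hQg : (Qg S hw (r + r)) ⋏ g ≤ (S : Subgroup G) :=
    (Subgroup.map_mono (Qg_le_Vg S hw _)).trans hg
  have hDg : (Dg S) ⋏ g ≤ (S : Subgroup G) :=
    (Subgroup.map_mono (Dg_le_Vg S hw _)).trans hg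
  obtain ⟨e0⟩ := Qd_quat hw r
  have e1 : ↥((Qg S hw (r + r)) ⋏ g) ≃* QuaternionGroup 2 :=
    (((Qg S hw (r + r)).equivMapOfInjective _ (MulAut.conj g).injective).symm.trans
      ((Qd hw (r + r)).equivMapOfInjective _ (Subgroup.subtype_injective _)).symm).trans e0
  obtain ⟨r', hr'⟩ := quat_sup_Dg S hw _ hQg e1
  refine ⟨r', ?_⟩
  rw [← hr', Vg_eq_sup, Subgroup.map_sup]
  congr 1
  -- `Z(S)^g = Z(S)`
  apply Subgroup.eq_of_le_of_card_ge
  · refine le_trans ?_ (S_inf_centralizer_quat_le S hw _ hQg e1)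
    refine le_inf hDg ?_
    rintro _ ⟨c, hc, rfl⟩
    rw [Subgroup.mem_centralizer_iff]
    rintro _ ⟨q, hq, rfl⟩
    have h1 := Subgroup.mem_centralizer_iff.1 (S_le_centralizer_Dg S (Qg_le S hw _ hq)) c hc
    show g * q * g⁻¹ * (g * c * g⁻¹) = g * c * g⁻¹ * (g * q * g⁻¹)
    calc g * q * g⁻¹ * (g * c * g⁻¹) = g * (q * c) * g⁻¹ := by group
      _ = g * (c * q) * g⁻¹ := by rw [h1]
      _ = g * c * g⁻¹ * (g * q * g⁻¹) := by group
  · rw [Subgroup.card_map_of_injective (MulAut.conj g).injective]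

/-- `V_d` (`d` even) is fully normalized in `S`. -/
theorem Vg_fully_normalized (r : ZMod (2 ^ n)) :
    ¬ 2 ∣ ((S : Subgroup G) ⊓ Subgroup.normalizer ((Vg S hw (r + r) : Subgroup G) : Set G)).relIndex
      (Subgroup.normalizer ((Vg S hw (r + r) : Subgroup G) : Set G)) := by
  obtain ⟨g, hgS, hfn⟩ := exists_fully_normalized_conj S (Vg S hw (r + r)) (Vg_le S hw _)
  obtain ⟨r', hr'⟩ := Vg_conj_of_le S hw r g hgS
  have h1 := Vg_conj S hw (r + r) (r' - r)
  have h2 : r + r + 2 * (r' - r) = r' + r' := by ring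
  rw [h2] at h1
  rw [hr', ← h1, normalizer_map_conj] at hfn
  set s : G := ((a n x y (r' - r) 0 : ↥(S : Subgroup G)) : G) with hs
  have hsS : s ∈ (S : Subgroup G) := (a n x y (r' - r) 0).2
  have h3 : ((S : Subgroup G)) ⋏ s = (S : Subgroup G) :=
    (map_conj_eq_self_iff _ s).2 (Subgroup.le_normalizer hsS)
  have h4 : (S : Subgroup G) ⊓
      (Subgroup.normalizer ((Vg S hw (r + r) : Subgroup G) : Set G)) ⋏ s =
      ((S : Subgroup G) ⊓ Subgroup.normalizer ((Vg S hw (r + r) : Subgroup G) : Set G)) ⋏ s := by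
    rw [Subgroup.map_inf _ _ _ (MulAut.conj s).injective, h3]
  rw [h4, Subgroup.relIndex_map_map_of_injective _ _ (MulAut.conj s).injective] at hfn
  exact hfn

include hw in
theorem Dg_eq_zpowers :
    Dg S = Subgroup.zpowers ((a n x y 1 1 : ↥(S : Subgroup G)) : G) := by
  unfold Dg
  rw [hw.center_eq, MonoidHom.map_zpowers]
  rfl

/-- `N_G(V_d)` normalizes `Z(S) = Z(V_d)`. -/
theorem normalizer_Vg_le_normalizer_Dg (d : ZMod (2 ^ n)) :
    Subgroup.normalizer ((Vg S hw d : Subgroup G) : Set G) ≤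
      Subgroup.normalizer ((Dg S : Subgroup G) : Set G) := by
  intro u hu
  apply mem_normalizer_of_map_conj_le
  rintro _ ⟨c, hc, rfl⟩
  show u * c * u⁻¹ ∈ Dg S
  apply S_inf_centralizer_Vg_le S hw d
  have hcV : u * c * u⁻¹ ∈ Vg S hw d :=
    (Subgroup.mem_normalizer_iff.mp hu c).mp (Dg_le_Vg S hw d hc)
  refine ⟨Vg_le S hw d hcV, ?_⟩
  show u * c * u⁻¹ ∈ Subgroup.centralizer ((Vg S hw d : Subgroup G) : Set G)
  rw [Subgroup.mem_centralizer_iff]
  intro v hv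
  have hv' : u⁻¹ * v * u ∈ Vg S hw d := (Subgroup.mem_normalizer_iff''.mp hu v).mp hv
  have h1 := Subgroup.mem_centralizer_iff.1 (S_le_centralizer_Dg S (Vg_le S hw d hv')) c hc
  calc v * (u * c * u⁻¹) = u * ((u⁻¹ * v * u) * c) * u⁻¹ := by group
    _ = u * (c * (u⁻¹ * v * u)) * u⁻¹ := by rw [h1]
    _ = u * c * u⁻¹ * v := by group

/-- `N_G(V_d)` centralizes `Z(S)` (`d` even). -/
theorem normalizer_Vg_le_centralizer_Dg (r : ZMod (2 ^ n)) :
    Subgroup.normalizer ((Vg S hw (r + r) : Subgroup G) : Set G) ≤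
      Subgroup.centralizer ((Dg S : Subgroup G) : Set G) := by
  set N := Subgroup.normalizer ((Vg S hw (r + r) : Subgroup G) : Set G) with hN
  set CD := Subgroup.centralizer ((Dg S : Subgroup G) : Set G) with hCD
  have hsyl : IsSylowIn 2 ((S : Subgroup G) ⊓ N) N :=
    ⟨inf_le_right, S.2.to_le inf_le_left, Vg_fully_normalized S hw r⟩
  have hND : N ≤ Subgroup.normalizer ((Dg S : Subgroup G) : Set G) :=
    normalizer_Vg_le_normalizer_Dg S hw _
  have hcyc : IsCyclic ↥(Dg S) := by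
    rw [Dg_eq_zpowers S hw]; infer_instance
  have h2 : IsPGroup 2 ↥(Dg S) := S.2.to_le (Dg_le S)
  have hpow : ∀ d ∈ N, ∃ k : ℕ, d ^ (2 ^ k) ∈ N ⊓ CD := by
    intro d hd
    obtain ⟨k, m, hm, hkm⟩ := Nat.exists_eq_two_pow_mul_odd (orderOf_pos d).ne'
    refine ⟨k, N.pow_mem hd _, ?_⟩
    apply Cfsg.Agent.Lib.Helper2.DihedralSub.centralizes_of_isCyclic_two_group (Dg S) hcyc h2 _
      (hND (N.pow_mem hd _))
    have h1 : (d ^ 2 ^ k) ^ m = 1 := by rw [← pow_mul, ← hkm, pow_orderOf_eq_one]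
    exact Odd.of_dvd_nat hm (orderOf_dvd_of_pow_eq_one h1)
  have hle := le_sup_inf_sylowIn hsyl (le_refl N) Subgroup.le_normalizer
    (inf_le_left : N ⊓ CD ≤ N)
    (le_trans (le_inf Subgroup.le_normalizer (hND.trans (normalizer_le_normalizer_centralizer _)))
      Subgroup.inf_normalizer_le_normalizer_inf) hpow
  refine hle.trans (sup_le inf_le_right ?_)
  exact (inf_le_right.trans inf_le_left).trans (S_le_centralizer_Dg S)

end WRsec

section Ssec

variable {S : Type*} [Group S] [Finite S] {n : ℕ} {x y z : S} (hw : WR S n x y z)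

/-- Elements of `Q_d`: trivial, the central involution, or non-central square roots of it. -/
theorem Qd_cases (r : ZMod (2 ^ n)) (v : S) (hv : v ∈ Qd hw (r + r)) :
    v = 1 ∨ v = a n x y (hh n) (hh n) ∨
      (v * v = a n x y (hh n) (hh n) ∧ v ∉ Subgroup.center S) := by
  have h2h := two_hh (n := n) hw.n1
  rcases hw.exists_rep v with ⟨i, j, rfl⟩ | ⟨i, j, rfl⟩
  · have h1 := (a_mem_Y_iff hw i j).1 hv.1
    have h2 := (a_mem_Vd hw _ i j).1 hv.2
    have hj : j = -i := by linear_combination h1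
    subst hj
    have h4 : (2 : ZMod (2 ^ n)) * (2 * i) = 0 := by linear_combination h2
    rcases (two_mul_eq_zero_iff hw.n1 _).1 h4 with h3 | h3
    · rcases (two_mul_eq_zero_iff hw.n1 _).1 h3 with h5 | h5
      · left; rw [h5, neg_zero, hw.a_zero]
      · right; left
        have : -hh n = hh n := by linear_combination -h2h
        rw [h5, this]
    · right; right
      refine ⟨?_, ?_⟩
      · rw [hw.a_sq]
        have e1 : 2 * -i = hh n := by linear_combination -h3 - h2h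
        rw [h3, e1]
      · intro hc
        obtain ⟨k, hk⟩ := (hw.mem_center_iff _).1 hc
        obtain ⟨h6, h7⟩ := hw.a_inj hk
        apply hh_ne_zero hw.n1
        linear_combination (-1) * h3 + h6 - h7
  · have h1 := (b_mem_Y_iff hw i j).1 hv.1
    right; right
    refine ⟨by rw [hw.b_sq, h1], ?_⟩
    intro hc
    obtain ⟨k, hk⟩ := (hw.mem_center_iff _).1 hc
    exact hw.b_ne_a _ _ _ _ hk

theorem mem_Qd_of_sq (r : ZMod (2 ^ n)) (v : S) (hv : v ∈ Vd hw (r + r))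
    (hsq : v * v = a n x y (hh n) (hh n)) (hnc : v ∉ Subgroup.center S) :
    v ∈ Qd hw (r + r) := by
  have h2h := two_hh (n := n) hw.n1
  refine ⟨?_, hv⟩
  rcases hw.exists_rep v with ⟨i, j, rfl⟩ | ⟨i, j, rfl⟩
  · apply (a_mem_Y_iff hw i j).2
    have h2 := (a_mem_Vd hw _ i j).1 hv
    rw [hw.a_sq] at hsq
    obtain ⟨h3, h4⟩ := hw.a_inj hsq
    rcases (two_mul_eq_zero_iff hw.n1 _).1 h2 with h5 | h5
    · exfalso
      apply hnc
      have : i = j := by linear_combination h5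
      rw [this]; exact hw.diag_mem_center j
    · linear_combination h5 + h4 + h2h
  · apply (b_mem_Y_iff hw i j).2
    rw [hw.b_sq] at hsq
    exact (hw.a_inj hsq).1

theorem tt_mem_Qd (d : ZMod (2 ^ n)) : a n x y (hh n) (hh n) ∈ Qd hw d := by
  have h2h := two_hh (n := n) hw.n1
  exact ⟨hw.a_mem_Y (by linear_combination h2h), (a_mem_Vd hw d _ _).2 (by ring)⟩

end Ssec

section WRsec2

variable {G : Type*} [Group G] [Finite G] (S : Sylow 2 G) {n : ℕ}
  {x y z : ↥(S : Subgroup G)} (hw : WR ↥(S : Subgroup G) n x y z)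

include hw in
theorem tt_mem_Dg : ((a n x y (hh n) (hh n) : ↥(S : Subgroup G)) : G) ∈ Dg S :=
  (coe_mem_Dg S _).2 (hw.diag_mem_center _)

/-- `N_G(V_d)` normalizes `Q_d` (`d` even). -/
theorem normalizer_Vg_le_normalizer_Qg (r : ZMod (2 ^ n)) :
    Subgroup.normalizer ((Vg S hw (r + r) : Subgroup G) : Set G) ≤
      Subgroup.normalizer ((Qg S hw (r + r) : Subgroup G) : Set G) := by
  intro u hu
  apply mem_normalizer_of_map_conj_le
  rintro _ ⟨_, ⟨v, hv, rfl⟩, rfl⟩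
  show u * (v : G) * u⁻¹ ∈ Qg S hw (r + r)
  have huD := normalizer_Vg_le_centralizer_Dg S hw r hu
  have huND := normalizer_Vg_le_normalizer_Dg S hw (r + r) hu
  have htfix : u * ((a n x y (hh n) (hh n) : ↥(S : Subgroup G)) : G) * u⁻¹ =
      ((a n x y (hh n) (hh n) : ↥(S : Subgroup G)) : G) := by
    have := Subgroup.mem_centralizer_iff.1 huD _ (tt_mem_Dg S hw)
    rw [← this]; group
  have hvV : (v : G) ∈ Vg S hw (r + r) := (coe_mem_Vg S hw _ v).2 hv.2
  have hwV : u * (v : G) * u⁻¹ ∈ Vg S hw (r + r) :=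
    (Subgroup.mem_normalizer_iff.mp hu _).mp hvV
  have hwS : u * (v : G) * u⁻¹ ∈ (S : Subgroup G) := Vg_le S hw _ hwV
  rcases Qd_cases hw r v hv with h | h | ⟨h1, h2⟩
  · rw [h]; simp
  · rw [h, htfix, coe_mem_Qg]; exact tt_mem_Qd hw _
  · have e : u * (v : G) * u⁻¹ = ((⟨_, hwS⟩ : ↥(S : Subgroup G)) : G) := rfl
    rw [e, coe_mem_Qg]
    apply mem_Qd_of_sq hw r
    · rw [← coe_mem_Vg S hw]; exact hwV
    · apply Subtype.ext
      show u * (v : G) * u⁻¹ * (u * (v : G) * u⁻¹) = _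
      have h1' : (v : G) * (v : G) = ((a n x y (hh n) (hh n) : ↥(S : Subgroup G)) : G) :=
        congrArg Subtype.val h1
      calc u * (v : G) * u⁻¹ * (u * (v : G) * u⁻¹) = u * ((v : G) * (v : G)) * u⁻¹ := by group
        _ = _ := by rw [h1', htfix]
    · intro hc
      apply h2
      rw [← coe_mem_Dg S]
      have h3 : u * (v : G) * u⁻¹ ∈ Dg S := (coe_mem_Dg S ⟨_, hwS⟩).2 hc
      have h4 := (Subgroup.mem_normalizer_iff''.mp huND _).mp h3
      have e2 : u⁻¹ * (u * (v : G) * u⁻¹) * u = (v : G) := by group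
      rwa [e2] at h4

omit [Finite G] in
theorem mem_centralizer_sup {A B : Subgroup G} {c : G}
    (hA : c ∈ Subgroup.centralizer (A : Set G)) (hB : c ∈ Subgroup.centralizer (B : Set G)) :
    c ∈ Subgroup.centralizer ((A ⊔ B : Subgroup G) : Set G) := by
  have hsup : A ⊔ B ≤ Subgroup.centralizer ({c} : Set G) := by
    apply sup_le
    · intro q hq
      rw [Subgroup.mem_centralizer_singleton_iff]
      exact Subgroup.mem_centralizer_iff.1 hA q hq
    · intro q hq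
      rw [Subgroup.mem_centralizer_singleton_iff]
      exact Subgroup.mem_centralizer_iff.1 hB q hq
  rw [Subgroup.mem_centralizer_iff]
  intro v hv
  have := hsup hv
  rw [Subgroup.mem_centralizer_singleton_iff] at this
  exact this

theorem Dg_le_centralizer_Qg (d : ZMod (2 ^ n)) :
    Dg S ≤ Subgroup.centralizer ((Qg S hw d : Subgroup G) : Set G) := by
  intro c hc
  rw [Subgroup.mem_centralizer_iff]
  intro q hq
  exact (Subgroup.mem_centralizer_iff.1 (S_le_centralizer_Dg S (Qg_le S hw _ hq)) c hc).symm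

/-- `V C_G(V) = Q C_G(Q) ∩ N_G(V)`. -/
theorem QC_Vg_eq (r : ZMod (2 ^ n)) :
    QC (Vg S hw (r + r)) = QC (Qg S hw (r + r)) ⊓
      Subgroup.normalizer ((Vg S hw (r + r) : Subgroup G) : Set G) := by
  apply le_antisymm
  · apply le_inf
    · apply sup_le
      · rw [Vg_eq_sup]
        exact sup_le le_sup_left ((Dg_le_centralizer_Qg S hw _).trans le_sup_right)
      · exact le_trans (Subgroup.centralizer_le (Qg_le_Vg S hw _)) le_sup_right
    · exact QC_le_normalizer _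
  · rintro g ⟨hgQC, hgN⟩
    obtain ⟨q, hq, c, hc, rfl⟩ := (mem_QC_iff _ g).1 hgQC
    have hqV : q ∈ Vg S hw (r + r) := Qg_le_Vg S hw _ hq
    have hcN : c ∈ Subgroup.normalizer ((Vg S hw (r + r) : Subgroup G) : Set G) := by
      have : c = q⁻¹ * (q * c) := by group
      rw [this]
      exact Subgroup.mul_mem _ (Subgroup.inv_mem _ (Subgroup.le_normalizer hqV)) hgN
    have hcD := normalizer_Vg_le_centralizer_Dg S hw r hcN
    have hcV : c ∈ Subgroup.centralizer ((Vg S hw (r + r) : Subgroup G) : Set G) := by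
      rw [Vg_eq_sup]
      exact mem_centralizer_sup hc hcD
    exact (mem_QC_iff _ _).2 ⟨q, hqV, c, hcV, rfl⟩

theorem Qg_quat (r : ZMod (2 ^ n)) : Nonempty (↥(Qg S hw (r + r)) ≃* QuaternionGroup 2) := by
  obtain ⟨e0⟩ := Qd_quat hw r
  exact ⟨((Qd hw (r + r)).equivMapOfInjective _ (Subgroup.subtype_injective _)).symm.trans e0⟩

/-- `|N_G(V) : V C_G(V)|` divides 6. -/
theorem relIndex_Vg_dvd_six (r : ZMod (2 ^ n)) :
    (QC (Vg S hw (r + r))).relIndex
      (Subgroup.normalizer ((Vg S hw (r + r) : Subgroup G) : Set G)) ∣ 6 := by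
  obtain ⟨e1⟩ := Qg_quat S hw r
  rw [QC_Vg_eq, Subgroup.inf_relIndex_right]
  exact (relIndex_dvd_relIndex_of_normal (normalizer_Vg_le_normalizer_Qg S hw r)
    (QC_le_normalizer _) (normalizer_le_normalizer_QC _)).trans (quat_relIndex_dvd_six _ e1)

theorem coe_mem_normalizer_Vg (d : ZMod (2 ^ n)) (σ : ↥(S : Subgroup G))
    (hσ : σ ∈ Subgroup.normalizer ((Vd hw d : Subgroup ↥(S : Subgroup G)) : Set ↥(S : Subgroup G))) :
    (σ : G) ∈ Subgroup.normalizer ((Vg S hw d : Subgroup G) : Set G) := by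
  apply mem_normalizer_of_map_conj_le
  rintro _ ⟨_, ⟨v, hv, rfl⟩, rfl⟩
  show (σ : G) * (v : G) * (σ : G)⁻¹ ∈ Vg S hw d
  have := (Subgroup.mem_normalizer_iff.mp hσ v).mp hv
  exact (coe_mem_Vg S hw d _).2 this

/-- `S ∩ V C_G(V) = V`. -/
theorem S_inf_QC_Vg_le (d : ZMod (2 ^ n)) :
    (S : Subgroup G) ⊓ QC (Vg S hw d) ≤ Vg S hw d := by
  rintro g ⟨hgS, hgM⟩
  obtain ⟨v, hv, c, hc, rfl⟩ := (mem_QC_iff _ g).1 hgM
  have hcS : c ∈ (S : Subgroup G) := by
    have : c = v⁻¹ * (v * c) := by group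
    rw [this]
    exact Subgroup.mul_mem _ (Subgroup.inv_mem _ (Vg_le S hw d hv)) hgS
  have hcD : c ∈ Dg S := S_inf_centralizer_Vg_le S hw d ⟨hcS, hc⟩
  exact Subgroup.mul_mem _ hv (Dg_le_Vg S hw d hcD)

theorem tau_mem_normalizer_Vg (d : ZMod (2 ^ n)) :
    ((a n x y (qq n) 0 : ↥(S : Subgroup G)) : G) ∈
      Subgroup.normalizer ((Vg S hw d : Subgroup G) : Set G) := by
  apply coe_mem_normalizer_Vg
  rw [a_mem_normalizer_Vd_iff]
  have h2q := two_qq (n := n) hw.hn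
  have h2h := two_hh (n := n) hw.n1
  linear_combination 2 * h2q + h2h

theorem tau_not_mem_QC_Vg (d : ZMod (2 ^ n)) :
    ((a n x y (qq n) 0 : ↥(S : Subgroup G)) : G) ∉ QC (Vg S hw d) := by
  intro h
  have h1 := S_inf_QC_Vg_le S hw d ⟨(a n x y (qq n) 0 : ↥(S : Subgroup G)).2, h⟩
  rw [coe_mem_Vg] at h1
  exact qq_zero_not_mem_Vd hw d h1

/-- `|N_G(V) : V C_G(V)| ∈ {2, 6}`. -/
theorem relIndex_Vg_cases (r : ZMod (2 ^ n)) :
    (QC (Vg S hw (r + r))).relIndex
      (Subgroup.normalizer ((Vg S hw (r + r) : Subgroup G) : Set G)) = 2 ∨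
    (QC (Vg S hw (r + r))).relIndex
      (Subgroup.normalizer ((Vg S hw (r + r) : Subgroup G) : Set G)) = 6 := by
  obtain ⟨e, he⟩ := two_pow_of_mem S hw (a n x y (qq n) 0 : ↥(S : Subgroup G)).2
  exact relIndex_two_or_six (QC_le_normalizer _) (normalizer_le_normalizer_QC _)
    (relIndex_Vg_dvd_six S hw r) _ (tau_mem_normalizer_Vg S hw _) (tau_not_mem_QC_Vg S hw _) e he

/-- The index `|N_G(V) : V C_G(V)|` does not depend on the choice of `V`. -/
theorem relIndex_Vg_eq (r r' : ZMod (2 ^ n)) :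
    (QC (Vg S hw (r' + r'))).relIndex
      (Subgroup.normalizer ((Vg S hw (r' + r') : Subgroup G) : Set G)) =
    (QC (Vg S hw (r + r))).relIndex
      (Subgroup.normalizer ((Vg S hw (r + r) : Subgroup G) : Set G)) := by
  have h1 := Vg_conj S hw (r + r) (r' - r)
  have h2 : r + r + 2 * (r' - r) = r' + r' := by ring
  rw [h2] at h1
  rw [← h1]
  exact relIndex_conj_quat _ _

/-- If `|N_G(V) : V C_G(V)| = 2` then `N_G(V) = N_S(V) C_G(V)`. -/
theorem normalizer_Vg_decomp (r : ZMod (2 ^ n))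
    (h₂ : (QC (Vg S hw (r + r))).relIndex
      (Subgroup.normalizer ((Vg S hw (r + r) : Subgroup G) : Set G)) = 2)
    (u : G) (hu : u ∈ Subgroup.normalizer ((Vg S hw (r + r) : Subgroup G) : Set G)) :
    ∃ σ ∈ (S : Subgroup G) ⊓ Subgroup.normalizer ((Vg S hw (r + r) : Subgroup G) : Set G),
      ∃ c ∈ Subgroup.centralizer ((Vg S hw (r + r) : Subgroup G) : Set G), u = σ * c := by
  set N := Subgroup.normalizer ((Vg S hw (r + r) : Subgroup G) : Set G) with hN
  set τ : G := ((a n x y (qq n) 0 : ↥(S : Subgroup G)) : G) with hτ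
  have hτS : τ ∈ (S : Subgroup G) := (a n x y (qq n) 0 : ↥(S : Subgroup G)).2
  have hτN : τ ∈ N := tau_mem_normalizer_Vg S hw _
  have hτM : τ ∉ QC (Vg S hw (r + r)) := tau_not_mem_QC_Vg S hw _
  have key : ∀ m ∈ QC (Vg S hw (r + r)), ∀ σ₀ ∈ (S : Subgroup G) ⊓ N,
      ∃ σ ∈ (S : Subgroup G) ⊓ N,
      ∃ c ∈ Subgroup.centralizer ((Vg S hw (r + r) : Subgroup G) : Set G), σ₀ * m = σ * c := by
    intro m hm σ₀ hσ₀
    obtain ⟨v, hv, c, hc, rfl⟩ := (mem_QC_iff _ m).1 hm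
    refine ⟨σ₀ * v, Subgroup.mul_mem _ hσ₀ ⟨Vg_le S hw _ hv, Subgroup.le_normalizer hv⟩, c, hc, ?_⟩
    group
  by_cases huM : u ∈ QC (Vg S hw (r + r))
  · obtain ⟨σ, hσ, c, hc, h⟩ := key u huM 1 (Subgroup.one_mem _)
    exact ⟨σ, hσ, c, hc, by rw [← h, one_mul]⟩
  · have h2 := Subgroup.mul_mem_iff_of_index_two h₂
      (a := (⟨τ⁻¹, Subgroup.inv_mem _ hτN⟩ : ↥N)) (b := ⟨u, hu⟩)
    have h3 : τ⁻¹ * u ∈ QC (Vg S hw (r + r)) := by
      have : (⟨τ⁻¹, Subgroup.inv_mem _ hτN⟩ : ↥N) * ⟨u, hu⟩ ∈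
          (QC (Vg S hw (r + r))).subgroupOf N := by
        rw [h2]
        constructor
        · intro h
          exfalso
          rw [Subgroup.mem_subgroupOf] at h
          exact hτM (by simpa using Subgroup.inv_mem _ h)
        · intro h
          exact absurd h huM
      exact this
    obtain ⟨σ, hσ, c, hc, h⟩ := key _ h3 τ ⟨hτS, hτN⟩
    refine ⟨σ, hσ, c, hc, ?_⟩
    rw [← h]; group

/-- If `|N_G(V) : V C_G(V)| = 6`, some element of odd order of `N_G(V)` lies outside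
`Q C_G(Q)`. -/
theorem exists_odd_Vg (r : ZMod (2 ^ n))
    (h₂ : (QC (Vg S hw (r + r))).relIndex
      (Subgroup.normalizer ((Vg S hw (r + r) : Subgroup G) : Set G)) = 6) :
    ∃ θ ∈ Subgroup.normalizer ((Vg S hw (r + r) : Subgroup G) : Set G), Odd (orderOf θ) ∧
      θ ∉ QC (Qg S hw (r + r)) := by
  obtain ⟨θ, hθN, hodd, hθM⟩ := exists_odd_not_mem (QC_le_normalizer _)
    (normalizer_le_normalizer_QC (Vg S hw (r + r))) (by rw [h₂]; norm_num)
  refine ⟨θ, hθN, hodd, ?_⟩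
  intro h
  apply hθM
  rw [QC_Vg_eq]
  exact ⟨h, hθN⟩

end WRsec2

end Cfsg.Agent.Lib.Helper2.WRF
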