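import Mathlib
import Cfsg.Agent.Lib.Helper2.WRF
import Cfsg.Agent.Lib.Helper2.QDFusC
import Cfsg.Agent.Lib.Helper1.FusionControl

set_option autoImplicit false

/-!
# Fusion in groups with a wreathed Sylow 2-subgroup: consequences of the local indices
-/

namespace Cfsg.Agent.Lib.Helper2.WRG

open Cfsg Cfsg.Agent.Lib.Lead.QDArith Cfsg.Agent.Lib.Lead.WRCore Cfsg.Agent.Lib.Helper7
open Cfsg.Agent.Lib.Helper2.WRA Cfsg.Agent.Lib.Helper2.WRB Cfsg.Agent.Lib.Helper2.WRC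
open Cfsg.Agent.Lib.Helper2.WRD Cfsg.Agent.Lib.Helper2.WRE Cfsg.Agent.Lib.Helper2.WRF
open Cfsg.Agent.Lib.Helper2.QDFusA Cfsg.Agent.Lib.Helper2.QDFusB Cfsg.Agent.Lib.Helper2.QDFusC
open Cfsg.Agent.Lib.Helper2.AutIndex
open Cfsg.Agent.Lib.Helper2.QuatAut Cfsg.Agent.Lib.Helper2.DihedralFour
open scoped commutatorElement

section Ssec

variable {S : Type*} [Group S] [Finite S] {n : ℕ} {x y z : S} (hw : WR S n x y z)
include hw

/-- The involutions of a wreathed group. -/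
theorem invol_cases (g : S) (hg : orderOf g = 2) :
    g = a n x y (hh n) (hh n) ∨ g = a n x y (hh n) 0 ∨ g = a n x y 0 (hh n) ∨
      ∃ i, g = b n x y z i (-i) := by
  rw [hw.orderOf_two_iff] at hg
  obtain ⟨hsq, hne⟩ := hg
  rcases hw.exists_rep g with ⟨i, j, rfl⟩ | ⟨i, j, rfl⟩
  · rw [hw.a_mul_self_eq_one_iff] at hsq
    rcases hsq with ⟨hi | hi, hj | hj⟩
    · exfalso; apply hne; rw [hi, hj, hw.a_zero]
    · right; right; left; rw [hi, hj]
    · right; left; rw [hi, hj]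
    · left; rw [hi, hj]
  · rw [hw.b_mul_self_eq_one_iff] at hsq
    right; right; right
    exact ⟨i, by rw [show j = -i by linear_combination hsq]⟩

theorem isConj_zero_hh : IsConj (a n x y 0 (hh n)) (a n x y (hh n) 0) := by
  rw [isConj_iff]; exact ⟨z, hw.conj_a 0 (hh n)⟩

theorem isConj_b_anti (i : ZMod (2 ^ n)) : IsConj (b n x y z i (-i)) z := by
  rw [isConj_comm, isConj_iff]
  refine ⟨a n x y i 0, ?_⟩
  have := hw.a_conj_b i 0 0 0
  rw [hw.b_zero] at this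
  rw [this]; congr 1 <;> ring

theorem comm_mem_Y (g₁ g₂ : S) : g₁ * g₂ * g₁⁻¹ * g₂⁻¹ ∈ hw.Y := by
  have h1 : ⁅g₁, g₂⁆ ∈ commutator S :=
    Subgroup.commutator_mem_commutator (Subgroup.mem_top g₁) (Subgroup.mem_top g₂)
  rw [hw.commutator_eq, commutatorElement_def] at h1
  have hle : Subgroup.zpowers (a n x y 1 (-1)) ≤ hw.Y :=
    Subgroup.zpowers_le.mpr (hw.a_mem_Y (by ring))
  exact hle h1

theorem Qd_le_Y (d : ZMod (2 ^ n)) : Qd hw d ≤ hw.Y := inf_le_left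

end Ssec

section Gen

variable {G : Type*} [Group G]

theorem conj_eq_of_comm {u d : G} (h : d * u = u * d) : u⁻¹ * d * u = d := by
  rw [mul_assoc, h, ← mul_assoc, inv_mul_cancel, one_mul]

theorem conj_mul_centralizer {X : Subgroup G} {σ c b : G}
    (hσ : σ ∈ Subgroup.normalizer (X : Set G)) (hc : c ∈ Subgroup.centralizer (X : Set G))
    (hb : b ∈ X) : (σ * c)⁻¹ * b * (σ * c) = σ⁻¹ * b * σ := by
  have hb' : σ⁻¹ * b * σ ∈ X := (Subgroup.mem_normalizer_iff''.mp hσ b).mp hb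
  have hcb := Subgroup.mem_centralizer_iff.1 hc _ hb'
  calc (σ * c)⁻¹ * b * (σ * c) = c⁻¹ * ((σ⁻¹ * b * σ) * c) := by group
    _ = c⁻¹ * (c * (σ⁻¹ * b * σ)) := by rw [hcb]
    _ = σ⁻¹ * b * σ := by group

theorem mem_sup_of_le_centralizer {A B : Subgroup G}
    (h : B ≤ Subgroup.centralizer (A : Set G)) (v : G) :
    v ∈ A ⊔ B ↔ ∃ q ∈ A, ∃ c ∈ B, v = q * c := by
  have hle : A ≤ Subgroup.normalizer ((B : Subgroup G) : Set G) :=
    (Subgroup.le_centralizer_iff.mp h).trans (Subgroup.centralizer_le_normalizer _)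
  have h1 := Subgroup.coe_mul_of_left_le_normalizer_right A B hle
  constructor
  · intro hv
    have hv' : v ∈ ((A ⊔ B : Subgroup G) : Set G) := hv
    rw [h1, Set.mem_mul] at hv'
    obtain ⟨q, hq, c, hc, rfl⟩ := hv'
    exact ⟨q, hq, c, hc, rfl⟩
  · rintro ⟨q, hq, c, hc, rfl⟩
    exact Subgroup.mul_mem _ (le_sup_left (a := A) hq) (le_sup_right (b := B) hc)

theorem card_classes_eq_three (k : ℕ) (u v w : G) (hu : orderOf u = k) (hv : orderOf v = k)
    (hw' : orderOf w = k) (huv : ¬ IsConj u v) (huw : ¬ IsConj u w) (hvw : ¬ IsConj v w)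
    (hall : ∀ t : G, orderOf t = k → IsConj t u ∨ IsConj t v ∨ IsConj t w) :
    Nat.card {C : ConjClasses G // ∃ t : G, orderOf t = k ∧ ConjClasses.mk t = C} = 3 := by
  classical
  set X := {C : ConjClasses G // ∃ t : G, orderOf t = k ∧ ConjClasses.mk t = C} with hX
  let f : Fin 3 → X := ![⟨ConjClasses.mk u, u, hu, rfl⟩, ⟨ConjClasses.mk v, v, hv, rfl⟩,
    ⟨ConjClasses.mk w, w, hw', rfl⟩]
  have hne : ∀ {p q : G} (hp : orderOf p = k) (hq : orderOf q = k), ¬ IsConj p q →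
      (⟨ConjClasses.mk p, p, hp, rfl⟩ : X) ≠ ⟨ConjClasses.mk q, q, hq, rfl⟩ := by
    intro p q hp hq hpq h
    apply hpq
    have := congrArg Subtype.val h
    exact ConjClasses.mk_eq_mk_iff_isConj.mp this
  have hbij : Function.Bijective f := by
    constructor
    · intro i j hij
      fin_cases i <;> fin_cases j <;> first
        | rfl
        | (exfalso; simp only [f] at hij
           first
            | exact hne hu hv huv hij
            | exact hne hu hw' huw hij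
            | exact hne hv hw' hvw hij
            | exact hne hu hv huv hij.symm
            | exact hne hu hw' huw hij.symm
            | exact hne hv hw' hvw hij.symm)
    · rintro ⟨C, t, ht, rfl⟩
      rcases hall t ht with h | h | h
      · exact ⟨0, Subtype.ext (ConjClasses.mk_eq_mk_iff_isConj.mpr h).symm⟩
      · exact ⟨1, Subtype.ext (ConjClasses.mk_eq_mk_iff_isConj.mpr h).symm⟩
      · exact ⟨2, Subtype.ext (ConjClasses.mk_eq_mk_iff_isConj.mpr h).symm⟩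
  rw [← Nat.card_congr (Equiv.ofBijective f hbij)]
  simp

end Gen

section WRsec

variable {G : Type*} [Group G] [Finite G] (S : Sylow 2 G) {n : ℕ}
  {x y z : ↥(S : Subgroup G)} (hw : WR ↥(S : Subgroup G) n x y z)

omit [Finite G] in
theorem isConj_coe {g g' : ↥(S : Subgroup G)} (h : IsConj g g') : IsConj (g : G) (g' : G) := by
  obtain ⟨c, hc⟩ := isConj_iff.1 h
  exact isConj_iff.2 ⟨(c : G), by rw [← hc]; rfl⟩

include hw in
/-- Every involution of `G` is conjugate to `t`, `x₁` or `z`. -/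
theorem invol_conj_cases (t' : G) (ht : orderOf t' = 2) :
    IsConj t' ((a n x y (hh n) (hh n) : ↥(S : Subgroup G)) : G) ∨
    IsConj t' ((a n x y (hh n) 0 : ↥(S : Subgroup G)) : G) ∨ IsConj t' (z : G) := by
  obtain ⟨c, hc⟩ := exists_conj_mem_sylow_of_orderOf_pow S 1 (by rw [ht, pow_one])
  have h1 : IsConj t' (c * t' * c⁻¹) := isConj_iff.2 ⟨c, rfl⟩
  have ho : orderOf (⟨_, hc⟩ : ↥(S : Subgroup G)) = 2 := by
    rw [← Subgroup.orderOf_coe]
    show orderOf (c * t' * c⁻¹) = 2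
    rw [orderOf_conj_eq', ht]
  rcases invol_cases hw _ ho with h | h | h | ⟨i, h⟩
  · left
    have : c * t' * c⁻¹ = ((a n x y (hh n) (hh n) : ↥(S : Subgroup G)) : G) :=
      congrArg Subtype.val h
    rw [← this]; exact h1
  · right; left
    have : c * t' * c⁻¹ = ((a n x y (hh n) 0 : ↥(S : Subgroup G)) : G) :=
      congrArg Subtype.val h
    rw [← this]; exact h1
  · right; left
    have : c * t' * c⁻¹ = ((a n x y 0 (hh n) : ↥(S : Subgroup G)) : G) :=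
      congrArg Subtype.val h
    rw [this] at h1
    exact h1.trans (isConj_coe S (isConj_zero_hh hw))
  · right; right
    have : c * t' * c⁻¹ = ((b n x y z i (-i) : ↥(S : Subgroup G)) : G) :=
      congrArg Subtype.val h
    rw [this] at h1
    exact h1.trans (isConj_coe S (isConj_b_anti hw i))

include hw in
theorem orderOf_coe_tt : orderOf ((a n x y (hh n) (hh n) : ↥(S : Subgroup G)) : G) = 2 := by
  rw [Subgroup.orderOf_coe, hw.orderOf_two_iff]
  exact ⟨tt_sq hw, tt_ne_one hw⟩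

include hw in
theorem orderOf_coe_xone : orderOf ((a n x y (hh n) 0 : ↥(S : Subgroup G)) : G) = 2 := by
  rw [Subgroup.orderOf_coe, hw.orderOf_two_iff, hw.a_mul_self_eq_one_iff]
  refine ⟨⟨Or.inr rfl, Or.inl rfl⟩, ?_⟩
  intro h
  exact hh_ne_zero hw.n1 ((hw.a_eq_one_iff _ _).1 h).1

include hw in
theorem orderOf_coe_z : orderOf (z : G) = 2 := by
  rw [Subgroup.orderOf_coe]; exact hw.oz

theorem Dg_le_Ag : Dg S ≤ Ag S hw := by
  rintro _ ⟨c, hc, rfl⟩
  obtain ⟨k, rfl⟩ := (hw.mem_center_iff c).1 hc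
  exact (coe_mem_Ag S hw _).2 (hw.a_mem k k)

/-- The generalized quaternion subgroup, inside `G`. -/
def Yg : Subgroup G := hw.Y.map (S : Subgroup G).subtype

theorem Yg_le : Yg S hw ≤ (S : Subgroup G) := Subgroup.map_subtype_le _

theorem coe_mem_Yg (t : ↥(S : Subgroup G)) : (t : G) ∈ Yg S hw ↔ t ∈ hw.Y :=
  mem_map_subtype_iff _ t

theorem Qg_le_Yg (d : ZMod (2 ^ n)) : Qg S hw d ≤ Yg S hw :=
  Subgroup.map_mono inf_le_left

/-- If `|N_G(U) : C_G(U)| = 6` then `t ~ x₁`. -/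
theorem tt_conj_xone
    (h₁ : (Subgroup.centralizer ((Ag S hw : Subgroup G) : Set G)).relIndex
      (Subgroup.normalizer ((Ag S hw : Subgroup G) : Set G)) = 6) :
    IsConj ((a n x y (hh n) (hh n) : ↥(S : Subgroup G)) : G)
      ((a n x y (hh n) 0 : ↥(S : Subgroup G)) : G) := by
  obtain ⟨θ, hθN, hodd, hfpf⟩ := exists_odd_Ag S hw h₁
  have hθT := normalizer_Ag_le_normalizer_Tg S hw hθN
  have htT := tt_mem_Tg S hw
  have htA : ((a n x y (hh n) (hh n) : ↥(S : Subgroup G)) : G) ∈ Ag S hw := Tg_le_Ag S hw htT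
  have h1 : θ * ((a n x y (hh n) (hh n) : ↥(S : Subgroup G)) : G) * θ⁻¹ ∈ Tg S hw :=
    (Subgroup.mem_normalizer_iff.mp hθT _).mp htT
  have hne1 : ((a n x y (hh n) (hh n) : ↥(S : Subgroup G)) : G) ≠ 1 := by
    intro h
    exact tt_ne_one hw (Subtype.ext h)
  have hc : IsConj ((a n x y (hh n) (hh n) : ↥(S : Subgroup G)) : G)
      (θ * ((a n x y (hh n) (hh n) : ↥(S : Subgroup G)) : G) * θ⁻¹) := isConj_iff.2 ⟨θ, rfl⟩
  obtain ⟨w, hwT, hwe⟩ := h1
  obtain ⟨i, j, rfl, hi, hj⟩ := hwT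
  have hwe' : ((a n x y i j : ↥(S : Subgroup G)) : G) =
      θ * ((a n x y (hh n) (hh n) : ↥(S : Subgroup G)) : G) * θ⁻¹ := hwe
  rw [← hwe'] at hc
  rcases (two_mul_eq_zero_iff hw.n1 i).1 hi with hi | hi <;>
  rcases (two_mul_eq_zero_iff hw.n1 j).1 hj with hj | hj
  · exfalso
    apply hne1
    rw [hi, hj, hw.a_zero] at hwe'
    have e : ((a n x y (hh n) (hh n) : ↥(S : Subgroup G)) : G) =
        θ⁻¹ * (θ * ((a n x y (hh n) (hh n) : ↥(S : Subgroup G)) : G) * θ⁻¹) * θ := by group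
    rw [e, ← hwe']; simp
  · rw [hi, hj] at hc
    exact hc.trans (isConj_coe S (isConj_zero_hh hw))
  · rw [hi, hj] at hc
    exact hc
  · exfalso
    apply hne1
    apply hfpf _ htA
    rw [← hwe', hi, hj]

/-- If `|N_G(V) : V C_G(V)| = 6` then `x₁ ~ z`. -/
theorem xone_conj_z (r : ZMod (2 ^ n))
    (h₂ : (QC (Vg S hw (r + r))).relIndex
      (Subgroup.normalizer ((Vg S hw (r + r) : Subgroup G) : Set G)) = 6) :
    IsConj ((a n x y (hh n) 0 : ↥(S : Subgroup G)) : G) (z : G) := by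
  have h2q := two_qq (n := n) hw.hn
  have h2h := two_hh (n := n) hw.n1
  obtain ⟨θ, hθN, hodd, hθQC⟩ := exists_odd_Vg S hw r h₂
  obtain ⟨e1⟩ := Qg_quat S hw r
  have hθNQ := normalizer_Vg_le_normalizer_Qg S hw r hθN
  have hθD := normalizer_Vg_le_centralizer_Dg S hw r hθN
  set u : ↥(S : Subgroup G) := a n x y (qq n) (-qq n) with hu
  have huQ : (u : G) ∈ Qg S hw (r + r) := (coe_mem_Qg S hw _ u).2 (uu_mem_Qd hw _)
  have hu2 : (⟨(u : G), huQ⟩ : ↥(Qg S hw (r + r))) * ⟨(u : G), huQ⟩ ≠ 1 := by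
    intro h
    have h1 : (u : G) * (u : G) = 1 := congrArg Subtype.val h
    have h2 : u * u = 1 := Subtype.ext h1
    have h3 := orderOf_dvd_of_pow_eq_one (show u ^ 2 = 1 by rw [pow_two]; exact h2)
    rw [orderOf_uu hw] at h3
    omega
  have hnot : θ * (u : G) * θ⁻¹ ∉ Subgroup.zpowers (u : G) := fun h =>
    hθQC (mem_QC_of_odd_fix _ e1 hθNQ hodd ⟨(u : G), huQ⟩ hu2 h)
  have hconjQ : θ * (u : G) * θ⁻¹ ∈ Qg S hw (r + r) :=
    (Subgroup.mem_normalizer_iff.mp hθNQ _).mp huQ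
  obtain ⟨w, hwQ, hwe⟩ := hconjQ
  rcases hw.exists_rep w with ⟨i, j, rfl⟩ | ⟨i, j, rfl⟩
  · exfalso
    apply hnot
    have hwe' : ((a n x y i j : ↥(S : Subgroup G)) : G) = θ * (u : G) * θ⁻¹ := hwe
    rw [← hwe']
    have h3 := a_mem_Qd_zpowers hw _ i j hwQ
    obtain ⟨k, hk⟩ := Subgroup.mem_zpowers_iff.1 h3
    refine Subgroup.mem_zpowers_iff.2 ⟨k, ?_⟩
    rw [← hk, Subgroup.coe_zpow]
  · have hwe' : ((b n x y z i j : ↥(S : Subgroup G)) : G) = θ * (u : G) * θ⁻¹ := hwe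
    have hij := (b_mem_Y_iff hw i j).1 hwQ.1
    have hx1 : (a n x y (hh n) 0 : ↥(S : Subgroup G)) = u * a n x y (qq n) (qq n) := by
      rw [hu, ← hw.a_add]
      congr 1
      · linear_combination -h2q
      · ring
    have hdq : ((a n x y (qq n) (qq n) : ↥(S : Subgroup G)) : G) ∈ Dg S :=
      (coe_mem_Dg S _).2 (hw.diag_mem_center _)
    have hfix : θ * ((a n x y (qq n) (qq n) : ↥(S : Subgroup G)) : G) * θ⁻¹ =
        ((a n x y (qq n) (qq n) : ↥(S : Subgroup G)) : G) := by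
      have := Subgroup.mem_centralizer_iff.1 hθD _ hdq
      rw [← this]; group
    have hconj : θ * ((a n x y (hh n) 0 : ↥(S : Subgroup G)) : G) * θ⁻¹ =
        ((b n x y z (i + qq n) (-(i + qq n)) : ↥(S : Subgroup G)) : G) := by
      rw [hx1, Subgroup.coe_mul]
      have e : θ * ((u : G) * ((a n x y (qq n) (qq n) : ↥(S : Subgroup G)) : G)) * θ⁻¹ =
          (θ * (u : G) * θ⁻¹) *
            (θ * ((a n x y (qq n) (qq n) : ↥(S : Subgroup G)) : G) * θ⁻¹) := by group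
      rw [e, hfix, ← hwe', ← Subgroup.coe_mul, hw.b_mul_a]
      congr 2
      linear_combination hij + h2q + h2h
    have hc : IsConj ((a n x y (hh n) 0 : ↥(S : Subgroup G)) : G)
        ((b n x y z (i + qq n) (-(i + qq n)) : ↥(S : Subgroup G)) : G) :=
      isConj_iff.2 ⟨θ, hconj⟩
    exact hc.trans (isConj_coe S (isConj_b_anti hw _))

/-- If `|N_G(U) : C_G(U)| = 2`, no element of `Z(S)` is fused to another element of `S`. -/
theorem Dg_fixed
    (h₁ : (Subgroup.centralizer ((Ag S hw : Subgroup G) : Set G)).relIndex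
      (Subgroup.normalizer ((Ag S hw : Subgroup G) : Set G)) = 2)
    (d : G) (hd : d ∈ Dg S) (g : G) (hg : g⁻¹ * d * g ∈ (S : Subgroup G)) :
    g⁻¹ * d * g = d := by
  apply fusion_invariant S hw (fun b => b = d) ?_ ?_ ?_ d (Dg_le S hd) g hg rfl
  · intro σ hσ b _ hb
    show σ⁻¹ * b * σ = d
    rw [hb]
    exact conj_eq_of_comm (Subgroup.mem_centralizer_iff.1 (S_le_centralizer_Dg S hσ) d hd)
  · intro u hu b _ hb
    show u⁻¹ * b * u = d
    rw [hb]
    obtain ⟨σ, hσ, c, hc, rfl⟩ := normalizer_Ag_decomp S hw h₁ u hu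
    rw [conj_mul_centralizer (S_le_normalizer_Ag S hw hσ) hc (Dg_le_Ag S hw hd)]
    exact conj_eq_of_comm (Subgroup.mem_centralizer_iff.1 (S_le_centralizer_Dg S hσ) d hd)
  · intro r u hu b _ hb
    show u⁻¹ * b * u = d
    rw [hb]
    exact conj_eq_of_comm (Subgroup.mem_centralizer_iff.1
      (normalizer_Vg_le_centralizer_Dg S hw r hu) d hd)

omit [Finite G] in
theorem mem_of_conj_mem_of_normalizer {X : Subgroup G} {σ b : G}
    (hσ : σ ∈ Subgroup.normalizer (X : Set G)) (h : σ⁻¹ * b * σ ∈ X) : b ∈ X :=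
  (Subgroup.mem_normalizer_iff''.mp hσ b).mpr h

/-- If `|N_G(V) : V C_G(V)| = 2`, no element of `S` outside `U` is fused into `U`. -/
theorem not_mem_Ag_invariant
    (h₂ : ∀ r : ZMod (2 ^ n), (QC (Vg S hw (r + r))).relIndex
      (Subgroup.normalizer ((Vg S hw (r + r) : Subgroup G) : Set G)) = 2)
    (b : G) (hbS : b ∈ (S : Subgroup G)) (hb : b ∉ Ag S hw) (g : G)
    (hg : g⁻¹ * b * g ∈ (S : Subgroup G)) : g⁻¹ * b * g ∉ Ag S hw := by
  apply fusion_invariant S hw (fun b => b ∉ Ag S hw) ?_ ?_ ?_ b hbS g hg hb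
  · intro σ hσ b _ hP hmem
    exact hP (mem_of_conj_mem_of_normalizer (S_le_normalizer_Ag S hw hσ) hmem)
  · intro u _ b hb hP
    exact absurd hb hP
  · intro r u hu b hb hP hmem
    obtain ⟨σ, hσ, c, hc, rfl⟩ := normalizer_Vg_decomp S hw r (h₂ r) u hu
    rw [conj_mul_centralizer hσ.2 hc hb] at hmem
    exact hP (mem_of_conj_mem_of_normalizer (S_le_normalizer_Ag S hw hσ.1) hmem)

/-- In the same situation, membership in `U` is invariant under fusion. -/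
theorem mem_Ag_iff_of_fusion
    (h₂ : ∀ r : ZMod (2 ^ n), (QC (Vg S hw (r + r))).relIndex
      (Subgroup.normalizer ((Vg S hw (r + r) : Subgroup G) : Set G)) = 2)
    (b : G) (hbS : b ∈ (S : Subgroup G)) (g : G)
    (hg : g⁻¹ * b * g ∈ (S : Subgroup G)) : b ∈ Ag S hw ↔ g⁻¹ * b * g ∈ Ag S hw := by
  constructor
  · intro hb
    by_contra hcon
    have e : g⁻¹⁻¹ * (g⁻¹ * b * g) * g⁻¹ = b := by group
    have := not_mem_Ag_invariant S hw h₂ (g⁻¹ * b * g) hg hcon g⁻¹ (by rw [e]; exact hbS)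
    rw [e] at this
    exact this hb
  · intro h
    by_contra hcon
    exact not_mem_Ag_invariant S hw h₂ b hbS hcon g hg h

/-- If both indices are 2 then `S` controls its own fusion. -/
theorem controls
    (h₁ : (Subgroup.centralizer ((Ag S hw : Subgroup G) : Set G)).relIndex
      (Subgroup.normalizer ((Ag S hw : Subgroup G) : Set G)) = 2)
    (h₂ : ∀ r : ZMod (2 ^ n), (QC (Vg S hw (r + r))).relIndex
      (Subgroup.normalizer ((Vg S hw (r + r) : Subgroup G) : Set G)) = 2) :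
    Cfsg.Agent.Lib.Helper1.ControlsOwnFusion S := by
  intro a₀ ha g hg
  have hg' : g⁻¹⁻¹ * a₀ * g⁻¹ ∈ (S : Subgroup G) := by rw [inv_inv]; exact hg
  have key := fusion_invariant S hw (fun b => ∃ s ∈ (S : Subgroup G), s * a₀ * s⁻¹ = b) ?_ ?_ ?_
    a₀ ha g⁻¹ hg' ⟨1, Subgroup.one_mem _, by group⟩
  · obtain ⟨s, hs, h⟩ := key
    exact ⟨s, hs, by rw [h, inv_inv]⟩
  · rintro σ hσ b _ ⟨s, hs, rfl⟩
    exact ⟨σ⁻¹ * s, Subgroup.mul_mem _ (Subgroup.inv_mem _ hσ) hs, by group⟩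
  · rintro u hu b hb ⟨s, hs, rfl⟩
    obtain ⟨σ, hσ, c, hc, rfl⟩ := normalizer_Ag_decomp S hw h₁ u hu
    rw [conj_mul_centralizer (S_le_normalizer_Ag S hw hσ) hc hb]
    exact ⟨σ⁻¹ * s, Subgroup.mul_mem _ (Subgroup.inv_mem _ hσ) hs, by group⟩
  · rintro r u hu b hb ⟨s, hs, rfl⟩
    obtain ⟨σ, hσ, c, hc, rfl⟩ := normalizer_Vg_decomp S hw r (h₂ r) u hu
    rw [conj_mul_centralizer hσ.2 hc hb]
    exact ⟨σ⁻¹ * s, Subgroup.mul_mem _ (Subgroup.inv_mem _ hσ.1) hs, by group⟩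

theorem comm_mem_Yg {g₁ g₂ : G} (h₁ : g₁ ∈ (S : Subgroup G)) (h₂ : g₂ ∈ (S : Subgroup G)) :
    g₁ * g₂ * g₁⁻¹ * g₂⁻¹ ∈ Yg S hw := by
  have := comm_mem_Y hw (⟨g₁, h₁⟩ : ↥(S : Subgroup G)) ⟨g₂, h₂⟩
  exact (coe_mem_Yg S hw _).2 this

/-- If `|N_G(U) : C_G(U)| = 2`, fusion in `S` preserves cosets of `Y`. -/
theorem mul_mem_Yg_invariant
    (h₁ : (Subgroup.centralizer ((Ag S hw : Subgroup G) : Set G)).relIndex
      (Subgroup.normalizer ((Ag S hw : Subgroup G) : Set G)) = 2)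
    (a₀ b : G) (hbS : b ∈ (S : Subgroup G)) (hab : a₀ * b ∈ Yg S hw) (g : G)
    (hg : g⁻¹ * b * g ∈ (S : Subgroup G)) : a₀ * (g⁻¹ * b * g) ∈ Yg S hw := by
  have hS : ∀ σ ∈ (S : Subgroup G), ∀ b ∈ (S : Subgroup G), a₀ * b ∈ Yg S hw →
      a₀ * (σ⁻¹ * b * σ) ∈ Yg S hw := by
    intro σ hσ b hb hP
    have e : a₀ * (σ⁻¹ * b * σ) = (a₀ * b) * (b⁻¹ * σ⁻¹ * b⁻¹⁻¹ * σ⁻¹⁻¹) := by group
    rw [e]
    exact Subgroup.mul_mem _ hP
      (comm_mem_Yg S hw (Subgroup.inv_mem _ hb) (Subgroup.inv_mem _ hσ))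
  apply fusion_invariant S hw (fun b => a₀ * b ∈ Yg S hw) hS ?_ ?_ b hbS g hg hab
  · intro u hu b hb hP
    obtain ⟨σ, hσ, c, hc, rfl⟩ := normalizer_Ag_decomp S hw h₁ u hu
    show a₀ * ((σ * c)⁻¹ * b * (σ * c)) ∈ Yg S hw
    rw [conj_mul_centralizer (S_le_normalizer_Ag S hw hσ) hc hb]
    exact hS σ hσ b (Ag_le S hw hb) hP
  · intro r u hu b hb hP
    show a₀ * (u⁻¹ * b * u) ∈ Yg S hw
    rw [Vg_eq_sup, mem_sup_of_le_centralizer (Dg_le_centralizer_Qg S hw _)] at hb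
    obtain ⟨q, hq, d, hd, rfl⟩ := hb
    have huD := normalizer_Vg_le_centralizer_Dg S hw r hu
    have huQ := normalizer_Vg_le_normalizer_Qg S hw r hu
    have hdu : u⁻¹ * d * u = d := conj_eq_of_comm (Subgroup.mem_centralizer_iff.1 huD d hd)
    have hq' : u⁻¹ * q * u ∈ Qg S hw (r + r) := (Subgroup.mem_normalizer_iff''.mp huQ q).mp hq
    have hw1 : q⁻¹ * (u⁻¹ * q * u) ∈ Qg S hw (r + r) :=
      Subgroup.mul_mem _ (Subgroup.inv_mem _ hq) hq'
    have hcomm : d * (q⁻¹ * (u⁻¹ * q * u)) = (q⁻¹ * (u⁻¹ * q * u)) * d :=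
      Subgroup.mem_centralizer_iff.1 (S_le_centralizer_Dg S (Qg_le S hw _ hw1)) d hd
    have e : a₀ * (u⁻¹ * (q * d) * u) = (a₀ * (q * d)) * (q⁻¹ * (u⁻¹ * q * u)) := by
      calc a₀ * (u⁻¹ * (q * d) * u) = a₀ * ((u⁻¹ * q * u) * (u⁻¹ * d * u)) := by group
        _ = a₀ * ((u⁻¹ * q * u) * d) := by rw [hdu]
        _ = a₀ * q * ((q⁻¹ * (u⁻¹ * q * u)) * d) := by group
        _ = a₀ * q * (d * (q⁻¹ * (u⁻¹ * q * u))) := by rw [hcomm]
        _ = (a₀ * (q * d)) * (q⁻¹ * (u⁻¹ * q * u)) := by group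
    rw [e]
    exact Subgroup.mul_mem _ hP (Qg_le_Yg S hw _ hw1)

end WRsec

end Cfsg.Agent.Lib.Helper2.WRG
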