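import Mathlib
import Cfsg.Agent.Lib.Helper2.WRG
import Cfsg.Agent.Lib.Helper2.QDFusD
import Cfsg.Agent.Lib.Lead.WR1196

set_option autoImplicit false

/-!
# Groups with a wreathed Sylow 2-subgroup: transfer and subgroups of index 2
-/

namespace Cfsg.Agent.Lib.Helper2.WRH

open Cfsg Cfsg.Agent.Lib.Lead.QDArith Cfsg.Agent.Lib.Lead.WRCore Cfsg.Agent.Lib.Helper7
open Cfsg.Agent.Lib.Helper2.WRA Cfsg.Agent.Lib.Helper2.WRB Cfsg.Agent.Lib.Helper2.WRC
open Cfsg.Agent.Lib.Helper2.WRD Cfsg.Agent.Lib.Helper2.WRE Cfsg.Agent.Lib.Helper2.WRF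
open Cfsg.Agent.Lib.Helper2.WRG
open Cfsg.Agent.Lib.Helper2.QDFusA Cfsg.Agent.Lib.Helper2.QDFusB Cfsg.Agent.Lib.Helper2.QDFusC
open Cfsg.Agent.Lib.Helper2.QDFusD
open Cfsg.Agent.Lib.Helper2.AutIndex
open Cfsg.Agent.Lib.Helper2.QuatAut Cfsg.Agent.Lib.Helper2.DihedralFour
open scoped commutatorElement

section Focal

variable {G : Type*} [Group G] [Finite G]

/-- If the focal subgroup of a Sylow 2-subgroup `P` lies in a normal subgroup `M` of `P`, then
`G` has a normal subgroup `K` with `K ∩ P = M` and `|G : K| = |P : M|`. -/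
theorem exists_normal_of_focal_le (P : Sylow 2 G) (M : Subgroup ↥(P : Subgroup G)) [M.Normal]
    (hle : (P : Subgroup G).focalSubgroupOf ≤ M) :
    ∃ K : Subgroup G, K.Normal ∧ K.index = M.index ∧
      ∀ h : ↥(P : Subgroup G), (h : G) ∈ K ↔ h ∈ M := by
  have hle' : (P : Subgroup G).focalSubgroupOf ≤ M.comap (MonoidHom.id _) := by
    rw [Subgroup.comap_id]; exact hle
  let φ : G →* ↥(P : Subgroup G) ⧸ M :=
    (QuotientGroup.map _ M (MonoidHom.id _) hle').comp (Subgroup.transferFocal (P : Subgroup G))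
  have hφ : ∀ h : ↥(P : Subgroup G),
      φ h = (QuotientGroup.mk h : ↥(P : Subgroup G) ⧸ M) ^ (P : Subgroup G).index := by
    intro h
    show QuotientGroup.map _ M (MonoidHom.id _) hle'
      (Subgroup.transferFocal (P : Subgroup G) (h : G)) = _
    rw [Subgroup.transferFocal_eq_pow, map_pow]
    rfl
  have hodd : Odd (P : Subgroup G).index := by
    rw [← Nat.not_even_iff_odd, even_iff_two_dvd]
    exact P.not_dvd_index
  have hcop : (Nat.card (↥(P : Subgroup G) ⧸ M)).Coprime (P : Subgroup G).index := by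
    have hdvd : Nat.card (↥(P : Subgroup G) ⧸ M) ∣ Nat.card ↥(P : Subgroup G) := by
      rw [← Subgroup.index_eq_card]; exact Subgroup.index_dvd_card M
    obtain ⟨k, hk⟩ := P.2.exists_card_eq
    rw [hk] at hdvd
    obtain ⟨j, _, hj⟩ := (Nat.dvd_prime_pow Nat.prime_two).1 hdvd
    rw [hj]
    exact Nat.Coprime.pow_left j (Nat.coprime_two_left.mpr hodd)
  have hbij := Nat.Coprime.pow_left_bijective hcop
  refine ⟨φ.ker, inferInstance, ?_, ?_⟩
  · rw [Subgroup.index_ker]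
    have hsurj : Function.Surjective φ := by
      intro q
      obtain ⟨q', hq'⟩ := hbij.2 q
      obtain ⟨h, rfl⟩ := QuotientGroup.mk_surjective q'
      exact ⟨(h : G), by rw [hφ]; exact hq'⟩
    rw [MonoidHom.range_eq_top.mpr hsurj, Subgroup.card_top, Subgroup.index_eq_card]
  · intro h
    rw [MonoidHom.mem_ker, hφ, ← QuotientGroup.eq_one_iff]
    constructor
    · intro h1
      apply hbij.1
      show (QuotientGroup.mk h : ↥(P : Subgroup G) ⧸ M) ^ (P : Subgroup G).index =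
        (1 : ↥(P : Subgroup G) ⧸ M) ^ (P : Subgroup G).index
      rw [h1, one_pow]
    · intro h1
      rw [h1, one_pow]

/-- The focal subgroup lies in `M` provided fusion preserves the cosets of `M`. -/
theorem focal_le_of_fusion (P : Sylow 2 G) (M : Subgroup ↥(P : Subgroup G))
    (hfus : ∀ (a₀ : G) (ha : a₀ ∈ (P : Subgroup G)) (u : G)
      (hu : u⁻¹ * a₀ * u ∈ (P : Subgroup G)),
      (⟨a₀, ha⟩ : ↥(P : Subgroup G))⁻¹ * ⟨u⁻¹ * a₀ * u, hu⟩ ∈ M) :
    (P : Subgroup G).focalSubgroupOf ≤ M := by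
  rw [Subgroup.focalSubgroupOf_eq_closure, Subgroup.closure_le]
  rintro g ⟨a₀, ha, u, hgu⟩
  rw [commutatorElement_def] at hgu
  have hconj : u⁻¹⁻¹ * a₀⁻¹ * u⁻¹ ∈ (P : Subgroup G) := by
    have : u⁻¹⁻¹ * a₀⁻¹ * u⁻¹ = a₀⁻¹ * (g : G) := by rw [hgu]; group
    rw [this]
    exact Subgroup.mul_mem _ (Subgroup.inv_mem _ ha) g.2
  have h1 := hfus a₀⁻¹ (Subgroup.inv_mem _ ha) u⁻¹ hconj
  have h2 : g = (⟨a₀⁻¹, Subgroup.inv_mem _ ha⟩ : ↥(P : Subgroup G))⁻¹ *
      ⟨u⁻¹⁻¹ * a₀⁻¹ * u⁻¹, hconj⟩ := by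
    apply Subtype.ext
    rw [Subgroup.coe_mul, hgu]
    show a₀ * u * a₀⁻¹ * u⁻¹ = a₀⁻¹⁻¹ * (u⁻¹⁻¹ * a₀⁻¹ * u⁻¹)
    group
  show g ∈ M
  rw [h2]; exact h1

/-- Elements of odd order lie in every normal subgroup of 2-power index. -/
theorem mem_of_odd_of_index_two_pow (K : Subgroup G) [K.Normal] (k : ℕ) (hK : K.index = 2 ^ k)
    (m : G) (hm : Odd (orderOf m)) : m ∈ K := by
  rw [← QuotientGroup.eq_one_iff]
  have h1 : (QuotientGroup.mk m : G ⧸ K) ^ (2 ^ k) = 1 := by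
    rw [← hK, Subgroup.index_eq_card]; exact pow_card_eq_one'
  have h2 : (QuotientGroup.mk m : G ⧸ K) ^ (orderOf m) = 1 := by
    rw [← QuotientGroup.mk_pow, pow_orderOf_eq_one]; rfl
  have h3 := Nat.dvd_gcd (orderOf_dvd_of_pow_eq_one h1) (orderOf_dvd_of_pow_eq_one h2)
  have h4 : Nat.gcd (2 ^ k) (orderOf m) = 1 :=
    Nat.Coprime.pow_left k (Nat.coprime_two_left.mpr hm)
  rw [h4, Nat.dvd_one] at h3
  exact orderOf_eq_one_iff.1 h3

end Focal

section WRsec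

variable {G : Type*} [Group G] [Finite G] (S : Sylow 2 G) {n : ℕ}
  {x y z : ↥(S : Subgroup G)} (hw : WR ↥(S : Subgroup G) n x y z)

theorem index_Y : hw.Y.index = 2 ^ n := by
  have h1 := hw.Y.card_mul_index
  rw [hw.card_Y, hw.card] at h1
  have h2 : 2 ^ (2 * n + 1) = 2 ^ (n + 1) * 2 ^ n := by rw [← pow_add]; congr 1; ring
  rw [h2] at h1
  exact Nat.eq_of_mul_eq_mul_left (by positivity) h1

/-- If `|N_G(U) : C_G(U)| = 2`, then `G` has a normal subgroup `K` of index `2^n` with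
`K ∩ S = Y`. -/
theorem exists_K_Y
    (h₁ : (Subgroup.centralizer ((Ag S hw : Subgroup G) : Set G)).relIndex
      (Subgroup.normalizer ((Ag S hw : Subgroup G) : Set G)) = 2) :
    ∃ K : Subgroup G, K.Normal ∧ K.index = 2 ^ n ∧
      ∀ h : ↥(S : Subgroup G), (h : G) ∈ K ↔ h ∈ hw.Y := by
  haveI := hw.Y_normal
  have hle : (S : Subgroup G).focalSubgroupOf ≤ hw.Y := by
    apply focal_le_of_fusion
    intro a₀ ha u hu
    have h1 := mul_mem_Yg_invariant S hw h₁ a₀⁻¹ a₀ ha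
      (by rw [inv_mul_cancel]; exact Subgroup.one_mem _) u hu
    exact (coe_mem_Yg S hw _).1 h1
  obtain ⟨K, hKn, hKi, hK⟩ := exists_normal_of_focal_le S hw.Y hle
  exact ⟨K, hKn, by rw [hKi, index_Y S hw], hK⟩

/-- If `|N_G(V) : V C_G(V)| = 2`, then `G` has a normal subgroup `K` of index 2 with
`K ∩ S = U`. -/
theorem exists_K_A
    (h₂ : ∀ r : ZMod (2 ^ n), (QC (Vg S hw (r + r))).relIndex
      (Subgroup.normalizer ((Vg S hw (r + r) : Subgroup G) : Set G)) = 2) :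
    ∃ K : Subgroup G, K.Normal ∧ K.index = 2 ∧
      ∀ h : ↥(S : Subgroup G), (h : G) ∈ K ↔ h ∈ hw.A := by
  apply exists_normal_index_two_of_fusion S hw.A hw.index_A
  intro h hh g hg
  have := mem_Ag_iff_of_fusion S hw h₂ h hh g hg
  rw [← coe_mem_Ag S hw, ← coe_mem_Ag S hw]
  exact this

/-- A fixed-point-free element of odd order of `N_G(U) ∩ K` forces `U` into every subgroup of
index 2 of `K`. -/
theorem Ag_le_of_index_two (H' K : Subgroup G) (hAK : Ag S hw ≤ K)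
    (hP1 : ∀ a ∈ K, ∀ b ∈ K, (a * b ∈ H' ↔ (a ∈ H' ↔ b ∈ H')))
    (θ : G) (hθN : θ ∈ Subgroup.normalizer ((Ag S hw : Subgroup G) : Set G)) (hθK : θ ∈ K)
    (hodd : Odd (orderOf θ)) (hfpf : ∀ u ∈ Ag S hw, θ * u * θ⁻¹ = u → u = 1) :
    Ag S hw ≤ H' := by
  have hθH : θ ∈ H' := by
    apply mem_of_sq_mem_of_odd hodd
    rw [pow_two, hP1 θ hθK θ hθK]
  have hf : ∀ u ∈ Ag S hw, θ * u * θ⁻¹ * u⁻¹ ∈ H' := by
    intro u hu
    have h1 : u * θ⁻¹ * u⁻¹ ∈ H' :=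
      (conj_mem_of_P1 hP1 (hAK hu) (K.inv_mem hθK)).2 (H'.inv_mem hθH)
    have e : θ * u * θ⁻¹ * u⁻¹ = θ * (u * θ⁻¹ * u⁻¹) := by group
    rw [e]; exact H'.mul_mem hθH h1
  have hmem : ∀ u ∈ Ag S hw, θ * u * θ⁻¹ * u⁻¹ ∈ Ag S hw := by
    intro u hu
    exact Subgroup.mul_mem _ ((Subgroup.mem_normalizer_iff.mp hθN u).mp hu)
      (Subgroup.inv_mem _ hu)
  let f : ↥(Ag S hw) → ↥(Ag S hw) := fun u => ⟨θ * u * θ⁻¹ * (u : G)⁻¹, hmem u u.2⟩
  have hinj : Function.Injective f := by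
    intro u v huv
    have h1 : θ * (u : G) * θ⁻¹ * (u : G)⁻¹ = θ * (v : G) * θ⁻¹ * (v : G)⁻¹ :=
      congrArg Subtype.val huv
    have h2 : θ * ((v : G)⁻¹ * (u : G)) * θ⁻¹ = (v : G)⁻¹ * (u : G) := by
      calc θ * ((v : G)⁻¹ * (u : G)) * θ⁻¹
          = (θ * (v : G)⁻¹ * θ⁻¹) * (θ * (u : G) * θ⁻¹ * (u : G)⁻¹) * (u : G) := by group
        _ = (θ * (v : G)⁻¹ * θ⁻¹) * (θ * (v : G) * θ⁻¹ * (v : G)⁻¹) * (u : G) := by rw [h1]
        _ = (v : G)⁻¹ * (u : G) := by group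
    have h3 := hfpf _ (Subgroup.mul_mem _ (Subgroup.inv_mem _ v.2) u.2) h2
    apply Subtype.ext
    have : (u : G) = (v : G) * ((v : G)⁻¹ * (u : G)) := by group
    rw [this, h3, mul_one]
  have hsurj := Finite.surjective_of_injective hinj
  intro u hu
  obtain ⟨v, hv⟩ := hsurj ⟨u, hu⟩
  have : u = θ * (v : G) * θ⁻¹ * (v : G)⁻¹ := (congrArg Subtype.val hv).symm
  rw [this]
  exact hf v v.2

/-- `S` is generated by `U` and any element outside `U`. -/
theorem S_le_of_Ag_le (H' : Subgroup G) (hA : Ag S hw ≤ H') (w : G)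
    (hwS : w ∈ (S : Subgroup G)) (hwA : w ∉ Ag S hw) (hwH : w ∈ H') :
    (S : Subgroup G) ≤ H' := by
  intro g hg
  by_cases hgA : g ∈ Ag S hw
  · exact hA hgA
  · have h1 := Subgroup.mul_mem_iff_of_index_two hw.index_A
      (a := (⟨g, hg⟩ : ↥(S : Subgroup G))) (b := (⟨w, hwS⟩ : ↥(S : Subgroup G))⁻¹)
    have h2 : (⟨g, hg⟩ : ↥(S : Subgroup G)) * (⟨w, hwS⟩ : ↥(S : Subgroup G))⁻¹ ∈ hw.A := by
      rw [h1, inv_mem_iff, ← coe_mem_Ag S hw, ← coe_mem_Ag S hw]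
      exact ⟨fun h => absurd h hgA, fun h => absurd h hwA⟩
    have h3 : g * w⁻¹ ∈ Ag S hw := (coe_mem_Ag S hw _).2 h2
    have : g = (g * w⁻¹) * w := by group
    rw [this]
    exact H'.mul_mem (hA h3) hwH

/-- `Y` is generated by the quaternion subgroups `Q_d`, `d` even. -/
theorem Yg_le_of_Qg_le (H' : Subgroup G) (h : ∀ r : ZMod (2 ^ n), Qg S hw (r + r) ≤ H') :
    Yg S hw ≤ H' := by
  have h2q := two_qq (n := n) hw.hn
  have h2h := two_hh (n := n) hw.n1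
  have hb : ∀ i j : ZMod (2 ^ n), i + j = hh n →
      ((b n x y z i j : ↥(S : Subgroup G)) : G) ∈ H' := by
    intro i j hij
    apply h (i - qq n)
    rw [coe_mem_Qg]
    have := ww_mem_Qd hw (i - qq n)
    have e1 : qq n + (i - qq n) = i := by ring
    have e2 : qq n - (i - qq n) = j := by linear_combination h2q - hij
    rwa [e1, e2] at this
  rintro _ ⟨v, hv, rfl⟩
  rcases hw.exists_rep v with ⟨i, j, rfl⟩ | ⟨i, j, rfl⟩
  · have hij := (a_mem_Y_iff hw i j).1 hv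
    have e : a n x y i j = b n x y z (qq n + i) (qq n - i) * (b n x y z (qq n) (qq n))⁻¹ := by
      rw [hw.b_inv, hw.b_mul_b]
      congr 1
      · ring
      · linear_combination hij
    show ((a n x y i j : ↥(S : Subgroup G)) : G) ∈ H'
    rw [e, Subgroup.coe_mul, Subgroup.coe_inv]
    exact H'.mul_mem (hb _ _ (by linear_combination h2q))
      (H'.inv_mem (hb _ _ (by linear_combination h2q)))
  · exact hb i j ((b_mem_Y_iff hw i j).1 hv)

end WRsec

end Cfsg.Agent.Lib.Helper2.WRH
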