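import Mathlib
import Cfsg.Agent.Lib.Helper2.WRH

set_option autoImplicit false

/-!
# Groups with a wreathed Sylow 2-subgroup: the four fusion patterns
-/

namespace Cfsg.Agent.Lib.Helper2.WRI

open Cfsg Cfsg.Agent.Lib.Lead.QDArith Cfsg.Agent.Lib.Lead.WRCore Cfsg.Agent.Lib.Helper7
open Cfsg.Agent.Lib.Helper2.WRA Cfsg.Agent.Lib.Helper2.WRB Cfsg.Agent.Lib.Helper2.WRC
open Cfsg.Agent.Lib.Helper2.WRD Cfsg.Agent.Lib.Helper2.WRE Cfsg.Agent.Lib.Helper2.WRF
open Cfsg.Agent.Lib.Helper2.WRG Cfsg.Agent.Lib.Helper2.WRH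
open Cfsg.Agent.Lib.Helper2.QDFusA Cfsg.Agent.Lib.Helper2.QDFusB Cfsg.Agent.Lib.Helper2.QDFusC
open Cfsg.Agent.Lib.Helper2.QDFusD
open Cfsg.Agent.Lib.Helper2.AutIndex
open Cfsg.Agent.Lib.Helper2.QuatAut Cfsg.Agent.Lib.Helper2.DihedralFour

section Setup

variable {G : Type*} [Group G] [Finite G]

/-- Coordinates for a wreathed Sylow 2-subgroup, identifying the abelian subgroup of index 2. -/
theorem setup (S : Sylow 2 G) (hS : Cfsg.IsWreathed ↥(S : Subgroup G)) (n : ℕ)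
    (hn : Nat.card ↥(S : Subgroup G) = 2 ^ (2 * n + 1)) (U : Subgroup G)
    (hUS : U ≤ (S : Subgroup G)) (hUab : IsMulCommutative ↥U) (hUcard : Nat.card ↥U = 2 ^ (2 * n)) :
    ∃ (x y z : ↥(S : Subgroup G)) (hw : WR ↥(S : Subgroup G) n x y z), U = Ag S hw := by
  obtain ⟨m, x, y, z, hw⟩ := exists_WR hS
  obtain rfl := hw.n_eq hn
  refine ⟨x, y, z, hw, ?_⟩
  obtain ⟨U₀, _, huniq⟩ := (s1196 hS n hn).1
  have hA : hw.A = U₀ := huniq _ ⟨hw.A_comm, hw.card_A⟩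
  have hU' : U.subgroupOf (S : Subgroup G) = U₀ := by
    apply huniq
    refine ⟨inferInstance, ?_⟩
    rw [Nat.card_congr (Subgroup.subgroupOfEquivOfLe hUS).toEquiv, hUcard]
  rw [← Subgroup.map_subgroupOf_eq_of_le hUS, hU', ← hA]
  rfl

end Setup

section WRsec

variable {G : Type*} [Group G] [Finite G] (S : Sylow 2 G) {n : ℕ}
  {x y z : ↥(S : Subgroup G)} (hw : WR ↥(S : Subgroup G) n x y z)

theorem all_V (r : ZMod (2 ^ n)) (k : ℕ)
    (h₂ : (QC (Vg S hw (r + r))).relIndex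
      (Subgroup.normalizer ((Vg S hw (r + r) : Subgroup G) : Set G)) = k) (r' : ZMod (2 ^ n)) :
    (QC (Vg S hw (r' + r'))).relIndex
      (Subgroup.normalizer ((Vg S hw (r' + r') : Subgroup G) : Set G)) = k := by
  rw [relIndex_Vg_eq S hw r r']; exact h₂

include hw in
theorem tt_ne_xone : ((a n x y (hh n) (hh n) : ↥(S : Subgroup G)) : G) ≠
    ((a n x y (hh n) 0 : ↥(S : Subgroup G)) : G) := by
  intro h
  have := (hw.a_inj (Subtype.ext h)).2
  exact hh_ne_zero hw.n1 this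

theorem z_not_mem_Ag : (z : G) ∉ Ag S hw := by
  rw [coe_mem_Ag]; exact hw.z_not_mem

theorem tt_mem_Ag : ((a n x y (hh n) (hh n) : ↥(S : Subgroup G)) : G) ∈ Ag S hw :=
  (coe_mem_Ag S hw _).2 (hw.a_mem _ _)

theorem xone_mem_Ag : ((a n x y (hh n) 0 : ↥(S : Subgroup G)) : G) ∈ Ag S hw :=
  (coe_mem_Ag S hw _).2 (hw.a_mem _ _)

/-- `t` is not conjugate to another element of `S` when `|N_G(U) : C_G(U)| = 2`. -/
theorem tt_not_conj
    (h₁ : (Subgroup.centralizer ((Ag S hw : Subgroup G) : Set G)).relIndex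
      (Subgroup.normalizer ((Ag S hw : Subgroup G) : Set G)) = 2)
    (v : G) (hvS : v ∈ (S : Subgroup G))
    (hv : v ≠ ((a n x y (hh n) (hh n) : ↥(S : Subgroup G)) : G)) :
    ¬ IsConj ((a n x y (hh n) (hh n) : ↥(S : Subgroup G)) : G) v := by
  intro hc
  obtain ⟨c, hc⟩ := isConj_iff.1 hc
  have h1 : c⁻¹⁻¹ * ((a n x y (hh n) (hh n) : ↥(S : Subgroup G)) : G) * c⁻¹ ∈
      (S : Subgroup G) := by rw [inv_inv, hc]; exact hvS
  have h2 := Dg_fixed S hw h₁ _ (tt_mem_Dg S hw) c⁻¹ h1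
  rw [inv_inv, hc] at h2
  exact hv h2

/-- elements of `U` are not conjugate to elements of `S` outside `U` when
`|N_G(V) : V C_G(V)| = 2`. -/
theorem Ag_not_conj
    (h₂ : ∀ r : ZMod (2 ^ n), (QC (Vg S hw (r + r))).relIndex
      (Subgroup.normalizer ((Vg S hw (r + r) : Subgroup G) : Set G)) = 2)
    (u v : G) (hu : u ∈ Ag S hw) (hvS : v ∈ (S : Subgroup G)) (hv : v ∉ Ag S hw) :
    ¬ IsConj u v := by
  intro hc
  obtain ⟨c, hc⟩ := isConj_iff.1 hc
  have h1 : c⁻¹⁻¹ * u * c⁻¹ ∈ (S : Subgroup G) := by rw [inv_inv, hc]; exact hvS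
  have h2 := (mem_Ag_iff_of_fusion S hw h₂ u (Ag_le S hw hu) c⁻¹ h1).1 hu
  rw [inv_inv, hc] at h2
  exact hv h2

/-- The case `(6, 6)`. -/
theorem case66
    (h₁ : (Subgroup.centralizer ((Ag S hw : Subgroup G) : Set G)).relIndex
      (Subgroup.normalizer ((Ag S hw : Subgroup G) : Set G)) = 6)
    (r : ZMod (2 ^ n))
    (h₂ : (QC (Vg S hw (r + r))).relIndex
      (Subgroup.normalizer ((Vg S hw (r + r) : Subgroup G) : Set G)) = 6) :
    (∀ H : Subgroup G, H.index ≠ 2) ∧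
      Nat.card {C : ConjClasses G // ∃ t : G, orderOf t = 2 ∧ ConjClasses.mk t = C} = 1 := by
  constructor
  · intro H hH
    have hP1 : ∀ a ∈ (⊤ : Subgroup G), ∀ b ∈ (⊤ : Subgroup G),
        (a * b ∈ H ↔ (a ∈ H ↔ b ∈ H)) := fun a _ b _ => Subgroup.mul_mem_iff_of_index_two hH
    obtain ⟨θ', hθ'N, hodd', hfpf⟩ := exists_odd_Ag S hw h₁
    have hA : Ag S hw ≤ H := Ag_le_of_index_two S hw H ⊤ le_top hP1 θ' hθ'N
      (Subgroup.mem_top _) hodd' hfpf
    obtain ⟨θ, hθN, hodd, hθQC⟩ := exists_odd_Vg S hw r h₂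
    obtain ⟨e1⟩ := Qg_quat S hw r
    have hQ : Qg S hw (r + r) ≤ H := quat_le_of_index_two _ e1 H ⊤ le_top hP1 θ
      (normalizer_Vg_le_normalizer_Qg S hw r hθN) (Subgroup.mem_top _) hodd hθQC
    have hwQ : ((b n x y z (qq n + r) (qq n - r) : ↥(S : Subgroup G)) : G) ∈ H :=
      hQ ((coe_mem_Qg S hw _ _).2 (ww_mem_Qd hw r))
    have hSH : (S : Subgroup G) ≤ H := S_le_of_Ag_le S hw H hA _
      (b n x y z (qq n + r) (qq n - r) : ↥(S : Subgroup G)).2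
      (by rw [coe_mem_Ag]; exact hw.b_not_mem _ _) hwQ
    exact sylow_inf_not_le S ⊤ H le_top (by rw [Subgroup.relIndex_top_right]; exact hH)
      (inf_le_left.trans hSH)
  · apply card_classes_eq_one 2 _ (orderOf_coe_tt S hw)
    intro t' ht
    have h12 := tt_conj_xone S hw h₁
    have h23 := xone_conj_z S hw r h₂
    rcases invol_conj_cases S hw t' ht with h | h | h
    · exact h
    · exact h.trans h12.symm
    · exact h.trans (h12.trans h23).symm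

/-- The case `(2, 6)`. -/
theorem case26
    (h₁ : (Subgroup.centralizer ((Ag S hw : Subgroup G) : Set G)).relIndex
      (Subgroup.normalizer ((Ag S hw : Subgroup G) : Set G)) = 2)
    (r : ZMod (2 ^ n))
    (h₂ : (QC (Vg S hw (r + r))).relIndex
      (Subgroup.normalizer ((Vg S hw (r + r) : Subgroup G) : Set G)) = 6) :
    (∃ K : Subgroup G, K.Normal ∧ K.index = 2 ^ n ∧
      (∀ P : Sylow 2 ↥K, ∃ m : ℕ, 1 ≤ m ∧
        Nonempty ((P : Subgroup ↥K) ≃* QuaternionGroup (2 ^ m))) ∧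
      (∀ H : Subgroup ↥K, H.index ≠ 2)) ∧
    (∀ Z₀ : Subgroup G, Z₀ ≤ Dg S → Cfsg.IsWeaklyClosed Z₀ (S : Subgroup G)) ∧
    Nat.card {C : ConjClasses G // ∃ t : G, orderOf t = 2 ∧ ConjClasses.mk t = C} = 2 := by
  have h₂' := all_V S hw r 6 h₂
  refine ⟨?_, ?_, ?_⟩
  · obtain ⟨K, hKn, hKi, hKY⟩ := exists_K_Y S hw h₁
    haveI := hKn
    refine ⟨K, hKn, hKi, ?_, ?_⟩
    · intro P
      obtain ⟨e1⟩ := sylow_equiv_of_inf S K hw.Y hKY P
      obtain ⟨e2⟩ := hw.Y_quat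
      exact ⟨n - 1, by have := hw.hn; omega, ⟨e1.trans e2⟩⟩
    · intro H hH
      obtain ⟨hH'K, hidx, hP1⟩ := index_two_data H hH
      set H' := H.map K.subtype with hH'
      have hYK : Yg S hw ≤ K := by
        rintro _ ⟨v, hv, rfl⟩
        exact (hKY v).2 hv
      have hQ : ∀ r' : ZMod (2 ^ n), Qg S hw (r' + r') ≤ H' := by
        intro r'
        obtain ⟨θ, hθN, hodd, hθQC⟩ := exists_odd_Vg S hw r' (h₂' r')
        obtain ⟨e1⟩ := Qg_quat S hw r'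
        exact quat_le_of_index_two _ e1 H' K ((Qg_le_Yg S hw _).trans hYK) hP1 θ
          (normalizer_Vg_le_normalizer_Qg S hw r' hθN)
          (mem_of_odd_of_index_two_pow K n hKi θ hodd) hodd hθQC
      have hY := Yg_le_of_Qg_le S hw H' hQ
      apply sylow_inf_not_le S K H' hH'K hidx
      rintro g ⟨hgS, hgK⟩
      exact hY ((coe_mem_Yg S hw ⟨g, hgS⟩).2 ((hKY ⟨g, hgS⟩).1 hgK))
  · intro Z₀ hZ
    refine ⟨hZ.trans (Dg_le S), ?_⟩
    intro g hg
    have hfix : ∀ v ∈ Z₀, g * v * g⁻¹ = v := by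
      intro v hv
      have hvS : g⁻¹⁻¹ * v * g⁻¹ ∈ (S : Subgroup G) := by
        rw [inv_inv]; exact hg ⟨v, hv, rfl⟩
      have := Dg_fixed S hw h₁ v (hZ hv) g⁻¹ hvS
      rwa [inv_inv] at this
    ext w
    constructor
    · rintro ⟨v, hv, rfl⟩
      show g * v * g⁻¹ ∈ Z₀
      rw [hfix v hv]; exact hv
    · intro hw'
      exact ⟨w, hw', hfix w hw'⟩
  · apply card_classes_eq_two 2 _ _ (orderOf_coe_tt S hw) (orderOf_coe_xone S hw)
      (tt_not_conj S hw h₁ _ (a n x y (hh n) 0 : ↥(S : Subgroup G)).2 (tt_ne_xone S hw).symm)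
    intro t' ht
    have h23 := xone_conj_z S hw r h₂
    rcases invol_conj_cases S hw t' ht with h | h | h
    · exact Or.inl h
    · exact Or.inr h
    · exact Or.inr (h.trans h23.symm)

/-- The case `(6, 2)`. -/
theorem case62
    (h₁ : (Subgroup.centralizer ((Ag S hw : Subgroup G) : Set G)).relIndex
      (Subgroup.normalizer ((Ag S hw : Subgroup G) : Set G)) = 6)
    (r : ZMod (2 ^ n))
    (h₂ : (QC (Vg S hw (r + r))).relIndex
      (Subgroup.normalizer ((Vg S hw (r + r) : Subgroup G) : Set G)) = 2) :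
    (∃ K : Subgroup G, K.Normal ∧ K.index = 2 ∧ Ag S hw ≤ K ∧
      (∀ H : Subgroup ↥K, H.index ≠ 2)) ∧
    Nat.card {C : ConjClasses G // ∃ t : G, orderOf t = 2 ∧ ConjClasses.mk t = C} = 2 := by
  have h₂' := all_V S hw r 2 h₂
  refine ⟨?_, ?_⟩
  · obtain ⟨K, hKn, hKi, hKA⟩ := exists_K_A S hw h₂'
    haveI := hKn
    have hAK : Ag S hw ≤ K := by
      rintro _ ⟨v, hv, rfl⟩
      exact (hKA v).2 hv
    refine ⟨K, hKn, hKi, hAK, ?_⟩
    intro H hH
    obtain ⟨hH'K, hidx, hP1⟩ := index_two_data H hH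
    set H' := H.map K.subtype with hH'
    obtain ⟨θ', hθ'N, hodd', hfpf⟩ := exists_odd_Ag S hw h₁
    have hθK : θ' ∈ K := mem_of_odd_of_index_two_pow K 1 (by rw [hKi, pow_one]) θ' hodd'
    have hA : Ag S hw ≤ H' := Ag_le_of_index_two S hw H' K hAK hP1 θ' hθ'N hθK hodd' hfpf
    apply sylow_inf_not_le S K H' hH'K hidx
    rintro g ⟨hgS, hgK⟩
    exact hA ((coe_mem_Ag S hw ⟨g, hgS⟩).2 ((hKA ⟨g, hgS⟩).1 hgK))
  · apply card_classes_eq_two 2 _ _ (orderOf_coe_tt S hw) (orderOf_coe_z S hw)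
      (Ag_not_conj S hw h₂' _ _ (tt_mem_Ag S hw) z.2 (z_not_mem_Ag S hw))
    intro t' ht
    have h12 := tt_conj_xone S hw h₁
    rcases invol_conj_cases S hw t' ht with h | h | h
    · exact Or.inl h
    · exact Or.inl (h.trans h12.symm)
    · exact Or.inr h

/-- The case `(2, 2)`. -/
theorem case22
    (h₁ : (Subgroup.centralizer ((Ag S hw : Subgroup G) : Set G)).relIndex
      (Subgroup.normalizer ((Ag S hw : Subgroup G) : Set G)) = 2)
    (r : ZMod (2 ^ n))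
    (h₂ : (QC (Vg S hw (r + r))).relIndex
      (Subgroup.normalizer ((Vg S hw (r + r) : Subgroup G) : Set G)) = 2) :
    Cfsg.HasNormalPComplement 2 G ∧
    Nat.card {C : ConjClasses G // ∃ t : G, orderOf t = 2 ∧ ConjClasses.mk t = C} = 3 := by
  have h₂' := all_V S hw r 2 h₂
  refine ⟨?_, ?_⟩
  · obtain ⟨K, hKn, hKc⟩ := Cfsg.Agent.Lib.Helper1.normal_complement_of_controlsOwnFusion S
      (controls S hw h₁ h₂')
    exact ⟨S, K, hKn, hKc⟩
  · apply card_classes_eq_three 2 _ _ _ (orderOf_coe_tt S hw) (orderOf_coe_xone S hw)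
      (orderOf_coe_z S hw)
      (tt_not_conj S hw h₁ _ (a n x y (hh n) 0 : ↥(S : Subgroup G)).2 (tt_ne_xone S hw).symm)
      (tt_not_conj S hw h₁ _ z.2 (fun h => z_not_mem_Ag S hw (h ▸ tt_mem_Ag S hw)))
      (Ag_not_conj S hw h₂' _ _ (xone_mem_Ag S hw) z.2 (z_not_mem_Ag S hw))
    exact invol_conj_cases S hw

end WRsec

end Cfsg.Agent.Lib.Helper2.WRI
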