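import Mathlib
import Cfsg.Agent.Lib.Helper2.WRI
import Cfsg.Agent.Lib.Helper2.WRJ

set_option autoImplicit false

/-!
# Centralizers of involutions in groups with wreathed Sylow 2-subgroups and no subgroup of
index 2
-/

namespace Cfsg.Agent.Lib.Helper2.WRK

open Cfsg Cfsg.Agent.Lib.Lead.QDArith Cfsg.Agent.Lib.Lead.WRCore Cfsg.Agent.Lib.Helper7
open Cfsg.Agent.Lib.Helper2.WRA Cfsg.Agent.Lib.Helper2.WRB Cfsg.Agent.Lib.Helper2.WRC
open Cfsg.Agent.Lib.Helper2.WRD Cfsg.Agent.Lib.Helper2.WRE Cfsg.Agent.Lib.Helper2.WRF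
open Cfsg.Agent.Lib.Helper2.WRG Cfsg.Agent.Lib.Helper2.WRH Cfsg.Agent.Lib.Helper2.WRI
open Cfsg.Agent.Lib.Helper2.WRJ
open Cfsg.Agent.Lib.Helper2.QDFusA Cfsg.Agent.Lib.Helper2.QDFusB Cfsg.Agent.Lib.Helper2.QDFusC
open Cfsg.Agent.Lib.Helper2.QDFusD
open Cfsg.Agent.Lib.Helper2.AutIndex
open Cfsg.Agent.Lib.Helper2.QuatAut Cfsg.Agent.Lib.Helper2.DihedralFour

section WRsec

variable {G : Type*} [Group G] [Finite G] (S : Sylow 2 G) {n : ℕ}
  {x y z : ↥(S : Subgroup G)} (hw : WR ↥(S : Subgroup G) n x y z)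

/-- Without subgroups of index 2, both local indices are 6. -/
theorem case66_of_no_index_two (hG : ∀ H : Subgroup G, H.index ≠ 2) :
    (Subgroup.centralizer ((Ag S hw : Subgroup G) : Set G)).relIndex
      (Subgroup.normalizer ((Ag S hw : Subgroup G) : Set G)) = 6 ∧
    ∀ r : ZMod (2 ^ n), (QC (Vg S hw (r + r))).relIndex
      (Subgroup.normalizer ((Vg S hw (r + r) : Subgroup G) : Set G)) = 6 := by
  rcases relIndex_Ag_cases S hw with h₁ | h₁ <;> rcases relIndex_Vg_cases S hw 0 with h₂ | h₂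
  · exfalso
    obtain ⟨K, hKn, hKc⟩ := Cfsg.Agent.Lib.Helper1.normal_complement_of_controlsOwnFusion S
      (controls S hw h₁ (all_V S hw 0 2 h₂))
    haveI := hKn
    obtain ⟨H, hH⟩ := exists_index_two_of_complement S K hKc (by
      rw [hw.card]
      have : 1 < 2 ^ (2 * n + 1) := Nat.one_lt_two_pow (by omega)
      omega)
    exact hG H hH
  · exfalso
    obtain ⟨K, hKn, hKi, -⟩ := exists_K_Y S hw h₁
    haveI := hKn
    obtain ⟨H, hH⟩ := exists_index_two_of_normal_two_pow K n hw.n1 hKi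
    exact hG H hH
  · exfalso
    obtain ⟨K, -, hKi, -⟩ := exists_K_A S hw (all_V S hw 0 2 h₂)
    exact hG K hKi
  · exact ⟨h₁, all_V S hw 0 6 h₂⟩

include hw in
/-- Without subgroups of index 2, all involutions are conjugate. -/
theorem all_invol_conj (hG : ∀ H : Subgroup G, H.index ≠ 2) (t' : G) (ht : orderOf t' = 2) :
    IsConj ((a n x y (hh n) (hh n) : ↥(S : Subgroup G)) : G) t' := by
  obtain ⟨h₁, h₂⟩ := case66_of_no_index_two S hw hG
  have h12 := tt_conj_xone S hw h₁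
  have h23 := xone_conj_z S hw 0 (h₂ 0)
  rcases invol_conj_cases S hw t' ht with h | h | h
  · exact h.symm
  · exact h12.trans h.symm
  · exact (h12.trans h23).trans h.symm

include hw in
/-- An involution of `Z(S)` is the involution `t`. -/
theorem eq_tt_of_mem_Dg (v : G) (hv : v ∈ Dg S) (h2 : orderOf v = 2) :
    v = ((a n x y (hh n) (hh n) : ↥(S : Subgroup G)) : G) := by
  obtain ⟨c, hc, rfl⟩ := hv
  obtain ⟨k, rfl⟩ := (hw.mem_center_iff c).1 hc
  have h2' : orderOf (a n x y k k) = 2 := by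
    rw [← Subgroup.orderOf_coe]; exact h2
  rw [hw.orderOf_two_iff, hw.a_mul_self_eq_one_iff] at h2'
  obtain ⟨⟨hk | hk, -⟩, hne⟩ := h2'
  · exfalso; apply hne; rw [hk, hw.a_zero]
  · show ((a n x y k k : ↥(S : Subgroup G)) : G) = _
    rw [hk]

end WRsec

section Cent

variable {G : Type*} [Group G] [Finite G]

omit [Finite G] in
/-- The centre of a Sylow subgroup `S ≤ C`, computed inside `C`. -/
theorem Dg_map_subtype (S : Sylow 2 G) (C : Subgroup G) (hle : (S : Subgroup G) ≤ C) :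
    (Dg (S.subtype hle)).map C.subtype = Dg S := by
  ext g
  constructor
  · rintro ⟨_, ⟨ρ, hρ, rfl⟩, rfl⟩
    have hρS : ((ρ : ↥C) : G) ∈ (S : Subgroup G) := ρ.2
    refine ⟨⟨((ρ : ↥C) : G), hρS⟩, ?_, rfl⟩
    have hρ : ρ ∈ Subgroup.center _ := hρ
    show _ ∈ Subgroup.center _
    rw [Subgroup.mem_center_iff] at hρ ⊢
    intro σ
    have h1 := hρ ⟨⟨(σ : G), hle σ.2⟩, σ.2⟩
    apply Subtype.ext
    exact congrArg (fun t : ↥((S.subtype hle : Sylow 2 ↥C) : Subgroup ↥C) => ((t : ↥C) : G)) h1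
  · rintro ⟨σ, hσ, rfl⟩
    refine ⟨⟨(σ : G), hle σ.2⟩, ⟨⟨⟨(σ : G), hle σ.2⟩, σ.2⟩, ?_, rfl⟩, rfl⟩
    have hσ : σ ∈ Subgroup.center _ := hσ
    show _ ∈ Subgroup.center _
    rw [Subgroup.mem_center_iff] at hσ ⊢
    intro ρ
    have hρS : ((ρ : ↥C) : G) ∈ (S : Subgroup G) := ρ.2
    have h1 := hσ ⟨((ρ : ↥C) : G), hρS⟩
    have h2 : ((ρ : ↥C) : G) * (σ : G) = (σ : G) * ((ρ : ↥C) : G) := congrArg Subtype.val h1
    apply Subtype.ext
    apply Subtype.ext
    exact h2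

/-- The centralizer of a central involution of a wreathed Sylow 2-subgroup of a group without
subgroups of index 2. -/
theorem centralizer_of_central (S : Sylow 2 G) (hS : Cfsg.IsWreathed ↥(S : Subgroup G))
    (hG : ∀ H : Subgroup G, H.index ≠ 2) (x₀ : G) (hx : orderOf x₀ = 2)
    (hxS : x₀ ∈ (S : Subgroup G)) (hxZ : ∀ s ∈ (S : Subgroup G), s * x₀ = x₀ * s) :
    ∃ R : Sylow 2 ↥(Subgroup.centralizer ({x₀} : Set G)),
      Nonempty (↥(R : Subgroup ↥(Subgroup.centralizer ({x₀} : Set G))) ≃* ↥(S : Subgroup G)) ∧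
      (∃ K : Subgroup ↥(Subgroup.centralizer ({x₀} : Set G)), K.Normal ∧
        (∃ a : ℕ, K.index = 2 ^ a) ∧ (∀ H : Subgroup ↥K, H.index ≠ 2) ∧
        (∀ P : Sylow 2 ↥K, ∃ m : ℕ, 1 ≤ m ∧
          Nonempty ((P : Subgroup ↥K) ≃* QuaternionGroup (2 ^ m)))) ∧
      (∀ Z₀ : Subgroup ↥(Subgroup.centralizer ({x₀} : Set G)),
        Z₀ ≤ ((Subgroup.center (R : Subgroup ↥(Subgroup.centralizer ({x₀} : Set G)))).map
          (R : Subgroup ↥(Subgroup.centralizer ({x₀} : Set G))).subtype) →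
        Cfsg.IsWeaklyClosed Z₀ (R : Subgroup ↥(Subgroup.centralizer ({x₀} : Set G)))) := by
  set C := Subgroup.centralizer ({x₀} : Set G) with hC
  have hle : (S : Subgroup G) ≤ C := by
    intro s hs
    exact Subgroup.mem_centralizer_singleton_iff.2 (hxZ s hs)
  have hxC : x₀ ∈ C := hle hxS
  set R : Sylow 2 ↥C := S.subtype hle with hR
  have eR : ↥(R : Subgroup ↥C) ≃* ↥(S : Subgroup G) := Subgroup.subgroupOfEquivOfLe hle
  have hRW : Cfsg.IsWreathed ↥(R : Subgroup ↥C) := isWreathed_of_mulEquiv eR.symm hS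
  obtain ⟨n, x, y, z, hw⟩ := exists_WR hS
  obtain ⟨n', x', y', z', hw'⟩ := exists_WR hRW
  -- the involution `x₀`, inside `C`
  set xb : ↥C := ⟨x₀, hxC⟩ with hxb
  have hxbZ : ∀ c : ↥C, c * xb = xb * c := by
    intro c
    apply Subtype.ext
    exact Subgroup.mem_centralizer_singleton_iff.1 c.2
  have hxbR : xb ∈ (R : Subgroup ↥C) := hxS
  have hxbD : xb ∈ Dg R := by
    refine ⟨⟨xb, hxbR⟩, ?_, rfl⟩
    show _ ∈ Subgroup.center _
    rw [Subgroup.mem_center_iff]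
    intro ρ
    apply Subtype.ext
    exact hxbZ ρ
  have hxbo : orderOf xb = 2 := by
    rw [← Subgroup.orderOf_coe]; exact hx
  have hxbt := eq_tt_of_mem_Dg R hw' xb hxbD hxbo
  have hxD : x₀ ∈ Dg S := by
    refine ⟨⟨x₀, hxS⟩, ?_, rfl⟩
    show _ ∈ Subgroup.center _
    rw [Subgroup.mem_center_iff]
    intro σ
    apply Subtype.ext
    exact hxZ σ σ.2
  -- the first index is 2
  have h₁ : (Subgroup.centralizer ((Ag R hw' : Subgroup ↥C) : Set ↥C)).relIndex
      (Subgroup.normalizer ((Ag R hw' : Subgroup ↥C) : Set ↥C)) = 2 := by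
    rcases relIndex_Ag_cases R hw' with h | h
    · exact h
    · exfalso
      have hc := tt_conj_xone R hw' h
      rw [← hxbt] at hc
      obtain ⟨c, hc⟩ := isConj_iff.1 hc
      have h1 : c * xb * c⁻¹ = xb := by rw [hxbZ c]; group
      rw [h1, hxbt] at hc
      exact tt_ne_xone R hw' hc
  -- the second index is 6
  have h₂ : (QC (Vg R hw' (0 + 0))).relIndex
      (Subgroup.normalizer ((Vg R hw' (0 + 0) : Subgroup ↥C) : Set ↥C)) = 6 := by
    rcases relIndex_Vg_cases R hw' 0 with h | h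
    · exfalso
      obtain ⟨e0⟩ := Qg_quat R hw' 0
      set Q' : Subgroup G := (Qg R hw' (0 + 0)).map C.subtype with hQ'
      have hQ'S : Q' ≤ (S : Subgroup G) := by
        rintro _ ⟨q, hq, rfl⟩
        exact Qg_le R hw' _ hq
      have eQ' : ↥Q' ≃* QuaternionGroup 2 :=
        ((Qg R hw' (0 + 0)).equivMapOfInjective _ (Subgroup.subtype_injective _)).symm.trans e0
      obtain ⟨r', hr'⟩ := quat_sup_Dg S hw Q' hQ'S eQ'
      have hV' : (Vg R hw' (0 + 0)).map C.subtype = Vg S hw (r' + r') := by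
        rw [Vg_eq_sup, Subgroup.map_sup, Dg_map_subtype S C hle, ← hr']
      have hN : Subgroup.normalizer
          (((Vg R hw' (0 + 0)).map C.subtype : Subgroup G) : Set G) ≤ C := by
        rw [hV']
        intro g hg
        have h1 := normalizer_Vg_le_centralizer_Dg S hw r' hg
        exact Subgroup.mem_centralizer_singleton_iff.2
          (Subgroup.mem_centralizer_iff.1 h1 x₀ hxD).symm
      have h3 := relIndex_QC_map_subtype C (Vg R hw' (0 + 0)) hN
      rw [h, hV', (case66_of_no_index_two S hw hG).2 r'] at h3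
      omega
    · exact h
  obtain ⟨⟨K, hKn, hKi, hKP, hKH⟩, hZ, -⟩ := case26 R hw' h₁ 0 h₂
  exact ⟨R, ⟨eR⟩, ⟨K, hKn, ⟨n', hKi⟩, hKH, hKP⟩, hZ⟩

/-- The statement for a wreathed Sylow 2-subgroup. -/
theorem wreathed_centralizer (S : Sylow 2 G) (hS : Cfsg.IsWreathed ↥(S : Subgroup G))
    (hG : ∀ H : Subgroup G, H.index ≠ 2) (x₀ : G) (hx : orderOf x₀ = 2) :
    ∃ R : Sylow 2 ↥(Subgroup.centralizer ({x₀} : Set G)),
      Nat.card ↥(R : Subgroup ↥(Subgroup.centralizer ({x₀} : Set G))) =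
        Nat.card ↥(S : Subgroup G) ∧
      (∃ K : Subgroup ↥(Subgroup.centralizer ({x₀} : Set G)), K.Normal ∧
        (∃ a : ℕ, K.index = 2 ^ a) ∧ (∀ H : Subgroup ↥K, H.index ≠ 2) ∧
        (∀ P : Sylow 2 ↥K, ∃ m : ℕ, 1 ≤ m ∧
          Nonempty ((P : Subgroup ↥K) ≃* QuaternionGroup (2 ^ m)))) ∧
      (∀ Z₀ : Subgroup ↥(Subgroup.centralizer ({x₀} : Set G)),
        Z₀ ≤ ((Subgroup.center (R : Subgroup ↥(Subgroup.centralizer ({x₀} : Set G)))).map
          (R : Subgroup ↥(Subgroup.centralizer ({x₀} : Set G))).subtype) →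
        Cfsg.IsWeaklyClosed Z₀ (R : Subgroup ↥(Subgroup.centralizer ({x₀} : Set G)))) := by
  obtain ⟨n, x, y, z, hw⟩ := exists_WR hS
  obtain ⟨g, hg⟩ := isConj_iff.1 (all_invol_conj S hw hG x₀ hx)
  have htS : ((a n x y (hh n) (hh n) : ↥(S : Subgroup G)) : G) ∈ (S : Subgroup G) :=
    (a n x y (hh n) (hh n) : ↥(S : Subgroup G)).2
  have htZ : ∀ s ∈ (S : Subgroup G),
      s * ((a n x y (hh n) (hh n) : ↥(S : Subgroup G)) : G) =
        ((a n x y (hh n) (hh n) : ↥(S : Subgroup G)) : G) * s := by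
    intro s hs
    exact (Subgroup.mem_centralizer_iff.1 (S_le_centralizer_Dg S hs) _ (tt_mem_Dg S hw)).symm
  obtain ⟨S', ⟨e⟩, hxS', hxZ'⟩ := exists_sylow_central S _ htS htZ g
  rw [hg] at hxS' hxZ'
  obtain ⟨R, ⟨eR⟩, hK, hZ⟩ := centralizer_of_central S' (isWreathed_of_mulEquiv e hS) hG x₀ hx
    hxS' hxZ'
  exact ⟨R, by rw [Nat.card_congr eR.toEquiv, ← Nat.card_congr e.toEquiv], hK, hZ⟩

end Cent

end Cfsg.Agent.Lib.Helper2.WRK
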