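import Cfsg.Agent.Lib.Helper2.Th1

set_option autoImplicit false

/-!
# Biset transfer: potentials, cocycle powers and cyclic evaluation
-/

namespace Cfsg.Agent.Lib.Helper2.Tr

open MulAction

/-- a homomorphism killing all point stabilizers has a potential -/
theorem exists_potential {G : Type*} [Group G] {X : Type*} [MulAction G X] {C : Type*}
    [CommGroup C] (h : G →* C) (hh : ∀ (x : X) (g : G), g • x = x → h g = 1) :
    ∃ ψ : X → C, ∀ (g : G) (x : X), ψ (g • x) = h g * ψ x := by
  classical
  let base : X → X := fun x => Quotient.out (Quotient.mk (orbitRel G X) x)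
  have hbase : ∀ x, ∃ g : G, g • base x = x := by
    intro x
    have h1 : (orbitRel G X).r (base x) x := Quotient.exact (Quotient.out_eq _)
    obtain ⟨g, hg⟩ := h1
    refine ⟨g⁻¹, ?_⟩
    rw [← hg, inv_smul_smul]
  have hbase2 : ∀ (g : G) (x : X), base (g • x) = base x := by
    intro g x
    have h1 : Quotient.mk (orbitRel G X) (g • x) = Quotient.mk (orbitRel G X) x :=
      Quotient.sound ⟨g, rfl⟩
    show Quotient.out (Quotient.mk (orbitRel G X) (g • x)) = _
    rw [h1]
  choose gx hgx using hbase
  refine ⟨fun x => h (gx x), ?_⟩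
  intro g x
  show h (gx (g • x)) = h g * h (gx x)
  have h1 := hgx (g • x)
  rw [hbase2] at h1
  have h2 : ((g * gx x)⁻¹ * gx (g • x)) • base x = base x := by
    rw [mul_smul, h1, mul_inv_rev, mul_smul, inv_smul_smul, inv_smul_eq_iff, hgx x]
  have h3 := hh _ _ h2
  rw [map_mul, map_inv, inv_mul_eq_one] at h3
  rw [← h3, map_mul]

section kappa

variable {T : Type*} [Group T] {X : Type*} [MulAction (T × T) X]

theorem ract_inv_self (σ : Sec T X) (a : T) (r : Rep σ) : ract σ a⁻¹ (ract σ a r) = r := by
  rw [← ract_mul, inv_mul_cancel, ract_one]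

theorem ract_self_inv (σ : Sec T X) (a : T) (r : Rep σ) : ract σ a (ract σ a⁻¹ r) = r := by
  rw [← ract_mul, mul_inv_cancel, ract_one]

theorem ract_injective (σ : Sec T X) (a : T) : Function.Injective (ract σ a) :=
  (ractEquiv σ a).injective

theorem ract_pow (σ : Sec T X) (x : T) (n : ℕ) (r : Rep σ) :
    ract σ (x ^ n) r = (ract σ x)^[n] r := by
  induction n with
  | zero => rw [pow_zero, ract_one]; rfl
  | succ n ih => rw [pow_succ', ract_mul, ih, Function.iterate_succ_apply']

theorem kap_smul_rep (σ : Sec T X) (a : T) (r : Rep σ) :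
    ((a, kap σ a r.1) : T × T) • r.1 = (ract σ a r).1 :=
  kap_spec σ a r.1

theorem lam_kap_pow (hf : RFree T X) (σ : Sec T X) {C : Type*} [CommGroup C] (lam : T →* C)
    (x : T) (r : Rep σ) (n : ℕ) :
    lam (kap σ (x ^ n) r.1)
      = ∏ i ∈ Finset.range n, lam (kap σ x ((ract σ x)^[i] r).1) := by
  induction n with
  | zero => rw [pow_zero, kap_one_rep hf σ r, map_one, Finset.range_zero, Finset.prod_empty]
  | succ n ih =>
    rw [pow_succ', kap_mul_rep hf σ x (x ^ n) r, map_mul, ih, Finset.prod_range_succ, ract_pow,
      mul_comm]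

end kappa

section transfer

variable {T : Type*} [Group T] {X : Type*} [MulAction (T × T) X] [Finite X]

/-- the transfer composed with a homomorphism to an abelian group -/
noncomputable def TT (hf : RFree T X) (σ : Sec T X) {C : Type*} [CommGroup C] (lam : T →* C) :
    T →* C :=
  (Abelianization.lift lam).comp (tr hf σ)

theorem TT_apply (hf : RFree T X) (σ : Sec T X) {C : Type*} [CommGroup C] (lam : T →* C)
    (a : T) : TT hf σ lam a = ∏ r : Rep σ, lam (kap σ a r.1) := by
  show (Abelianization.lift lam) (tr hf σ a) = _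
  rw [tr_apply, map_prod]
  apply Finset.prod_congr rfl
  intro r _
  exact Abelianization.lift_apply_of _ _

/-- if two homomorphisms agree along all point stabilizers, the transfer is a power -/
theorem prod_kap_eq_pow (hf : RFree T X) (σ : Sec T X) {C : Type*} [CommGroup C]
    (a b : T →* C)
    (hab : ∀ (x : X) (s u : T), ((s, u) : T × T) • x = x → a s = b u) (s : T) :
    ∏ r : Rep σ, b (kap σ s r.1) = a s ^ Nat.card (Rep σ) := by
  let h : T × T →* C := MonoidHom.mk' (fun g => (a g.1)⁻¹ * b g.2) (by
    intro g g'
    show (a (g.1 * g'.1))⁻¹ * b (g.2 * g'.2) = (a g.1)⁻¹ * b g.2 * ((a g'.1)⁻¹ * b g'.2)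
    rw [map_mul, map_mul, mul_inv, mul_mul_mul_comm])
  have hh : ∀ (x : X) (g : T × T), g • x = x → h g = 1 := by
    rintro x ⟨s', u'⟩ hg
    show (a s')⁻¹ * b u' = 1
    rw [hab x s' u' hg, inv_mul_cancel]
  obtain ⟨ψ, hψ⟩ := exists_potential h hh
  have h1 : ∀ r : Rep σ, b (kap σ s r.1) = a s * (ψ (ract σ s r).1 * (ψ r.1)⁻¹) := by
    intro r
    have h2 := hψ (s, kap σ s r.1) r.1
    rw [kap_smul_rep] at h2
    rw [h2]
    show _ = a s * ((a s)⁻¹ * b (kap σ s r.1) * ψ r.1 * (ψ r.1)⁻¹)
    rw [mul_inv_cancel_right, mul_inv_cancel_left]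
  have hperm : ∏ r : Rep σ, ψ (ract σ s r).1 = ∏ r : Rep σ, ψ r.1 :=
    (ractEquiv σ s).prod_comp (fun r => ψ r.1)
  rw [Finset.prod_congr rfl (fun r _ => h1 r), Finset.prod_mul_distrib, Finset.prod_const,
    Finset.prod_mul_distrib, Finset.prod_inv_distrib, hperm, mul_inv_cancel, mul_one,
    Finset.card_univ, Nat.card_eq_fintype_card]

end transfer

/-- products along the cycles of a permutation -/
theorem prod_eq_one_of_cycles {R C : Type*} [DecidableEq R] [CommMonoid C] (e : R → R)
    (he : Function.Injective e) (hper : ∀ r, r ∈ Function.periodicPts e) (c : R → C)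
    (h : ∀ r, e r ≠ r → ∏ i ∈ Finset.range (Function.minimalPeriod e r), c (e^[i] r) = 1) :
    ∀ A : Finset R, (∀ r ∈ A, e r ∈ A) → (∀ r ∈ A, e r ≠ r) → ∏ r ∈ A, c r = 1 := by
  intro A
  induction A using Finset.strongInduction with
  | H A ih =>
    intro hst hnf
    rcases A.eq_empty_or_nonempty with rfl | ⟨r, hr⟩
    · exact Finset.prod_empty
    · have hl : 0 < Function.minimalPeriod e r :=
        Function.minimalPeriod_pos_of_mem_periodicPts (hper r)
      have hper' : e^[Function.minimalPeriod e r] r = r :=
        Function.isPeriodicPt_minimalPeriod e r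
      have hiter : ∀ i, e^[i] r ∈ A := by
        intro i
        induction i with
        | zero => exact hr
        | succ i ihi =>
          rw [Function.iterate_succ_apply']
          exact hst _ ihi
      let O : Finset R :=
        (Finset.range (Function.minimalPeriod e r)).image (fun i => e^[i] r)
      have hOA : O ⊆ A := by
        intro y hy
        obtain ⟨i, -, rfl⟩ := Finset.mem_image.mp hy
        exact hiter i
      have hrO : r ∈ O := Finset.mem_image.mpr ⟨0, Finset.mem_range.mpr hl, rfl⟩
      have hback : ∀ y, e y ∈ O → y ∈ O := by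
        intro y hy
        obtain ⟨i, hi, hiy⟩ := Finset.mem_image.mp hy
        rw [Finset.mem_range] at hi
        rcases Nat.eq_zero_or_pos i with hi0 | hipos
        · subst hi0
          have h1 : e (e^[Function.minimalPeriod e r - 1] r) = e y := by
            have h2 : e^[Function.minimalPeriod e r - 1 + 1] r
                = e (e^[Function.minimalPeriod e r - 1] r) :=
              Function.iterate_succ_apply' e _ r
            rw [Nat.sub_add_cancel hl, hper'] at h2
            rw [← h2]
            exact hiy
          rw [← he h1]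
          exact Finset.mem_image.mpr
            ⟨_, Finset.mem_range.mpr (Nat.sub_lt hl Nat.one_pos), rfl⟩
        · have h1 : e (e^[i - 1] r) = e y := by
            have h2 : e^[i - 1 + 1] r = e (e^[i - 1] r) := Function.iterate_succ_apply' e _ r
            rw [Nat.sub_add_cancel hipos] at h2
            rw [← h2]
            exact hiy
          rw [← he h1]
          exact Finset.mem_image.mpr ⟨_, Finset.mem_range.mpr (by omega), rfl⟩
      have hdst : ∀ y ∈ A \ O, e y ∈ A \ O := by
        intro y hy
        rw [Finset.mem_sdiff] at hy ⊢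
        exact ⟨hst y hy.1, fun h' => hy.2 (hback y h')⟩
      have hprodO : ∏ y ∈ O, c y
          = ∏ i ∈ Finset.range (Function.minimalPeriod e r), c (e^[i] r) := by
        apply Finset.prod_image
        intro i hi j hj hij
        have hi' : i ∈ Set.Iio (Function.minimalPeriod e r) := by simpa using hi
        have hj' : j ∈ Set.Iio (Function.minimalPeriod e r) := by simpa using hj
        exact Function.iterate_injOn_Iio_minimalPeriod hi' hj' hij
      rw [← Finset.prod_sdiff hOA, hprodO, h r (hnf r hr), mul_one]
      apply ih (A \ O)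
      · exact Finset.sdiff_ssubset hOA ⟨r, hrO⟩
      · exact hdst
      · intro y hy
        exact hnf y (Finset.mem_sdiff.mp hy).1

section eval

variable {T : Type*} [Group T] [Finite T] {X : Type*} [MulAction (T × T) X]

/-- cyclic evaluation: representatives moved by `x` do not contribute, for a homomorphism which
kills all elements of smaller order -/
theorem prod_eq_one_of_no_fixed (hf : RFree T X) (σ : Sec T X) {C : Type*} [CommGroup C]
    (hord : ∀ (y : X) (s u : T), ((s, u) : T × T) • y = y → orderOf u = orderOf s)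
    (lam : T →* C) (x : T) (hmin : ∀ y : T, orderOf y < orderOf x → lam y = 1)
    (A : Finset (Rep σ)) (hst : ∀ r ∈ A, ract σ x r ∈ A) (hnf : ∀ r ∈ A, ract σ x r ≠ r) :
    ∏ r ∈ A, lam (kap σ x r.1) = 1 := by
  classical
  have hper : ∀ r : Rep σ, r ∈ Function.periodicPts (ract σ x) := by
    intro r
    apply Function.mk_mem_periodicPts (orderOf_pos x)
    show (ract σ x)^[orderOf x] r = r
    rw [← ract_pow, pow_orderOf_eq_one, ract_one]
  apply prod_eq_one_of_cycles (ract σ x) (ract_injective σ x) hper
    (fun r => lam (kap σ x r.1)) ?_ A hst hnf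
  intro r hr
  rw [← lam_kap_pow hf σ lam x r]
  apply hmin
  have hl0 : 0 < Function.minimalPeriod (ract σ x) r :=
    Function.minimalPeriod_pos_of_mem_periodicPts (hper r)
  have hfixl : ract σ (x ^ Function.minimalPeriod (ract σ x) r) r = r := by
    rw [ract_pow]
    exact Function.isPeriodicPt_minimalPeriod (ract σ x) r
  have hdvd : Function.minimalPeriod (ract σ x) r ∣ orderOf x := by
    apply Function.IsPeriodicPt.minimalPeriod_dvd
    show (ract σ x)^[orderOf x] r = r
    rw [← ract_pow, pow_orderOf_eq_one, ract_one]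
  have hl1 : Function.minimalPeriod (ract σ x) r ≠ 1 := by
    intro h1
    apply hr
    have := Function.isPeriodicPt_minimalPeriod (ract σ x) r
    rw [h1] at this
    exact this
  have h1 := kap_smul_rep σ (x ^ Function.minimalPeriod (ract σ x) r) r
  rw [hfixl] at h1
  rw [hord _ _ _ h1, orderOf_pow_of_dvd hl0.ne' hdvd]
  apply Nat.div_lt_self (orderOf_pos x)
  omega

end eval

end Cfsg.Agent.Lib.Helper2.Tr
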