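import Cfsg.Agent.Lib.Helper2.Yo1

set_option autoImplicit false

/-!
# Biset transfer over a `p`-group without wreath quotients: the order `p` case
-/

namespace Cfsg.Agent.Lib.Helper2.Tr

open MulAction

/-- the "norm condition": for every normal subgroup `M` of index `p` and every homomorphism
`μ : M → C` of exponent `p`, the product of the conjugates of `μ` is trivial -/
def NWg (T : Type*) [Group T] (p : ℕ) (C : Type*) [CommGroup C] : Prop :=
  ∀ (M : Subgroup T) [M.Normal] [Fintype (T ⧸ M)], M.index = p → ∀ μ : M →* C,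
    (∀ m, μ m ^ p = 1) → ∀ m : M,
      ∏ q : T ⧸ M, μ (MulAut.conjNormal (Quotient.out q)⁻¹ m) = 1

theorem mult_zmod_pow (p : ℕ) [Fact p.Prime] (x : Multiplicative (ZMod p)) : x ^ p = 1 := by
  apply Multiplicative.toAdd.injective
  rw [toAdd_pow, toAdd_one, nsmul_eq_mul, CharP.cast_eq_zero, zero_mul]

/-- separation of points of an elementary abelian group by characters -/
theorem exists_hom_ne_one {E : Type*} [CommGroup E] (p : ℕ) [Fact p.Prime]
    (hE : ∀ e : E, e ^ p = 1) {c : E} (hc : c ≠ 1) :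
    ∃ θ : E →* Multiplicative (ZMod p), θ c ≠ 1 := by
  have hh : ∀ x : Additive E, p • x = 0 := (fun x => by
    show Additive.ofMul (Additive.toMul x ^ p) = 0
    rw [hE]
    rfl)
  have inst : Module (ZMod p) (Additive E) := AddCommGroup.zmodModule hh
  have h1 : Additive.ofMul c ≠ 0 := fun h => hc (Additive.ofMul.injective h)
  have h0 : Additive.ofMul c ∉ (⊥ : Submodule (ZMod p) (Additive E)) := by
    rw [Submodule.mem_bot]; exact h1
  obtain ⟨φ, hφ, -⟩ := Submodule.exists_le_ker_of_notMem h0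
  refine ⟨AddMonoidHom.toMultiplicativeRight φ.toAddMonoidHom, ?_⟩
  intro h
  apply hφ
  exact Multiplicative.ofAdd.injective h

theorem NWg_of_NW {T : Type*} [Group T] (p : ℕ) [Fact p.Prime]
    (h : NWg T p (Multiplicative (ZMod p))) (C : Type*) [CommGroup C] : NWg T p C := by
  intro M _ _ hidx μ hμ m
  by_contra hne
  have hE : ∀ e : μ.range, e ^ p = 1 := by
    rintro ⟨e, m', rfl⟩
    apply Subtype.ext
    show μ m' ^ p = 1
    exact hμ m'
  have hc : (∏ q : T ⧸ M, μ.rangeRestrict (MulAut.conjNormal (Quotient.out q)⁻¹ m)) ≠ 1 := by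
    intro h1
    apply hne
    have h2 := congrArg μ.range.subtype h1
    rw [map_prod, map_one] at h2
    exact h2
  obtain ⟨θ, hθ⟩ := exists_hom_ne_one p hE hc
  apply hθ
  have h3 := h M hidx (θ.comp μ.rangeRestrict) (fun m' => mult_zmod_pow p _) m
  rw [map_prod]
  exact h3

section blocks

variable {T : Type*} [Group T] [Finite T] {X : Type*} [MulAction (T × T) X] [Finite X]

/-- the block decomposition of a non-trivial orbit -/
theorem prod_orbit_block (p : ℕ) (hf : RFree T X) (σ : Sec T X) {C : Type*} [CommGroup C]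
    (lam : T →* C) (M : Subgroup T) [M.Normal] [Fintype (T ⧸ M)]
    (hNW : ∀ μ : M →* C, (∀ m, μ m ^ p = 1) → ∀ m : M,
      ∏ q : T ⧸ M, μ (MulAut.conjNormal (Quotient.out q)⁻¹ m) = 1)
    (hlp : ∀ s, lam s ^ p = 1) (r₀ : Rep σ) (hPM : ∀ s, ract σ s r₀ = r₀ → s ∈ M) (x : T)
    (hx : x ∈ M) (Y : Finset (Rep σ)) (hY : ∀ a, a ∈ Y ↔ ∃ s : T, ract σ s r₀ = a) :
    ∏ a ∈ Y, lam (kap σ x a.1) = 1 := by
  classical
  let B₀ : Finset (Rep σ) := Finset.univ.filter (fun a => ∃ m ∈ M, ract σ m r₀ = a)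
  have hB : ∀ a, a ∈ B₀ ↔ ∃ m ∈ M, ract σ m r₀ = a := by
    intro a
    exact ⟨fun h => (Finset.mem_filter.mp h).2, fun h => Finset.mem_filter.mpr ⟨Finset.mem_univ _, h⟩⟩
  have hperm : ∀ m ∈ M, ∀ a, a ∈ B₀ ↔ ract σ m a ∈ B₀ := by
    intro m hm a
    rw [hB, hB]
    constructor
    · rintro ⟨m', hm', rfl⟩
      exact ⟨m * m', M.mul_mem hm hm', ract_mul σ m m' r₀⟩
    · rintro ⟨m', hm', h1⟩
      refine ⟨m⁻¹ * m', M.mul_mem (M.inv_mem hm) hm', ?_⟩
      rw [ract_mul, h1, ract_inv_self]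
  have hBperm : ∀ m ∈ M, ∀ f : Rep σ → C, ∏ a ∈ B₀, f (ract σ m a) = ∏ a ∈ B₀, f a := by
    intro m hm f
    exact Finset.prod_equiv (ractEquiv σ m) (fun a => hperm m hm a) (fun a _ => rfl)
  let μ : M →* C := MonoidHom.mk' (fun m => ∏ a ∈ B₀, lam (kap σ (m : T) a.1)) (by
    intro m m'
    show ∏ a ∈ B₀, lam (kap σ ((m : T) * (m' : T)) a.1) = _
    simp only [kap_mul_rep hf σ, map_mul, Finset.prod_mul_distrib]
    congr 1
    exact hBperm m' m'.2 (fun a => lam (kap σ (m : T) a.1)))
  have hμdef : ∀ m : M, μ m = ∏ a ∈ B₀, lam (kap σ (m : T) a.1) := fun m => rfl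
  have hμp : ∀ m, μ m ^ p = 1 := by
    intro m
    rw [hμdef, ← Finset.prod_pow]
    exact Finset.prod_eq_one (fun a _ => hlp _)
  have hkey : ∀ t : T, ∏ a ∈ B₀, lam (kap σ x (ract σ t a).1)
      = μ (MulAut.conjNormal t⁻¹ ⟨x, hx⟩) := by
    intro t
    have hm'v : ((MulAut.conjNormal t⁻¹ (⟨x, hx⟩ : M) : M) : T) = t⁻¹ * x * t := by
      rw [MulAut.conjNormal_apply, inv_inv]
    have hxt : x * t = t * ((MulAut.conjNormal t⁻¹ (⟨x, hx⟩ : M) : M) : T) := by
      rw [hm'v]; group
    have h1 : ∀ a : Rep σ, lam (kap σ t a.1) * lam (kap σ x (ract σ t a).1)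
        = lam (kap σ t
            (ract σ ((MulAut.conjNormal t⁻¹ (⟨x, hx⟩ : M) : M) : T) a).1)
          * lam (kap σ ((MulAut.conjNormal t⁻¹ (⟨x, hx⟩ : M) : M) : T) a.1) := by
      intro a
      rw [mul_comm, ← map_mul, ← kap_mul_rep hf σ x t a, hxt, kap_mul_rep hf σ t _ a, map_mul]
    have h2 : (∏ a ∈ B₀, lam (kap σ t a.1)) * ∏ a ∈ B₀, lam (kap σ x (ract σ t a).1)
        = (∏ a ∈ B₀, lam (kap σ t a.1)) * μ (MulAut.conjNormal t⁻¹ ⟨x, hx⟩) := by
      rw [← Finset.prod_mul_distrib, Finset.prod_congr rfl (fun a _ => h1 a),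
        Finset.prod_mul_distrib,
        hBperm _ (MulAut.conjNormal t⁻¹ (⟨x, hx⟩ : M) : M).2 (fun a => lam (kap σ t a.1)),
        hμdef]
    exact mul_left_cancel h2
  -- the class of a point of the orbit
  let cls : Rep σ → T ⧸ M := fun a =>
    if h : ∃ s : T, ract σ s r₀ = a then (QuotientGroup.mk (Classical.choose h) : T ⧸ M) else 1
  have hclsdef : ∀ (a : Rep σ) (h : ∃ s : T, ract σ s r₀ = a),
      cls a = (QuotientGroup.mk (Classical.choose h) : T ⧸ M) := fun a h => dif_pos h
  have hcls : ∀ s : T, cls (ract σ s r₀) = (QuotientGroup.mk s : T ⧸ M) := by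
    intro s
    have h : ∃ s' : T, ract σ s' r₀ = ract σ s r₀ := ⟨s, rfl⟩
    rw [hclsdef _ h]
    symm
    rw [QuotientGroup.eq]
    apply hPM
    rw [ract_mul, Classical.choose_spec h, ract_inv_self]
  rw [← Finset.prod_fiberwise Y cls]
  have hfib : ∀ q : T ⧸ M, ∏ a ∈ Y with cls a = q, lam (kap σ x a.1)
      = μ (MulAut.conjNormal (Quotient.out q)⁻¹ ⟨x, hx⟩) := by
    intro q
    rw [← hkey]
    symm
    refine Finset.prod_equiv (ractEquiv σ (Quotient.out q)) (s := B₀)
      (t := Y.filter (fun a => cls a = q))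
      (f := fun a => lam (kap σ x (ract σ (Quotient.out q) a).1))
      (g := fun a => lam (kap σ x a.1)) ?_ (fun a _ => rfl)
    intro a
    show a ∈ B₀ ↔ ract σ (Quotient.out q) a ∈ Y.filter (fun a => cls a = q)
    rw [hB, Finset.mem_filter, hY]
    constructor
    · rintro ⟨m, hm, rfl⟩
      refine ⟨⟨Quotient.out q * m, ract_mul σ _ _ _⟩, ?_⟩
      show cls (ract σ (Quotient.out q) (ract σ m r₀)) = q
      rw [← ract_mul, hcls]
      have h1 : (QuotientGroup.mk (Quotient.out q * m) : T ⧸ M) = QuotientGroup.mk (Quotient.out q) := by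
        symm
        rw [QuotientGroup.eq, inv_mul_cancel_left]
        exact hm
      rw [h1]
      exact QuotientGroup.out_eq' q
    · rintro ⟨⟨s, hs⟩, hq⟩
      have hs' : ract σ (Quotient.out q) a = ract σ s r₀ := hs.symm
      have hq' : cls (ract σ (Quotient.out q) a) = q := hq
      rw [hs', hcls] at hq'
      refine ⟨(Quotient.out q)⁻¹ * s, ?_, ?_⟩
      · rw [← QuotientGroup.eq, hq']
        exact QuotientGroup.out_eq' q
      · rw [ract_mul, ← hs', ract_inv_self]
  rw [Finset.prod_congr rfl (fun q _ => hfib q)]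
  exact hNW μ hμp ⟨x, hx⟩

end blocks

/-- a proper subgroup of a `p`-group lies in a normal subgroup of index `p` -/
theorem exists_normal_index_p {T : Type*} [Group T] [Finite T] {p : ℕ} [hp : Fact p.Prime]
    (hT : IsPGroup p T) (P : Subgroup T) (hP : P ≠ ⊤) :
    ∃ M : Subgroup T, M.Normal ∧ M.index = p ∧ P ≤ M := by
  obtain ⟨N, hN⟩ := IsPGroup.iff_card.mp hT
  obtain ⟨n, hn⟩ := IsPGroup.iff_card.mp (hT.to_subgroup P)
  have hdvd : p ^ n ∣ p ^ N := by
    rw [← hn, ← hN]
    exact Subgroup.card_subgroup_dvd_card P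
  have hnN : n ≤ N := (Nat.pow_dvd_pow_iff_le_right hp.out.one_lt).mp hdvd
  have hne : n ≠ N := by
    intro h
    apply hP
    apply Subgroup.eq_top_of_card_eq
    rw [hn, hN, h]
  have hN0 : N ≠ 0 := by omega
  obtain ⟨K, hK, hPK⟩ := Sylow.exists_subgroup_card_pow_prime_le p
    (show p ^ (N - 1) ∣ Nat.card T by rw [hN]; exact pow_dvd_pow p (Nat.sub_le N 1)) P hn
    (show n ≤ N - 1 by omega)
  have hidx : K.index = p := by
    have h1 := K.card_mul_index
    rw [hK, hN] at h1
    have h2 : p ^ (N - 1) * p = p ^ N := by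
      rw [← pow_succ, Nat.sub_add_cancel (Nat.one_le_iff_ne_zero.mpr hN0)]
    exact Nat.eq_of_mul_eq_mul_left (pow_pos hp.out.pos _) (h1.trans h2.symm)
  refine ⟨K, ?_, hidx, hPK⟩
  apply Subgroup.normal_of_index_eq_minFac_card
  rw [hidx, hN, hp.out.pow_minFac hN0]

section main

variable {T : Type*} [Group T] [Finite T] {X : Type*} [MulAction (T × T) X] [Finite X]

/-- a non-trivial orbit of representatives does not contribute -/
theorem prod_orbit_eq_one {p : ℕ} [Fact p.Prime] (hT : IsPGroup p T) (hf : RFree T X)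
    (σ : Sec T X) {C : Type*} [CommGroup C] (hNW : NWg T p C)
    (hord : ∀ (y : X) (s u : T), ((s, u) : T × T) • y = y → orderOf u = orderOf s)
    (lam : T →* C) (hlp : ∀ s, lam s ^ p = 1) (x : T)
    (hmin : ∀ y : T, orderOf y < orderOf x → lam y = 1) (r₀ : Rep σ)
    (hr₀ : ¬ ∀ s, ract σ s r₀ = r₀) (Y : Finset (Rep σ))
    (hY : ∀ a, a ∈ Y ↔ ∃ s : T, ract σ s r₀ = a) :
    ∏ a ∈ Y, lam (kap σ x a.1) = 1 := by
  classical
  letI := ractAction σ
  have hP : stabilizer T r₀ ≠ ⊤ := by
    intro h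
    apply hr₀
    intro s
    have : s ∈ stabilizer T r₀ := by rw [h]; exact Subgroup.mem_top s
    exact this
  obtain ⟨M, hMn, hidx, hPM⟩ := exists_normal_index_p hT (stabilizer T r₀) hP
  haveI := hMn
  have hPM' : ∀ s, ract σ s r₀ = r₀ → s ∈ M := fun s hs => hPM hs
  by_cases hx : x ∈ M
  · letI : Fintype (T ⧸ M) := Fintype.ofFinite _
    exact prod_orbit_block p hf σ lam M (fun μ hμ m => hNW M hidx μ hμ m) hlp r₀ hPM' x hx Y hY
  · apply prod_eq_one_of_no_fixed hf σ hord lam x hmin Y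
    · intro r hr
      rw [hY] at hr ⊢
      obtain ⟨s, rfl⟩ := hr
      exact ⟨x * s, ract_mul σ x s r₀⟩
    · intro r hr hfix
      rw [hY] at hr
      obtain ⟨s, rfl⟩ := hr
      apply hx
      have h1 : s⁻¹ * x * s ∈ M := by
        apply hPM'
        rw [mul_assoc, ract_mul, ract_mul, hfix, ract_inv_self]
      have h2 := hMn.conj_mem _ h1 s
      have e : s * (s⁻¹ * x * s) * s⁻¹ = x := by group
      rw [e] at h2
      exact h2

/-- the transfer of an element on which `lam` is minimal: only the fixed representatives count -/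
theorem prod_kap_fixed {p : ℕ} [Fact p.Prime] (hT : IsPGroup p T) (hf : RFree T X)
    (σ : Sec T X) {C : Type*} [CommGroup C] (hNW : NWg T p C)
    (hord : ∀ (y : X) (s u : T), ((s, u) : T × T) • y = y → orderOf u = orderOf s)
    (lam : T →* C) (hlp : ∀ s, lam s ^ p = 1)
    (hfixl : ∀ r : Rep σ, (∀ s, ract σ s r = r) → ∀ s, lam (kap σ s r.1) = lam s) (x : T)
    (hmin : ∀ y : T, orderOf y < orderOf x → lam y = 1) :
    ∏ r : Rep σ, lam (kap σ x r.1)
      = lam x ^ Nat.card {r : Rep σ // ∀ s, ract σ s r = r} := by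
  classical
  letI := ractAction σ
  have hc : ∏ r : Rep σ, (lam (kap σ x r.1)
      * (if (∀ s, ract σ s r = r) then (lam x)⁻¹ else 1)) = 1 := by
    apply Finset.prod_cancels_of_partition_cancels (orbitRel T (Rep σ))
    intro r₀ _
    by_cases hfix : ∀ s, ract σ s r₀ = r₀
    · have hset : (Finset.univ.filter (fun a : Rep σ => (orbitRel T (Rep σ)) a r₀)) = {r₀} := by
        ext a
        rw [Finset.mem_filter, Finset.mem_singleton, orbitRel_apply]
        constructor
        · rintro ⟨-, s, rfl⟩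
          exact hfix s
        · rintro rfl
          exact ⟨Finset.mem_univ _, mem_orbit_self _⟩
      rw [hset, Finset.prod_singleton, if_pos hfix, hfixl r₀ hfix x, mul_inv_cancel]
    · have hnf : ∀ a ∈ Finset.univ.filter (fun a : Rep σ => (orbitRel T (Rep σ)) a r₀),
          lam (kap σ x a.1) * (if (∀ s, ract σ s a = a) then (lam x)⁻¹ else 1)
            = lam (kap σ x a.1) := by
        intro a ha
        rw [Finset.mem_filter, orbitRel_apply] at ha
        obtain ⟨-, s, hs⟩ := ha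
        have hs' : ract σ s r₀ = a := hs
        have : ¬ ∀ s', ract σ s' a = a := by
          intro h1
          apply hfix
          intro s'
          have h2 : r₀ = a := by
            calc r₀ = ract σ s⁻¹ (ract σ s r₀) := (ract_inv_self σ s r₀).symm
              _ = ract σ s⁻¹ a := by rw [hs']
              _ = a := h1 s⁻¹
          rw [h2]
          exact h1 s'
        rw [if_neg this, mul_one]
      rw [Finset.prod_congr rfl hnf]
      apply prod_orbit_eq_one hT hf σ hNW hord lam hlp x hmin r₀ hfix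
      intro a
      rw [Finset.mem_filter, orbitRel_apply]
      constructor
      · rintro ⟨-, s, hs⟩
        exact ⟨s, hs⟩
      · rintro ⟨s, hs⟩
        exact ⟨Finset.mem_univ _, s, hs⟩
  rw [Finset.prod_mul_distrib, Finset.prod_ite, Finset.prod_const_one, mul_one,
    Finset.prod_const] at hc
  have hcard : (Finset.univ.filter (fun r : Rep σ => ∀ s, ract σ s r = r)).card
      = Nat.card {r : Rep σ // ∀ s, ract σ s r = r} := by
    rw [Nat.card_eq_fintype_card]
    exact (Fintype.card_of_subtype _ (fun r => by simp)).symm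
  rw [hcard, inv_pow, mul_inv_eq_one] at hc
  exact hc

/-- injectivity of the transfer on the characters of exponent `p` which are stable on the
fixed representatives -/
theorem lam_eq_one_of_transfer {p : ℕ} [Fact p.Prime] (hT : IsPGroup p T) (hf : RFree T X)
    (σ : Sec T X) {C : Type*} [CommGroup C] (hNW : NWg T p C)
    (hord : ∀ (y : X) (s u : T), ((s, u) : T × T) • y = y → orderOf u = orderOf s)
    (lam : T →* C) (hlp : ∀ s, lam s ^ p = 1)
    (hfixl : ∀ r : Rep σ, (∀ s, ract σ s r = r) → ∀ s, lam (kap σ s r.1) = lam s)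
    (hk : ¬ p ∣ Nat.card (Rep σ)) (htr : ∀ a : T, ∏ r : Rep σ, lam (kap σ a r.1) = 1) :
    ∀ s, lam s = 1 := by
  have hk0 : ¬ p ∣ Nat.card {r : Rep σ // ∀ s, ract σ s r = r} := by
    letI := ractAction σ
    have h1 := hT.card_modEq_card_fixedPoints (Rep σ)
    have h2 : Nat.card (fixedPoints T (Rep σ)) = Nat.card {r : Rep σ // ∀ s, ract σ s r = r} :=
      Nat.card_congr (Equiv.subtypeEquivRight (fun r => Iff.rfl))
    rw [h2] at h1
    intro h3
    exact hk ((h1.dvd_iff dvd_rfl).mpr h3)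
  have key : ∀ n, ∀ s : T, orderOf s = n → lam s = 1 := by
    intro n
    induction n using Nat.strong_induction_on with
    | _ n ih =>
      intro x hxn
      have hmin : ∀ y, orderOf y < orderOf x → lam y = 1 :=
        fun y hy => ih (orderOf y) (hxn ▸ hy) y rfl
      have h1 := prod_kap_fixed hT hf σ hNW hord lam hlp hfixl x hmin
      rw [htr x] at h1
      have hcop : Nat.Coprime (Nat.card {r : Rep σ // ∀ s, ract σ s r = r}) p :=
        ((Nat.Prime.coprime_iff_not_dvd (Fact.out : p.Prime)).mpr hk0).symm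
      have h2 := pow_gcd_eq_one.mpr ⟨h1.symm, hlp x⟩
      rw [hcop.gcd_eq_one, pow_one] at h2
      exact h2
  intro s
  exact key _ s rfl

end main

end Cfsg.Agent.Lib.Helper2.Tr
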