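import Cfsg.Agent.Lib.Helper2.Yo2

set_option autoImplicit false

/-!
# The wreath product quotient: a `p`-group violating the norm condition maps onto `C_p ≀ C_p`
-/

namespace Cfsg.Agent.Lib.Helper2.Tr

open MulAction

/-- the `p`-adic valuation of `(p²)!` -/
theorem factorization_factorial_sq (p : ℕ) [hp : Fact p.Prime] :
    (Nat.factorial (p ^ 2)).factorization p = p + 1 := by
  rw [Nat.factorization_def _ hp.out,
    padicValNat_factorial (b := 3) (by rw [Nat.log_pow hp.out.one_lt]; norm_num)]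
  have h : Finset.Ico 1 3 = {1, 2} := by decide
  rw [h, Finset.sum_pair (by norm_num), pow_one, Nat.div_self (pow_pos hp.out.pos 2), pow_two,
    Nat.mul_div_cancel _ hp.out.pos]

/-- a proper subgroup of `𝔽_p^ι` is annihilated by a non-zero vector -/
theorem exists_annihilator {ι : Type*} [Fintype ι] [DecidableEq ι] (p : ℕ) [Fact p.Prime]
    (U : AddSubgroup (ι → ZMod p)) (hU : U ≠ ⊤) :
    ∃ c : ι → ZMod p, c ≠ 0 ∧ ∀ u ∈ U, ∑ i, c i * u i = 0 := by
  have hW : AddSubgroup.toZModSubmodule p U < ⊤ := by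
    rw [lt_top_iff_ne_top]
    intro h
    apply hU
    rw [eq_top_iff]
    intro x _
    have : x ∈ AddSubgroup.toZModSubmodule p U := by rw [h]; exact Submodule.mem_top
    exact this
  obtain ⟨f, hf0, hf⟩ := Submodule.exists_le_ker_of_lt_top _ hW
  refine ⟨fun i => f (fun j => if i = j then 1 else 0), ?_, ?_⟩
  · intro hc
    apply hf0
    apply LinearMap.ext
    intro x
    rw [LinearMap.pi_apply_eq_sum_univ f x, LinearMap.zero_apply]
    apply Finset.sum_eq_zero
    intro i _
    have := congrFun hc i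
    simp only [Pi.zero_apply] at this
    rw [this, smul_zero]
  · intro u hu
    have h1 : f u = 0 := hf (show u ∈ AddSubgroup.toZModSubmodule p U from hu)
    rw [LinearMap.pi_apply_eq_sum_univ f u] at h1
    calc ∑ i, (f fun j => if i = j then 1 else 0) * u i
        = ∑ i, u i • f fun j => if i = j then 1 else 0 :=
          Finset.sum_congr rfl (fun i _ => by rw [smul_eq_mul, mul_comm])
      _ = 0 := h1

section wreath

variable {T : Type*} [Group T] [Finite T]

/-- independence of the conjugates of `μ` -/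
theorem surjective_conj_family (p : ℕ) [Fact p.Prime] (hT : IsPGroup p T) (M : Subgroup T)
    [M.Normal] [Fintype (T ⧸ M)] (hidx : M.index = p) (μ : M →* Multiplicative (ZMod p))
    (ν : T → (M →* Multiplicative (ZMod p)))
    (hν : ∀ t m, ν t m = μ (MulAut.conjNormal t⁻¹ m))
    (m₀ : M) (hne : ∏ q : T ⧸ M, ν (Quotient.out q) m₀ ≠ 1) :
    Function.Surjective (fun (m : M) (q : T ⧸ M) => ν (Quotient.out q) m) := by
  classical
  -- invariance under change of representative
  have hν_coset : ∀ (t : T) (h : M), ν (t * (h : T)) = ν t := by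
    intro t h
    apply MonoidHom.ext
    intro m
    rw [hν, hν, mul_inv_rev, map_mul, MulAut.mul_apply]
    have e : MulAut.conjNormal ((h : T)⁻¹) (MulAut.conjNormal t⁻¹ m)
        = h⁻¹ * MulAut.conjNormal t⁻¹ m * h := by
      apply Subtype.ext
      rw [MulAut.conjNormal_apply, inv_inv]
      rfl
    rw [e, map_mul, map_mul, map_inv, mul_comm, mul_inv_cancel_left]
  have hν_mk : ∀ t t' : T, (QuotientGroup.mk t : T ⧸ M) = QuotientGroup.mk t' → ν t = ν t' := by
    intro t t' h
    have h1 : t⁻¹ * t' ∈ M := QuotientGroup.eq.mp h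
    have h2 := hν_coset t ⟨t⁻¹ * t', h1⟩
    rw [← h2]
    congr 1
    show t * (t⁻¹ * t') = t'
    rw [mul_inv_cancel_left]
  have hν_out : ∀ t : T, ν (Quotient.out (QuotientGroup.mk t : T ⧸ M)) = ν t := by
    intro t
    apply hν_mk
    exact QuotientGroup.out_eq' _
  have hν_conj : ∀ (s t : T) (m : M), ν t (MulAut.conjNormal s m) = ν (s⁻¹ * t) m := by
    intro s t m
    rw [hν, hν, mul_inv_rev, inv_inv, map_mul, MulAut.mul_apply]
  -- the additive subgroup of attained vectors
  let U : AddSubgroup ((T ⧸ M) → ZMod p) :=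
    { carrier := {v | ∃ m : M, ∀ q, Multiplicative.toAdd (ν (Quotient.out q) m) = v q}
      zero_mem' := ⟨1, fun q => by rw [map_one]; rfl⟩
      add_mem' := by
        rintro v w ⟨m, hm⟩ ⟨m', hm'⟩
        refine ⟨m * m', fun q => ?_⟩
        rw [map_mul, toAdd_mul, hm, hm']
        rfl
      neg_mem' := by
        rintro v ⟨m, hm⟩
        refine ⟨m⁻¹, fun q => ?_⟩
        rw [map_inv, toAdd_inv, hm]
        rfl }
  have hUmem : ∀ v, v ∈ U ↔ ∃ m : M, ∀ q, Multiplicative.toAdd (ν (Quotient.out q) m) = v q :=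
    fun v => Iff.rfl
  by_cases hU : U = ⊤
  · intro w
    have h1 : (fun q => Multiplicative.toAdd (w q)) ∈ U := by rw [hU]; exact AddSubgroup.mem_top _
    obtain ⟨m, hm⟩ := (hUmem _).mp h1
    refine ⟨m, ?_⟩
    funext q
    exact Multiplicative.toAdd.injective (hm q)
  exfalso
  obtain ⟨c, hc0, hc⟩ := exists_annihilator p U hU
  -- the relation subgroup
  let Rel : AddSubgroup ((T ⧸ M) → ZMod p) :=
    { carrier := {c | ∀ m : M, ∑ q, c q * Multiplicative.toAdd (ν (Quotient.out q) m) = 0}
      zero_mem' := fun m => by simp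
      add_mem' := by
        intro v w hv hw m
        have := congrArg₂ (· + ·) (hv m) (hw m)
        simp only [add_zero] at this
        rw [← this, ← Finset.sum_add_distrib]
        apply Finset.sum_congr rfl
        intro q _
        rw [Pi.add_apply, add_mul]
      neg_mem' := by
        intro v hv m
        have := congrArg (fun z => -z) (hv m)
        simp only [neg_zero] at this
        rw [← this, ← Finset.sum_neg_distrib]
        apply Finset.sum_congr rfl
        intro q _
        rw [Pi.neg_apply, neg_mul] }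
  have hRelmem : ∀ v, v ∈ Rel ↔
      ∀ m : M, ∑ q, v q * Multiplicative.toAdd (ν (Quotient.out q) m) = 0 := fun v => Iff.rfl
  have hcRel : c ∈ Rel := by
    rw [hRelmem]
    intro m
    exact hc _ ((hUmem _).mpr ⟨m, fun q => rfl⟩)
  -- the action of `T` on relations
  have hact : ∀ (s : T) (v : (T ⧸ M) → ZMod p), v ∈ Rel → (fun q => v (s⁻¹ • q)) ∈ Rel := by
    intro s v hv
    rw [hRelmem] at hv ⊢
    intro m
    have h1 := hv (MulAut.conjNormal s⁻¹ m)
    rw [← h1]
    -- reindex by `q = s • q'`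
    refine Fintype.sum_equiv (MulAction.toPerm s⁻¹) _ _ ?_
    intro q
    have h2 : (QuotientGroup.mk (s * Quotient.out (s⁻¹ • q)) : T ⧸ M) = q := by
      have e : (QuotientGroup.mk (s * Quotient.out (s⁻¹ • q)) : T ⧸ M)
          = s • (QuotientGroup.mk (Quotient.out (s⁻¹ • q)) : T ⧸ M) := rfl
      rw [e, QuotientGroup.out_eq', smul_inv_smul]
    have h3 : ν (Quotient.out (s⁻¹ • q)) (MulAut.conjNormal s⁻¹ m) = ν (Quotient.out q) m := by
      rw [hν_conj, inv_inv, ← hν_out (s * Quotient.out (s⁻¹ • q)), h2]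
    show v (s⁻¹ • q) * Multiplicative.toAdd (ν (Quotient.out q) m)
      = v (s⁻¹ • q)
        * Multiplicative.toAdd (ν (Quotient.out (s⁻¹ • q)) (MulAut.conjNormal s⁻¹ m))
    rw [h3]
  letI : MulAction T Rel :=
    { smul := fun s v => ⟨fun q => v.1 (s⁻¹ • q), hact s v.1 v.2⟩
      one_smul := by
        intro v
        apply Subtype.ext
        funext q
        show v.1 ((1 : T)⁻¹ • q) = v.1 q
        rw [inv_one, one_smul]
      mul_smul := by
        intro s s' v
        apply Subtype.ext
        funext q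
        show v.1 ((s * s')⁻¹ • q) = v.1 (s'⁻¹ • s⁻¹ • q)
        rw [mul_inv_rev, mul_smul] }
  have hsmul : ∀ (s : T) (v : Rel) (q : T ⧸ M), (s • v).1 q = v.1 (s⁻¹ • q) := fun s v q => rfl
  -- `p` divides the number of relations
  have hpRel : p ∣ Nat.card Rel := by
    have h1 : Nat.card Rel ∣ Nat.card ((T ⧸ M) → ZMod p) := AddSubgroup.card_addSubgroup_dvd_card Rel
    rw [Nat.card_fun, Nat.card_zmod] at h1
    obtain ⟨j, -, hj⟩ := (Nat.dvd_prime_pow (Fact.out : p.Prime)).mp h1
    have hj0 : j ≠ 0 := by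
      intro h0
      rw [h0, pow_zero] at hj
      have hsub : Subsingleton Rel := (Nat.card_eq_one_iff_unique.mp hj).1
      have h2 : (⟨c, hcRel⟩ : Rel) = 0 := Subsingleton.elim _ _
      apply hc0
      exact congrArg Subtype.val h2
    rw [hj]
    exact dvd_pow_self p hj0
  have h0fix : (0 : Rel) ∈ fixedPoints T Rel := by
    intro s
    apply Subtype.ext
    funext q
    rfl
  obtain ⟨b, hbfix, hb0⟩ :=
    hT.exists_fixed_point_of_prime_dvd_card_of_fixed_point Rel hpRel h0fix
  -- a fixed relation is constant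
  have hconst : ∀ q : T ⧸ M, b.1 q = b.1 (QuotientGroup.mk 1) := by
    intro q
    induction q using QuotientGroup.induction_on with
    | H t =>
      have h1 := hbfix t
      have h2 := hsmul t b (QuotientGroup.mk t)
      rw [h1] at h2
      rw [h2]
      have e : t⁻¹ • (QuotientGroup.mk t : T ⧸ M) = QuotientGroup.mk 1 := by
        show (QuotientGroup.mk (t⁻¹ * t) : T ⧸ M) = QuotientGroup.mk 1
        rw [inv_mul_cancel]
      rw [e]
  have hb1 : b.1 (QuotientGroup.mk 1) ≠ 0 := by
    intro h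
    apply hb0
    apply Subtype.ext
    funext q
    rw [hconst q, h]
    rfl
  have h1 := (hRelmem b.1).mp b.2 m₀
  simp only [hconst] at h1
  rw [← Finset.mul_sum] at h1
  have h2 : ∑ q : T ⧸ M, Multiplicative.toAdd (ν (Quotient.out q) m₀) = 0 :=
    (mul_eq_zero.mp h1).resolve_left hb1
  apply hne
  apply Multiplicative.toAdd.injective
  rw [toAdd_prod, h2]
  rfl

theorem conj_family_out (M : Subgroup T) [M.Normal] {C : Type*} [CommGroup C] (μ : M →* C)
    (t : T) (m : M) :
    μ (MulAut.conjNormal (Quotient.out (QuotientGroup.mk t : T ⧸ M))⁻¹ m)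
      = μ (MulAut.conjNormal t⁻¹ m) := by
  have h1 : t⁻¹ * Quotient.out (QuotientGroup.mk t : T ⧸ M) ∈ M := by
    rw [← QuotientGroup.eq]
    exact (QuotientGroup.out_eq' _).symm
  have h2 : (Quotient.out (QuotientGroup.mk t : T ⧸ M))⁻¹
      = ((⟨t⁻¹ * Quotient.out (QuotientGroup.mk t : T ⧸ M), h1⟩ : M) : T)⁻¹ * t⁻¹ := by
    show _ = (t⁻¹ * Quotient.out (QuotientGroup.mk t : T ⧸ M))⁻¹ * t⁻¹
    group
  rw [h2, map_mul, MulAut.mul_apply]
  have e : MulAut.conjNormal
        (((⟨t⁻¹ * Quotient.out (QuotientGroup.mk t : T ⧸ M), h1⟩ : M) : T)⁻¹)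
        (MulAut.conjNormal t⁻¹ m)
      = (⟨t⁻¹ * Quotient.out (QuotientGroup.mk t : T ⧸ M), h1⟩ : M)⁻¹
        * MulAut.conjNormal t⁻¹ m * ⟨t⁻¹ * Quotient.out (QuotientGroup.mk t : T ⧸ M), h1⟩ := by
    apply Subtype.ext
    rw [MulAut.conjNormal_apply, inv_inv]
    rfl
  rw [e, map_mul, map_mul, map_inv, mul_comm, mul_inv_cancel_left]

/-- the wreath quotient -/
theorem exists_surj_sylow (p : ℕ) [Fact p.Prime] (hT : IsPGroup p T)
    (h : ¬ NWg T p (Multiplicative (ZMod p))) :
    ∃ (W : Sylow p (Equiv.Perm (Fin (p ^ 2))))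
      (f : T →* ↥(W : Subgroup (Equiv.Perm (Fin (p ^ 2))))), Function.Surjective f := by
  classical
  unfold NWg at h
  push_neg at h
  obtain ⟨M, hMn, instQ, hidx, μ, -, m₀, hne⟩ := h
  haveI := hMn
  let ν : T → (M →* Multiplicative (ZMod p)) :=
    fun t => μ.comp (MulAut.conjNormal t⁻¹).toMonoidHom
  have hν : ∀ t m, ν t m = μ (MulAut.conjNormal t⁻¹ m) := fun t m => rfl
  have hsurj := surjective_conj_family p hT M hidx μ ν hν m₀ hne
  let Ψ : M →* ((T ⧸ M) → Multiplicative (ZMod p)) :=
    Pi.monoidHom (fun q => ν (Quotient.out q))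
  have hΨ : ∀ m q, Ψ m q = ν (Quotient.out q) m := fun m q => rfl
  have hΨsurj : Function.Surjective Ψ := by
    intro w
    obtain ⟨m, hm⟩ := hsurj w
    exact ⟨m, hm⟩
  have hμsurj : Function.Surjective μ := by
    intro z
    obtain ⟨m, hm⟩ := hΨsurj (fun _ => z)
    have h1 := congrFun hm (QuotientGroup.mk 1)
    rw [hΨ, hν] at h1
    exact ⟨_, h1⟩
  -- the subgroup `L` and its core
  let L : Subgroup T := μ.ker.map M.subtype
  have hLM : L ≤ M := Subgroup.map_subtype_le _
  have hmemL : ∀ y : M, (y : T) ∈ L ↔ μ y = 1 := by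
    intro y
    constructor
    · rintro ⟨z, hz, hzy⟩
      have : z = y := Subtype.ext hzy
      rw [← this]
      exact hz
    · intro hy
      exact ⟨y, hy, rfl⟩
  have hcoreM : L.normalCore ≤ M := (Subgroup.normalCore_le L).trans hLM
  have hcore : L.normalCore.subgroupOf M = Ψ.ker := by
    ext m
    rw [Subgroup.mem_subgroupOf, MonoidHom.mem_ker]
    constructor
    · intro hm
      have hm' : ∀ b : T, b * (m : T) * b⁻¹ ∈ L := hm
      funext q
      rw [hΨ, hν]
      have h1 := hm' (Quotient.out q)⁻¹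
      have h2 : (Quotient.out q)⁻¹ * (m : T) * ((Quotient.out q)⁻¹)⁻¹
          = ((MulAut.conjNormal (Quotient.out q)⁻¹ m : M) : T) :=
        (MulAut.conjNormal_apply _ _).symm
      rw [h2, hmemL] at h1
      exact h1
    · intro hm
      show ∀ b : T, b * (m : T) * b⁻¹ ∈ L
      intro b
      have h2 : b * (m : T) * b⁻¹ = ((MulAut.conjNormal b m : M) : T) :=
        (MulAut.conjNormal_apply _ _).symm
      rw [h2, hmemL]
      have h3 := congrFun hm (QuotientGroup.mk b⁻¹)
      rw [hΨ, hν, conj_family_out, inv_inv] at h3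
      exact h3
  -- counting
  have hcardQ : Nat.card (T ⧸ M) = p := hidx
  have hcardmult : Nat.card (Multiplicative (ZMod p)) = p :=
    (Nat.card_congr Multiplicative.toAdd).trans (Nat.card_zmod p)
  have hrange : Nat.card Ψ.range = p ^ p := by
    rw [MonoidHom.range_eq_top.mpr hΨsurj, Subgroup.card_top, Nat.card_fun, hcardQ, hcardmult]
  have hcoreidx : L.normalCore.index = p ^ (p + 1) := by
    rw [← Subgroup.relIndex_mul_index hcoreM, hidx, Subgroup.relIndex, hcore,
      Subgroup.index_ker, hrange, pow_succ]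
  have hLidx : L.index = p ^ 2 := by
    have h1 : L.subgroupOf M = μ.ker := by
      ext y
      rw [Subgroup.mem_subgroupOf, hmemL, MonoidHom.mem_ker]
    rw [← Subgroup.relIndex_mul_index hLM, hidx, Subgroup.relIndex, h1, Subgroup.index_ker,
      MonoidHom.range_eq_top.mpr hμsurj, Subgroup.card_top, hcardmult, pow_two]
  have hcardTL : Nat.card (T ⧸ L) = p ^ 2 := hLidx
  let e : (T ⧸ L) ≃ Fin (p ^ 2) := Finite.equivFinOfCardEq hcardTL
  let ρ : T →* Equiv.Perm (Fin (p ^ 2)) :=
    (e.permCongrHom.toMonoidHom).comp (MulAction.toPermHom T (T ⧸ L))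
  have hker : ρ.ker = L.normalCore := by
    rw [Subgroup.normalCore_eq_ker]
    ext t
    rw [MonoidHom.mem_ker, MonoidHom.mem_ker]
    show e.permCongrHom (MulAction.toPermHom T (T ⧸ L) t) = 1 ↔ _
    exact MulEquiv.map_eq_one_iff e.permCongrHom
  have hcardrange : Nat.card ρ.range = p ^ (p + 1) := by
    rw [← Subgroup.index_ker, hker, hcoreidx]
  have hsyl : Nat.card ρ.range
      = p ^ (Nat.card (Equiv.Perm (Fin (p ^ 2)))).factorization p := by
    rw [hcardrange, Nat.card_perm, Nat.card_eq_fintype_card, Fintype.card_fin,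
      factorization_factorial_sq]
  exact ⟨Sylow.ofCard ρ.range hsyl, ρ.rangeRestrict, ρ.rangeRestrict_surjective⟩

end wreath

end Cfsg.Agent.Lib.Helper2.Tr
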