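import Mathlib
import Cfsg.Agent.Lib.Helper1.QI11
import Cfsg.Agent.Lib.Helper1.QdB1

set_option autoImplicit false
set_option linter.style.haveILetI false
set_option linter.unusedSectionVars false
set_option linter.unusedVariables false
set_option maxHeartbeats 1000000

/-! Groups whose local automizers `N_G(Q)/C_G(Q)` have no section `SL₂(p)` have a
`Qd(p)`-free fusion system. -/

namespace Cfsg.Agent.Lib.Helper2.ZF

open Cfsg Cfsg.FusionSystem Cfsg.Agent.Lib.Helper9 Cfsg.Agent.Lib.Helper1.KN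
  Cfsg.Agent.Lib.Helper1.KL Cfsg.Agent.Lib.Helper1.QF

/-- a homomorphism from a subgroup killing a normal subgroup descends to the image in the
quotient -/
theorem exists_descend {L M : Type*} [Group L] [Group M] (N : Subgroup L) [N.Normal]
    (K : Subgroup L) (ψ : ↥K →* M) (hker : ∀ k : ↥K, (k : L) ∈ N → ψ k = 1) :
    ∃ ψb : ↥(K.map (QuotientGroup.mk' N)) →* M,
      ∀ k : ↥K, ψb ((QuotientGroup.mk' N).subgroupMap K k) = ψ k := by
  have hf : Function.Surjective ((QuotientGroup.mk' N).subgroupMap K) :=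
    MonoidHom.subgroupMap_surjective _ K
  have hk : ((QuotientGroup.mk' N).subgroupMap K).ker ≤ ψ.ker := by
    intro k hk
    rw [MonoidHom.mem_ker] at hk ⊢
    apply hker
    have h1 : (QuotientGroup.mk' N) (k : L) = 1 := congrArg Subtype.val hk
    rwa [QuotientGroup.mk'_apply, QuotientGroup.eq_one_iff] at h1
  refine ⟨((QuotientGroup.mk' N).subgroupMap K).liftOfRightInverse (Function.surjInv hf)
    (Function.rightInverse_surjInv hf) ⟨ψ, hk⟩, fun k => ?_⟩
  exact MonoidHom.liftOfRightInverse_comp_apply _ _ _ ⟨ψ, hk⟩ k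

/-- a surjection from a subgroup gives a section, with control of the kernel -/
theorem section_of_hom {G M : Type*} [Group G] [Group M] (H : Subgroup G) (Ψ : ↥H →* M)
    (hΨ : Function.Surjective Ψ) :
    ∃ (J : Subgroup G) (_ : (J.subgroupOf H).Normal), J ≤ H ∧
      (∀ x : ↥H, Ψ x = 1 → (x : G) ∈ J) ∧ Nonempty ((↥H ⧸ J.subgroupOf H) ≃* M) := by
  have h1 : (Ψ.ker.map H.subtype).subgroupOf H = Ψ.ker := by
    ext x
    rw [Subgroup.mem_subgroupOf, Subgroup.mem_map]
    constructor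
    · rintro ⟨y, hy, hyx⟩
      have : y = x := Subtype.ext hyx
      rwa [← this]
    · intro hx
      exact ⟨x, hx, rfl⟩
  haveI hN : ((Ψ.ker.map H.subtype).subgroupOf H).Normal := by rw [h1]; infer_instance
  refine ⟨Ψ.ker.map H.subtype, hN, ?_, ?_, ⟨(QuotientGroup.quotientMulEquivOfEq h1).trans
      (QuotientGroup.quotientKerEquivOfSurjective Ψ hΨ)⟩⟩
  · rintro _ ⟨y, -, rfl⟩
    exact y.2
  · intro x hx
    exact ⟨x, MonoidHom.mem_ker.mpr hx, rfl⟩

/-- pull a section of a quotient of a subgroup back to the ambient group -/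
theorem exists_section {G L M : Type*} [Group G] [Group L] [Group M] (G₁ : Subgroup G)
    (f : ↥G₁ →* L) (K : Subgroup L) (ψ : ↥K →* M) (hf : Function.Surjective f)
    (hψ : Function.Surjective ψ) :
    ∃ (H J : Subgroup G) (_ : (J.subgroupOf H).Normal), J ≤ H ∧ H ≤ G₁ ∧
      (∀ c : ↥G₁, f c = 1 → (c : G) ∈ J) ∧ Nonempty ((↥H ⧸ J.subgroupOf H) ≃* M) := by
  obtain ⟨Ψ₁, hΨ₁s, hΨ₁⟩ : ∃ Ψ₁ : ↥(K.comap f) →* M, Function.Surjective Ψ₁ ∧
      ∀ (c : ↥G₁) (hc : c ∈ K.comap f), f c = 1 → Ψ₁ ⟨c, hc⟩ = 1 := by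
    refine ⟨ψ.comp (f.subgroupComap K),
      hψ.comp (MonoidHom.subgroupComap_surjective_of_surjective f K hf), ?_⟩
    intro c hc h1
    show ψ (f.subgroupComap K ⟨c, hc⟩) = 1
    have : f.subgroupComap K ⟨c, hc⟩ = 1 := Subtype.ext h1
    rw [this, map_one]
  obtain ⟨e, he⟩ : ∃ e : ↥(K.comap f) ≃* ↥((K.comap f).map G₁.subtype),
      ∀ x, ((e x : ↥((K.comap f).map G₁.subtype)) : G) = ((x : ↥G₁) : G) :=
    ⟨(K.comap f).equivMapOfInjective G₁.subtype G₁.subtype_injective,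
      fun x => Subgroup.coe_equivMapOfInjective_apply _ _ _ x⟩
  obtain ⟨J, hJn, hJH, hJker, hiso⟩ := section_of_hom ((K.comap f).map G₁.subtype)
    (Ψ₁.comp e.symm.toMonoidHom) (hΨ₁s.comp e.symm.surjective)
  refine ⟨_, J, hJn, hJH, ?_, ?_, hiso⟩
  · rintro _ ⟨y, -, rfl⟩
    exact y.2
  · intro c hc
    have hcK : c ∈ K.comap f := by
      show f c ∈ K
      rw [hc]
      exact K.one_mem
    have h2 : (Ψ₁.comp e.symm.toMonoidHom) (e ⟨c, hcK⟩) = 1 := by
      show Ψ₁ (e.symm (e ⟨c, hcK⟩)) = 1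
      rw [MulEquiv.symm_apply_apply]
      exact hΨ₁ c hcK hc
    have h3 := hJker (e ⟨c, hcK⟩) h2
    rw [he] at h3
    exact h3

universe u

/-- **If no automizer `N_G(Q)/C_G(Q)` of a `p`-subgroup has a section `SL₂(p)`, the fusion
system of `G` is `Qd(p)`-free.** -/
theorem sectionFree_of_automizers {G : Type u} [Group G] [Finite G] {p : ℕ} [Fact p.Prime]
    (P : Sylow p G)
    (hfree : ∀ Q : Subgroup G, IsPGroup p ↥Q →
      ¬ ∃ (H K : Subgroup G) (_ : (K.subgroupOf H).Normal),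
      Subgroup.centralizer (Q : Set G) ≤ K ∧ K ≤ H ∧ H ≤ Subgroup.normalizer (Q : Set G) ∧
      Nonempty ((↥H ⧸ K.subgroupOf H) ≃* Matrix.SpecialLinearGroup (Fin 2) (ZMod p))) :
    (groupFusionSystem (P : Subgroup G)).IsSectionFree p ↥(qd p) := by
  intro Q hQfn hQc N hN L _ ι' hL hinv
  have hS : IsPGroup p ↥(P : Subgroup G) := P.isPGroup'
  have hreal : (groupFusionSystem (P : Subgroup G)).IsRealizedBy (P : Subgroup G).subtype := by
    refine ⟨Subgroup.subtype_injective _, fun R hR φ hφ => ?_⟩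
    constructor
    · rintro ⟨-, -, g, hg⟩
      exact ⟨g, fun x => hg x⟩
    · rintro ⟨g, hg⟩
      exact ⟨hR, hφ, g, fun x => hg x⟩
  have hsyl : ∃ Sy : Sylow p G, (Sy : Subgroup G) = (P : Subgroup G).subtype.range :=
    ⟨P, (Subgroup.range_subtype _).symm⟩
  obtain ⟨hreal₁, hsyl₁⟩ := normalizer_realized p hS (groupFusionSystem (P : Subgroup G))
    (P : Subgroup G).subtype hreal hsyl hQfn N hN
  haveI : Finite ↥(normalizerIn (P : Subgroup G) Q) := finite_of_le (normalizerIn_le _ Q)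
  have hTp : IsPGroup p ↥(normalizerIn (P : Subgroup G) Q) :=
    isPGroup_of_le hS (normalizerIn_le _ Q)
  have hQn : N.IsNormal Q := normal_self_of_isNormalizerSystem _ hQfn.1 N hN
  have hQcN : N.IsCentric Q := centric_self_of_isNormalizerSystem _ hQc N hN
  have hn₁ := map_iotaN_normal (P : Subgroup G).subtype hQfn.1
  obtain ⟨f, hfsurj, hfι⟩ := Cfsg.Agent.Lib.Helper1.MU.exists_surjective_hom_to_model p hTp N hQn
    hQcN (iotaN (P : Subgroup G).subtype Q) ι' hreal₁ hsyl₁ hn₁ hL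
  have hQ'' : (Q.subgroupOf (P : Subgroup G)).map (P : Subgroup G).subtype = Q :=
    Subgroup.map_subgroupOf_eq_of_le hQfn.1
  apply hfree Q (hS.to_le hQfn.1)
  obtain ⟨K', ψ', hψ'⟩ := Cfsg.Agent.Lib.Helper2.Inv.exists_surjective_of_involves hinv
  have hψ'' : Function.Surjective ((Cfsg.Agent.Lib.Helper1.QdB.linPart (p := p)).comp ψ') :=
    Cfsg.Agent.Lib.Helper1.QdB.linPart_surjective.comp hψ'
  haveI hn' : ((Q.subgroupOf (normalizerIn (P : Subgroup G) Q)).map ι').Normal :=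
    map_normal_of_isModel p N ι' hL hQn
  obtain ⟨Z', hZ'n, hZ'p, hfZ'⟩ : ∃ Z' : Subgroup L, Z'.Normal ∧ IsPGroup p ↥Z' ∧
      ∀ (c : G) (hcN : c ∈ Subgroup.normalizer
        ((((Q.subgroupOf (P : Subgroup G)).map (P : Subgroup G).subtype : Subgroup G)) : Set G)),
        c ∈ Subgroup.centralizer (Q : Set G) → f ⟨c, hcN⟩ ∈ Z' := by
    refine ⟨Subgroup.centralizer
      (((Q.subgroupOf (normalizerIn (P : Subgroup G) Q)).map ι' : Subgroup L) : Set L),
      inferInstance, ?_, ?_⟩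
    · rintro ⟨g, hg⟩
      have hg' : ∀ q : ↥(Q.subgroupOf (normalizerIn (P : Subgroup G) Q)),
          g * ι' (q : ↥(normalizerIn (P : Subgroup G) Q)) * g⁻¹ =
            ι' (q : ↥(normalizerIn (P : Subgroup G) Q)) := by
        intro q
        have h1 := Subgroup.mem_centralizer_iff.mp hg
          (ι' (q : ↥(normalizerIn (P : Subgroup G) Q))) ⟨q, q.2, rfl⟩
        rw [← h1, mul_inv_cancel_right]
      obtain ⟨z, hz⟩ := Cfsg.Agent.Lib.Helper1.MU.centralizer_le_of_isModel p hTp N ι' hL hQn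
        hQcN g hg'
      obtain ⟨k, hk⟩ := hTp ((z : ↥(Q.subgroupOf (normalizerIn (P : Subgroup G) Q))) :
        ↥(normalizerIn (P : Subgroup G) Q))
      refine ⟨k, Subtype.ext ?_⟩
      show g ^ p ^ k = 1
      rw [hz, ← map_pow, hk, map_one]
    · intro c hcN hc
      rw [Subgroup.mem_centralizer_iff]
      rintro _ ⟨q, hq, rfl⟩
      have hqQ : ((q : ↥(normalizerIn (P : Subgroup G) Q)) : G) ∈ Q := hq
      rw [← hfι q, ← map_mul, ← map_mul]
      congr 1
      apply Subtype.ext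
      show ((q : ↥(normalizerIn (P : Subgroup G) Q)) : G) * c =
        c * ((q : ↥(normalizerIn (P : Subgroup G) Q)) : G)
      exact Subgroup.mem_centralizer_iff.mp hc _ hqQ
  haveI := hZ'n
  have hker : ∀ k : ↥K', (k : L) ∈ Z' →
      ((Cfsg.Agent.Lib.Helper1.QdB.linPart (p := p)).comp ψ') k = 1 := by
    intro k hk
    haveI : ((Z'.subgroupOf K').map
        ((Cfsg.Agent.Lib.Helper1.QdB.linPart (p := p)).comp ψ')).Normal :=
      (inferInstance : (Z'.subgroupOf K').Normal).map _ hψ''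
    have hp' : IsPGroup p ↥((Z'.subgroupOf K').map
        ((Cfsg.Agent.Lib.Helper1.QdB.linPart (p := p)).comp ψ')) :=
      (hZ'p.comap_subtype).map _
    have hbot := Cfsg.Agent.Lib.Helper1.QdB.normal_pgroup_SL2_eq_bot _ hp'
    have hmem : ((Cfsg.Agent.Lib.Helper1.QdB.linPart (p := p)).comp ψ') k ∈
        (Z'.subgroupOf K').map ((Cfsg.Agent.Lib.Helper1.QdB.linPart (p := p)).comp ψ') :=
      ⟨k, hk, rfl⟩
    rw [hbot, Subgroup.mem_bot] at hmem
    exact hmem
  obtain ⟨ψb, hψb⟩ := exists_descend Z' K' _ hker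
  have hψbs : Function.Surjective ψb := by
    intro m
    obtain ⟨k, hk⟩ := hψ'' m
    exact ⟨_, (hψb k).trans hk⟩
  obtain ⟨H, J, hJn, hJH, hHG, hcJ, hiso⟩ := exists_section _ ((QuotientGroup.mk' Z').comp f)
    (K'.map (QuotientGroup.mk' Z')) ψb ((QuotientGroup.mk'_surjective Z').comp hfsurj) hψbs
  refine ⟨H, J, hJn, ?_, hJH, ?_, hiso⟩
  · intro c hc
    have hcN : c ∈ Subgroup.normalizer
        ((((Q.subgroupOf (P : Subgroup G)).map (P : Subgroup G).subtype : Subgroup G)) : Set G) := by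
      rw [hQ'']
      exact Subgroup.centralizer_le_normalizer _ hc
    apply hcJ ⟨c, hcN⟩
    show (QuotientGroup.mk' Z') (f ⟨c, hcN⟩) = 1
    rw [QuotientGroup.mk'_apply, QuotientGroup.eq_one_iff]
    exact hfZ' c hcN hc
  · intro x hx
    have := hHG hx
    rw [hQ''] at this
    exact this

end Cfsg.Agent.Lib.Helper2.ZF
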