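import Mathlib
import Cfsg.Agent.Lib.Helper1.FStab6
import Cfsg.Agent.Lib.Helper1.KN8
import Cfsg.Agent.Lib.Helper9.NormalCrit
import Cfsg.Agent.Lib.Helper9.Hyperfocal3
import Cfsg.Agent.Lib.Helper9.WeaklyClosed1
import Cfsg.Agent.Lib.Helper2.SE5
import Cfsg.Agent.S5145

set_option autoImplicit false
set_option linter.style.haveILetI false
set_option linter.unusedSectionVars false
set_option linter.unusedVariables false
set_option maxHeartbeats 1000000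

/-! In a saturated fusion system whose core `O_p(F)` is centric, the core is radical. -/

namespace Cfsg.Agent.Lib.Helper2.ZF

open Cfsg Cfsg.FusionSystem Cfsg.Agent.Lib.Helper9 Cfsg.Agent.Lib.Helper1.FStab

variable {Ω : Type*} [Group Ω] {S : Subgroup Ω}

theorem pow_apply_of_fix {R : Type*} [Group R] (δ : MulAut R) (r : R)
    (h : δ (r⁻¹ * δ r) = r⁻¹ * δ r) (j : ℕ) : (δ ^ j) r = r * (r⁻¹ * δ r) ^ j := by
  induction j with
  | zero => simp
  | succ j ih =>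
    have e1 : (δ ^ (j + 1)) r = δ ((δ ^ j) r) := by rw [pow_succ', MulAut.mul_apply]
    rw [e1, ih, map_mul, map_pow, h, pow_succ' (r⁻¹ * δ r) j, ← mul_assoc, mul_inv_cancel_left]

/-- an automorphism of `R` fixing a self-centralizing normal subgroup `Q` pointwise has order
dividing `|R|` -/
theorem aut_pow_card_eq_one {R Q : Subgroup Ω} [Finite ↥R] (hRS : R ≤ S) (hQR : Q ≤ R)
    (hnorm : ∀ r ∈ R, ∀ q ∈ Q, r * q * r⁻¹ ∈ Q) (hCQ : centralizerIn S Q ≤ Q)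
    (δ : MulAut ↥R) (hfix : ∀ (q : Ω) (hq : q ∈ Q), ((δ ⟨q, hQR hq⟩ : ↥R) : Ω) = q) :
    δ ^ Nat.card ↥R = 1 := by
  have hz : ∀ r : ↥R, ((r : Ω)⁻¹ * ((δ r : ↥R) : Ω)) ∈ Q := by
    intro r
    apply hCQ
    refine ⟨S.mul_mem (S.inv_mem (hRS r.2)) (hRS (δ r).2), ?_⟩
    show _ ∈ Subgroup.centralizer (Q : Set Ω)
    rw [Subgroup.mem_centralizer_iff]
    intro q hq
    have hq' : q ∈ Q := hq
    have hconj := hnorm r r.2 q hq'
    have h1 : ((δ ⟨(r : Ω) * q * (r : Ω)⁻¹, hQR hconj⟩ : ↥R) : Ω) = (r : Ω) * q * (r : Ω)⁻¹ :=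
      hfix _ hconj
    have h2 : (⟨(r : Ω) * q * (r : Ω)⁻¹, hQR hconj⟩ : ↥R) = r * ⟨q, hQR hq'⟩ * r⁻¹ :=
      Subtype.ext rfl
    rw [h2, map_mul, map_mul, map_inv] at h1
    have h3 : ((δ r : ↥R) : Ω) * q * ((δ r : ↥R) : Ω)⁻¹ = (r : Ω) * q * (r : Ω)⁻¹ := by
      have h4 : ((δ r * δ ⟨q, hQR hq'⟩ * (δ r)⁻¹ : ↥R) : Ω) =
          ((δ r : ↥R) : Ω) * ((δ ⟨q, hQR hq'⟩ : ↥R) : Ω) * ((δ r : ↥R) : Ω)⁻¹ := rfl
      rw [h4, hfix q hq'] at h1
      exact h1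
    calc q * ((r : Ω)⁻¹ * ((δ r : ↥R) : Ω))
        = (r : Ω)⁻¹ * ((r : Ω) * q * (r : Ω)⁻¹) * ((δ r : ↥R) : Ω) := by group
      _ = (r : Ω)⁻¹ * (((δ r : ↥R) : Ω) * q * ((δ r : ↥R) : Ω)⁻¹) * ((δ r : ↥R) : Ω) := by
          rw [h3]
      _ = (r : Ω)⁻¹ * ((δ r : ↥R) : Ω) * q := by group
  have hfix' : ∀ r : ↥R, δ (r⁻¹ * δ r) = r⁻¹ * δ r := by
    intro r
    apply Subtype.ext
    have h2 : (r⁻¹ * δ r : ↥R) = ⟨(r : Ω)⁻¹ * ((δ r : ↥R) : Ω), hQR (hz r)⟩ := Subtype.ext rfl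
    rw [h2]
    exact hfix _ (hz r)
  apply MulEquiv.ext
  intro r
  rw [pow_apply_of_fix δ r (hfix' r), pow_card_eq_one', mul_one]
  rfl

/-- the core normalizer of a normal subgroup is strongly closed -/
theorem coreNormalizer_stronglyClosed [Finite S] {p : ℕ} [Fact p.Prime] (hS : IsPGroup p S)
    (F : FusionSystem S) {Q : Subgroup Ω} (hQ : F.IsNormal Q) :
    F.StronglyClosed (coreNormalizer p F Q) := by
  refine ⟨coreNormalizer_le p F Q, fun R hR φ hφ x => ?_⟩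
  have hQS : Q ≤ S := hQ.1
  obtain ⟨ψ, hψ, hψφ, hψQ⟩ := hQ.2 R φ hφ
  have hψQ' : ψ.comp (Subgroup.inclusion (le_sup_right : Q ≤ R ⊔ Q)) ∈ F.Hom Q :=
    restrict_mem F hψ le_sup_right
  have hr : (ψ.comp (Subgroup.inclusion (le_sup_right : Q ≤ R ⊔ Q))).range = Q := by
    apply le_antisymm
    · rintro _ ⟨q, rfl⟩
      exact hψQ.le ⟨Subgroup.inclusion le_sup_right q, q.2, rfl⟩
    · intro y hy
      obtain ⟨z, hz, hzy⟩ := hψQ.ge hy
      exact ⟨⟨(z : Ω), hz⟩, hzy⟩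
  obtain ⟨α, hα, hαψ⟩ := exists_aut_of_hom F hψQ' hr
  have hαψ' : ∀ q : ↥Q, ((α q : ↥Q) : Ω) =
      ψ (Subgroup.inclusion (le_sup_right : Q ≤ R ⊔ Q) q) := fun q => hαψ q
  have hxD : (x : Ω) ∈ coreNormalizer p F Q := hR x.2
  rw [mem_coreNormalizer_iff] at hxD
  obtain ⟨hxS, hxN, hxO⟩ := hxD
  have hformula : ∀ y : ↥Q, (((α * conjAut Q ⟨x, hxN⟩ * α⁻¹) y : ↥Q) : Ω) =
      φ x * y * (φ x)⁻¹ := by
    intro y
    show ((α (conjAut Q ⟨x, hxN⟩ (α⁻¹ y)) : ↥Q) : Ω) = _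
    rw [hαψ']
    have h2 : (Subgroup.inclusion (le_sup_right : Q ≤ R ⊔ Q)
        (conjAut Q ⟨x, hxN⟩ (α⁻¹ y)) : (R ⊔ Q : Subgroup Ω)) =
        Subgroup.inclusion (le_sup_left : R ≤ R ⊔ Q) x *
          Subgroup.inclusion (le_sup_right : Q ≤ R ⊔ Q) (α⁻¹ y) *
          (Subgroup.inclusion (le_sup_left : R ≤ R ⊔ Q) x)⁻¹ := by
      apply Subtype.ext
      rfl
    rw [h2, map_mul, map_mul, map_inv, hψφ, ← hαψ', MulAut.apply_inv_self]
  have hyN : φ x ∈ Subgroup.normalizer (Q : Set Ω) := mem_normalizer_of_induces _ hformula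
  rw [mem_coreNormalizer_iff]
  refine ⟨hom_mem F hφ x, hyN, ?_⟩
  have : conjAut Q ⟨φ x, hyN⟩ = α * conjAut Q ⟨x, hxN⟩ * α⁻¹ := by
    ext y
    rw [hformula y]
    rfl
  rw [this]
  exact opAut_conj_mem p F Q hα hxO

/-- the core normalizer of a normal centric subgroup lies in every centric radical subgroup -/
theorem coreNormalizer_le_centric_radical [Finite S] {p : ℕ} [Fact p.Prime] (hS : IsPGroup p S)
    (F : FusionSystem S) {Q : Subgroup Ω} (hQ : F.IsNormal Q) (hQc : F.IsCentric Q)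
    {R : Subgroup Ω} (hRc : F.IsCentric R) (hRr : F.IsRadical p R) :
    coreNormalizer p F Q ≤ R := by
  have hQS := hQ.1
  have hRS := hRc.1
  have hQR : Q ≤ R := normal_le_centric_radical hS F hQ hRc hRr
  have hQsc := stronglyClosed_of_normal F hQ
  have hDsc := coreNormalizer_stronglyClosed hS F hQ
  have hDS : coreNormalizer p F Q ≤ S := coreNormalizer_le p F Q
  have hCR : centralizerIn S R ≤ R := hRc.2 R (isConj_refl F hRS)
  have hCQ : centralizerIn S Q ≤ Q := hQc.2 Q (isConj_refl F hQS)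
  haveI : Finite ↥R := finite_of_le hRS
  haveI : Finite ↥Q := finite_of_le hQS
  haveI hfinAut : Finite (MulAut ↥Q) := finite_mulAut_of_le hQS
  have hnormQ : ∀ r ∈ R, ∀ q ∈ Q, r * q * r⁻¹ ∈ Q := fun r hr q hq =>
    Cfsg.Agent.Lib.Helper1.KN.conj_mem_of_isNormal F hQ (hRS hr) hq
  obtain ⟨ρ, hρ⟩ : ∃ ρ : ↥(F.autGroup R) →* ↥(F.autGroup Q), ∀ (β : ↥(F.autGroup R)) (t : ↥Q),
      ((((ρ β : ↥(F.autGroup Q)) : MulAut ↥Q) t : ↥Q) : Ω) =
        (((β : MulAut ↥R) ⟨t, hQR t.2⟩ : ↥R) : Ω) :=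
    ⟨resAutF F hQsc hQR hRS, fun β t => resAutF_apply F hQsc hQR hRS β t⟩
  have hOp : IsPGroup p ↥(pCore p ↥(F.autGroup Q)) := Cfsg.Agent.Lib.Helper1.pCore_isPGroup p
  have hKn : ((pCore p ↥(F.autGroup Q)).comap ρ).Normal :=
    (Cfsg.Agent.Lib.Helper1.pCore_normal p).comap ρ
  have hKp : IsPGroup p ↥((pCore p ↥(F.autGroup Q)).comap ρ) := by
    rintro ⟨γ, hγ⟩
    have hγ' : ρ γ ∈ pCore p ↥(F.autGroup Q) := hγ
    obtain ⟨a, ha⟩ := hOp ⟨ρ γ, hγ'⟩
    have ha1 : (ρ γ) ^ p ^ a = 1 := by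
      have := congrArg Subtype.val ha
      rw [Subgroup.coe_pow, Subgroup.coe_one] at this
      exact this
    have ha' : ρ (γ ^ p ^ a) = 1 := by rw [map_pow, ha1]
    obtain ⟨b, hb⟩ := (isPGroup_of_le hS hRS).exists_card_eq
    have hfixQ : ∀ (q : Ω) (hq : q ∈ Q),
        (((((γ ^ p ^ a : ↥(F.autGroup R)) : MulAut ↥R)) ⟨q, hQR hq⟩ : ↥R) : Ω) = q := by
      intro q hq
      have h1 := hρ (γ ^ p ^ a) ⟨q, hq⟩
      rw [ha', Subgroup.coe_one, MulAut.one_apply] at h1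
      exact h1.symm
    have hδ := aut_pow_card_eq_one hRS hQR hnormQ hCQ
      ((γ ^ p ^ a : ↥(F.autGroup R)) : MulAut ↥R) hfixQ
    rw [hb] at hδ
    refine ⟨a + b, Subtype.ext ?_⟩
    apply Subtype.ext
    show ((γ ^ p ^ (a + b) : ↥(F.autGroup R)) : MulAut ↥R) = 1
    rw [pow_add, pow_mul, Subgroup.coe_pow]
    exact hδ
  have hKle : (pCore p ↥(F.autGroup Q)).comap ρ ≤ pCore p ↥(F.autGroup R) :=
    Cfsg.Agent.Lib.Helper1.le_pCore hKn hKp
  -- elements of `D` normalizing `R` lie in `R`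
  have hND : ∀ g ∈ coreNormalizer p F Q, g ∈ Subgroup.normalizer (R : Set Ω) → g ∈ R := by
    intro g hgD hgN
    by_contra hgR
    have hgS : g ∈ S := hDS hgD
    have hcg : conjAut R ⟨g, hgN⟩ ∈ F.autGroup R :=
      autInducedBy_le_autGroup F hRS
        ((mem_autInducedBy_iff S R _).mpr ⟨g, hgS, fun x => rfl⟩)
    have hK : (⟨conjAut R ⟨g, hgN⟩, hcg⟩ : ↥(F.autGroup R)) ∈
        (pCore p ↥(F.autGroup Q)).comap ρ := by
      show ρ ⟨conjAut R ⟨g, hgN⟩, hcg⟩ ∈ pCore p ↥(F.autGroup Q)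
      rw [mem_coreNormalizer_iff] at hgD
      obtain ⟨-, hgNQ, hgO⟩ := hgD
      obtain ⟨o, ho, hoeq⟩ := hgO
      have hoeq' : (o : MulAut ↥Q) = conjAut Q ⟨g, hgNQ⟩ := hoeq
      have : ρ ⟨conjAut R ⟨g, hgN⟩, hcg⟩ = o := by
        apply Subtype.ext
        rw [hoeq']
        apply MulEquiv.ext
        intro t
        apply Subtype.ext
        rw [hρ]
        rfl
      rw [this]
      exact ho
    have h1 := hKle hK
    have h2 : conjAut R ⟨g, hgN⟩ ∈ Inn ↥R := by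
      rw [← hRr.2]
      exact ⟨_, h1, rfl⟩
    exact not_mem_inn_of_not_mem hCR hgS hgR hRS (fun x => rfl) h2
  -- `D` is normal in `S`
  have hDn : ∀ s ∈ S, ∀ d ∈ coreNormalizer p F Q, s * d * s⁻¹ ∈ coreNormalizer p F Q := by
    intro s hs d hd
    exact hDsc.2 _ le_rfl (conjHom _ s) (F.conj_mem hDS hs) ⟨d, hd⟩
  by_contra hDR
  have hRDS : R ⊔ coreNormalizer p F Q ≤ S := sup_le hRS hDS
  have hlt : R < R ⊔ coreNormalizer p F Q :=
    lt_of_le_of_ne le_sup_left (fun h => hDR (h ▸ le_sup_right))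
  haveI : Finite (R ⊔ coreNormalizer p F Q : Subgroup Ω) := finite_of_le hRDS
  obtain ⟨g, hgN, hgR⟩ :=
    exists_mem_normalizerIn_not_mem (S := R ⊔ coreNormalizer p F Q) (isPGroup_of_le hS hRDS) hlt
  obtain ⟨r, hr, d, hd, hrd⟩ := Cfsg.Agent.Lib.Helper2.SE.exists_mul_of_mem_sup
    (fun x hx c hc => hDn x (hRS hx) c hc) hgN.1
  apply hgR
  rw [hrd]
  apply R.mul_mem hr
  apply hND d hd
  have hdeq : d = r⁻¹ * g := by rw [hrd]; group
  rw [hdeq]
  exact (Subgroup.normalizer (R : Set Ω)).mul_mem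
    ((Subgroup.normalizer (R : Set Ω)).inv_mem (Subgroup.le_normalizer hr)) hgN.2

/-- if the core is centric, its core normalizer is the core itself -/
theorem coreNormalizer_core_eq [Finite S] {p : ℕ} [Fact p.Prime] (hS : IsPGroup p S)
    (F : FusionSystem S) (hF : F.IsSaturated p) (hQc : F.IsCentric F.core) :
    coreNormalizer p F F.core = F.core := by
  have hQn : F.IsNormal F.core := Cfsg.Agent.S5145.result F
  apply le_antisymm _ (self_le_coreNormalizer hS F hQn.1)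
  have hDn : F.IsNormal (coreNormalizer p F F.core) := by
    rw [normal_iff_stronglyClosed_le_centric_radical p hS F hF]
    exact ⟨coreNormalizer_stronglyClosed hS F hQn,
      fun R hRc hRr => coreNormalizer_le_centric_radical hS F hQn hQc hRc hRr⟩
  show coreNormalizer p F F.core ≤ sSup {Q : Subgroup Ω | F.IsNormal Q}
  exact le_sSup hDn

/-- **In a saturated system with centric core, the core is radical.** -/
theorem core_radical [Finite S] {p : ℕ} [Fact p.Prime] (hS : IsPGroup p S)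
    (F : FusionSystem S) (hF : F.IsSaturated p) (hQc : F.IsCentric F.core) :
    F.IsRadical p F.core :=
  (centric_radical_of_coreNormalizer_eq hS F hF
    (fullyNormalized_of_stronglyClosed F (stronglyClosed_of_normal F (Cfsg.Agent.S5145.result F)))
    (coreNormalizer_core_eq hS F hF hQc)).2

/-- the core of a constrained system is centric -/
theorem core_centric_of_constrained [Finite S] (F : FusionSystem S) {p : ℕ}
    (h : F.IsConstrained p) : F.IsCentric F.core := by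
  obtain ⟨-, Q₁, hQ₁n, hQ₁c⟩ := h
  have hQn := Cfsg.Agent.S5145.result F
  have hsc := stronglyClosed_of_normal F hQn
  refine ⟨hQn.1, fun Q' hQ' => ?_⟩
  rw [eq_of_isConj_of_stronglyClosed F hsc hQ']
  have h1 : Q₁ ≤ F.core := by
    show Q₁ ≤ sSup {Q : Subgroup Ω | F.IsNormal Q}
    exact le_sSup hQ₁n
  intro x hx
  apply h1
  apply hQ₁c.2 Q₁ (isConj_refl F hQ₁c.1)
  exact ⟨hx.1, Subgroup.centralizer_le (show (Q₁ : Set Ω) ⊆ (F.core : Set Ω) from h1) hx.2⟩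

end Cfsg.Agent.Lib.Helper2.ZF
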