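import Mathlib
import Cfsg.Agent.Lib.Helper1.FStab6
import Cfsg.Agent.Lib.Helper1.KN8
import Cfsg.Agent.Lib.Helper9.GroupFusionSat
import Cfsg.Agent.Lib.Helper2.SE5

set_option autoImplicit false
set_option linter.style.haveILetI false
set_option linter.unusedSectionVars false
set_option linter.unusedVariables false
set_option maxHeartbeats 1000000

/-! Translations between group-theoretic and fusion-theoretic centric radical subgroups, and
control of strong fusion by the normalizer of a subgroup normal in the fusion system. -/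

namespace Cfsg.Agent.Lib.Helper2.ZF

open Cfsg Cfsg.FusionSystem Cfsg.Agent.Lib.Helper9 Cfsg.Agent.Lib.Helper1.FStab

variable {G : Type*} [Group G]

theorem conj_mem_centralizer {Q : Subgroup G} {n c : G}
    (hn : n ∈ Subgroup.normalizer (Q : Set G)) (hc : c ∈ Subgroup.centralizer (Q : Set G)) :
    n * c * n⁻¹ ∈ Subgroup.centralizer (Q : Set G) := by
  rw [Subgroup.mem_centralizer_iff]
  intro q hq
  have hq' : n⁻¹ * q * n ∈ Q := conj_inv_mem_of_mem_normalizer hn hq
  have h1 := Subgroup.mem_centralizer_iff.mp hc _ hq'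
  calc q * (n * c * n⁻¹) = n * (n⁻¹ * q * n * c) * n⁻¹ := by group
    _ = n * (c * (n⁻¹ * q * n)) * n⁻¹ := by rw [h1]
    _ = n * c * n⁻¹ * q := by group

theorem exists_mul_of_mem_sup_centralizer {Q : Subgroup G} {z : G}
    (hz : z ∈ Q ⊔ Subgroup.centralizer (Q : Set G)) :
    ∃ q ∈ Q, ∃ c ∈ Subgroup.centralizer (Q : Set G), z = q * c :=
  Cfsg.Agent.Lib.Helper2.SE.exists_mul_of_mem_sup
    (fun x hx c hc => conj_mem_centralizer (Subgroup.le_normalizer hx) hc) hz

theorem sup_conj_mem {Q : Subgroup G} {n z : G} (hn : n ∈ Subgroup.normalizer (Q : Set G))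
    (hz : z ∈ Q ⊔ Subgroup.centralizer (Q : Set G)) :
    n * z * n⁻¹ ∈ Q ⊔ Subgroup.centralizer (Q : Set G) := by
  obtain ⟨q, hq, c, hc, rfl⟩ := exists_mul_of_mem_sup_centralizer hz
  have e : n * (q * c) * n⁻¹ = (n * q * n⁻¹) * (n * c * n⁻¹) := by group
  rw [e]
  exact Subgroup.mul_mem_sup (conj_mem_of_mem_normalizer hn hq) (conj_mem_centralizer hn hc)

/-- conjugation by an element of the centralizer is trivial -/
theorem conjAut_eq_one_of_mem_centralizer {Q : Subgroup G} {c : G}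
    (hc : c ∈ Subgroup.centralizer (Q : Set G))
    (hcN : c ∈ Subgroup.normalizer (Q : Set G)) : conjAut Q ⟨c, hcN⟩ = 1 := by
  ext x
  show c * (x : G) * c⁻¹ = x
  have h1 := (Subgroup.mem_centralizer_iff.mp hc) x x.2
  rw [← h1]
  group

/-- an element acting trivially centralizes -/
theorem mem_centralizer_of_conjAut_eq_one {Q : Subgroup G} {c : G}
    (hcN : c ∈ Subgroup.normalizer (Q : Set G)) (h : conjAut Q ⟨c, hcN⟩ = 1) :
    c ∈ Subgroup.centralizer (Q : Set G) := by
  rw [Subgroup.mem_centralizer_iff]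
  intro t ht
  have h1 : ((conjAut Q ⟨c, hcN⟩ ⟨t, ht⟩ : ↥Q) : G) = t := by rw [h]; rfl
  have h2 : c * t * c⁻¹ = t := h1
  calc t * c = (c * t * c⁻¹) * c := by rw [h2]
    _ = c * t := by group

/-- **Control of strong fusion by the normalizer of a subgroup normal in the fusion system.** -/
theorem control_of_normal {S Q : Subgroup G} (hQ : (groupFusionSystem S).IsNormal Q)
    {A : Subgroup G} (hA : A ≤ S) {g : G} (hAg : A.map (MulAut.conj g).toMonoidHom ≤ S) :
    ∃ h ∈ Subgroup.normalizer (Q : Set G), ∃ c ∈ Subgroup.centralizer (A : Set G), g = h * c := by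
  obtain ⟨ψ, hψ, hψA, hψQ⟩ := hQ.2 A (conjHom A g) (groupFusion_conjHom_mem hA hAg)
  obtain ⟨h, rfl⟩ := groupFusion_hom_eq_conjHom hψ
  refine ⟨h, ?_, h⁻¹ * g, ?_, (mul_inv_cancel_left h g).symm⟩
  · rw [Subgroup.mem_normalizer_iff]
    intro y
    constructor
    · intro hy
      exact hψQ.le ⟨⟨y, (le_sup_right : Q ≤ A ⊔ Q) hy⟩, hy, rfl⟩
    · intro hy
      obtain ⟨z, hz, hzy⟩ := hψQ.ge hy
      have hzy' : h * (z : G) * h⁻¹ = h * y * h⁻¹ := hzy
      have : (z : G) = y := mul_left_cancel (mul_right_cancel hzy')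
      rw [← this]
      exact hz
  · rw [Subgroup.mem_centralizer_iff]
    intro a ha
    have h1 : h * a * h⁻¹ = g * a * g⁻¹ := hψA ⟨a, ha⟩
    calc a * (h⁻¹ * g) = h⁻¹ * (h * a * h⁻¹) * g := by group
      _ = h⁻¹ * (g * a * g⁻¹) * g := by rw [h1]
      _ = h⁻¹ * g * a := by group

theorem map_conj_eq_of_normal {S Q : Subgroup G} (hQ : (groupFusionSystem S).IsNormal Q)
    {x : G} (hx : x ∈ S) : Q.map (MulAut.conj x).toMonoidHom = Q := by
  have key : ∀ y ∈ S, ∀ q ∈ Q, y * q * y⁻¹ ∈ Q := fun y hy q hq =>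
    Cfsg.Agent.Lib.Helper1.KN.conj_mem_of_isNormal _ hQ hy hq
  apply le_antisymm
  · rintro _ ⟨q, hq, rfl⟩
    exact key x hx q hq
  · intro q hq
    refine ⟨x⁻¹ * q * x, ?_, ?_⟩
    · have := key x⁻¹ (S.inv_mem hx) q hq
      rwa [inv_inv] at this
    · show x * (x⁻¹ * q * x) * x⁻¹ = q
      group

section sylow

variable [Finite G] {p : ℕ} [Fact p.Prime]

/-- a normal `p`-subgroup of `Aut_F(Q)` lies in `O_p(Aut_F(Q))` -/
theorem le_opAut_of_normal_pgroup {S : Subgroup G} (F : FusionSystem S) {Q : Subgroup G}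
    {B : Subgroup (MulAut ↥Q)} (hB : B ≤ F.autGroup Q)
    (hn : ∀ a ∈ F.autGroup Q, ∀ b ∈ B, a * b * a⁻¹ ∈ B) (hp : IsPGroup p ↥B) :
    B ≤ opAut p F Q := by
  have hN : (B.subgroupOf (F.autGroup Q)).Normal := ⟨fun b hb a => hn a a.2 b hb⟩
  have hP : IsPGroup p ↥(B.subgroupOf (F.autGroup Q)) := hp.comap_subtype
  have h3 := Cfsg.Agent.Lib.Helper1.le_pCore hN hP
  intro b hb
  exact ⟨⟨b, hB hb⟩, h3 hb, rfl⟩

theorem conjAut_mem_autGroup (P : Sylow p G) {Q : Subgroup G} (hQP : Q ≤ (P : Subgroup G))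
    (n : ↥(Subgroup.normalizer (Q : Set G))) :
    conjAut Q n ∈ (groupFusionSystem (P : Subgroup G)).autGroup Q := by
  rw [groupFusion_autGroup_eq hQP, ← range_conjAut_eq]
  exact ⟨n, rfl⟩

theorem exists_conjAut_of_mem_autGroup (P : Sylow p G) {Q : Subgroup G}
    (hQP : Q ≤ (P : Subgroup G)) {a : MulAut ↥Q}
    (ha : a ∈ (groupFusionSystem (P : Subgroup G)).autGroup Q) :
    ∃ n : ↥(Subgroup.normalizer (Q : Set G)), conjAut Q n = a := by
  rw [groupFusion_autGroup_eq hQP, ← range_conjAut_eq] at ha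
  exact ha

/-- a fusion-centric, fusion-radical, fully centralized subgroup is centric radical in the
group-theoretic sense -/
theorem cr_of_centric_radical (P : Sylow p G) {Q : Subgroup G}
    (hQfc : (groupFusionSystem (P : Subgroup G)).IsFullyCentralized Q)
    (hQc : (groupFusionSystem (P : Subgroup G)).IsCentric Q)
    (hQr : (groupFusionSystem (P : Subgroup G)).IsRadical p Q) :
    Q ≤ (P : Subgroup G) ∧
      (∃ R : Sylow p ↥(Subgroup.centralizer (Q : Set G)),
        (R : Subgroup ↥(Subgroup.centralizer (Q : Set G))).map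
          (Subgroup.centralizer (Q : Set G)).subtype = Q ⊓ Subgroup.centralizer (Q : Set G)) ∧
      ∀ X : Subgroup G, X ≤ Subgroup.normalizer (Q : Set G) →
        (∀ n ∈ Subgroup.normalizer (Q : Set G), X.map (MulAut.conj n).toMonoidHom = X) →
        Q ⊔ Subgroup.centralizer (Q : Set G) ≤ X →
        (∃ k : ℕ, (Q ⊔ Subgroup.centralizer (Q : Set G)).relIndex X = p ^ k) →
        X = Q ⊔ Subgroup.centralizer (Q : Set G) := by
  have hQP := hQc.1
  have hS : IsPGroup p ↥(P : Subgroup G) := P.isPGroup'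
  refine ⟨hQP, ?_, ?_⟩
  · obtain ⟨R, hR⟩ := (groupFusion_fullyCentralized_iff P Q hQP).mp hQfc
    refine ⟨R, ?_⟩
    rw [hR, Subgroup.subgroupOf_map_subtype]
    have hC : centralizerIn (P : Subgroup G) Q ≤ Q := hQc.2 Q (isConj_refl _ hQP)
    apply le_antisymm
    · intro x hx
      exact ⟨hC hx.1, hx.2⟩
    · intro x hx
      exact ⟨⟨hQP hx.1, hx.2⟩, hx.2⟩
  · intro X hXN hXn hQCX hidx
    obtain ⟨k, hk⟩ := hidx
    apply le_antisymm _ hQCX
    -- the image of `X` in `Aut(Q)`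
    have hBle : (X.subgroupOf (Subgroup.normalizer (Q : Set G))).map (conjAut Q) ≤
        (groupFusionSystem (P : Subgroup G)).autGroup Q := by
      rintro _ ⟨n, -, rfl⟩
      exact conjAut_mem_autGroup P hQP n
    have hBn : ∀ a ∈ (groupFusionSystem (P : Subgroup G)).autGroup Q,
        ∀ b ∈ (X.subgroupOf (Subgroup.normalizer (Q : Set G))).map (conjAut Q),
        a * b * a⁻¹ ∈ (X.subgroupOf (Subgroup.normalizer (Q : Set G))).map (conjAut Q) := by
      rintro a ha _ ⟨n', hn', rfl⟩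
      obtain ⟨m, rfl⟩ := exists_conjAut_of_mem_autGroup P hQP ha
      refine ⟨m * n' * m⁻¹, ?_, ?_⟩
      · show ((m * n' * m⁻¹ : ↥(Subgroup.normalizer (Q : Set G))) : G) ∈ X
        have h1 : (m : G) * (n' : G) * (m : G)⁻¹ ∈ X.map (MulAut.conj (m : G)).toMonoidHom :=
          ⟨n', hn', rfl⟩
        rw [hXn m m.2] at h1
        exact h1
      · rw [map_mul, map_mul, map_inv]
    have hHn : ((Q ⊔ Subgroup.centralizer (Q : Set G)).subgroupOf X).Normal := by
      constructor
      intro z hz x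
      show ((x * z * x⁻¹ : ↥X) : G) ∈ Q ⊔ Subgroup.centralizer (Q : Set G)
      exact sup_conj_mem (hXN x.2) hz
    have hBp : IsPGroup p
        ↥((X.subgroupOf (Subgroup.normalizer (Q : Set G))).map (conjAut Q)) := by
      rintro ⟨_, n', hn', rfl⟩
      have hxX : (n' : G) ∈ X := hn'
      haveI := hHn
      have h1 := Subgroup.pow_index_mem
        ((Q ⊔ Subgroup.centralizer (Q : Set G)).subgroupOf X) ⟨(n' : G), hxX⟩
      have hk' : ((Q ⊔ Subgroup.centralizer (Q : Set G)).subgroupOf X).index = p ^ k := hk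
      rw [hk'] at h1
      have h2 : (n' : G) ^ p ^ k ∈ Q ⊔ Subgroup.centralizer (Q : Set G) := h1
      obtain ⟨q, hq, c, hc, hqc⟩ := exists_mul_of_mem_sup_centralizer h2
      obtain ⟨m, hm⟩ := (hS.to_le hQP) ⟨q, hq⟩
      have hm' : (⟨q, hq⟩ : ↥Q) ^ p ^ m = 1 := hm
      have h3 : conjAut Q (n' ^ p ^ k) = MulAut.conj (⟨q, hq⟩ : ↥Q) := by
        ext t
        show ((n' ^ p ^ k : ↥(Subgroup.normalizer (Q : Set G))) : G) * (t : G) *
          ((n' ^ p ^ k : ↥(Subgroup.normalizer (Q : Set G))) : G)⁻¹ = q * (t : G) * q⁻¹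
        have h4 : ((n' ^ p ^ k : ↥(Subgroup.normalizer (Q : Set G))) : G) = q * c := by
          rw [Subgroup.coe_pow]
          exact hqc
        have hct : (t : G) * c = c * t := Subgroup.mem_centralizer_iff.mp hc t t.2
        rw [h4]
        calc q * c * (t : G) * (q * c)⁻¹ = q * (c * t) * c⁻¹ * q⁻¹ := by group
          _ = q * ((t : G) * c) * c⁻¹ * q⁻¹ := by rw [hct]
          _ = q * (t : G) * q⁻¹ := by group
      refine ⟨k + m, Subtype.ext ?_⟩
      show (conjAut Q n') ^ p ^ (k + m) = 1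
      rw [pow_add, pow_mul, ← map_pow, h3, ← map_pow, hm', map_one]
    have hBO := le_opAut_of_normal_pgroup (groupFusionSystem (P : Subgroup G)) hBle hBn hBp
    intro x hx
    have hxN := hXN hx
    have h1 : conjAut Q ⟨x, hxN⟩ ∈ opAut p (groupFusionSystem (P : Subgroup G)) Q :=
      hBO ⟨⟨x, hxN⟩, hx, rfl⟩
    have h2 : conjAut Q ⟨x, hxN⟩ ∈ Inn ↥Q := by
      rw [← hQr.2]
      exact h1
    obtain ⟨q, hq⟩ := h2
    have hc : (q : G)⁻¹ * x ∈ Subgroup.centralizer (Q : Set G) := by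
      rw [Subgroup.mem_centralizer_iff]
      intro t ht
      have h3 : ((MulAut.conj q ⟨t, ht⟩ : ↥Q) : G) = ((conjAut Q ⟨x, hxN⟩ ⟨t, ht⟩ : ↥Q) : G) := by
        rw [hq]
      have h4 : (q : G) * t * (q : G)⁻¹ = x * t * x⁻¹ := h3
      calc t * ((q : G)⁻¹ * x) = (q : G)⁻¹ * ((q : G) * t * (q : G)⁻¹) * x := by group
        _ = (q : G)⁻¹ * (x * t * x⁻¹) * x := by rw [h4]
        _ = (q : G)⁻¹ * x * t := by group
    have hx' : x = (q : G) * ((q : G)⁻¹ * x) := (mul_inv_cancel_left _ _).symm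
    rw [hx']
    exact Subgroup.mul_mem_sup q.2 hc

/-- group-theoretic centric subgroups are centric in the fusion system -/
theorem centric_of_cr (P : Sylow p G) {R : Subgroup G} (hRP : R ≤ (P : Subgroup G))
    (hsyl : ∃ Sy : Sylow p ↥(Subgroup.centralizer (R : Set G)),
      (Sy : Subgroup ↥(Subgroup.centralizer (R : Set G))).map
        (Subgroup.centralizer (R : Set G)).subtype = R ⊓ Subgroup.centralizer (R : Set G)) :
    (groupFusionSystem (P : Subgroup G)).IsCentric R := by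
  obtain ⟨Sy, hSy⟩ := hsyl
  have hSyR : ∀ n : ↥(Subgroup.centralizer (R : Set G)),
      n ∈ (Sy : Subgroup ↥(Subgroup.centralizer (R : Set G))) → (n : G) ∈ R := by
    intro n hn
    have : (n : G) ∈ (Sy : Subgroup ↥(Subgroup.centralizer (R : Set G))).map
        (Subgroup.centralizer (R : Set G)).subtype := ⟨n, hn, rfl⟩
    rw [hSy] at this
    exact this.1
  have hnorm : (Sy : Subgroup ↥(Subgroup.centralizer (R : Set G))).Normal := by
    constructor
    intro n hn g
    have hnR := hSyR n hn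
    have : g * n * g⁻¹ = n := by
      apply Subtype.ext
      show (g : G) * (n : G) * (g : G)⁻¹ = n
      have h1 := Subgroup.mem_centralizer_iff.mp g.2 _ hnR
      rw [← h1, mul_inv_cancel_right]
    rw [this]
    exact hn
  haveI := Sylow.unique_of_normal Sy hnorm
  have key : ∀ y ∈ Subgroup.centralizer (R : Set G), (∃ k : ℕ, y ^ p ^ k = 1) → y ∈ R := by
    rintro y hy ⟨k, hk⟩
    have hz : IsPGroup p ↥(Subgroup.zpowers (⟨y, hy⟩ : ↥(Subgroup.centralizer (R : Set G)))) := by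
      rintro ⟨z, hz⟩
      obtain ⟨i, rfl⟩ := Subgroup.mem_zpowers_iff.mp hz
      refine ⟨k, Subtype.ext ?_⟩
      apply Subtype.ext
      show ((⟨y, hy⟩ : ↥(Subgroup.centralizer (R : Set G))) ^ i : ↥(Subgroup.centralizer (R : Set G))).1
        ^ p ^ k = 1
      have : ((⟨y, hy⟩ : ↥(Subgroup.centralizer (R : Set G))) ^ i :
          ↥(Subgroup.centralizer (R : Set G))).1 = y ^ i := by
        rw [Subgroup.coe_zpow]
      rw [this, ← zpow_natCast, ← zpow_mul, mul_comm, zpow_mul, zpow_natCast, hk, one_zpow]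
    obtain ⟨Sy', hSy'⟩ := hz.exists_le_sylow
    have hSS : Sy' = Sy := Subsingleton.elim _ _
    have hyS : (⟨y, hy⟩ : ↥(Subgroup.centralizer (R : Set G))) ∈
        (Sy : Subgroup ↥(Subgroup.centralizer (R : Set G))) := by
      rw [← hSS]
      exact hSy' (Subgroup.mem_zpowers _)
    exact hSyR _ hyS
  refine ⟨hRP, fun R' hR' => ?_⟩
  obtain ⟨-, hR'P, g, rfl⟩ := groupFusion_isConj_cases hR'
  intro x hx
  have hxP : x ∈ (P : Subgroup G) := hx.1
  have hxC : x ∈ Subgroup.centralizer ((R.map (MulAut.conj g).toMonoidHom : Subgroup G) : Set G) :=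
    hx.2
  have hy : g⁻¹ * x * g ∈ R := by
    apply key
    · rw [Subgroup.mem_centralizer_iff]
      intro r hr
      have h1 := Subgroup.mem_centralizer_iff.mp hxC (g * r * g⁻¹) ⟨r, hr, rfl⟩
      calc r * (g⁻¹ * x * g) = g⁻¹ * (g * r * g⁻¹ * x) * g := by group
        _ = g⁻¹ * (x * (g * r * g⁻¹)) * g := by rw [h1]
        _ = g⁻¹ * x * g * r := by group
    · obtain ⟨k, hk⟩ := P.isPGroup' ⟨x, hxP⟩
      refine ⟨k, ?_⟩
      have hk' : x ^ p ^ k = 1 := by
        have := congrArg Subtype.val hk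
        rw [Subgroup.coe_pow, Subgroup.coe_one] at this
        exact this
      have e : g⁻¹ * x * g = (MulAut.conj g⁻¹) x := by rw [MulAut.conj_apply, inv_inv]
      rw [e, ← map_pow, hk', map_one]
  refine ⟨g⁻¹ * x * g, hy, ?_⟩
  show g * (g⁻¹ * x * g) * g⁻¹ = x
  group

/-- group-theoretic radical subgroups are radical in the fusion system -/
theorem radical_of_cr (P : Sylow p G) {R : Subgroup G} (hRP : R ≤ (P : Subgroup G))
    (hrad : ∀ X : Subgroup G, X ≤ Subgroup.normalizer (R : Set G) →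
        (∀ n ∈ Subgroup.normalizer (R : Set G), X.map (MulAut.conj n).toMonoidHom = X) →
        R ⊔ Subgroup.centralizer (R : Set G) ≤ X →
        (∃ k : ℕ, (R ⊔ Subgroup.centralizer (R : Set G)).relIndex X = p ^ k) →
        X = R ⊔ Subgroup.centralizer (R : Set G)) :
    (groupFusionSystem (P : Subgroup G)).IsRadical p R := by
  have hS : IsPGroup p ↥(P : Subgroup G) := P.isPGroup'
  refine ⟨hRP, ?_⟩
  show opAut p (groupFusionSystem (P : Subgroup G)) R = Inn ↥R
  apply le_antisymm _ (inn_le_opAut hS _ hRP)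
  haveI : Finite (MulAut ↥R) := finite_mulAut_of_le (S := (P : Subgroup G)) hRP
  have hOp : IsPGroup p ↥(opAut p (groupFusionSystem (P : Subgroup G)) R) :=
    (Cfsg.Agent.Lib.Helper1.pCore_isPGroup p).map _
  obtain ⟨X, hXmem⟩ : ∃ X : Subgroup G, ∀ x : G, x ∈ X ↔
      ∃ hx : x ∈ Subgroup.normalizer (R : Set G),
        conjAut R ⟨x, hx⟩ ∈ opAut p (groupFusionSystem (P : Subgroup G)) R := by
    refine ⟨((opAut p (groupFusionSystem (P : Subgroup G)) R).comap (conjAut R)).map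
      (Subgroup.normalizer (R : Set G)).subtype, fun x => ?_⟩
    constructor
    · rintro ⟨n, hn, rfl⟩
      exact ⟨n.2, hn⟩
    · rintro ⟨hx, h⟩
      exact ⟨⟨x, hx⟩, h, rfl⟩
  have hXN : X ≤ Subgroup.normalizer (R : Set G) := by
    intro x hx
    obtain ⟨hx', -⟩ := (hXmem x).mp hx
    exact hx'
  have hle : ∀ n ∈ Subgroup.normalizer (R : Set G), X.map (MulAut.conj n).toMonoidHom ≤ X := by
    rintro n hn _ ⟨x, hx, rfl⟩
    obtain ⟨hxN, hxO⟩ := (hXmem x).mp hx
    show n * x * n⁻¹ ∈ X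
    rw [hXmem]
    have hnx : n * x * n⁻¹ ∈ Subgroup.normalizer (R : Set G) :=
      mul_mem (mul_mem hn hxN) (inv_mem hn)
    refine ⟨hnx, ?_⟩
    have : conjAut R ⟨n * x * n⁻¹, hnx⟩ =
        conjAut R ⟨n, hn⟩ * conjAut R ⟨x, hxN⟩ * (conjAut R ⟨n, hn⟩)⁻¹ := by
      rw [← map_inv, ← map_mul, ← map_mul]
      rfl
    rw [this]
    exact opAut_conj_mem p _ R (conjAut_mem_autGroup P hRP _) hxO
  have hXn : ∀ n ∈ Subgroup.normalizer (R : Set G), X.map (MulAut.conj n).toMonoidHom = X := by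
    intro n hn
    apply le_antisymm (hle n hn)
    intro x hx
    refine ⟨n⁻¹ * x * n, ?_, ?_⟩
    · have h1 := hle n⁻¹ (inv_mem hn) ⟨x, hx, rfl⟩
      have h2 : (MulAut.conj n⁻¹).toMonoidHom x = n⁻¹ * x * n := by
        show n⁻¹ * x * n⁻¹⁻¹ = _
        rw [inv_inv]
      rwa [h2] at h1
    · show n * (n⁻¹ * x * n) * n⁻¹ = x
      group
  have hRCX : R ⊔ Subgroup.centralizer (R : Set G) ≤ X := by
    apply sup_le
    · intro r hr
      rw [hXmem]
      refine ⟨Subgroup.le_normalizer hr, ?_⟩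
      apply inn_le_opAut hS _ hRP
      refine ⟨⟨r, hr⟩, ?_⟩
      ext t
      rfl
    · intro c hc
      rw [hXmem]
      have hcN := Subgroup.centralizer_le_normalizer _ hc
      refine ⟨hcN, ?_⟩
      rw [conjAut_eq_one_of_mem_centralizer hc hcN]
      exact Subgroup.one_mem _
  have hidx : ∃ k : ℕ, (R ⊔ Subgroup.centralizer (R : Set G)).relIndex X = p ^ k := by
    haveI hHn : ((R ⊔ Subgroup.centralizer (R : Set G)).subgroupOf X).Normal := by
      constructor
      intro z hz x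
      show ((x * z * x⁻¹ : ↥X) : G) ∈ R ⊔ Subgroup.centralizer (R : Set G)
      exact sup_conj_mem (hXN x.2) hz
    have hPq : IsPGroup p (↥X ⧸ (R ⊔ Subgroup.centralizer (R : Set G)).subgroupOf X) := by
      intro gq
      induction gq using QuotientGroup.induction_on with
      | H x =>
        obtain ⟨hxN, hxO⟩ := (hXmem x).mp x.2
        obtain ⟨k, hk⟩ := hOp ⟨_, hxO⟩
        have hk1 : (conjAut R ⟨x, hxN⟩) ^ p ^ k = 1 := by
          have := congrArg Subtype.val hk
          rw [Subgroup.coe_pow, Subgroup.coe_one] at this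
          exact this
        refine ⟨k, ?_⟩
        rw [← QuotientGroup.mk_pow, QuotientGroup.eq_one_iff]
        show ((x ^ p ^ k : ↥X) : G) ∈ R ⊔ Subgroup.centralizer (R : Set G)
        apply (le_sup_right : Subgroup.centralizer (R : Set G) ≤ R ⊔ Subgroup.centralizer (R : Set G))
        rw [← map_pow] at hk1
        have h5 := mem_centralizer_of_conjAut_eq_one
          ((⟨x, hxN⟩ : ↥(Subgroup.normalizer (R : Set G))) ^ p ^ k).2 hk1
        rw [Subgroup.coe_pow]
        exact h5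
    obtain ⟨n, hn⟩ := hPq.exists_card_eq
    exact ⟨n, hn⟩
  have hXeq := hrad X hXN hXn hRCX hidx
  intro o ho
  have hoA : o ∈ (groupFusionSystem (P : Subgroup G)).autGroup R := opAut_le_autGroup p _ R ho
  obtain ⟨n, rfl⟩ := exists_conjAut_of_mem_autGroup P hRP hoA
  have hnX : (n : G) ∈ X := (hXmem _).mpr ⟨n.2, ho⟩
  rw [hXeq] at hnX
  obtain ⟨r, hr, c, hc, hrc⟩ := exists_mul_of_mem_sup_centralizer hnX
  refine ⟨⟨r, hr⟩, ?_⟩
  ext t
  show r * (t : G) * r⁻¹ = (n : G) * t * (n : G)⁻¹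
  have hct : (t : G) * c = c * t := Subgroup.mem_centralizer_iff.mp hc t t.2
  rw [hrc]
  calc r * (t : G) * r⁻¹ = r * ((t : G) * c) * c⁻¹ * r⁻¹ := by group
    _ = r * (c * t) * c⁻¹ * r⁻¹ := by rw [hct]
    _ = r * c * (t : G) * (r * c)⁻¹ := by group

end sylow

end Cfsg.Agent.Lib.Helper2.ZF
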