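import Mathlib
import Cfsg.Prelude.Def_PLocal
import Cfsg.Agent.Lib.Helper8.ZJI0
import Cfsg.Agent.Lib.Helper2.ZJICL

/-!
# S2756, PIECE C (`chain`) in helper8's verbatim form
-/

set_option autoImplicit false
set_option linter.style.haveILetI false
open scoped Pointwise commutatorElement

universe u v

namespace Cfsg.Agent.Lib.Helper2.ZJI

open Cfsg.Agent.Lib.Helper8.ZJI
open Cfsg.Agent.Lib.Helper1.ZJ

section aux
variable {G : Type u} [Group G]

/-- the inductive form of the chain lemma, with the Sylow subgroup of `N_G(H')` as data -/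
theorem chain_aux [Finite G] (q : ℕ) [hq : Fact q.Prime]
    (hIH : ∀ M : Subgroup G, M ≠ ⊤ →
      (∃ x s : M, x ≠ 1 ∧ (∃ k : ℕ, x ^ (q ^ k) = 1) ∧ s * x * s⁻¹ = x⁻¹) →
      ∀ T : Sylow q M, ∃ y ∈ (T : Subgroup M), y ≠ 1 ∧
        ∃ n ∈ Subgroup.normalizer (Cfsg.centerThompsonAOf (T : Subgroup M) : Set M),
          n * y * n⁻¹ = y⁻¹)
    (hplus : ∀ T : Sylow q G, ∀ y ∈ (T : Subgroup G), y ≠ 1 →
      ∀ n ∈ Subgroup.normalizer (Cfsg.centerThompsonAOf (T : Subgroup G) : Set G),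
        n * y * n⁻¹ ≠ y⁻¹) (m : ℕ) :
    ∀ (H' : Subgroup G), ¬ H'.Normal →
    ∀ (y n : G), y ∈ Subgroup.normalizer (H' : Set G) → n ∈ Subgroup.normalizer (H' : Set G) →
      y ≠ 1 → (∃ k : ℕ, y ^ (q ^ k) = 1) → n * y * n⁻¹ = y⁻¹ →
    ∀ (R0 : Subgroup G), R0 ≤ Subgroup.normalizer (H' : Set G) →
    ∀ (T' : Sylow q ↥(Subgroup.normalizer (H' : Set G))),
      R0.subgroupOf (Subgroup.normalizer (H' : Set G)) ≤ (T' : Subgroup ↥(Subgroup.normalizer (H' : Set G))) →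
      Nat.card G - Nat.card (T' : Subgroup ↥(Subgroup.normalizer (H' : Set G))) = m →
      ∃ Tstar : Subgroup G, IsPGroup q Tstar ∧ R0 ≤ Tstar ∧
        (Cfsg.centerThompsonAOf Tstar).Normal ∧ Cfsg.centerThompsonAOf Tstar ≠ ⊥ := by
  induction m using Nat.strong_induction_on with
  | _ m ih =>
  intro H' hH'n y n hy hn hy1 hyq hinv R0 hR0 T' hR0T' hm
  obtain ⟨M', hM'def⟩ : ∃ M' : Subgroup G, M' = Subgroup.normalizer (H' : Set G) := ⟨_, rfl⟩
  have hM'top : Subgroup.normalizer (H' : Set G) ≠ ⊤ := by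
    intro h
    exact hH'n (Subgroup.normalizer_eq_top_iff.1 h)
  -- the theorem in `M'`
  obtain ⟨y', hy'T, hy'1, n', hn'N, hinv'⟩ := hIH _ hM'top
    ⟨⟨y, hy⟩, ⟨n, hn⟩, fun h => hy1 (congrArg Subtype.val h),
      by
        obtain ⟨k, hk⟩ := hyq
        exact ⟨k, Subtype.ext (by simpa using hk)⟩,
      Subtype.ext (by simpa using hinv)⟩ T'
  -- the image of `T'` in `G`
  obtain ⟨TG, hTGdef⟩ : ∃ TG : Subgroup G,
      TG = (T' : Subgroup ↥(Subgroup.normalizer (H' : Set G))).map (Subgroup.normalizer (H' : Set G)).subtype := ⟨_, rfl⟩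
  have hTGq : IsPGroup q TG := by
    rw [hTGdef]
    exact T'.isPGroup'.map _
  have hR0TG : R0 ≤ TG := by
    intro x hx
    rw [hTGdef]
    exact ⟨⟨x, hR0 hx⟩, hR0T' (by rw [Subgroup.mem_subgroupOf]; exact hx), rfl⟩
  have hy'TG : (y' : G) ∈ TG := by
    rw [hTGdef]; exact ⟨y', hy'T, rfl⟩
  have hy'1G : (y' : G) ≠ 1 := fun h => hy'1 (Subtype.ext h)
  have hTG1 : TG ≠ ⊥ := by
    intro h
    rw [h, Subgroup.mem_bot] at hy'TG
    exact hy'1G hy'TG
  have hcardTG : Nat.card TG = Nat.card (T' : Subgroup ↥(Subgroup.normalizer (H' : Set G))) := by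
    rw [hTGdef]
    exact Subgroup.card_map_of_injective (Subgroup.subtype_injective _)
  have hZJ : Cfsg.centerThompsonAOf TG =
      (Cfsg.centerThompsonAOf (T' : Subgroup ↥(Subgroup.normalizer (H' : Set G)))).map
        (Subgroup.normalizer (H' : Set G)).subtype := by
    rw [hTGdef]
    exact centerThompsonAOf_map_of_injOn _ _ (Subgroup.subtype_injective _).injOn
  have hn'G : (n' : G) ∈ Subgroup.normalizer (Cfsg.centerThompsonAOf TG : Set G) := by
    rw [hZJ]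
    exact coe_mem_normalizer_map hn'N
  have hinv'G : (n' : G) * (y' : G) * (n' : G)⁻¹ = (y' : G)⁻¹ := by
    have := congrArg Subtype.val hinv'
    simpa using this
  have hZJ1 : Cfsg.centerThompsonAOf TG ≠ ⊥ := centerThompsonAOf_ne_bot hTGq hTG1
  by_cases hN : (Cfsg.centerThompsonAOf TG).Normal
  · exact ⟨TG, hTGq, hR0TG, hN, hZJ1⟩
  -- `TG` is not a Sylow subgroup of `G`
  obtain ⟨T1, hT1⟩ := hTGq.exists_le_sylow
  have hlt : TG < (T1 : Subgroup G) := by
    apply lt_of_le_of_ne hT1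
    intro he
    have h1 : (y' : G) ∈ (T1 : Subgroup G) := he ▸ hy'TG
    have h2 : (n' : G) ∈ Subgroup.normalizer
        (Cfsg.centerThompsonAOf (T1 : Subgroup G) : Set G) := by
      rw [← he]; exact hn'G
    exact hplus T1 _ h1 hy'1G _ h2 hinv'G
  obtain ⟨T'', hT''def⟩ : ∃ T'' : Subgroup G,
      T'' = (T1 : Subgroup G) ⊓ Subgroup.normalizer (TG : Set G) := ⟨_, rfl⟩
  have hltT'' : TG < T'' := by
    rw [hT''def]
    exact lt_inf_normalizer_of_lt T1.isPGroup' hlt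
  have hT''q : IsPGroup q T'' := by
    rw [hT''def]
    exact T1.isPGroup'.to_le inf_le_left
  have hT''N : T'' ≤ Subgroup.normalizer (Cfsg.centerThompsonAOf TG : Set G) := by
    rw [hT''def]
    exact le_trans inf_le_right (normalizer_le_normalizer_centerThompsonAOf TG)
  -- recursion
  have hH''q : IsPGroup q (Cfsg.centerThompsonAOf TG) := hTGq.to_le (centerThompsonAOf_le TG)
  have hy'N : (y' : G) ∈ Subgroup.normalizer (Cfsg.centerThompsonAOf TG : Set G) :=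
    hT''N (hltT''.le hy'TG)
  have hy'q : ∃ k : ℕ, (y' : G) ^ (q ^ k) = 1 := by
    obtain ⟨k, hk⟩ := hTGq ⟨(y' : G), hy'TG⟩
    exact ⟨k, by simpa using congrArg Subtype.val hk⟩
  obtain ⟨T3, hT3⟩ := (hT''q.comap_subtype
    (K := Subgroup.normalizer (Cfsg.centerThompsonAOf TG : Set G))).exists_le_sylow
  have hcard3 : Nat.card T'' ≤ Nat.card (T3 : Subgroup ↥(Subgroup.normalizer (Cfsg.centerThompsonAOf TG : Set G))) := by
    have e : T'' ≃* T''.subgroupOf (Subgroup.normalizer (Cfsg.centerThompsonAOf TG : Set G)) :=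
      (Subgroup.subgroupOfEquivOfLe hT''N).symm
    rw [Nat.card_congr e.toEquiv]
    exact Subgroup.card_le_of_le hT3
  have hcardlt : Nat.card TG < Nat.card T'' := by
    have h1 : Nat.card TG ≤ Nat.card T'' := Subgroup.card_le_of_le hltT''.le
    rcases Nat.lt_or_ge (Nat.card TG) (Nat.card T'') with h | h
    · exact h
    · exfalso
      have : TG = T'' := Subgroup.eq_of_le_of_card_ge hltT''.le h
      exact (ne_of_lt hltT'') this
  have hcardG : Nat.card (T3 : Subgroup ↥(Subgroup.normalizer (Cfsg.centerThompsonAOf TG : Set G))) ≤ Nat.card G := by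
    have h1 : Nat.card (T3 : Subgroup ↥(Subgroup.normalizer (Cfsg.centerThompsonAOf TG : Set G))) ≤
        Nat.card (Subgroup.normalizer (Cfsg.centerThompsonAOf TG : Set G)) :=
      Subgroup.card_le_card_group _
    exact le_trans h1 (Subgroup.card_le_card_group _)
  have hmlt : Nat.card G - Nat.card (T3 : Subgroup ↥(Subgroup.normalizer (Cfsg.centerThompsonAOf TG : Set G))) < m := by
    rw [← hm, ← hcardTG]
    omega
  obtain ⟨Tstar, h1, h2, h3, h4⟩ := ih _ hmlt (Cfsg.centerThompsonAOf TG) hN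
    (y' : G) (n' : G) hy'N hn'G hy'1G hy'q hinv'G T'' hT''N T3 hT3 rfl
  exact ⟨Tstar, h1, le_trans hR0TG (le_trans hltT''.le h2), h3, h4⟩


end aux

variable {G : Type u} [Group G] [Finite G] {q : ℕ} [hq : Fact q.Prime]

/-- a proper subgroup has smaller order -/
theorem card_lt_of_ne_top' {M : Subgroup G} (hM : M ≠ ⊤) : Nat.card M < Nat.card G := by
  apply lt_of_le_of_ne (Subgroup.card_le_card_group M)
  intro h
  exact hM (Subgroup.eq_top_of_card_eq M h)

/-- the induction hypothesis of `MinCE` in the plain form used by the chain lemma -/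
theorem MinCE_hIH (h : MinCE q G) : ∀ M : Subgroup G, M ≠ ⊤ →
      (∃ x s : M, x ≠ 1 ∧ (∃ k : ℕ, x ^ (q ^ k) = 1) ∧ s * x * s⁻¹ = x⁻¹) →
      ∀ T : Sylow q M, ∃ y ∈ (T : Subgroup M), y ≠ 1 ∧
        ∃ n ∈ Subgroup.normalizer (Cfsg.centerThompsonAOf (T : Subgroup M) : Set M),
          n * y * n⁻¹ = y⁻¹ := by
  intro M hM hinv T
  obtain ⟨x, s, hx1, ⟨k, hk⟩, hxs⟩ := hinv
  have hI : Inv q M := by
    refine ⟨x, s, hx1, ?_, hxs⟩
    have hdvd : orderOf x ∣ q ^ k := orderOf_dvd_of_pow_eq_one hk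
    obtain ⟨j, _, hj⟩ := (Nat.dvd_prime_pow hq.out).1 hdvd
    exact ⟨j, hj⟩
  exact h.ih M (card_lt_of_ne_top' hM) hI T

/-- (+) in plain form -/
theorem MinCE_hplus (h : MinCE q G) : ∀ T : Sylow q G, ∀ y ∈ (T : Subgroup G), y ≠ 1 →
      ∀ n ∈ Subgroup.normalizer (Cfsg.centerThompsonAOf (T : Subgroup G) : Set G),
        n * y * n⁻¹ ≠ y⁻¹ := by
  intro T y hy hy1 n hn hinv
  exact h.dagger T ⟨y, hy, hy1, n, hn, hinv⟩

/-- PIECE C: the chain lemma -/
theorem chain (h : MinCE q G) (H' : Subgroup G) (hHn : ¬ H'.Normal)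
    (hinv : InvIn q (Subgroup.normalizer (H' : Set G))) (R0 : Subgroup G) (hR0 : IsPGroup q R0)
    (hR0le : R0 ≤ Subgroup.normalizer (H' : Set G)) :
    ∃ Ts : Subgroup G, IsPGroup q Ts ∧ R0 ≤ Ts ∧ (ZJ Ts).Normal := by
  obtain ⟨x, hx, s, hs, hx1, ⟨k, hk⟩, hxs⟩ := hinv
  obtain ⟨T', hT'⟩ := (hR0.comap_subtype
    (K := Subgroup.normalizer (H' : Set G))).exists_le_sylow
  obtain ⟨Ts, h1, h2, h3, _⟩ := chain_aux q (MinCE_hIH h) (MinCE_hplus h) _ H' hHn x s hx hs hx1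
    ⟨k, by rw [← hk]; exact pow_orderOf_eq_one x⟩ hxs R0 hR0le T' hT' rfl
  exact ⟨Ts, h1, h2, h3⟩

end Cfsg.Agent.Lib.Helper2.ZJI
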