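import Mathlib
import Cfsg.Prelude.Def_PLocal
import Cfsg.Agent.Lib.Helper8.ZJI0
import Cfsg.Agent.Lib.Helper1.PCore
import Cfsg.Agent.Lib.Helper1.ZJ11
import Cfsg.Agent.Lib.Helper2.ZJIC
import Cfsg.Agent.Lib.Helper6.ZJIb

/-!
# S2756, PIECE D: `pCore_ne_bot`, `not_inv_quot`, `inverted_mem_pCore`
-/

set_option autoImplicit false
set_option linter.style.haveILetI false
open scoped Pointwise commutatorElement

universe u v

namespace Cfsg.Agent.Lib.Helper2.ZJI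

open Cfsg.Agent.Lib.Helper8.ZJI
open Cfsg.Agent.Lib.Helper1.ZJ

variable {G : Type u} [Group G] [Finite G] {q : ℕ} [hq : Fact q.Prime]

/-- an element inverting `x` normalizes `zpowers x` -/
theorem mem_normalizer_zpowers_of_inverts {x s : G} (h : s * x * s⁻¹ = x⁻¹) :
    s ∈ Subgroup.normalizer (Subgroup.zpowers x : Set G) := by
  have h' : s⁻¹ * x * s = x⁻¹ := by
    have e : x = s⁻¹ * x⁻¹ * s := by rw [← h]; group
    calc s⁻¹ * x * s = (s⁻¹ * x⁻¹ * s)⁻¹ := by group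
      _ = x⁻¹ := by rw [← e]
  rw [Subgroup.mem_normalizer_iff]
  intro g
  constructor
  · intro hg
    obtain ⟨n, rfl⟩ := Subgroup.mem_zpowers_iff.1 hg
    have e : s * x ^ n * s⁻¹ = (s * x * s⁻¹) ^ n := (conj_zpow).symm
    rw [e, h]
    exact Subgroup.zpow_mem _ (Subgroup.inv_mem _ (Subgroup.mem_zpowers x)) n
  · intro hg
    obtain ⟨n, hn⟩ := Subgroup.mem_zpowers_iff.1 hg
    have e : g = (s⁻¹ * x * s) ^ n := by
      have e1 : (s⁻¹ * x * s) ^ n = s⁻¹ * x ^ n * s := by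
        have := conj_zpow (a := s⁻¹) (b := x) (i := n)
        rw [inv_inv] at this
        exact this
      rw [e1, hn]; group
    rw [e, h']
    exact Subgroup.zpow_mem _ (Subgroup.inv_mem _ (Subgroup.mem_zpowers x)) n

/-- if `ZJ(T)` is normal in `G` the conclusion of THEOREM_q holds for `T` -/
theorem concl_of_normal' (hinv : Inv q G) (T : Sylow q G)
    (hn : (ZJ (T : Subgroup G)).Normal) : Concl q T := by
  obtain ⟨x, s, hx1, ⟨k, hk⟩, hxs⟩ := hinv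
  have hHq : IsPGroup q (Subgroup.zpowers x) := by
    apply IsPGroup.of_card (n := k)
    rw [Nat.card_zpowers, hk]
  obtain ⟨Q, hQ⟩ := hHq.exists_le_sylow
  obtain ⟨g, hg⟩ := MulAction.exists_smul_eq G Q T
  have hxT : g * x * g⁻¹ ∈ (T : Subgroup G) := by
    rw [← hg, Sylow.coe_subgroup_smul]
    have h1 : MulAut.conj g • x ∈ MulAut.conj g • (Q : Subgroup G) :=
      Subgroup.smul_mem_pointwise_smul _ _ _ (hQ (Subgroup.mem_zpowers x))
    simpa [MulAut.smul_def] using h1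
  refine ⟨g * x * g⁻¹, hxT, ?_, g * s * g⁻¹, ?_, ?_⟩
  · intro h1
    exact hx1 (conj_eq_one_iff.1 h1)
  · rw [Subgroup.normalizer_eq_top_iff.2 hn]
    exact Subgroup.mem_top _
  · have e : g * s * g⁻¹ * (g * x * g⁻¹) * (g * s * g⁻¹)⁻¹ = g * (s * x * s⁻¹) * g⁻¹ := by group
    rw [e, hxs]; group

/-- PIECE D (1): `O_q(G) ≠ 1` in a minimal counterexample -/
theorem pCore_ne_bot (h : MinCE q G) : Cfsg.pCore q G ≠ ⊥ := by
  obtain ⟨x, s, hx1, ⟨k, hk⟩, hxs⟩ := h.inv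
  have hHq : IsPGroup q (Subgroup.zpowers x) := by
    apply IsPGroup.of_card (n := k)
    rw [Nat.card_zpowers, hk]
  have hxH : x ∈ Subgroup.zpowers x := Subgroup.mem_zpowers x
  by_cases hN : (Subgroup.zpowers x).Normal
  · intro hbot
    have hxP : x ∈ Cfsg.pCore q G := Cfsg.Agent.Lib.Helper1.le_pCore hN hHq hxH
    rw [hbot, Subgroup.mem_bot] at hxP
    exact hx1 hxP
  · have hinv : InvIn q (Subgroup.normalizer (Subgroup.zpowers x : Set G)) :=
      ⟨x, Subgroup.le_normalizer hxH, s, mem_normalizer_zpowers_of_inverts hxs, hx1,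
        ⟨k, hk⟩, hxs⟩
    obtain ⟨Ts, hTsq, hle, hZN⟩ :=
      chain h _ hN hinv (Subgroup.zpowers x) hHq Subgroup.le_normalizer
    have hTs1 : Ts ≠ ⊥ := by
      intro hb
      have hxT : x ∈ Ts := hle hxH
      rw [hb, Subgroup.mem_bot] at hxT
      exact hx1 hxT
    have hZ1 : ZJ Ts ≠ ⊥ := centerThompsonAOf_ne_bot hTsq hTs1
    have hZq : IsPGroup q (ZJ Ts) := hTsq.to_le (centerThompsonAOf_le Ts)
    intro hbot
    have hle2 : ZJ Ts ≤ Cfsg.pCore q G := Cfsg.Agent.Lib.Helper1.le_pCore hZN hZq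
    rw [hbot] at hle2
    exact hZ1 (le_bot_iff.1 hle2)

/-- `O_q(G / O_q(G)) = 1` -/
theorem pCore_quot_pCore_eq_bot' [hPn : (Cfsg.pCore q G).Normal] :
    Cfsg.pCore q (G ⧸ Cfsg.pCore q G) = ⊥ := by
  have hsurj : Function.Surjective (QuotientGroup.mk' (Cfsg.pCore q G)) :=
    QuotientGroup.mk'_surjective _
  have h1 : ((Cfsg.pCore q (G ⧸ Cfsg.pCore q G)).comap
      (QuotientGroup.mk' (Cfsg.pCore q G))).Normal :=
    (Cfsg.Agent.Lib.Helper1.pCore_normal (G := G ⧸ Cfsg.pCore q G) q).comap _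
  have h2 : IsPGroup q ((Cfsg.pCore q (G ⧸ Cfsg.pCore q G)).comap
      (QuotientGroup.mk' (Cfsg.pCore q G))) := by
    apply (Cfsg.Agent.Lib.Helper1.pCore_isPGroup
      (G := G ⧸ Cfsg.pCore q G) q).comap_of_ker_isPGroup
    rw [QuotientGroup.ker_mk']
    exact Cfsg.Agent.Lib.Helper1.pCore_isPGroup q
  have h3 := Cfsg.Agent.Lib.Helper1.le_pCore h1 h2
  rw [eq_bot_iff]
  intro y hy
  obtain ⟨g, rfl⟩ := hsurj y
  have h4 : g ∈ Cfsg.pCore q G := h3 hy
  rw [Subgroup.mem_bot, QuotientGroup.mk'_apply, QuotientGroup.eq_one_iff]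
  exact h4

/-- PIECE D (2), the case `K = O_q(G)` -/
theorem not_inv_quot_pCore (h : MinCE q G) [hPn : (Cfsg.pCore q G).Normal] :
    ¬ Inv q (G ⧸ Cfsg.pCore q G) := by
  intro hI
  have hsurj : Function.Surjective (QuotientGroup.mk' (Cfsg.pCore q G)) :=
    QuotientGroup.mk'_surjective _
  have hcard : Nat.card (G ⧸ Cfsg.pCore q G) < Nat.card G := by
    have h1 : Nat.card G = Nat.card (G ⧸ Cfsg.pCore q G) * Nat.card (Cfsg.pCore q G) :=
      Subgroup.card_eq_card_quotient_mul_card_subgroup _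
    have h2 : 1 < Nat.card (Cfsg.pCore q G) := by
      rw [Subgroup.one_lt_card_iff_ne_bot]; exact pCore_ne_bot h
    have h3 : 0 < Nat.card (G ⧸ Cfsg.pCore q G) := Nat.card_pos
    nlinarith
  obtain ⟨T⟩ : Nonempty (Sylow q G) := inferInstance
  obtain ⟨Tbar, hTbar⟩ : ∃ Tbar : Sylow q (G ⧸ Cfsg.pCore q G),
      (Tbar : Subgroup (G ⧸ Cfsg.pCore q G)) =
        (T : Subgroup G).map (QuotientGroup.mk' (Cfsg.pCore q G)) :=
    ⟨T.mapSurjective hsurj, rfl⟩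
  obtain ⟨ybar, hybT, hyb1, gbar, hgbN, hinvb⟩ := h.ih (G ⧸ Cfsg.pCore q G) hcard hI Tbar
  obtain ⟨y, hyT, rfl⟩ : ∃ y ∈ (T : Subgroup G),
      QuotientGroup.mk' (Cfsg.pCore q G) y = ybar := by
    rw [hTbar] at hybT
    exact hybT
  obtain ⟨g, rfl⟩ := hsurj gbar
  obtain ⟨H2, hH2def⟩ : ∃ H2 : Subgroup G,
      H2 = (ZJ (Tbar : Subgroup (G ⧸ Cfsg.pCore q G))).comap
        (QuotientGroup.mk' (Cfsg.pCore q G)) := ⟨_, rfl⟩
  have hnorm : Subgroup.normalizer (H2 : Set G) =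
      (Subgroup.normalizer (ZJ (Tbar : Subgroup (G ⧸ Cfsg.pCore q G)) :
        Set (G ⧸ Cfsg.pCore q G))).comap (QuotientGroup.mk' (Cfsg.pCore q G)) := by
    rw [hH2def]
    exact (Subgroup.comap_normalizer_eq_of_surjective _ hsurj).symm
  have hTb1 : (Tbar : Subgroup (G ⧸ Cfsg.pCore q G)) ≠ ⊥ := by
    intro hb
    rw [hb, Subgroup.mem_bot] at hybT
    exact hyb1 hybT
  have hZ1 : ZJ (Tbar : Subgroup (G ⧸ Cfsg.pCore q G)) ≠ ⊥ :=
    centerThompsonAOf_ne_bot Tbar.isPGroup' hTb1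
  have hH2n : ¬ H2.Normal := by
    intro hn
    have h1 : (H2.map (QuotientGroup.mk' (Cfsg.pCore q G))).Normal :=
      hn.map _ hsurj
    rw [hH2def, Subgroup.map_comap_eq_self_of_surjective hsurj] at h1
    have h2 : ZJ (Tbar : Subgroup (G ⧸ Cfsg.pCore q G)) ≤ Cfsg.pCore q (G ⧸ Cfsg.pCore q G) :=
      Cfsg.Agent.Lib.Helper1.le_pCore h1 (Tbar.isPGroup'.to_le (centerThompsonAOf_le _))
    rw [pCore_quot_pCore_eq_bot'] at h2
    exact hZ1 (le_bot_iff.1 h2)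
  have hTbN : (Tbar : Subgroup (G ⧸ Cfsg.pCore q G)) ≤
      Subgroup.normalizer (ZJ (Tbar : Subgroup (G ⧸ Cfsg.pCore q G)) :
        Set (G ⧸ Cfsg.pCore q G)) :=
    le_trans Subgroup.le_normalizer (normalizer_le_normalizer_centerThompsonAOf _)
  have hTle : (T : Subgroup G) ≤ Subgroup.normalizer (H2 : Set G) := by
    rw [hnorm]
    intro t ht
    rw [Subgroup.mem_comap]
    apply hTbN
    rw [hTbar]
    exact Subgroup.mem_map_of_mem _ ht
  -- lift the inverting pair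
  have hyP : y ∉ Cfsg.pCore q G := by
    intro hy
    exact hyb1 ((QuotientGroup.eq_one_iff y).2 hy)
  have hinvP : g * y * g⁻¹ * y ∈ Cfsg.pCore q G := by
    rw [← QuotientGroup.eq_one_iff]
    have e : ((g * y * g⁻¹ * y : G) : G ⧸ Cfsg.pCore q G) =
        QuotientGroup.mk' (Cfsg.pCore q G) g * QuotientGroup.mk' (Cfsg.pCore q G) y *
          (QuotientGroup.mk' (Cfsg.pCore q G) g)⁻¹ * QuotientGroup.mk' (Cfsg.pCore q G) y := by
      simp
    rw [e, hinvb, inv_mul_cancel]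
  have hyM : y ∈ Subgroup.normalizer (H2 : Set G) := hTle hyT
  have hgM : g ∈ Subgroup.normalizer (H2 : Set G) := by
    rw [hnorm, Subgroup.mem_comap]; exact hgbN
  have hyqG : ∃ k : ℕ, orderOf y = q ^ k := by
    obtain ⟨k, hk⟩ := T.isPGroup' ⟨y, hyT⟩
    have hk' : y ^ (q ^ k) = 1 := by
      simpa using congrArg Subtype.val hk
    obtain ⟨j, _, hj⟩ := (Nat.dvd_prime_pow hq.out).1 (orderOf_dvd_of_pow_eq_one hk')
    exact ⟨j, hj⟩
  have hInvIn : InvIn q (Subgroup.normalizer (H2 : Set G)) := by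
    obtain ⟨M, hMdef⟩ : ∃ M : Subgroup G, M = Subgroup.normalizer (H2 : Set G) := ⟨_, rfl⟩
    rw [← hMdef] at hyM hgM ⊢
    have hxL : (⟨y, hyM⟩ : M) ∉ (Cfsg.pCore q G).subgroupOf M := by
      rw [Subgroup.mem_subgroupOf]; exact hyP
    have hxq : ∃ k : ℕ, orderOf (⟨y, hyM⟩ : M) = q ^ k := by
      obtain ⟨k, hk⟩ := hyqG
      exact ⟨k, by rw [← hk, ← Subgroup.orderOf_coe]⟩
    have hinvM : (QuotientGroup.mk' ((Cfsg.pCore q G).subgroupOf M)) (⟨g, hgM⟩ : M) *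
        (QuotientGroup.mk' ((Cfsg.pCore q G).subgroupOf M)) (⟨y, hyM⟩ : M) *
        ((QuotientGroup.mk' ((Cfsg.pCore q G).subgroupOf M)) (⟨g, hgM⟩ : M))⁻¹ =
        ((QuotientGroup.mk' ((Cfsg.pCore q G).subgroupOf M)) (⟨y, hyM⟩ : M))⁻¹ := by
      apply mul_eq_one_iff_eq_inv.1
      have e : (QuotientGroup.mk' ((Cfsg.pCore q G).subgroupOf M)) (⟨g, hgM⟩ : M) *
          (QuotientGroup.mk' ((Cfsg.pCore q G).subgroupOf M)) (⟨y, hyM⟩ : M) *
          ((QuotientGroup.mk' ((Cfsg.pCore q G).subgroupOf M)) (⟨g, hgM⟩ : M))⁻¹ *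
          (QuotientGroup.mk' ((Cfsg.pCore q G).subgroupOf M)) (⟨y, hyM⟩ : M) =
          (QuotientGroup.mk' ((Cfsg.pCore q G).subgroupOf M))
            ((⟨g, hgM⟩ : M) * ⟨y, hyM⟩ * (⟨g, hgM⟩ : M)⁻¹ * ⟨y, hyM⟩) := by
        simp only [map_mul, map_inv]
      rw [e, QuotientGroup.mk'_apply, QuotientGroup.eq_one_iff, Subgroup.mem_subgroupOf]
      exact hinvP
    obtain ⟨y', s', hy'L, hy'q, _, hinv'⟩ :=
      Cfsg.Agent.Lib.Helper6.ZJI.exists_inverted_not_mem_of_mod h.odd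
        ((Cfsg.pCore q G).subgroupOf M) hxL hxq hinvM
    refine ⟨(y' : G), y'.2, (s' : G), s'.2, ?_, ?_, ?_⟩
    · intro h1
      apply hy'L
      have : y' = 1 := Subtype.ext h1
      rw [this]; exact Subgroup.one_mem _
    · obtain ⟨k, hk⟩ := hy'q
      exact ⟨k, by rw [Subgroup.orderOf_coe, hk]⟩
    · have := congrArg Subtype.val hinv'
      simpa using this
  obtain ⟨Ts, hTsq, hle, hZN⟩ := chain h H2 hH2n hInvIn (T : Subgroup G) T.isPGroup' hTle
  have hTs : Ts = (T : Subgroup G) := T.is_maximal' hTsq hle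
  rw [hTs] at hZN
  exact h.dagger T (concl_of_normal' h.inv T hZN)

/-- PIECE D (3) -/
theorem inverted_mem_pCore (h : MinCE q G) {x s : G} (hx : ∃ k : ℕ, orderOf x = q ^ k)
    (hinv : s * x * s⁻¹ = x⁻¹) : x ∈ Cfsg.pCore q G := by
  haveI : (Cfsg.pCore q G).Normal := Cfsg.Agent.Lib.Helper1.pCore_normal q
  by_contra hxP
  apply not_inv_quot_pCore h
  refine ⟨QuotientGroup.mk' _ x, QuotientGroup.mk' _ s, ?_, ?_, ?_⟩
  · intro h1
    exact hxP ((QuotientGroup.eq_one_iff x).1 h1)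
  · obtain ⟨k, hk⟩ := hx
    have hd : orderOf (QuotientGroup.mk' (Cfsg.pCore q G) x) ∣ q ^ k := by
      rw [← hk]; exact orderOf_map_dvd _ x
    obtain ⟨j, _, hj⟩ := (Nat.dvd_prime_pow hq.out).1 hd
    exact ⟨j, hj⟩
  · have := congrArg (QuotientGroup.mk' (Cfsg.pCore q G)) hinv
    simpa using this

/-- PIECE D (2) -/
theorem not_inv_quot (h : MinCE q G) (K : Subgroup G) [K.Normal]
    (hPK : Cfsg.pCore q G ≤ K) : ¬ Inv q (G ⧸ K) := by
  intro hI
  obtain ⟨y, s, hyK, hyq, _, hinv⟩ :=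
    Cfsg.Agent.Lib.Helper6.ZJI.exists_inverted_not_mem_of_quotient h.odd K hI
  exact hyK (hPK (inverted_mem_pCore h hyq hinv))

end Cfsg.Agent.Lib.Helper2.ZJI
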