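import Mathlib

/-!
# An index-two subgroup from a Bruhat-type decomposition

Abstract version of: a sharply triply transitive group of even degree has a subgroup of index two.
-/

namespace Cfsg.Agent.Lib.Helper2.Zi2

variable {X : Type*} [Group X]

/-- the data, with `s² ∈ N` and the key hypothesis `P1`. -/
structure Dat (B F H N : Subgroup X) (s : X) : Prop where
  hFB : F ≤ B
  hHB : H ≤ B
  hNH : N ≤ H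
  hFn : ∀ b ∈ B, ∀ f ∈ F, b * f * b⁻¹ ∈ F
  hBFH : ∀ b ∈ B, ∃ f ∈ F, ∃ h ∈ H, b = f * h
  hFH : ∀ x ∈ F, x ∈ H → x = 1
  hN2 : ∀ h ∈ H, ∀ h' ∈ H, h ∉ N → h' ∉ N → h * h' ∈ N
  hsB : s ∉ B
  hss : s * s ∈ N
  hsH : ∀ h ∈ H, s * h * s⁻¹ ∈ H
  hsN : ∀ h ∈ H, (s * h * s⁻¹ ∈ N ↔ h ∈ N)
  hG : ∀ g : X, g ∉ B → ∃ x ∈ B, ∃ y ∈ B, g = x * s * y
  hA5 : ∀ f ∈ F, f ≠ 1 → s * f * s⁻¹ ∉ B
  hA6 : ∀ f ∈ F, ∀ f' ∈ F, f ≠ 1 → f' ≠ 1 → ∃ η ∈ H, η * f * η⁻¹ = f'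

variable {B F H N : Subgroup X} {s : X}

theorem Dat.N_normal (d : Dat B F H N s) {h ν : X} (hh : h ∈ H) (hν : ν ∈ N) :
    h * ν * h⁻¹ ∈ N := by
  by_cases hN : h ∈ N
  · exact N.mul_mem (N.mul_mem hN hν) (N.inv_mem hN)
  · have h1 : h * ν ∉ N := by
      intro h2
      apply hN
      have : h = (h * ν) * ν⁻¹ := by group
      rw [this]
      exact N.mul_mem h2 (N.inv_mem hν)
    have h2 : h⁻¹ ∉ N := fun h3 => hN (by simpa using N.inv_mem h3)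
    exact d.hN2 _ (H.mul_mem hh (d.hNH hν)) _ (H.inv_mem hh) h1 h2

theorem Dat.inv_not_mem (d : Dat B F H N s) {h : X} (hN : h ∉ N) : h⁻¹ ∉ N :=
  fun h3 => hN (by simpa using N.inv_mem h3)

/-- `M = F N`. -/
def Dat.M (d : Dat B F H N s) : Subgroup X where
  carrier := {x | ∃ f ∈ F, ∃ ν ∈ N, x = f * ν}
  mul_mem' := by
    rintro _ _ ⟨f, hf, ν, hν, rfl⟩ ⟨f', hf', ν', hν', rfl⟩
    refine ⟨f * (ν * f' * ν⁻¹), F.mul_mem hf (d.hFn _ (d.hHB (d.hNH hν)) _ hf'), ν * ν',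
      N.mul_mem hν hν', by group⟩
  one_mem' := ⟨1, F.one_mem, 1, N.one_mem, by group⟩
  inv_mem' := by
    rintro _ ⟨f, hf, ν, hν, rfl⟩
    refine ⟨ν⁻¹ * f⁻¹ * ν⁻¹⁻¹, d.hFn _ (d.hHB (d.hNH (N.inv_mem hν))) _ (F.inv_mem hf), ν⁻¹,
      N.inv_mem hν, by group⟩

theorem Dat.mem_M (d : Dat B F H N s) {x : X} : x ∈ d.M ↔ ∃ f ∈ F, ∃ ν ∈ N, x = f * ν := Iff.rfl

theorem Dat.F_le_M (d : Dat B F H N s) : F ≤ d.M := fun f hf => ⟨f, hf, 1, N.one_mem, by group⟩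

theorem Dat.N_le_M (d : Dat B F H N s) : N ≤ d.M := fun ν hν => ⟨1, F.one_mem, ν, hν, by group⟩

theorem Dat.M_le_B (d : Dat B F H N s) : d.M ≤ B := by
  rintro _ ⟨f, hf, ν, hν, rfl⟩
  exact B.mul_mem (d.hFB hf) (d.hHB (d.hNH hν))

theorem Dat.M_inf_H (d : Dat B F H N s) {x : X} (hx : x ∈ d.M) (hxH : x ∈ H) : x ∈ N := by
  obtain ⟨f, hf, ν, hν, rfl⟩ := hx
  have h1 : f ∈ H := by
    have : f = (f * ν) * ν⁻¹ := by group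
    rw [this]
    exact H.mul_mem hxH (H.inv_mem (d.hNH hν))
  rw [d.hFH f hf h1, one_mul]
  exact hν

theorem Dat.H_conj_M (d : Dat B F H N s) {h x : X} (hh : h ∈ H) (hx : x ∈ d.M) :
    h * x * h⁻¹ ∈ d.M := by
  obtain ⟨f, hf, ν, hν, rfl⟩ := hx
  exact ⟨h * f * h⁻¹, d.hFn _ (d.hHB hh) _ hf, h * ν * h⁻¹, d.N_normal hh hν, by group⟩

/-- `η (s η⁻¹ s⁻¹) ∈ N` for `η ∈ H`. -/
theorem Dat.twist_mem (d : Dat B F H N s) {η : X} (hη : η ∈ H) : η * (s * η⁻¹ * s⁻¹) ∈ N := by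
  by_cases hN : η ∈ N
  · exact N.mul_mem hN ((d.hsN _ (H.inv_mem hη)).2 (N.inv_mem hN))
  · have h1 : s * η⁻¹ * s⁻¹ ∉ N := fun h2 => d.inv_not_mem hN ((d.hsN _ (H.inv_mem hη)).1 h2)
    exact d.hN2 _ hη _ (d.hsH _ (H.inv_mem hη)) hN h1

/-- the set `M s M`. -/
def Dat.MsM (d : Dat B F H N s) (g : X) : Prop := ∃ m₁ ∈ d.M, ∃ m₂ ∈ d.M, g = m₁ * s * m₂

theorem Dat.MsM_not_mem_B (d : Dat B F H N s) {g : X} (hg : d.MsM g) : g ∉ B := by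
  obtain ⟨m₁, hm₁, m₂, hm₂, rfl⟩ := hg
  intro h
  apply d.hsB
  have : s = m₁⁻¹ * (m₁ * s * m₂) * m₂⁻¹ := by group
  rw [this]
  exact B.mul_mem (B.mul_mem (B.inv_mem (d.M_le_B hm₁)) h) (B.inv_mem (d.M_le_B hm₂))

theorem Dat.H_conj_MsM (d : Dat B F H N s) {η g : X} (hη : η ∈ H) (hg : d.MsM g) :
    d.MsM (η * g * η⁻¹) := by
  obtain ⟨m₁, hm₁, m₂, hm₂, rfl⟩ := hg
  refine ⟨(η * m₁ * η⁻¹) * (η * (s * η⁻¹ * s⁻¹)), ?_, η * m₂ * η⁻¹, d.H_conj_M hη hm₂, by group⟩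
  exact d.M.mul_mem (d.H_conj_M hη hm₁) (d.N_le_M (d.twist_mem hη))

/-- the key property: `s m s⁻¹ ∈ M s M` for `m ∈ M ∖ H`, given it for one `f₀`. -/
theorem Dat.key (d : Dat B F H N s) {f₀ : X} (hf₀ : f₀ ∈ F) (hf₀1 : f₀ ≠ 1)
    (hP1 : d.MsM (s * f₀ * s⁻¹)) {m : X} (hm : m ∈ d.M) (hmH : m ∉ H) :
    d.MsM (s * m * s⁻¹) := by
  obtain ⟨f, hf, ν, hν, rfl⟩ := hm
  have hf1 : f ≠ 1 := by
    rintro rfl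
    apply hmH
    rw [one_mul]; exact d.hNH hν
  obtain ⟨η, hη, hηf⟩ := d.hA6 f₀ hf₀ f hf hf₀1 hf1
  have h1 : d.MsM (s * f * s⁻¹) := by
    have e : s * f * s⁻¹ = (s * η * s⁻¹) * (s * f₀ * s⁻¹) * (s * η * s⁻¹)⁻¹ := by
      rw [← hηf]; group
    rw [e]
    exact d.H_conj_MsM (d.hsH _ hη) hP1
  obtain ⟨m₁, hm₁, m₂, hm₂, h2⟩ := h1
  refine ⟨m₁, hm₁, m₂ * (s * ν * s⁻¹), d.M.mul_mem hm₂
    (d.N_le_M ((d.hsN _ (d.hNH hν)).2 hν)), ?_⟩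
  have e : s * (f * ν) * s⁻¹ = (s * f * s⁻¹) * (s * ν * s⁻¹) := by group
  rw [e, h2]; group

/-- the subgroup `K = M ∪ M s M`. -/
def Dat.K (d : Dat B F H N s) {f₀ : X} (hf₀ : f₀ ∈ F) (hf₀1 : f₀ ≠ 1)
    (hP1 : d.MsM (s * f₀ * s⁻¹)) : Subgroup X where
  carrier := {g | g ∈ d.M ∨ d.MsM g}
  mul_mem' := by
    rintro a b (ha | ⟨m₁, hm₁, m₂, hm₂, rfl⟩) (hb | ⟨m₃, hm₃, m₄, hm₄, rfl⟩)
    · exact Or.inl (d.M.mul_mem ha hb)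
    · exact Or.inr ⟨a * m₃, d.M.mul_mem ha hm₃, m₄, hm₄, by group⟩
    · exact Or.inr ⟨m₁, hm₁, m₂ * b, d.M.mul_mem hm₂ hb, by group⟩
    · by_cases hμ : m₂ * m₃ ∈ H
      · left
        have hμN := d.M_inf_H (d.M.mul_mem hm₂ hm₃) hμ
        have e : m₁ * s * m₂ * (m₃ * s * m₄) = m₁ * ((s * (m₂ * m₃) * s⁻¹) * (s * s)) * m₄ := by
          group
        rw [e]
        exact d.M.mul_mem (d.M.mul_mem hm₁ (d.N_le_M (N.mul_mem ((d.hsN _ hμ).2 hμN) d.hss))) hm₄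
      · right
        obtain ⟨m₅, hm₅, m₆, hm₆, h2⟩ := d.key hf₀ hf₀1 hP1 (d.M.mul_mem hm₂ hm₃) hμ
        refine ⟨m₁ * m₅, d.M.mul_mem hm₁ hm₅, m₆ * (s * s) * m₄,
          d.M.mul_mem (d.M.mul_mem hm₆ (d.N_le_M d.hss)) hm₄, ?_⟩
        have e : m₁ * s * m₂ * (m₃ * s * m₄) = m₁ * ((s * (m₂ * m₃) * s⁻¹) * (s * s)) * m₄ := by
          group
        rw [e, h2]; group
  one_mem' := Or.inl d.M.one_mem
  inv_mem' := by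
    rintro a (ha | ⟨m₁, hm₁, m₂, hm₂, rfl⟩)
    · exact Or.inl (d.M.inv_mem ha)
    · right
      refine ⟨m₂⁻¹ * (s * s)⁻¹, d.M.mul_mem (d.M.inv_mem hm₂) (d.M.inv_mem (d.N_le_M d.hss)),
        m₁⁻¹, d.M.inv_mem hm₁, by group⟩

theorem Dat.mem_K (d : Dat B F H N s) {f₀ : X} (hf₀ : f₀ ∈ F) (hf₀1 : f₀ ≠ 1)
    (hP1 : d.MsM (s * f₀ * s⁻¹)) {g : X} : g ∈ d.K hf₀ hf₀1 hP1 ↔ g ∈ d.M ∨ d.MsM g := Iff.rfl

/-- every element outside `B` has the form `f h s f'`. -/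
theorem Dat.bruhat (d : Dat B F H N s) {g : X} (hg : g ∉ B) :
    ∃ f₁ ∈ F, ∃ h ∈ H, ∃ f₂ ∈ F, g = f₁ * h * s * f₂ := by
  obtain ⟨x, hx, y, hy, rfl⟩ := d.hG g hg
  obtain ⟨f₁, hf₁, h₁, hh₁, rfl⟩ := d.hBFH x hx
  obtain ⟨f₂, hf₂, h₂, hh₂, hy'⟩ := d.hBFH y⁻¹ (B.inv_mem hy)
  have hy2 : y = h₂⁻¹ * f₂⁻¹ := by
    have := congrArg (fun z => z⁻¹) hy'
    simpa using this
  refine ⟨f₁, hf₁, h₁ * (s * h₂⁻¹ * s⁻¹), H.mul_mem hh₁ (d.hsH _ (H.inv_mem hh₂)), f₂⁻¹,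
    F.inv_mem hf₂, ?_⟩
  rw [hy2]; group

theorem Dat.index_K (d : Dat B F H N s) {f₀ : X} (hf₀ : f₀ ∈ F) (hf₀1 : f₀ ≠ 1)
    (hP1 : d.MsM (s * f₀ * s⁻¹)) {h₀ : X} (hh₀ : h₀ ∈ H) (hh₀N : h₀ ∉ N) :
    (d.K hf₀ hf₀1 hP1).index = 2 := by
  rw [Subgroup.index_eq_two_iff]
  refine ⟨h₀, fun g => ?_⟩
  have hh₀K : h₀ ∉ d.K hf₀ hf₀1 hP1 := by
    rw [d.mem_K]
    rintro (h1 | h1)
    · exact hh₀N (d.M_inf_H h1 hh₀)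
    · exact d.MsM_not_mem_B h1 (d.hHB hh₀)
  have hone : g * h₀ ∈ d.K hf₀ hf₀1 hP1 ∨ g ∈ d.K hf₀ hf₀1 hP1 := by
    by_cases hgB : g ∈ B
    · obtain ⟨f, hf, h, hh, rfl⟩ := d.hBFH g hgB
      by_cases hN : h ∈ N
      · right
        exact Or.inl ⟨f, hf, h, hN, rfl⟩
      · left
        exact Or.inl ⟨f, hf, h * h₀, d.hN2 _ hh _ hh₀ hN hh₀N, by group⟩
    · obtain ⟨f₁, hf₁, h, hh, f₂, hf₂, rfl⟩ := d.bruhat hgB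
      by_cases hN : h ∈ N
      · right
        exact Or.inr ⟨f₁ * h, d.M.mul_mem (d.F_le_M hf₁) (d.N_le_M hN), f₂, d.F_le_M hf₂,
          by group⟩
      · left
        have h1 : s * h₀ * s⁻¹ ∉ N := fun h2 => hh₀N ((d.hsN _ hh₀).1 h2)
        refine Or.inr ⟨f₁ * (h * (s * h₀ * s⁻¹)), d.M.mul_mem (d.F_le_M hf₁)
          (d.N_le_M (d.hN2 _ hh _ (d.hsH _ hh₀) hN h1)), h₀⁻¹ * f₂ * h₀⁻¹⁻¹,
          d.F_le_M (d.hFn _ (d.hHB (H.inv_mem hh₀)) _ hf₂), by group⟩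
  rcases hone with h1 | h1
  · refine Or.inl ⟨h1, fun h2 => hh₀K ?_⟩
    have : h₀ = g⁻¹ * (g * h₀) := by group
    rw [this]
    exact Subgroup.mul_mem _ (Subgroup.inv_mem _ h2) h1
  · refine Or.inr ⟨h1, fun h2 => hh₀K ?_⟩
    have : h₀ = g⁻¹ * (g * h₀) := by group
    rw [this]
    exact Subgroup.mul_mem _ (Subgroup.inv_mem _ h1) h2

end Cfsg.Agent.Lib.Helper2.Zi2
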