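import Mathlib
import Cfsg.Agent.Lib.Helper2.Zi2A

/-!
# An index-two subgroup from a Bruhat-type decomposition: removing the hypothesis `P1`
-/

namespace Cfsg.Agent.Lib.Helper2.Zi2

variable {X : Type*} [Group X] {B F H N : Subgroup X} {s : X}

theorem Dat.conj_mem_N_iff (d : Dat B F H N s) {h x : X} (hh : h ∈ H) :
    h * x * h⁻¹ ∈ N ↔ x ∈ N := by
  constructor
  · intro h1
    have := d.N_normal (H.inv_mem hh) h1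
    have e : h⁻¹ * (h * x * h⁻¹) * h⁻¹⁻¹ = x := by group
    rw [e] at this
    exact this
  · intro h1
    exact d.N_normal hh h1

/-- the twisted data for `h₀ s`. -/
theorem Dat.twist (d : Dat B F H N s) (hss1 : s * s = 1) {h₀ : X} (hh₀ : h₀ ∈ H)
    (hh₀N : h₀ ∉ N) : Dat B F H N (h₀ * s) := by
  refine ⟨d.hFB, d.hHB, d.hNH, d.hFn, d.hBFH, d.hFH, d.hN2, ?_, ?_, ?_, ?_, ?_, ?_, d.hA6⟩
  · intro h
    apply d.hsB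
    have : s = h₀⁻¹ * (h₀ * s) := by group
    rw [this]
    exact B.mul_mem (B.inv_mem (d.hHB hh₀)) h
  · have e : h₀ * s * (h₀ * s) = h₀ * (s * h₀ * s⁻¹) * (s * s) := by group
    rw [e, hss1, mul_one]
    exact d.hN2 _ hh₀ _ (d.hsH _ hh₀) hh₀N (fun h2 => hh₀N ((d.hsN _ hh₀).1 h2))
  · intro h hh
    have e : h₀ * s * h * (h₀ * s)⁻¹ = h₀ * (s * h * s⁻¹) * h₀⁻¹ := by group
    rw [e]
    exact H.mul_mem (H.mul_mem hh₀ (d.hsH _ hh)) (H.inv_mem hh₀)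
  · intro h hh
    have e : h₀ * s * h * (h₀ * s)⁻¹ = h₀ * (s * h * s⁻¹) * h₀⁻¹ := by group
    rw [e, d.conj_mem_N_iff hh₀, d.hsN _ hh]
  · intro g hg
    obtain ⟨x, hx, y, hy, rfl⟩ := d.hG g hg
    exact ⟨x * h₀⁻¹, B.mul_mem hx (B.inv_mem (d.hHB hh₀)), y, hy, by group⟩
  · intro f hf hf1 h
    apply d.hA5 f hf hf1
    have e : s * f * s⁻¹ = h₀⁻¹ * (h₀ * s * f * (h₀ * s)⁻¹) * h₀ := by group
    rw [e]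
    exact B.mul_mem (B.mul_mem (B.inv_mem (d.hHB hh₀)) h) (d.hHB hh₀)

/-- **Index two.** -/
theorem Dat.exists_index_two (d : Dat B F H N s) (hss1 : s * s = 1) {f₀ : X} (hf₀ : f₀ ∈ F)
    (hf₀1 : f₀ ≠ 1) {h₀ : X} (hh₀ : h₀ ∈ H) (hh₀N : h₀ ∉ N) :
    ∃ K : Subgroup X, K.index = 2 := by
  obtain ⟨f₁, hf₁, h, hh, f₂, hf₂, hbr⟩ := d.bruhat (d.hA5 f₀ hf₀ hf₀1)
  by_cases hN : h ∈ N
  · have hP1 : d.MsM (s * f₀ * s⁻¹) :=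
      ⟨f₁ * h, d.M.mul_mem (d.F_le_M hf₁) (d.N_le_M hN), f₂, d.F_le_M hf₂, by rw [hbr]⟩
    exact ⟨_, d.index_K hf₀ hf₀1 hP1 hh₀ hh₀N⟩
  · have d₁ := d.twist hss1 hh₀ hh₀N
    have hP1 : d₁.MsM ((h₀ * s) * f₀ * (h₀ * s)⁻¹) := by
      have h1 : h₀ * h * h₀⁻¹ ∉ N := fun h2 => hN ((d.conj_mem_N_iff hh₀).1 h2)
      have h2 : (h₀ * s) * h₀⁻¹ * (h₀ * s)⁻¹ ∉ N :=
        fun h3 => d.inv_not_mem hh₀N ((d₁.hsN _ (H.inv_mem hh₀)).1 h3)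
      have h3 : (h₀ * h * h₀⁻¹) * ((h₀ * s) * h₀⁻¹ * (h₀ * s)⁻¹) ∈ N :=
        d.hN2 _ (H.mul_mem (H.mul_mem hh₀ hh) (H.inv_mem hh₀)) _
          (d₁.hsH _ (H.inv_mem hh₀)) h1 h2
      refine ⟨(h₀ * f₁ * h₀⁻¹) * ((h₀ * h * h₀⁻¹) * ((h₀ * s) * h₀⁻¹ * (h₀ * s)⁻¹)), ?_,
        h₀ * f₂ * h₀⁻¹, ?_, ?_⟩
      · exact d₁.M.mul_mem (d₁.F_le_M (d.hFn _ (d.hHB hh₀) _ hf₁)) (d₁.N_le_M h3)
      · exact d₁.F_le_M (d.hFn _ (d.hHB hh₀) _ hf₂)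
      · have e : (h₀ * s) * f₀ * (h₀ * s)⁻¹ = h₀ * (s * f₀ * s⁻¹) * h₀⁻¹ := by group
        rw [e, hbr]; group
    exact ⟨_, d₁.index_K hf₀ hf₀1 hP1 hh₀ hh₀N⟩

end Cfsg.Agent.Lib.Helper2.Zi2
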