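import Mathlib
import Cfsg.Agent.Lib.Lead.Sharp2
import Cfsg.Agent.Lib.Lead.Sharp3
import Cfsg.Agent.Lib.Helper2.SttA
import Cfsg.Agent.Lib.Helper2.Zi2B

/-!
# A sharply triply transitive group whose two-point stabiliser has a subgroup of index two
has itself a subgroup of index two
-/

set_option autoImplicit false
set_option linter.style.haveILetI false

namespace Cfsg.Agent.Lib.Helper2.Zi2

open MulAction Cfsg.Agent.Lib.Lead.Sharp3

theorem exists_third {α : Type*} [Fintype α] (h3 : 3 ≤ Fintype.card α) (a b : α) :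
    ∃ c : α, c ≠ a ∧ c ≠ b := by
  classical
  by_contra hcon
  push Not at hcon
  have h1 : (Finset.univ : Finset α) ⊆ {a, b} := by
    intro c _
    by_cases hca : c = a
    · simp [hca]
    · simp [hcon c hca]
  have h2 := Finset.card_le_card h1
  rw [Finset.card_univ] at h2
  have h3' : ({a, b} : Finset α).card ≤ 2 := Finset.card_insert_le _ _ |>.trans (by simp)
  omega

theorem sharp3_index_two {G α : Type*} [Group G] [MulAction G α] [Fintype α] [Finite G]
    (h3 : IsMultiplyPretransitive G α 3) (hsharp : ∀ x : Fin 3 ↪ α, stabilizer G x = ⊥)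
    (h4 : 4 ≤ Fintype.card α) {a b : α} (hab : a ≠ b)
    (hidx : ∃ M : Subgroup ↥(stabilizer G a ⊓ stabilizer G b), M.index = 2) :
    ∃ K : Subgroup G, K.index = 2 := by
  classical
  haveI := h3
  haveI h1 : IsMultiplyPretransitive G α 1 :=
    isMultiplyPretransitive_of_le (n := 3) (by norm_num)
      (by rw [Nat.card_eq_fintype_card]; omega)
  haveI hpre : IsPretransitive G α := is_one_pretransitive_iff.mp h1
  obtain ⟨c, hca, hcb⟩ := exists_third (by omega) a b
  have hac : a ≠ c := hca.symm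
  have hbc : b ≠ c := hcb.symm
  obtain ⟨s, hsa, hsb, hsc⟩ := exists_map3 (G := G) h3 hab hac hbc hab.symm hbc hac
  have hss : s * s = 1 :=
    eq_one_of_fix3 hsharp hab hac hbc (s * s)
      (by rw [mul_smul, hsa, hsb]) (by rw [mul_smul, hsb, hsa]) (by rw [mul_smul, hsc, hsc])
  have hsinv : s⁻¹ = s := inv_eq_of_mul_eq_one_left hss
  set H : Subgroup G := stabilizer G a ⊓ stabilizer G b with hH
  have hHmem : ∀ h : G, h ∈ H ↔ h • a = a ∧ h • b = b := by
    intro h
    rw [hH, Subgroup.mem_inf, mem_stabilizer_iff, mem_stabilizer_iff]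
  -- conjugation by s preserves H
  have hconj : ∀ h ∈ H, s * h * s⁻¹ ∈ H := by
    intro h hh
    rw [hsinv]
    obtain ⟨ha, hb⟩ := (hHmem h).1 hh
    rw [hHmem]
    refine ⟨?_, ?_⟩
    · rw [mul_smul, mul_smul, hsa, hb, hsb]
    · rw [mul_smul, mul_smul, hsb, ha, hsa]
  have hinvol : ∀ h : G, s * (s * h * s⁻¹) * s⁻¹ = h := by
    intro h
    rw [hsinv]
    calc s * (s * h * s) * s = (s * s) * h * (s * s) := by group
      _ = h := by rw [hss, one_mul, mul_one]
  let σ : ↥H ≃* ↥H :=
    { toFun := fun h => ⟨s * h * s⁻¹, hconj h h.2⟩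
      invFun := fun h => ⟨s * h * s⁻¹, hconj h h.2⟩
      left_inv := fun h => Subtype.ext (hinvol h)
      right_inv := fun h => Subtype.ext (hinvol h)
      map_mul' := fun h k => Subtype.ext (by
        simp only [Subgroup.coe_mul]
        group) }
  have hσ : ∀ x, σ (σ x) = x := fun h => Subtype.ext (hinvol h)
  obtain ⟨M, hM⟩ := hidx
  obtain ⟨N', hN'idx, hN'inv⟩ :=
    Cfsg.Agent.Lib.Helper2.Stt.exists_invariant_index_two σ hσ M hM
  set N : Subgroup G := N'.map H.subtype with hN
  have hNmem : ∀ h : G, h ∈ N ↔ ∃ hh : h ∈ H, (⟨h, hh⟩ : ↥H) ∈ N' := by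
    intro h
    rw [hN, Subgroup.mem_map]
    constructor
    · rintro ⟨x, hx, rfl⟩
      exact ⟨x.2, hx⟩
    · rintro ⟨hh, hx⟩
      exact ⟨⟨h, hh⟩, hx, rfl⟩
  -- the point stabiliser and its action on the other points
  set Ga : Subgroup G := stabilizer G a with hGa
  have h2 : IsMultiplyPretransitive Ga (SubMulAction.ofStabilizer G a) 2 :=
    (SubMulAction.ofStabilizer.isMultiplyPretransitive (n := 2)).mp h3
  haveI : Fintype (SubMulAction.ofStabilizer G a) := Fintype.ofFinite _
  have hcardΩ : Fintype.card (SubMulAction.ofStabilizer G a) = Fintype.card α - 1 := by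
    rw [← Nat.card_eq_fintype_card, SubMulAction.nat_card_ofStabilizer_eq,
      Nat.card_eq_fintype_card]
  have hsm : ∀ (g : Ga) (x : SubMulAction.ofStabilizer G a),
      ((g • x : SubMulAction.ofStabilizer G a) : α) = (g : G) • (x : α) := fun g x => rfl
  have hsharp2 : ∀ x : Fin 2 ↪ SubMulAction.ofStabilizer G a, stabilizer Ga x = ⊥ := by
    intro x
    rw [Subgroup.eq_bot_iff_forall]
    intro g hg
    rw [mem_stabilizer_iff] at hg
    have e0 : g • x 0 = x 0 := by
      have := DFunLike.congr_fun hg 0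
      simpa using this
    have e1 : g • x 1 = x 1 := by
      have := DFunLike.congr_fun hg 1
      simpa using this
    have hx01 : ((x 0 : SubMulAction.ofStabilizer G a) : α) ≠ (x 1 : α) := by
      intro hh
      have : x 0 = x 1 := Subtype.ext hh
      have := x.injective this
      exact absurd this (by decide)
    have hx0a : a ≠ ((x 0 : SubMulAction.ofStabilizer G a) : α) :=
      fun hh => (SubMulAction.neq_of_mem_ofStabilizer G a (x := x 0)) hh.symm
    have hx1a : a ≠ ((x 1 : SubMulAction.ofStabilizer G a) : α) :=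
      fun hh => (SubMulAction.neq_of_mem_ofStabilizer G a (x := x 1)) hh.symm
    have hga : (g : G) • a = a := g.2
    have hg0 : (g : G) • ((x 0 : SubMulAction.ofStabilizer G a) : α) = (x 0 : α) := by
      rw [← hsm, e0]
    have hg1 : (g : G) • ((x 1 : SubMulAction.ofStabilizer G a) : α) = (x 1 : α) := by
      rw [← hsm, e1]
    have := eq_one_of_fix3 hsharp hx0a hx1a hx01 (g : G) hga hg0 hg1
    exact Subtype.ext this
  have hn2 : 2 ≤ Fintype.card (SubMulAction.ofStabilizer G a) := by rw [hcardΩ]; omega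
  obtain ⟨N₀, hN₀mem, hN₀n, -, hN₀card, -, -, -⟩ :=
    Cfsg.Agent.Lib.Lead.Sharp2.exists_kernel h2 hsharp2 hn2
  haveI := hN₀n
  have hba : b ≠ a := hab.symm
  let bΩ : SubMulAction.ofStabilizer G a := ⟨b, hba⟩
  set F : Subgroup G := N₀.map Ga.subtype with hF
  have hFmem : ∀ f : G, f ∈ F ↔ ∃ hf : f ∈ Ga, (⟨f, hf⟩ : ↥Ga) ∈ N₀ := by
    intro f
    rw [hF, Subgroup.mem_map]
    constructor
    · rintro ⟨x, hx, rfl⟩
      exact ⟨x.2, hx⟩
    · rintro ⟨hh, hx⟩
      exact ⟨⟨f, hh⟩, hx, rfl⟩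
  -- an element of F fixing b is trivial
  have hFfix : ∀ f ∈ F, f • b = b → f = 1 := by
    intro f hf hfb
    obtain ⟨hfa, hfN⟩ := (hFmem f).1 hf
    rcases (hN₀mem _).1 hfN with h | h
    · exact congrArg Subtype.val h
    · exfalso
      apply h bΩ
      apply Subtype.ext
      rw [hsm]
      exact hfb
  have hFa : ∀ f ∈ F, f • a = a := by
    intro f hf
    obtain ⟨hfa, -⟩ := (hFmem f).1 hf
    exact hfa
  have hFnorm : ∀ g ∈ Ga, ∀ f ∈ F, g * f * g⁻¹ ∈ F := by
    intro g hg f hf
    obtain ⟨hfa, hfN⟩ := (hFmem f).1 hf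
    rw [hFmem]
    refine ⟨Ga.mul_mem (Ga.mul_mem hg hfa) (Ga.inv_mem hg), ?_⟩
    have := hN₀n.conj_mem ⟨f, hfa⟩ hfN ⟨g, hg⟩
    exact this
  -- the data
  have hdat : Dat Ga F H N s := by
    refine ⟨Subgroup.map_subtype_le N₀, inf_le_left, Subgroup.map_subtype_le N', hFnorm,
      ?_, ?_, ?_, ?_, ?_, hconj, ?_, ?_, ?_, ?_⟩
    · -- B = F H
      intro g hg
      obtain ⟨n, hn, hnb⟩ := Cfsg.Agent.Lib.Lead.Sharp2.kernel_transitive N₀
        (fun g hg => (hN₀mem g).1 hg) hN₀card bΩ ((⟨g, hg⟩ : ↥Ga) • bΩ)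
      refine ⟨(n : G), (hFmem _).2 ⟨n.2, hn⟩, (n : G)⁻¹ * g, ?_, by group⟩
      rw [hHmem]
      refine ⟨?_, ?_⟩
      · rw [mul_smul, show g • a = a from hg, inv_smul_eq_iff]
        exact (n.2).symm
      · rw [mul_smul, inv_smul_eq_iff]
        have := congrArg (fun t : SubMulAction.ofStabilizer G a => (t : α)) hnb
        simp only [hsm] at this
        exact this.symm
    · -- F ∩ H = 1
      intro x hxF hxH
      exact hFfix x hxF ((hHmem x).1 hxH).2
    · -- index two
      intro h hh h' hh' hN1 hN2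
      rw [hNmem]
      refine ⟨H.mul_mem hh hh', ?_⟩
      have key := Subgroup.mul_mem_iff_of_index_two hN'idx (a := (⟨h, hh⟩ : ↥H))
        (b := (⟨h', hh'⟩ : ↥H))
      have e1 : (⟨h, hh⟩ : ↥H) ∉ N' := fun hcon => hN1 ((hNmem h).2 ⟨hh, hcon⟩)
      have e2 : (⟨h', hh'⟩ : ↥H) ∉ N' := fun hcon => hN2 ((hNmem h').2 ⟨hh', hcon⟩)
      exact key.2 ⟨fun hcon => absurd hcon e1, fun hcon => absurd hcon e2⟩
    · -- s ∉ B
      intro hs
      have : s • a = a := hs
      rw [hsa] at this
      exact hab this.symm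
    · rw [hss]; exact N.one_mem
    · -- s-invariance of N
      intro h hh
      constructor
      · intro h1
        obtain ⟨hh1, hx⟩ := (hNmem _).1 h1
        have := hN'inv _ hx
        rw [hNmem]
        refine ⟨hh, ?_⟩
        have e : σ ⟨s * h * s⁻¹, hh1⟩ = ⟨h, hh⟩ := Subtype.ext (hinvol h)
        rw [e] at this
        exact this
      · intro h1
        obtain ⟨hh1, hx⟩ := (hNmem _).1 h1
        have := hN'inv _ hx
        rw [hNmem]
        exact ⟨hconj h hh, this⟩
    · -- Bruhat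
      intro g hg
      have hga : g • a ≠ a := hg
      obtain ⟨x, hxa, hxb⟩ := Cfsg.Agent.Lib.Lead.Sharp2.exists_map2 (G := G)
        (isMultiplyPretransitive_of_le (n := 3) (by norm_num)
          (by rw [Nat.card_eq_fintype_card]; omega)) hab (Ne.symm hga)
      refine ⟨x, hxa, (x * s)⁻¹ * g, ?_, by group⟩
      show ((x * s)⁻¹ * g) • a = a
      rw [mul_smul, inv_smul_eq_iff, mul_smul, hsa, hxb]
    · -- A5
      intro f hf hf1 hcon
      apply hf1
      apply hFfix f hf
      have h5 : (s * f * s⁻¹) • a = a := hcon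
      rw [hsinv, mul_smul, mul_smul, hsa] at h5
      have h9 : s • (s • f • b) = s • a := congrArg (fun z => s • z) h5
      rw [← mul_smul, hss, one_smul, hsa] at h9
      exact h9
    · -- A6
      intro f hf f' hf' hf1 hf'1
      have hfb : f • b ≠ b := fun h => hf1 (hFfix f hf h)
      have hf'b : f' • b ≠ b := fun h => hf'1 (hFfix f' hf' h)
      have hfa : f • b ≠ a := by
        intro h
        have : f • b = f • a := by rw [h, hFa f hf]
        exact hba (smul_left_cancel f this)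
      have hf'a : f' • b ≠ a := by
        intro h
        have : f' • b = f' • a := by rw [h, hFa f' hf']
        exact hba (smul_left_cancel f' this)
      obtain ⟨η, hηa, hηb, hηf⟩ := exists_map3 (G := G) h3 hab (Ne.symm hfa) (Ne.symm hfb) hab
        (Ne.symm hf'a) (Ne.symm hf'b)
      refine ⟨η, (hHmem η).2 ⟨hηa, hηb⟩, ?_⟩
      have hηGa : η ∈ Ga := hηa
      have hconjF : η * f * η⁻¹ ∈ F := hFnorm η hηGa f hf
      have h6 : f'⁻¹ * (η * f * η⁻¹) ∈ F := F.mul_mem (F.inv_mem hf') hconjF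
      have h7 : (f'⁻¹ * (η * f * η⁻¹)) • b = b := by
        rw [mul_smul, inv_smul_eq_iff, mul_smul, mul_smul, inv_smul_eq_iff.2 hηb.symm, hηf]
      have h8 := hFfix _ h6 h7
      have := congrArg (fun z => f' * z) h8
      simpa [mul_assoc] using this
  -- a nontrivial element of F
  have hFcard : Nat.card F = Fintype.card α - 1 := by
    rw [hF, Subgroup.card_map_of_injective (Subgroup.subtype_injective _), hN₀card, hcardΩ]
  obtain ⟨f₀, hf₀, hf₀1⟩ : ∃ f₀ ∈ F, f₀ ≠ 1 := by
    by_contra hcon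
    push Not at hcon
    have : F = ⊥ := (Subgroup.eq_bot_iff_forall F).2 hcon
    rw [this, Subgroup.card_bot] at hFcard
    omega
  -- an element of H outside N
  obtain ⟨h₀, hh₀, hh₀N⟩ : ∃ h₀ ∈ H, h₀ ∉ N := by
    by_contra hcon
    push Not at hcon
    have : N' = ⊤ := by
      rw [eq_top_iff]
      intro x _
      obtain ⟨_, hx⟩ := (hNmem _).1 (hcon x x.2)
      exact hx
    rw [this, Subgroup.index_top] at hN'idx
    omega
  exact hdat.exists_index_two hss hf₀ hf₀1 hh₀ hh₀N

end Cfsg.Agent.Lib.Helper2.Zi2
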