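import Mathlib
import Cfsg.Agent.Lib.Helper2.SttE
import Cfsg.Agent.Lib.Helper2.Zi2C

/-!
# Sharply triply transitive groups of even degree have a subgroup of index two
-/

set_option autoImplicit false
set_option linter.style.haveILetI false

namespace Cfsg.Agent.Lib.Helper2.Zi2

open MulAction Cfsg.Agent.Lib.Lead.Sharp3

/-- degree four: the two-point stabiliser has order two. -/
theorem card_H_of_card_four {G α : Type*} [Group G] [MulAction G α] [Fintype α]
    (h3 : IsMultiplyPretransitive G α 3) (hsharp : ∀ x : Fin 3 ↪ α, stabilizer G x = ⊥)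
    (h4 : Fintype.card α = 4) {a b : α} (hab : a ≠ b) :
    Nat.card ↥(stabilizer G a ⊓ stabilizer G b) = 2 := by
  classical
  obtain ⟨c, hca, hcb⟩ := exists_third (by omega) a b
  -- a fourth point
  obtain ⟨e, hea, heb, hec⟩ : ∃ e : α, e ≠ a ∧ e ≠ b ∧ e ≠ c := by
    by_contra hcon
    push Not at hcon
    have h1 : (Finset.univ : Finset α) ⊆ {a, b, c} := by
      intro x _
      by_cases hxa : x = a
      · simp [hxa]
      · by_cases hxb : x = b
        · simp [hxb]
        · simp [hcon x hxa hxb]
    have h2 := Finset.card_le_card h1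
    rw [Finset.card_univ] at h2
    have h3' : ({a, b, c} : Finset α).card ≤ 3 := Finset.card_le_three
    omega
  have hall : ∀ x : α, x = a ∨ x = b ∨ x = c ∨ x = e := by
    have hcard : ({a, b, c, e} : Finset α).card = 4 := by
      rw [Finset.card_insert_of_notMem, Finset.card_insert_of_notMem,
        Finset.card_insert_of_notMem, Finset.card_singleton]
      · simp only [Finset.mem_singleton]; exact hec.symm
      · simp only [Finset.mem_insert, Finset.mem_singleton, not_or]
        exact ⟨hcb.symm, heb.symm⟩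
      · simp only [Finset.mem_insert, Finset.mem_singleton, not_or]
        exact ⟨hab, hca.symm, hea.symm⟩
    have huniv : ({a, b, c, e} : Finset α) = Finset.univ := by
      apply Finset.eq_univ_of_card
      rw [hcard, h4]
    intro x
    have : x ∈ ({a, b, c, e} : Finset α) := by rw [huniv]; exact Finset.mem_univ x
    simpa using this
  have hac : a ≠ c := hca.symm
  have hbc : b ≠ c := hcb.symm
  obtain ⟨h₁, h₁a, h₁b, h₁c⟩ := exists_map3 (G := G) h3 hab hac hbc hab hea.symm heb.symm
  have hmem : ∀ h : G, h ∈ stabilizer G a ⊓ stabilizer G b ↔ h • a = a ∧ h • b = b := by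
    intro h
    rw [Subgroup.mem_inf, mem_stabilizer_iff, mem_stabilizer_iff]
  rw [Nat.card_eq_two_iff]
  refine ⟨1, ⟨h₁, (hmem h₁).2 ⟨h₁a, h₁b⟩⟩, ?_, ?_⟩
  · intro h
    have h5 : (1 : G) = h₁ := congrArg Subtype.val h
    rw [← h5, one_smul] at h₁c
    exact hec h₁c.symm
  · rw [Set.eq_univ_iff_forall]
    rintro ⟨h, hh⟩
    obtain ⟨hha, hhb⟩ := (hmem h).1 hh
    have hhc_a : h • c ≠ a := by
      intro hcon
      rw [← hha] at hcon
      exact hca (smul_left_cancel h hcon)
    have hhc_b : h • c ≠ b := by
      intro hcon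
      rw [← hhb] at hcon
      exact hcb (smul_left_cancel h hcon)
    rcases hall (h • c) with h6 | h6 | h6 | h6
    · exact absurd h6 hhc_a
    · exact absurd h6 hhc_b
    · left
      apply Subtype.ext
      exact eq_one_of_fix3 hsharp hab hac hbc h hha hhb h6
    · right
      apply Subtype.ext
      exact eq_of_agree3 hsharp hab hac hbc h h₁ (by rw [hha, h₁a]) (by rw [hhb, h₁b])
        (by rw [h6, h₁c])

/-- permutation group version. -/
theorem perm_index_two {α : Type*} [Fintype α] [DecidableEq α]
    (heven : Even (Fintype.card α)) (h4 : 4 ≤ Fintype.card α)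
    (G : Subgroup (Equiv.Perm α)) (h3 : IsMultiplyPretransitive G α 3)
    (hsharp : ∀ x : Fin 3 ↪ α, stabilizer G x = ⊥) :
    ∃ K : Subgroup G, K.index = 2 := by
  obtain ⟨a, b, hab⟩ : ∃ a b : α, a ≠ b := by
    have : 1 < Fintype.card α := by omega
    exact Fintype.exists_pair_of_one_lt_card this
  apply sharp3_index_two h3 hsharp h4 hab
  by_cases h6 : 6 ≤ Fintype.card α
  · exact Cfsg.Agent.Lib.Helper2.Stt.exists_index_two heven h6 G h3 hsharp hab
  · have hc4 : Fintype.card α = 4 := by
      obtain ⟨r, hr⟩ := heven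
      omega
    refine ⟨⊥, ?_⟩
    rw [Subgroup.index_bot]
    exact card_H_of_card_four h3 hsharp hc4 hab

/-- abstract version. -/
theorem index_two_of_sharp3 {G α : Type*} [Group G] [MulAction G α] [Fintype α] [Finite G]
    (heven : Even (Fintype.card α)) (h4 : 4 ≤ Fintype.card α)
    (h3 : IsMultiplyPretransitive G α 3) (hsharp : ∀ x : Fin 3 ↪ α, stabilizer G x = ⊥) :
    ∃ K : Subgroup G, K.index = 2 := by
  classical
  let φ : G →* Equiv.Perm α := MulAction.toPermHom G α
  let G' : Subgroup (Equiv.Perm α) := φ.range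
  let ψ : G →* ↥G' := φ.rangeRestrict
  have hψ : Function.Surjective ψ := φ.rangeRestrict_surjective
  have hact : ∀ (g : G) (x : α), (ψ g) • x = g • x := fun g x => rfl
  have h3' : IsMultiplyPretransitive G' α 3 := by
    refine ⟨fun x y => ?_⟩
    obtain ⟨g, hg⟩ := h3.exists_smul_eq x y
    refine ⟨ψ g, ?_⟩
    ext i
    have h5 : g • x i = y i := by
      have := DFunLike.congr_fun hg i
      simpa using this
    rw [Function.Embedding.smul_apply, hact]
    exact h5
  have hsharp' : ∀ x : Fin 3 ↪ α, stabilizer G' x = ⊥ := by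
    intro x
    rw [Subgroup.eq_bot_iff_forall]
    intro g' hg'
    obtain ⟨g, rfl⟩ := hψ g'
    have hg : g ∈ stabilizer G x := by
      rw [mem_stabilizer_iff] at hg' ⊢
      ext i
      have h5 : (ψ g) • x i = x i := by
        have := DFunLike.congr_fun hg' i
        exact this
      rw [Function.Embedding.smul_apply, ← hact]
      exact h5
    rw [hsharp x, Subgroup.mem_bot] at hg
    rw [hg, map_one]
  obtain ⟨K', hK'⟩ := perm_index_two heven h4 G' h3' hsharp'
  refine ⟨K'.comap ψ, ?_⟩
  rw [Subgroup.index_comap_of_surjective K' hψ, hK']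

end Cfsg.Agent.Lib.Helper2.Zi2
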