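import Mathlib
import Cfsg.Agent.Lib.Helper6.ZpG
import Cfsg.Agent.Lib.Helper2.Zi2D

set_option autoImplicit false

/-!
Simple Zassenhaus groups: the two point stabiliser is cyclic and inverted by an involution
(even case).
-/

namespace Cfsg.Agent.Lib.Helper2.Zi2

open Cfsg MulAction Cfsg.Agent.Lib.Helper6.Zs Cfsg.Agent.Lib.Helper6.Zp

section
variable {G Ω : Type*} [Group G] [Fintype G] [MulAction G Ω] [Fintype Ω]

/-- simple Zassenhaus group with `d` even: `n - 1 = 2 d`. -/
theorem card_of_simple_even (h : ZD G Ω) [IsSimpleGroup G] {a b : Ω} (hab : a ≠ b)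
    (heven : Even (Nat.card ↥(stabilizer G a ⊓ stabilizer G b : Subgroup G))) :
    2 * Nat.card ↥(stabilizer G a ⊓ stabilizer G b : Subgroup G) + 2 = Fintype.card Ω := by
  classical
  obtain ⟨K, hK⟩ := h.exists_kernel a
  set d := Nat.card ↥(stabilizer G a ⊓ stabilizer G b : Subgroup G) with hd
  have hdvd := ZD.card_two_dvd h hab
  have hn := h.card_gt
  have hd1 := ZD.one_lt_card_two h hab
  have hle : Fintype.card Ω - 2 ≤ 2 * d := (h.even_case hab hK heven).2
  obtain ⟨k, hk⟩ := hdvd
  rw [← hd] at hk hd1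
  have hcases : Fintype.card Ω - 2 = d ∨ Fintype.card Ω - 2 = 2 * d := by
    rcases k with _ | _ | _ | k
    · omega
    · left; omega
    · right; omega
    · exfalso
      have : d * (k + 1 + 1 + 1) = d * k + 3 * d := by ring
      omega
  rcases hcases with h1 | h2
  · exfalso
    have hcard1 : d + 2 = Fintype.card Ω := by omega
    obtain ⟨h3, hsharp⟩ := sharp3 h hab hcard1
    have hevenΩ : Even (Fintype.card Ω) := by
      obtain ⟨r, hr⟩ := heven
      exact ⟨r + 1, by omega⟩
    have h4 : 4 ≤ Fintype.card Ω := by omega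
    obtain ⟨N, hN⟩ := index_two_of_sharp3 hevenΩ h4 h3 hsharp
    haveI : N.Normal := Subgroup.normal_of_index_eq_two hN
    rcases Subgroup.Normal.eq_bot_or_eq_top (H := N) inferInstance with hb | ht
    · rw [hb, Subgroup.index_bot] at hN
      have hdd : d ∣ Nat.card G := Subgroup.card_subgroup_dvd_card _
      rw [hN] at hdd
      have := Nat.le_of_dvd (by norm_num) hdd
      have hd2 : d = 2 := by omega
      have htop : (stabilizer G a ⊓ stabilizer G b : Subgroup G) = ⊤ := by
        apply Subgroup.eq_top_of_card_eq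
        rw [← hd, hd2, hN]
      obtain ⟨g, hga, -⟩ := h.two a b b a hab hab.symm
      have hg : g ∈ (stabilizer G a ⊓ stabilizer G b : Subgroup G) := by rw [htop]; trivial
      have := mem_stabilizer_iff.1 hg.1
      rw [hga] at this
      exact hab this.symm
    · rw [ht, Subgroup.index_top] at hN
      omega
  · omega

/-- the two point stabiliser acts on the coordinate field by multiplications: it is cyclic. -/
theorem cyclic_of_coord (h : ZD G Ω) {a b : Ω} {E : Type*} [Field E] [Fintype E]
    (P : E → Ω) (hPinj : Function.Injective P) (hPa : ∀ x, P x ≠ a) (hP0 : P 0 = b)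
    (hstab : ∀ w : G, w • a = a → ∃ s β : E, s ≠ 0 ∧ IsSquare s ∧ ∀ x, w • P x = P (s * x + β)) :
    IsCyclic ↥(stabilizer G a ⊓ stabilizer G b : Subgroup G) := by
  classical
  set H : Subgroup G := stabilizer G a ⊓ stabilizer G b with hH
  have hHa : ∀ g : H, (g : G) • a = a := fun g =>
    mem_stabilizer_iff.1 (Subgroup.mem_inf.1 g.2).1
  have hHb : ∀ g : H, (g : G) • b = b := fun g =>
    mem_stabilizer_iff.1 (Subgroup.mem_inf.1 g.2).2
  have hex : ∀ g : H, ∃ s : E, ∀ x, (g : G) • P x = P (s * x) := by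
    intro g
    obtain ⟨s, β, -, -, hs⟩ := hstab g (hHa g)
    have h0 := hs 0
    rw [hP0, hHb g, mul_zero, zero_add, ← hP0] at h0
    have hβ : β = 0 := (hPinj h0).symm
    refine ⟨s, fun x => ?_⟩
    rw [hs x, hβ, add_zero]
  choose f hf using hex
  have hf1 : ∀ g : H, P (f g) = (g : G) • P 1 := by
    intro g
    rw [hf g 1, mul_one]
  let φ : H →* E :=
    { toFun := f
      map_one' := by
        apply hPinj
        rw [hf1]
        show (1 : G) • P 1 = P 1
        rw [one_smul]
      map_mul' := by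
        intro g g'
        apply hPinj
        rw [hf1]
        show ((g : G) * (g' : G)) • P 1 = P (f g * f g')
        rw [mul_smul, ← hf1, hf g] }
  have hφ : Function.Injective φ := by
    intro g g' hgg
    have hgg' : f g = f g' := hgg
    have key : ((g : G)⁻¹ * (g' : G)) = 1 := by
      apply h.three _ a (P 0) (P 1) (hPa 0).symm
        (fun e => zero_ne_one (hPinj e)) (hPa 1).symm
      · rw [mul_smul, hHa g', inv_smul_eq_iff, hHa g]
      · rw [mul_smul, inv_smul_eq_iff, hf g, hf g', hgg']
      · rw [mul_smul, inv_smul_eq_iff, hf g, hf g', hgg']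
    apply Subtype.ext
    have := inv_mul_eq_one.1 key
    exact this
  exact isCyclic_of_subgroup_isDomain φ hφ

/-- even case: every element swapping `a`, `b` is an involution inverting `H`, and `H` is
cyclic. -/
theorem even_main (h : ZD G Ω) [IsSimpleGroup G] {a b : Ω} (hab : a ≠ b)
    (heven : Even (Nat.card ↥(stabilizer G a ⊓ stabilizer G b : Subgroup G))) :
    IsCyclic ↥(stabilizer G a ⊓ stabilizer G b : Subgroup G) ∧
      ∀ t : G, t • a = b → t • b = a → t * t = 1 ∧
        ∀ x ∈ (stabilizer G a ⊓ stabilizer G b : Subgroup G), t * x * t⁻¹ = x⁻¹ := by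
  classical
  have hcard2 := card_of_simple_even h hab heven
  obtain ⟨K, hK⟩ := h.exists_kernel a
  have hKab := (h.even_case hab hK heven).1
  have hsw := even_swap h hab heven hcard2
  have hinv : ∀ t : G, t • a = b → t • b = a → t * t = 1 ∧
        ∀ x ∈ (stabilizer G a ⊓ stabilizer G b : Subgroup G), t * x * t⁻¹ = x⁻¹ := by
    intro t hta htb
    obtain ⟨htt, -⟩ := hsw t hta htb
    refine ⟨htt, ?_⟩
    have htinv : t⁻¹ = t := inv_eq_of_mul_eq_one_right htt
    intro x hx
    rw [Subgroup.mem_inf, mem_stabilizer_iff, mem_stabilizer_iff] at hx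
    have h1 := (hsw (t * x) (by rw [mul_smul, hx.1, hta]) (by rw [mul_smul, hx.2, htb])).1
    rw [htinv]
    apply eq_inv_of_mul_eq_one_left
    rw [mul_assoc (t * x) t x]
    exact h1
  refine ⟨?_, hinv⟩
  obtain ⟨t, hta, htb⟩ := h.two a b b a hab hab.symm
  obtain ⟨htt, hinvt⟩ := hinv t hta htb
  have hHab : ∀ x ∈ (stabilizer G a ⊓ stabilizer G b : Subgroup G),
      ∀ y ∈ (stabilizer G a ⊓ stabilizer G b : Subgroup G), x * y = y * x := by
    intro x hx y hy
    have h1 := hinvt (x * y) (Subgroup.mul_mem _ hx hy)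
    have h2 := hinvt x hx
    have h3 := hinvt y hy
    have h4 : t * (x * y) * t⁻¹ = (t * x * t⁻¹) * (t * y * t⁻¹) := by group
    rw [h1, h2, h3] at h4
    have h5 := congrArg (fun z => z⁻¹) h4
    simp only [mul_inv_rev, inv_inv] at h5
    exact h5
  obtain ⟨E, fld, ft, P, hcE, hPinj, hPa, hPsurj, hP0, htrans, hstab, hsq⟩ :=
    exists_coord h hab hK hKab hHab hcard2
  exact cyclic_of_coord h P hPinj hPa hP0 hstab

end

end Cfsg.Agent.Lib.Helper2.Zi2
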