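import Mathlib
import Cfsg.Agent.Lib.Lead.UniqueP
import Cfsg.Agent.Lib.Helper2.FrobCompA

/-! Class-two groups all of whose abelian subgroups are cyclic: a nonabelian normal subgroup of
class two that is minimal among nonabelian normal subgroups is a `q`-group, and a nonabelian
`q`-group of class two whose abelian subgroups are cyclic is quaternion of order `8`. -/
set_option autoImplicit false

namespace Cfsg.Agent.Lib.Helper2.Zr

open Cfsg.Agent.Lib.Lead.UniqueP
open scoped commutatorElement

/-- a `q`-group whose abelian subgroups are cyclic has at most one subgroup of order `q` -/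
theorem uop_of_cyc {N : Type*} [Group N] [Finite N] {q : ℕ} [hq : Fact q.Prime]
    (hN : IsPGroup q N) (hcyc : ∀ B : Subgroup N, IsMulCommutative B → IsCyclic B) :
    UOP q N := by
  intro x y hx hy hx1
  haveI : Nontrivial N := ⟨⟨x, 1, hx1⟩⟩
  haveI := hN.center_nontrivial
  have hPc : IsPGroup q ↥(Subgroup.center N) := hN.to_subgroup _
  have hdvd : q ∣ Nat.card ↥(Subgroup.center N) := by
    rcases hPc.card_eq_or_dvd with h1 | h1
    · exfalso
      have := Finite.one_lt_card (α := ↥(Subgroup.center N))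
      omega
    · exact h1
  obtain ⟨z, hz⟩ := exists_prime_orderOf_dvd_card' q hdvd
  have hzPo : orderOf (z : N) = q := by rw [Subgroup.orderOf_coe]; exact hz
  have hcen : ∀ g : N, Commute g (z : N) := by
    intro g
    have := Subgroup.mem_center_iff.mp z.2 g
    exact this
  have key : ∀ w : N, w ^ q = 1 → w ∈ Subgroup.zpowers (z : N) := fun w hw =>
    Cfsg.Agent.Lib.Helper2.FrobComp.cyc_mem hcyc (hcen w) hzPo hw
  have hxz := key x hx
  have hyz := key y hy
  have hxo : orderOf x = q := orderOf_eq_prime hx hx1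
  have hle : Subgroup.zpowers x ≤ Subgroup.zpowers (z : N) := Subgroup.zpowers_le.mpr hxz
  have heq : Subgroup.zpowers x = Subgroup.zpowers (z : N) := by
    apply Subgroup.eq_of_le_of_card_ge hle
    rw [Nat.card_zpowers, Nat.card_zpowers, hxo, hzPo]
  rw [heq]; exact hyz

/-- a generalized quaternion group of class two has `4 = 0` in `ZMod (2 m)` -/
theorem quat_four_eq_zero (m : ℕ)
    (hc : ∀ x y z : QuaternionGroup m, ⁅x, y⁆ * z = z * ⁅x, y⁆) : (4 : ZMod (2 * m)) = 0 := by
  have h : (QuaternionGroup.a 2 : QuaternionGroup m) *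
      (QuaternionGroup.xa 0 * QuaternionGroup.a 1) =
      QuaternionGroup.a 1 * QuaternionGroup.xa 0 := by
    rw [QuaternionGroup.xa_mul_a, QuaternionGroup.a_mul_xa, QuaternionGroup.a_mul_xa]
    congr 1
    ring
  have hcomm : ⁅(QuaternionGroup.a 1 : QuaternionGroup m), (QuaternionGroup.xa 0 : QuaternionGroup m)⁆ =
      QuaternionGroup.a 2 := by
    rw [commutatorElement_def, ← h]; group
  have h2 := hc (QuaternionGroup.a 1) (QuaternionGroup.xa 0) (QuaternionGroup.xa 0)
  rw [hcomm, QuaternionGroup.a_mul_xa, QuaternionGroup.xa_mul_a] at h2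
  have h3 := QuaternionGroup.xa.inj h2
  linear_combination -h3

/-- a nonabelian `q`-group of class two whose abelian subgroups are cyclic is `Q8` -/
theorem q8_of_class2 {N : Type*} [Group N] [Finite N] {q : ℕ} [hq : Fact q.Prime]
    (hN : IsPGroup q N) (hcyc : ∀ B : Subgroup N, IsMulCommutative B → IsCyclic B)
    (hc2 : ∀ x y z : N, ⁅x, y⁆ * z = z * ⁅x, y⁆) (hna : ¬ IsMulCommutative N) :
    Nonempty (N ≃* QuaternionGroup 2) := by
  rcases cyclic_or_quaternion q hN (uop_of_cyc hN hcyc) with hcy | ⟨hq2, n, ⟨e⟩⟩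
  · exfalso; apply hna
    exact ⟨⟨fun x y => comm_of_isCyclic x y⟩⟩
  · have h4 := quat_four_eq_zero (2 ^ n) (by
      intro X Y Z
      have := congrArg e (hc2 (e.symm X) (e.symm Y) (e.symm Z))
      simpa [map_commutatorElement] using this)
    have hdvd : 2 * 2 ^ n ∣ 4 := by
      have : ((4 : ℕ) : ZMod (2 * 2 ^ n)) = 0 := by exact_mod_cast h4
      exact (ZMod.natCast_eq_zero_iff 4 _).mp this
    have hn : n ≤ 1 := by
      by_contra hcon
      push Not at hcon
      have h22 : 2 ^ 2 ∣ 2 ^ n := pow_dvd_pow 2 hcon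
      have h8 : 2 * 2 ^ 2 ∣ 4 := (Nat.mul_dvd_mul_left 2 h22).trans hdvd
      norm_num at h8
    interval_cases n
    · exfalso; apply hna
      have hcard : Nat.card N = 2 ^ 2 := by
        rw [Nat.card_congr e.toEquiv, Nat.card_eq_fintype_card, QuaternionGroup.card]
        norm_num
      exact IsPGroup.isMulCommutative_of_card_eq_prime_sq (p := 2) hcard
    · exact ⟨e⟩

/-- a nonabelian normal subgroup of class two, minimal among the nonabelian normal subgroups, is a
`q`-group -/
theorem isPGroup_of_class2_min {H : Type*} [Group H] [Finite H] (N : Subgroup H) [hNn : N.Normal]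
    (hc2 : ∀ x y z : N, ⁅x, y⁆ * z = z * ⁅x, y⁆)
    (hNna : ¬ IsMulCommutative N)
    (hNmin : ∀ M : Subgroup H, M.Normal → M ≤ N → ¬ IsMulCommutative M → M = N) :
    ∃ q : ℕ, q.Prime ∧ IsPGroup q N := by
  have hnil : Group.IsNilpotent N := by
    apply Subgroup.isNilpotent_of_ker_le_center (Abelianization.of (G := N))
    rw [Abelianization.ker_of, commutator_def, Subgroup.commutator_le]
    intro x _ y _
    rw [Subgroup.mem_center_iff]
    intro z
    exact (hc2 x y z).symm
  have hsyl := ((Group.isNilpotent_of_finite_tfae (G := N)).out 0 3).mp hnil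
  have hprod := ((Group.isNilpotent_of_finite_tfae (G := N)).out 0 4).mp hnil
  by_contra hno
  push Not at hno
  apply hNna
  have hab : ∀ (r : ℕ) (hr : Fact r.Prime) (P : Sylow r N) (x y : (P : Subgroup N)),
      x * y = y * x := by
    intro r hr P
    haveI := hsyl r hr P
    haveI : (P : Subgroup N).Characteristic := Sylow.characteristic_of_normal P inferInstance
    have hPn : ((P : Subgroup N).map N.subtype).Normal :=
      ConjAct.normal_of_characteristic_of_normal
    by_contra hcon
    push Not at hcon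
    obtain ⟨x, y, hxy⟩ := hcon
    have hMna : ¬ IsMulCommutative ((P : Subgroup N).map N.subtype) := by
      intro hM
      apply hxy
      have := hM.is_comm.comm ⟨x.1.1, Subgroup.mem_map_of_mem _ x.2⟩
        ⟨y.1.1, Subgroup.mem_map_of_mem _ y.2⟩
      apply Subtype.ext; apply Subtype.ext
      show x.1.1 * y.1.1 = y.1.1 * x.1.1
      exact congrArg Subtype.val this
    have hMeq := hNmin _ hPn (Subgroup.map_subtype_le _) hMna
    apply hno r hr.out
    intro g
    have hg : g.1 ∈ (P : Subgroup N).map N.subtype := by rw [hMeq]; exact g.2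
    obtain ⟨g', hg'P, hg'⟩ := Subgroup.mem_map.mp hg
    have hgg : g' = g := Subtype.ext hg'
    obtain ⟨k, hk⟩ := P.2 ⟨g', hg'P⟩
    refine ⟨k, ?_⟩
    rw [← hgg]
    exact congrArg Subtype.val hk
  obtain ⟨e⟩ := hprod
  refine ⟨⟨fun x y => ?_⟩⟩
  obtain ⟨a, rfl⟩ := e.surjective x
  obtain ⟨b, rfl⟩ := e.surjective y
  rw [← map_mul, ← map_mul]
  congr 1
  funext r P
  exact hab r.1 ⟨Nat.prime_of_mem_primeFactors r.2⟩ P (a r P) (b r P)

end Cfsg.Agent.Lib.Helper2.Zr
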