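import Mathlib
import Cfsg.Agent.Lib.Lead.FpfLinear3
import Cfsg.Agent.Lib.Helper2.ZrB

/-! The minimal nonabelian normal subgroup `N` of a regular linear group is `Q8` or (given
Zassenhaus' theorem as the hypothesis `Z`) `SL(2,5)`. -/
set_option autoImplicit false

namespace Cfsg.Agent.Lib.Helper2.Zr

open scoped commutatorElement
open Cfsg.Agent.Lib.Lead.FpfLinear

/-- an abelian normal subgroup commuting with a maximal abelian normal subgroup lies in it -/
theorem le_of_comm_normal {H : Type*} [Group H] (A D : Subgroup H) (hAn : A.Normal)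
    (hDn : D.Normal) (hA : IsMulCommutative A) (hD : IsMulCommutative D)
    (hDA : ∀ d ∈ D, ∀ a ∈ A, d * a = a * d)
    (hAmax : ∀ B : Subgroup H, B.Normal → IsMulCommutative B → A ≤ B → B = A) : D ≤ A := by
  have hB : IsMulCommutative (D ⊔ A : Subgroup H) := by
    rw [Subgroup.sup_eq_closure]
    apply Subgroup.isMulCommutative_closure
    rintro x (hx | hx) y (hy | hy)
    · exact congrArg Subtype.val (hD.is_comm.comm ⟨x, hx⟩ ⟨y, hy⟩)
    · exact hDA x hx y hy
    · exact (hDA y hy x hx).symm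
    · exact congrArg Subtype.val (hA.is_comm.comm ⟨x, hx⟩ ⟨y, hy⟩)
  have := hAmax (D ⊔ A) (Subgroup.sup_normal D A) hB le_sup_right
  rw [← this]; exact le_sup_left

section lin
variable {p : ℕ} [Fact p.Prime] {V : Type*} [AddCommGroup V] [Module (ZMod p) V]

/-- linear automorphisms as automorphisms of the multiplicative copy -/
def toMulAut : (V ≃ₗ[ZMod p] V) →* MulAut (Multiplicative V) where
  toFun f := AddEquiv.toMultiplicative f.toAddEquiv
  map_one' := rfl
  map_mul' _ _ := rfl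

theorem toMulAut_apply (f : V ≃ₗ[ZMod p] V) (v : V) :
    toMulAut f (Multiplicative.ofAdd v) = Multiplicative.ofAdd (f v) := rfl

theorem toMulAut_injective : Function.Injective (toMulAut (p := p) (V := V)) := by
  intro f g h
  ext v
  have h1 := DFunLike.congr_fun h (Multiplicative.ofAdd v)
  rw [toMulAut_apply, toMulAut_apply] at h1
  exact Multiplicative.ofAdd.injective h1

variable (H : Subgroup (V ≃ₗ[ZMod p] V))

theorem eq_one_of_fix
    (hreg : ∀ v w : V, v ≠ 0 → w ≠ 0 → ∃! h : H, (h : V ≃ₗ[ZMod p] V) v = w)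
    (h : H) (v : V) (hv0 : v ≠ 0) (hv : (h : V ≃ₗ[ZMod p] V) v = v) : h = 1 := by
  obtain ⟨g, -, hg⟩ := hreg v v hv0 hv0
  rw [hg h hv, hg 1 (by simp)]

/-- the perfect case, given Zassenhaus' theorem `Z` -/
theorem perfect_case
    (Z : ∀ (G : Subgroup (MulAut (Multiplicative V))),
      (∀ φ ∈ G, φ ≠ 1 → ∀ k, φ k = k → k = 1) → commutator G = ⊤ → G ≠ ⊥ →
      Nonempty (G ≃* Matrix.SpecialLinearGroup (Fin 2) (ZMod 5)))
    (hreg : ∀ v w : V, v ≠ 0 → w ≠ 0 → ∃! h : H, (h : V ≃ₗ[ZMod p] V) v = w)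
    (N : Subgroup H) (hperf : ⁅N, N⁆ = N) (hN : N ≠ ⊥) :
    Nonempty (N ≃* Matrix.SpecialLinearGroup (Fin 2) (ZMod 5)) := by
  obtain ⟨ι, hι⟩ : ∃ ι : H →* MulAut (Multiplicative V), ι = toMulAut.comp H.subtype := ⟨_, rfl⟩
  have hinj : Function.Injective ι := by
    rw [hι]
    exact toMulAut_injective.comp H.subtype_injective
  have hιapp : ∀ (h : H) (v : V), ι h (Multiplicative.ofAdd v) =
      Multiplicative.ofAdd ((h : V ≃ₗ[ZMod p] V) v) := by
    intro h v
    rw [hι]; rfl
  have hfpf : ∀ φ ∈ N.map ι, φ ≠ 1 → ∀ k, φ k = k → k = 1 := by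
    rintro φ ⟨n, hn, rfl⟩ hne k hk
    by_contra hk1
    apply hne
    have hk' := hιapp n (Multiplicative.toAdd k)
    rw [ofAdd_toAdd, hk] at hk'
    have hfix : (n : V ≃ₗ[ZMod p] V) (Multiplicative.toAdd k) = Multiplicative.toAdd k := by
      have := congrArg Multiplicative.toAdd hk'
      rw [toAdd_ofAdd] at this
      exact this.symm
    have hk0 : Multiplicative.toAdd k ≠ 0 := by
      intro h0
      apply hk1
      have := congrArg Multiplicative.ofAdd h0
      rw [ofAdd_toAdd, ofAdd_zero] at this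
      exact this
    rw [eq_one_of_fix H hreg n _ hk0 hfix, map_one]
  have hperfG : commutator (N.map ι) = ⊤ := by
    have h1 : (commutator (N.map ι)).map (N.map ι).subtype = ⁅N.map ι, N.map ι⁆ :=
      Subgroup.map_subtype_commutator (N.map ι)
    have h2 : ⁅N.map ι, N.map ι⁆ = N.map ι := by
      rw [← Subgroup.map_commutator, hperf]
    apply Subgroup.map_injective (N.map ι).subtype_injective
    rw [h1, h2, ← MonoidHom.range_eq_map, Subgroup.range_subtype]
  have hGne : N.map ι ≠ ⊥ := by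
    intro hG
    apply hN
    exact (Subgroup.map_eq_bot_iff_of_injective N hinj).mp hG
  obtain ⟨f⟩ := Z (N.map ι) hfpf hperfG hGne
  exact ⟨(N.equivMapOfInjective ι hinj).trans f⟩

/-- S0686, given Zassenhaus' theorem `Z` -/
theorem core [Finite V]
    (Z : ∀ (G : Subgroup (MulAut (Multiplicative V))),
      (∀ φ ∈ G, φ ≠ 1 → ∀ k, φ k = k → k = 1) → commutator G = ⊤ → G ≠ ⊥ →
      Nonempty (G ≃* Matrix.SpecialLinearGroup (Fin 2) (ZMod 5)))
    (hreg : ∀ v w : V, v ≠ 0 → w ≠ 0 → ∃! h : H, (h : V ≃ₗ[ZMod p] V) v = w)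
    (A : Subgroup H) (hAn : A.Normal) (hAc : IsMulCommutative A)
    (hAmax : ∀ B : Subgroup H, B.Normal → IsMulCommutative B → A ≤ B → B = A)
    (N : Subgroup H) (hNn : N.Normal) (hNle : N ≤ Subgroup.centralizer (A : Set H))
    (hNna : ¬ IsMulCommutative N)
    (hNmin : ∀ M : Subgroup H, M.Normal → M ≤ N → ¬ IsMulCommutative M → M = N) :
    Nonempty (N ≃* QuaternionGroup 2) ∨
      Nonempty (N ≃* Matrix.SpecialLinearGroup (Fin 2) (ZMod 5)) := by
  haveI : Finite H := finite_H H
  have hNbot : N ≠ ⊥ := by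
    intro h0
    apply hNna
    refine ⟨⟨fun x y => ?_⟩⟩
    have hall : ∀ x : N, x = 1 := by
      intro x
      have h1 : x.1 ∈ (⊥ : Subgroup H) := h0 ▸ x.2
      exact Subtype.ext (Subgroup.mem_bot.mp h1)
    rw [hall x, one_mul, mul_one]
  haveI : Nontrivial V := by
    by_contra hV
    rw [not_nontrivial_iff_subsingleton] at hV
    apply hNna
    refine ⟨⟨fun x y => ?_⟩⟩
    have hsub : ∀ f g : V ≃ₗ[ZMod p] V, f = g := fun f g =>
      LinearEquiv.ext fun v => Subsingleton.elim _ _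
    apply Subtype.ext; apply Subtype.ext
    exact hsub _ _
  by_cases hD : ⁅N, N⁆ = N
  · right
    exact perfect_case H Z hreg N hD hNbot
  · left
    haveI := hNn
    have hDn : (⁅N, N⁆ : Subgroup H).Normal := inferInstance
    have hDle : ⁅N, N⁆ ≤ N := Subgroup.commutator_le_right N N
    have hDc : IsMulCommutative (⁅N, N⁆ : Subgroup H) := by
      by_contra h
      exact hD (hNmin _ hDn hDle h)
    have hDA : ⁅N, N⁆ ≤ A := by
      apply le_of_comm_normal A ⁅N, N⁆ hAn hDn hAc hDc ?_ hAmax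
      intro d hd a ha
      exact (Subgroup.mem_centralizer_iff.mp (hNle (hDle hd)) a ha).symm
    have hc2 : ∀ x y z : N, ⁅x, y⁆ * z = z * ⁅x, y⁆ := by
      intro x y z
      apply Subtype.ext
      have hmem : ⁅x.1, y.1⁆ ∈ A := hDA (Subgroup.commutator_mem_commutator x.2 y.2)
      have := Subgroup.mem_centralizer_iff.mp (hNle z.2) _ hmem
      show ⁅x.1, y.1⁆ * z.1 = z.1 * ⁅x.1, y.1⁆
      exact this
    obtain ⟨q, hq, hNq⟩ := isPGroup_of_class2_min N hc2 hNna hNmin
    haveI : Fact q.Prime := ⟨hq⟩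
    have hcyc : ∀ B : Subgroup N, IsMulCommutative B → IsCyclic B := by
      intro B hB
      haveI := hB
      haveI : IsMulCommutative ↥(B.map N.subtype) := Subgroup.map_isMulCommutative B N.subtype
      haveI : IsCyclic ↥(B.map N.subtype) := cyclic_of_regular H hreg _ inferInstance
      exact (Subgroup.equivMapOfInjective B N.subtype N.subtype_injective).isCyclic.mpr
        inferInstance
    exact q8_of_class2 hNq hcyc hc2 hNna

end lin

end Cfsg.Agent.Lib.Helper2.Zr
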