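import Mathlib

/-! The arithmetic behind the insoluble sharply doubly transitive groups. -/
set_option autoImplicit false

namespace Cfsg.Agent.Lib.Helper2.Zr

/-- the case `|V| = p ^ 2`, `|A| ∣ p - 1` -/
theorem arith_sq {p a ε : ℕ} (hp : p.Prime) (hp7 : 7 ≤ p) (hp119 : p ≤ 119)
    (hcard : p ^ 2 = 60 * a * ε + 1) (hε : ε = 1 ∨ ε = 2)
    (ha : a ∣ p - 1) (ha2 : 2 ∣ a) :
    ε = 1 ∧ ((p = 11 ∧ a = 2) ∨ (p = 19 ∧ a = 6) ∨ (p = 29 ∧ a = 14) ∨ (p = 59 ∧ a = 58)) := by
  obtain ⟨b, hb⟩ := ha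
  have hapos : 0 < a := by
    rcases Nat.eq_zero_or_pos a with h | h
    · rw [h] at hb; omega
    · exact h
  have hpab : p = a * b + 1 := by omega
  have hbε : b * (p + 1) = 60 * ε := by
    have h1 : a * (b * (p + 1)) = a * (60 * ε) := by
      have : (a * b + 1) ^ 2 = 60 * a * ε + 1 := by rw [← hpab]; exact hcard
      rw [hpab]
      nlinarith
    exact Nat.eq_of_mul_eq_mul_left hapos h1
  have hb15 : b ≤ 15 := by
    rcases hε with rfl | rfl <;> nlinarith
  clear hcard hpab
  interval_cases p <;> first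
    | (exfalso; norm_num at hp; done)
    | (rcases hε with rfl | rfl <;> interval_cases b <;> omega)

/-- the arithmetic of the `SL(2,5)` case -/
theorem arith_main {p n m a ε : ℕ} (hp : p.Prime) (hp7 : 7 ≤ p)
    (hcard : p ^ n = 60 * a * ε + 1) (hε : ε = 1 ∨ ε = 2)
    (ha : a ∣ p ^ m - 1) (hm : 1 ≤ m) (hmn : 2 * m ≤ n) (ha2 : 2 ∣ a) :
    n = 2 ∧ ε = 1 ∧
      ((p = 11 ∧ a = 2) ∨ (p = 19 ∧ a = 6) ∨ (p = 29 ∧ a = 14) ∨ (p = 59 ∧ a = 58)) := by
  have hpQ : p ≤ p ^ m := Nat.le_self_pow (by omega) p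
  have hQ7 : 7 ≤ p ^ m := le_trans hp7 hpQ
  have hale : a ≤ p ^ m - 1 := Nat.le_of_dvd (by omega) ha
  have hpow : p ^ (2 * m) ≤ p ^ n := Nat.pow_le_pow_right (by omega) hmn
  have hsq : p ^ (2 * m) = p ^ m * p ^ m := by rw [two_mul, pow_add]
  have hε2 : ε ≤ 2 := by omega
  have h60 : 60 * a * ε ≤ 60 * (p ^ m - 1) * 2 :=
    Nat.mul_le_mul (Nat.mul_le_mul_left 60 hale) hε2
  have hQle : p ^ m ≤ 119 := by
    obtain ⟨Q', hQ'⟩ : ∃ Q', p ^ m = Q' + 1 := ⟨p ^ m - 1, by omega⟩
    rw [hQ'] at hsq h60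
    have : (Q' + 1) * (Q' + 1) ≤ 60 * (Q' + 1 - 1) * 2 + 1 := by
      rw [← hsq]; omega
    rw [Nat.add_sub_cancel] at this
    rw [hQ']
    by_contra hcon
    push Not at hcon
    nlinarith
  have hp119 : p ≤ 119 := le_trans hpQ hQle
  have hm2 : m ≤ 2 := by
    by_contra hcon
    push Not at hcon
    have h1 : 7 ^ m ≤ p ^ m := Nat.pow_le_pow_left hp7 m
    have h2 : 7 ^ 3 ≤ 7 ^ m := Nat.pow_le_pow_right (by norm_num) hcon
    norm_num at h2
    omega
  have hpn : p ^ n ≤ 14161 := by omega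
  have hn4 : n ≤ 4 := by
    by_contra hcon
    push Not at hcon
    have h1 : 7 ^ n ≤ p ^ n := Nat.pow_le_pow_left hp7 n
    have h2 : 7 ^ 5 ≤ 7 ^ n := Nat.pow_le_pow_right (by norm_num) hcon
    norm_num at h2
    omega
  interval_cases m
  · -- `m = 1`
    rw [pow_one] at ha hQle hale h60
    interval_cases n
    · exact ⟨rfl, arith_sq hp hp7 hp119 hcard hε ha ha2⟩
    · exfalso
      have hp10 : p ≤ 10 := by
        by_contra hcon
        push Not at hcon
        have h3 : p ^ 3 = p * p * p := by ring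
        have hub : p ^ 3 + 119 ≤ 120 * p := by omega
        have h121 : 121 ≤ p * p := by nlinarith
        have h4 : 121 * p ≤ p * p * p := Nat.mul_le_mul_right p h121
        omega
      interval_cases p
      · rcases hε with rfl | rfl <;> omega
      · norm_num at hp
      · norm_num at hp
      · norm_num at hp
    · exfalso
      have h3 : p ^ 4 = p * p * (p * p) := by ring
      have hub : p ^ 4 + 119 ≤ 120 * p := by omega
      have h49 : 49 ≤ p * p := by nlinarith
      have h4 : 49 * (p * p) ≤ p * p * (p * p) := Nat.mul_le_mul_right _ h49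
      have h5 : 7 * p ≤ p * p := Nat.mul_le_mul_right p hp7
      omega
  · -- `m = 2`
    exfalso
    have hn : n = 4 := by omega
    subst hn
    have hp10 : p ≤ 10 := by
      by_contra hcon
      push Not at hcon
      have : p ^ 2 = p * p := by ring
      nlinarith
    interval_cases p
    · norm_num at ha hcard
      rcases hε with rfl | rfl
      · have : a = 40 := by omega
        subst this
        norm_num at ha
      · have : a = 20 := by omega
        subst this
        norm_num at ha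
    · norm_num at hp
    · norm_num at hp
    · norm_num at hp

end Cfsg.Agent.Lib.Helper2.Zr
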