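import Mathlib
import Cfsg.Agent.S0684
import Cfsg.Agent.S0685
import Cfsg.Agent.S0687
import Cfsg.Agent.Lib.Lead.FpfLinear3
import Cfsg.Agent.Lib.Helper2.ZrC
import Cfsg.Agent.Lib.Helper2.ZrD
import Cfsg.Agent.Lib.Helper2.ZrE

/-! The insoluble sharply doubly transitive groups (S0689), given Zassenhaus' theorem as the
hypothesis `Z`. -/
set_option autoImplicit false

namespace Cfsg.Agent.Lib.Helper2.Zr

open Cfsg.Agent.Lib.Lead.FpfLinear

section general
variable {G : Type*} [Group G] [Finite G]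

theorem exists_max_abelian_normal :
    ∃ A : Subgroup G, A.Normal ∧ IsMulCommutative A ∧
      ∀ B : Subgroup G, B.Normal → IsMulCommutative B → A ≤ B → B = A := by
  haveI : Nonempty {A : Subgroup G // A.Normal ∧ IsMulCommutative A} :=
    ⟨⟨⊥, inferInstance, inferInstance⟩⟩
  obtain ⟨⟨A, hAn, hAc⟩, hmax⟩ := Finite.exists_max
    (fun A : {A : Subgroup G // A.Normal ∧ IsMulCommutative A} => Nat.card A.1)
  refine ⟨A, hAn, hAc, ?_⟩
  intro B hBn hBc hAB
  have := hmax ⟨B, hBn, hBc⟩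
  exact (Subgroup.eq_of_le_of_card_ge hAB this).symm

theorem exists_min_nonabelian (C : Subgroup G) (hCn : C.Normal) (hCna : ¬ IsMulCommutative C) :
    ∃ N : Subgroup G, N.Normal ∧ N ≤ C ∧ ¬ IsMulCommutative N ∧
      ∀ M : Subgroup G, M.Normal → M ≤ N → ¬ IsMulCommutative M → M = N := by
  haveI : Nonempty {N : Subgroup G // N.Normal ∧ N ≤ C ∧ ¬ IsMulCommutative N} :=
    ⟨⟨C, hCn, le_rfl, hCna⟩⟩
  obtain ⟨⟨N, hNn, hNC, hNna⟩, hmin⟩ := Finite.exists_min
    (fun N : {N : Subgroup G // N.Normal ∧ N ≤ C ∧ ¬ IsMulCommutative N} => Nat.card N.1)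
  refine ⟨N, hNn, hNC, hNna, ?_⟩
  intro M hMn hMN hMna
  have := hmin ⟨M, hMn, hMN.trans hNC, hMna⟩
  exact Subgroup.eq_of_le_of_card_ge hMN this

end general

section lin
variable {p : ℕ} [Fact p.Prime] {V : Type*} [AddCommGroup V] [Module (ZMod p) V] [Finite V]
  (H : Subgroup (V ≃ₗ[ZMod p] V))

/-- a non-solvable regular linear group has no irreducible cyclic normal subgroup -/
theorem hI_of_nonsolvable (hsolv : ¬ Group.IsSolvable H) :
    ∀ A : Subgroup H, A.Normal → IsCyclic A → ∃ W : Submodule (ZMod p) V,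
      W ≠ ⊥ ∧ W ≠ ⊤ ∧ ∀ a ∈ A, ∀ v ∈ W, ((a : H) : V ≃ₗ[ZMod p] V) v ∈ W := by
  intro A hAn hAcyc
  by_contra hno
  apply hsolv
  haveI := hAn
  haveI := hAcyc
  apply solvable_of_normal_aut A (mulAut_solvable_of_cyclic A)
  apply centralizer_comm_of_irreducible H A
  intro W hW
  by_contra h
  push Not at h
  exact hno ⟨W, h.1, h.2, hW⟩

/-- the final isomorphism `H ≅ SL(2,5) × C_r` -/
theorem final_iso [Finite H] (N A : Subgroup H) [N.Normal]
    (e : N ≃* Matrix.SpecialLinearGroup (Fin 2) (ZMod 5))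
    (hCN : Subgroup.centralizer (N : Set H) = A) (r : ℕ) [hr : Fact r.Prime]
    (hr120 : Nat.Coprime 120 r) (ha : r ∣ Nat.card A) (hH : Nat.card H = 120 * r) :
    Nonempty (H ≃* Matrix.SpecialLinearGroup (Fin 2) (ZMod 5) × Multiplicative (ZMod r)) := by
  obtain ⟨x, hx⟩ := exists_prime_orderOf_dvd_card' r ha
  have hxo : orderOf (x : H) = r := by rw [Subgroup.orderOf_coe]; exact hx
  have hXcard : Nat.card (Subgroup.zpowers (x : H)) = r := by rw [Nat.card_zpowers, hxo]
  have hNcard : Nat.card N = 120 := card_of_iso N e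
  have hxC : (x : H) ∈ Subgroup.centralizer (N : Set H) := by rw [hCN]; exact x.2
  have hcomm : ∀ n ∈ N, ∀ y ∈ Subgroup.zpowers (x : H), n * y = y * n := by
    intro n hn y hy
    have hle : Subgroup.zpowers (x : H) ≤ Subgroup.centralizer (N : Set H) :=
      Subgroup.zpowers_le.mpr hxC
    exact Subgroup.mem_centralizer_iff.mp (hle hy) n hn
  have hdisj : Disjoint N (Subgroup.zpowers (x : H)) := by
    rw [disjoint_iff]
    apply Subgroup.inf_eq_bot_of_coprime
    rw [hNcard, hXcard]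
    exact hr120
  obtain ⟨f⟩ := prod_iso N (Subgroup.zpowers (x : H)) hcomm hdisj (by rw [hNcard, hXcard, hH])
  haveI : IsCyclic (Subgroup.zpowers (x : H)) := inferInstance
  haveI : NeZero r := ⟨hr.out.ne_zero⟩
  have hc : Nat.card (Subgroup.zpowers (x : H)) = Nat.card (Multiplicative (ZMod r)) := by
    rw [hXcard, Nat.card_congr Multiplicative.toAdd, Nat.card_zmod]
  exact ⟨f.trans (MulEquiv.prodCongr e (mulEquivOfCyclicCardEq hc))⟩

/-- the `SL(2,5)` case -/
theorem sl25_case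
    (hreg : ∀ v w : V, v ≠ 0 → w ≠ 0 → ∃! h : H, (h : V ≃ₗ[ZMod p] V) v = w)
    (hI : ∀ A : Subgroup H, A.Normal → IsCyclic A → ∃ W : Submodule (ZMod p) V,
      W ≠ ⊥ ∧ W ≠ ⊤ ∧ ∀ a ∈ A, ∀ v ∈ W, ((a : H) : V ≃ₗ[ZMod p] V) v ∈ W)
    (A : Subgroup H) (hAn : A.Normal) (hAc : IsMulCommutative A)
    (hAmax : ∀ B : Subgroup H, B.Normal → IsMulCommutative B → A ≤ B → B = A)
    (N : Subgroup H) (hNn : N.Normal) (hCN : Subgroup.centralizer (N : Set H) = A)
    (e : N ≃* Matrix.SpecialLinearGroup (Fin 2) (ZMod 5)) :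
    (Nat.card V = 121 ∧ Nonempty (H ≃* Matrix.SpecialLinearGroup (Fin 2) (ZMod 5))) ∨
    (Nat.card V = 841 ∧
      Nonempty (H ≃* Matrix.SpecialLinearGroup (Fin 2) (ZMod 5) × Multiplicative (ZMod 7))) ∨
    (Nat.card V = 3481 ∧
      Nonempty (H ≃* Matrix.SpecialLinearGroup (Fin 2) (ZMod 5) × Multiplicative (ZMod 29))) := by
  haveI : Finite H := finite_H H
  haveI := hNn
  haveI := hAn
  have hNcard : Nat.card N = 120 := card_of_iso N e
  haveI : Nontrivial V := by
    by_contra hV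
    rw [not_nontrivial_iff_subsingleton] at hV
    have hsub : ∀ f g : V ≃ₗ[ZMod p] V, f = g := fun f g =>
      LinearEquiv.ext fun v => Subsingleton.elim _ _
    haveI : Subsingleton N := ⟨fun x y => Subtype.ext (Subtype.ext (hsub _ _))⟩
    have := Nat.card_of_subsingleton (1 : N)
    omega
  obtain ⟨hAcyc, W, hW0, hWt, hWinv, hWmin, hAdvd⟩ :=
    Cfsg.Agent.S0684.result H hreg hI A hAn hAc hAmax
  have h2m := two_mul_finrank_le H hreg A W hW0 hWt hWinv hWmin
  have hm1 : 1 ≤ Module.finrank (ZMod p) W := by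
    rw [Nat.one_le_iff_ne_zero]
    intro h0
    apply hW0
    exact Submodule.finrank_eq_zero.mp h0
  have hVcard : Nat.card V = p ^ Module.finrank (ZMod p) V := by
    rw [Module.natCard_eq_pow_finrank (K := ZMod p), Nat.card_zmod]
  have hHcard := card_H H hreg
  have hsup : Nat.card (N ⊔ A : Subgroup H) = 60 * Nat.card A := by
    rw [← hCN]; exact card_sup_centralizer N e
  have hidx : (N ⊔ A).index ∣ 2 := by
    rw [← hCN]; exact index_sup_centralizer_dvd N e
  have hHε : Nat.card H = 60 * Nat.card A * (N ⊔ A).index := by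
    rw [← hsup]; exact (Subgroup.card_mul_index _).symm
  have hε : (N ⊔ A).index = 1 ∨ (N ⊔ A).index = 2 := (Nat.dvd_prime Nat.prime_two).mp hidx
  have ha2 : 2 ∣ Nat.card A := by
    rw [← hCN]; exact two_dvd_card_centralizer N e
  have hcard : p ^ Module.finrank (ZMod p) V = 60 * Nat.card A * (N ⊔ A).index + 1 := by omega
  have hp : p.Prime := Fact.out
  have hp7 : 7 ≤ p := by
    by_contra hlt
    push Not at hlt
    have hpd : p ∣ p ^ Module.finrank (ZMod p) V := dvd_pow_self p (by omega)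
    rw [hcard, show 60 * Nat.card A * (N ⊔ A).index = 60 * (Nat.card A * (N ⊔ A).index) by ring]
      at hpd
    interval_cases p
    · norm_num at hp
    · norm_num at hp
    · omega
    · omega
    · norm_num at hp
    · omega
    · norm_num at hp
  obtain ⟨hn2, hε1, hcases⟩ := arith_main hp hp7 hcard hε hAdvd hm1 h2m ha2
  rw [hn2] at hVcard
  rw [hε1, mul_one] at hHε
  have hcycH : ∀ B : Subgroup H, IsMulCommutative B → IsCyclic B := fun B hB =>
    cyclic_of_regular H hreg B hB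
  rcases hcases with ⟨hp11, ha⟩ | ⟨hp19, ha⟩ | ⟨hp29, ha⟩ | ⟨hp59, ha⟩
  · left
    refine ⟨by rw [hVcard, hp11]; norm_num, ?_⟩
    have hNtop : N = ⊤ := by
      apply (Subgroup.card_eq_iff_eq_top N).mp
      rw [hNcard, hHε, ha]
    exact ⟨(Subgroup.topEquiv.symm.trans (MulEquiv.subgroupCongr hNtop.symm)).trans e⟩
  · exfalso
    have h3a : 3 ∣ Nat.card A := by rw [ha]; norm_num
    have h3n : 3 ∣ Nat.card N := by rw [hNcard]; norm_num
    haveI : Fact (Nat.Prime 3) := ⟨Nat.prime_three⟩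
    obtain ⟨x, hx⟩ := exists_prime_orderOf_dvd_card' 3 h3a
    obtain ⟨y, hy⟩ := exists_prime_orderOf_dvd_card' 3 h3n
    have hxo : orderOf (x : H) = 3 := by rw [Subgroup.orderOf_coe]; exact hx
    have hyo : orderOf (y : H) = 3 := by rw [Subgroup.orderOf_coe]; exact hy
    have hxC : (x : H) ∈ Subgroup.centralizer (N : Set H) := by rw [hCN]; exact x.2
    have hc : Commute (x : H) (y : H) :=
      (Subgroup.mem_centralizer_iff.mp hxC (y : H) y.2).symm
    have hx3 : (x : H) ^ 3 = 1 := by rw [← hxo]; exact pow_orderOf_eq_one _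
    have hmem := Cfsg.Agent.Lib.Helper2.FrobComp.cyc_mem hcycH hc hyo hx3
    have hxN : (x : H) ∈ N := (Subgroup.zpowers_le.mpr y.2) hmem
    have hx2 := sq_eq_one_of_mem_inf N e hxN hxC
    have hx1 : (x : H) = 1 := by
      calc (x : H) = (x : H) ^ 3 * ((x : H) ^ 2)⁻¹ := by group
        _ = 1 := by rw [hx3, hx2]; group
    rw [hx1, orderOf_one] at hxo
    omega
  · right; left
    refine ⟨by rw [hVcard, hp29]; norm_num, ?_⟩
    haveI : Fact (Nat.Prime 7) := ⟨by norm_num⟩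
    exact final_iso H N A e hCN 7 (by norm_num) (by rw [ha]; norm_num) (by rw [hHε, ha])
  · right; right
    refine ⟨by rw [hVcard, hp59]; norm_num, ?_⟩
    haveI : Fact (Nat.Prime 29) := ⟨by norm_num⟩
    exact final_iso H N A e hCN 29 (by norm_num) (by rw [ha]; norm_num) (by rw [hHε, ha])

/-- S0689, given Zassenhaus' theorem `Z` -/
theorem main
    (Z : ∀ (G : Subgroup (MulAut (Multiplicative V))),
      (∀ φ ∈ G, φ ≠ 1 → ∀ k, φ k = k → k = 1) → commutator G = ⊤ → G ≠ ⊥ →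
      Nonempty (G ≃* Matrix.SpecialLinearGroup (Fin 2) (ZMod 5)))
    (hreg : ∀ v w : V, v ≠ 0 → w ≠ 0 → ∃! h : H, (h : V ≃ₗ[ZMod p] V) v = w)
    (hsolv : ¬ Group.IsSolvable H) :
    (Nat.card V = 121 ∧ Nonempty (H ≃* Matrix.SpecialLinearGroup (Fin 2) (ZMod 5))) ∨
    (Nat.card V = 841 ∧
      Nonempty (H ≃* Matrix.SpecialLinearGroup (Fin 2) (ZMod 5) × Multiplicative (ZMod 7))) ∨
    (Nat.card V = 3481 ∧
      Nonempty (H ≃* Matrix.SpecialLinearGroup (Fin 2) (ZMod 5) × Multiplicative (ZMod 29))) := by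
  haveI : Finite H := finite_H H
  have hI := hI_of_nonsolvable H hsolv
  obtain ⟨A, hAn, hAc, hAmax⟩ := exists_max_abelian_normal (G := H)
  obtain ⟨-, hCna⟩ := Cfsg.Agent.S0685.result H hreg hI A hAn hAc hAmax
  obtain ⟨N, hNn, hNle, hNna, hNmin⟩ :=
    exists_min_nonabelian (Subgroup.centralizer (A : Set H)) Subgroup.normal_centralizer hCna
  obtain ⟨hirr, hCN⟩ := Cfsg.Agent.S0687.result H hreg hI A hAn hAc hAmax N hNn hNle hNna hNmin
  haveI := hNn
  have hAcomm : ∀ x ∈ Subgroup.centralizer (N : Set H), ∀ y ∈ Subgroup.centralizer (N : Set H),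
      x * y = y * x := by
    rw [hCN]
    intro x hx y hy
    exact congrArg Subtype.val (hAc.is_comm.comm ⟨x, hx⟩ ⟨y, hy⟩)
  rcases core H Z hreg A hAn hAc hAmax N hNn hNle hNna hNmin with ⟨⟨e⟩⟩ | ⟨⟨e⟩⟩
  · exfalso
    apply hsolv
    exact solvable_of_normal_aut N (solvable_aut_of_iso_q8 e) hAcomm
  · exact sl25_case H hreg hI A hAn hAc hAmax N hNn hCN e

end lin

end Cfsg.Agent.Lib.Helper2.Zr
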